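import Cfsg.Agent.Lib.Block.AbPrime

/-!
# Principal `2`-blocks with abelian defect group and free cyclic automizer
-/

set_option autoImplicit false
set_option linter.unusedSectionVars false

namespace BT

open Cfsg CT GT
open scoped MonoidAlgebra ComplexConjugate Pointwise

theorem abcore_num {κ : Type*} (s : Finset κ) (x : κ → ℤ) {e Q : ℕ} (he : 2 ≤ e)
    (hQ : (e + 1) ^ 2 ≤ Q) (hs : s.card + 1 = e)
    (hx : ∀ i ∈ s, (Q : ℤ) ∣ x i - 1 ∧ x i ≠ 1)
    (h : (1 + ∑ i ∈ s, ((x i : ℚ))⁻¹) * (1 + ∑ i ∈ s, (x i : ℚ)) = (e : ℚ) ^ 2) : False := by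
  have he' : (2 : ℚ) ≤ e := by exact_mod_cast he
  have hQ' : ((e : ℚ) + 1) ^ 2 ≤ Q := by exact_mod_cast hQ
  have hs' : (s.card : ℚ) = e - 1 := by rw [← hs]; push_cast; ring
  have hQ1 : (0 : ℚ) < Q - 1 := by nlinarith
  have h1 : ∀ i ∈ s, |((x i : ℚ))⁻¹| ≤ ((Q : ℚ) - 1)⁻¹ := fun i hi => by
    obtain ⟨⟨k, hk⟩, h2⟩ := hx i hi
    have hk0 : k ≠ 0 := fun h => h2 (by rw [h, mul_zero] at hk; omega)
    have hk' : (x i : ℚ) = 1 + Q * k := by
      have : ((x i - 1 : ℤ) : ℚ) = ((Q * k : ℤ) : ℚ) := by rw [hk]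
      push_cast at this; linarith
    rw [abs_inv]
    refine inv_anti₀ hQ1 ?_
    rcases lt_or_gt_of_ne hk0 with h3 | h3
    · have : (k : ℚ) ≤ -1 := by exact_mod_cast (show k ≤ -1 by omega)
      rw [le_abs]; right; nlinarith
    · have : (1 : ℚ) ≤ k := by exact_mod_cast (show 1 ≤ k by omega)
      rw [le_abs]; left; nlinarith
  have h2 : |∑ i ∈ s, ((x i : ℚ))⁻¹| ≤ (e - 1) * ((Q : ℚ) - 1)⁻¹ := by
    refine (Finset.abs_sum_le_sum_abs _ _).trans ((Finset.sum_le_sum h1).trans ?_)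
    rw [Finset.sum_const, nsmul_eq_mul, hs']
  obtain ⟨k, hk⟩ : (Q : ℤ) ∣ ∑ i ∈ s, (x i - 1) := Finset.dvd_sum fun i hi => (hx i hi).1
  have h3 : 1 + ∑ i ∈ s, (x i : ℚ) = e + Q * k := by
    have : ((∑ i ∈ s, (x i - 1) : ℤ) : ℚ) = ((Q * k : ℤ) : ℚ) := by rw [hk]
    push_cast at this
    rw [Finset.sum_sub_distrib, Finset.sum_const, nsmul_eq_mul, hs'] at this
    linarith
  rw [h3] at h
  generalize ∑ i ∈ s, ((x i : ℚ))⁻¹ = ε at h h2
  rw [← div_eq_mul_inv, le_div_iff₀ hQ1] at h2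
  have h4 : |ε| * e < 1 := by
    have h5 : |ε| * (e * (e + 2)) ≤ e - 1 :=
      le_trans (mul_le_mul_of_nonneg_left (by nlinarith) (abs_nonneg ε)) h2
    by_contra h6
    nlinarith
  have h5 : -1 < ε * e := by nlinarith [neg_abs_le ε]
  have h6 : ε * e < 1 := by nlinarith [le_abs_self ε]
  have h7 : 0 < 1 + ε := by nlinarith
  rcases lt_trichotomy k 0 with h8 | h8 | h8
  · have : (k : ℚ) ≤ -1 := by exact_mod_cast (show k ≤ -1 by omega)
    have h9 : (e : ℚ) + Q * k < 0 := by nlinarith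
    nlinarith [mul_pos h7 (neg_pos.2 h9)]
  · subst h8
    push_cast at h
    nlinarith
  · have : (1 : ℚ) ≤ k := by exact_mod_cast (show 1 ≤ k by omega)
    have h9 : (e : ℚ) ^ 2 + 3 * e + 1 ≤ e + Q * k := by nlinarith
    have h10 : (1 + ε) * ((e : ℚ) ^ 2 + 3 * e + 1) ≤ e ^ 2 :=
      (mul_le_mul_of_nonneg_left h9 h7.le).trans h.le
    have h11 : (e - 1) * ((e : ℚ) ^ 2 + 3 * e + 1) < e * e ^ 2 := by
      have h12 : (e : ℚ) - 1 < (1 + ε) * e := by linarith
      nlinarith [mul_lt_mul_of_pos_right h12 (show (0 : ℚ) < e ^ 2 + 3 * e + 1 by positivity)]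
    nlinarith

variable {G : Type*} [Group G] [Finite G]
variable {A : Type*} [CommGroup A] [Finite A]

namespace FrobStr
variable {p : ℕ} [Fact p.Prime]
variable {B : Set (IrrCharacter G)} {ι : A →* G} {E : Subgroup (MulAut A)}
  {X : Set (IrrCharacter G)} {Y : HatNe A → IrrCharacter G} {a : IrrCharacter G → ℤ} {d δ : ℤ}
  (T : FrobStr p B ι E X Y a d δ)
include T

open Classical in
theorem fw_Y (m l : HatNe A) :
    (fw B ι m.1 (Y l) : ℂ) = δ * (if Y m = Y l then 1 else 0) - d := by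
  have h3 := T.fw_eq m fun η => if η = Y l then 1 else 0
  rw [Finset.sum_eq_zero (s := bset X) fun η hη => by
    rw [if_neg fun h : η = Y l => T.not_mem l (h ▸ mem_bset.1 hη), mul_zero]] at h3
  simpa only [mul_ite, mul_one, mul_zero, Finset.sum_ite_eq', Finset.mem_univ, if_true, mem_bset,
    Set.mem_range_self, sub_zero] using h3

theorem mem_of_const (hc : Nat.card E + 1 < Nat.card A) {χ : IrrCharacter G} (hχ : χ ∈ B) {c : ℤ}
    (h : ∀ u ≠ 1, χ.1 (ι u) = c) : χ ∈ X := by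
  classical
  refine ((T.mem_iff _).1 hχ).resolve_right ?_
  rintro ⟨l, rfl⟩
  have := Finite.one_lt_card_iff_nontrivial.1 (T.two_le_card_range hc)
  obtain ⟨⟨_, m, rfl⟩, hm⟩ := exists_ne (⟨Y l, l, rfl⟩ : Set.range Y)
  have h1 := T.fw_Y l l
  have h2 := T.fw_Y m l
  rw [fw_of_const ι l.2 hχ h, if_pos rfl] at h1
  rw [fw_of_const ι m.2 hχ h, if_neg fun h => hm (Subtype.ext h), h1] at h2
  rcases T.sign with h | h <;> simp [h] at h2

theorem eq_of_apply_eq {l m : HatNe A} (h : ∀ u, (Y l).1 (ι u) = (Y m).1 (ι u)) : Y l = Y m := by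
  classical
  have := Fintype.ofFinite A
  have h1 : (Nat.card A : ℂ) * fw B ι l.1 (Y l) = Nat.card A * fw B ι l.1 (Y m) := by
    rw [card_mul_fw ι _ (T.mem l), card_mul_fw ι _ (T.mem m)]
    simp only [h]
  have h2 := mul_left_cancel₀ card_cast_ne_zero h1
  rw [T.fw_Y, T.fw_Y, if_pos rfl] at h2
  by_contra h3
  rw [if_neg h3] at h2
  rcases T.sign with h | h <;> simp [h] at h2

theorem nu2_eq_zero (hE : ∀ σ ∈ E, ∀ u ≠ 1, σ u = u → σ = 1) (ho : Odd (Nat.card E))
    {l : HatNe A} (hl : l.1 ^ 2 ≠ 1) : nu2 (Y l).1 = 0 := by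
  have := Fintype.ofFinite E
  refine (irr_nu2_eq_zero_iff _).2 fun hr => hl ?_
  obtain ⟨σ, hσ, h⟩ := (T.eq_iff _ _).1 (T.eq_of_apply_eq (l := HatNe.inv l) (m := l) fun u => by
    by_cases hu : u = 1
    · rw [hu, map_one, T.regY _ l 1 not_dvd_orderOf_one]
    rw [← hr, ← (irr_isCharacter _).apply_inv, ← map_inv, T.valY _ _ hu,
      T.valY _ _ (inv_ne_one.2 hu), osum_eq, osum_eq]
    congr 2
    exact Finset.sum_congr rfl fun σ _ => by rw [map_inv, map_inv]; rfl)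
  have h1 := smul_hatNe_eq_of_free hE (⟨σ, hσ⟩ * ⟨σ, hσ⟩) l (by
    change (σ * σ) • l = l
    rw [mul_smul, h, HatNe.smul_inv, h]
    exact HatNe.inv.left_inv l)
  have h2 : orderOf (⟨σ, hσ⟩ : E) = 1 := Nat.eq_one_of_dvd_coprimes
    (Nat.coprime_two_left.2 ho) (orderOf_dvd_of_pow_eq_one (by rwa [← sq] at h1))
    (orderOf_dvd_natCard _)
  rw [show σ = 1 from congrArg Subtype.val (orderOf_eq_one_iff.1 h2), one_smul] at h
  rw [sq]
  nth_rw 1 [congrArg Subtype.val h]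
  exact inv_mul_cancel l.1

end FrobStr

namespace AbFrob
section
variable {p : ℕ} [Fact p.Prime] {M : Ideal AlgInt} (hM : IsPModular p M)
variable {ι : A →* G} (F : AbFrob p ι)
include F hM

theorem apply_eq_of_isConj {χ : IrrCharacter G} (hχ : χ ∈ principalBlock M G) {g : G} {w : A}
    (hw : w ≠ 1) (h : IsConj (pPart p g) (ι w)) : χ.1 g = χ.1 (ι w) := by
  obtain ⟨t, ht⟩ := isConj_iff.1 h
  rw [← irr_isClassFunction χ g t, F.apply_of_isPPart hM hw hχ
    (isPPart_iff.2 ((pPart_conj g t).trans ht))]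

/-- A character of the principal block which is trivial on the Sylow subgroup is trivial on its
centralizer. -/
theorem centralizer_le_ker [Nontrivial A] {χ : IrrCharacter G} (hχ : χ ∈ principalBlock M G)
    (h : ι.range ≤ ker χ.1) : Subgroup.centralizer (ι.range : Set G) ≤ ker χ.1 := fun c hc => by
  obtain ⟨u, hu⟩ := exists_ne (1 : A)
  have h1 : pPart p c ∈ ι.range := F.syl.mem_of_mem_normalizer (isPElt_pPart p c)
    (Subgroup.mem_top _) (Subgroup.centralizer_le_normalizer _ (pPart_mem p hc))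
  have h2 : Commute (ι u) (pRegPart p c) := pRegPart_mem p hc _ ⟨u, rfl⟩
  have h3 : ι u * pRegPart p c ∈ ker χ.1 := by
    rw [irr_mem_ker_iff, F.apply_of_isPPart hM hu hχ (isPPart_iff.2
      (pPart_mul_eq h2 (F.isPElt u) (isPRegular_pRegPart p c))), ← irr_mem_ker_iff]
    exact h ⟨u, rfl⟩
  rw [← pPart_mul_pRegPart p c]
  exact mul_mem (h h1) ((mul_mem_cancel_left (h ⟨u, rfl⟩)).1 h3)

omit hM in
/-- The average over the centralizer of a function which is constant on sections. -/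
theorem ip_res_centralizer {u : A} (hu : u ≠ 1) {ψ : G → ℂ} {f : A → ℂ}
    (h : ∀ g w, IsConj (pPart p g) (ι w) → ψ g = f w) :
    ip (res (Subgroup.centralizer ({ι u} : Set G)) ψ) (fun _ => 1) = ip f fun _ => 1 := by
  obtain ⟨φ, R⟩ := (F.isSylowIn u).exists_retr (F.nilp hu)
  let r := (MonoidHom.ofInjective F.inj).symm.toMonoidHom.comp (φ.codRestrict ι.range R.mem)
  have hr : ∀ x, ι (r x) = φ x := fun x =>
    congrArg Subtype.val ((MonoidHom.ofInjective F.inj).apply_symm_apply ⟨φ x, R.mem x⟩)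
  rw [← ip_comp_of_surjective r (fun w => ⟨⟨ι w, R.le ⟨w, rfl⟩⟩,
    F.inj ((hr _).trans (R.id _ ⟨w, rfl⟩))⟩)]
  congr 1
  funext x
  obtain ⟨g, -, hg⟩ := R.exists_conj_pPart x
  exact h _ _ (isConj_iff.2 ⟨g, hg.trans (hr x).symm⟩)

end

variable {M : Ideal AlgInt} (hM : IsPModular 2 M) {ι : A →* G} (F : AbFrob 2 ι)
include F

theorem orderOf_eq_two' {u : A} (hu : u ≠ 1) (hu2 : u * u = 1) : orderOf (ι u) = 2 :=
  orderOf_eq_prime (by rw [sq, ← map_mul, hu2, map_one]) ((map_ne_one_iff ι F.inj).2 hu)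

include hM

theorem card_le_sum_mult' {τ : MulAut A} (hτ : τ ∈ autN ι) {u : A} (hu : u ≠ 1)
    (hu2 : u * u = 1) :
    orderOf τ ≤ ∑ χ ∈ bset (principalBlock M G), mult (permChar G (Invs G)) χ.1 := by
  have h1 : ∀ i : ℕ, (τ ^ i) u ≠ 1 := fun i => (map_ne_one_iff _ (τ ^ i).injective).2 hu
  let f : ℕ → Invs G := fun i => ⟨ι ((τ ^ i) u), F.orderOf_eq_two' (h1 i)
    (by rw [← map_mul, hu2, map_one])⟩
  have h2 : ∀ i, ∀ g ∈ Subgroup.centralizer (ι.range : Set G), g • f i = f i := fun i g hg =>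
    Invs.smul_eq_iff.2 (mul_inv_eq_iff_eq_mul.2 (hg _ ⟨_, rfl⟩).symm)
  refine le_sum_mult_permChar hM F.syl.isPGroup (fun a b => ∃ g : G, g • f 0 = a ∧ g • f 1 = b)
    (fun g a b => ⟨fun ⟨t, h, h'⟩ => ⟨g⁻¹ * t, by rw [mul_smul, h, inv_smul_smul],
      by rw [mul_smul, h', inv_smul_smul]⟩, fun ⟨t, h, h'⟩ => ⟨g * t, by rw [mul_smul, h],
      by rw [mul_smul, h']⟩⟩) f
    (fun h => F.not_dvd_card_autN (h.trans (Subgroup.orderOf_dvd_natCard _ hτ)))
    (fun i g hg => h2 i g (range_le_centralizer ι hg)) h2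
    (Subtype.ext (by simp [f])) (fun i hi hi' h => ?_) fun i b hb => ?_
  · exact pow_ne_one_of_lt_orderOf hi.ne' hi'
      (F.free _ (pow_mem hτ i) u hu (F.inj (congrArg Subtype.val h)))
  obtain ⟨t, -, ht⟩ := mem_autN.1 (pow_mem hτ i)
  have h3 : ∀ j, t • f j = f (i + j) := fun j => Invs.smul_eq_iff.2 (by
    rw [← ht, ← MulAut.mul_apply, ← pow_add])
  refine ⟨fun ⟨g, hg, hg'⟩ => ?_, fun h => ⟨t, h3 0, h ▸ h3 1⟩⟩
  obtain ⟨w, hw⟩ : b.1 ∈ ι.range := F.syl.mem_of_mem_normalizer ⟨1, b.2⟩ (Subgroup.mem_top _)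
    (Subgroup.centralizer_le_normalizer _ fun x hx =>
      mul_inv_eq_iff_eq_mul.1 (Invs.smul_eq_iff.1 (hb x hx)))
  have h4 : (g * t⁻¹) • f i = f i := by
    rw [mul_smul, ← hg, inv_smul_eq_iff.2 (hg.trans (h3 0).symm)]
  have h5 : (g * t⁻¹) • f (i + 1) = b := by rw [mul_smul, ← h3, inv_smul_smul, hg']
  have h6 := F.eq_of_conj_centralizer (h1 i) (Subgroup.mem_centralizer_singleton_iff.2
    (mul_inv_eq_iff_eq_mul.1 (Invs.smul_eq_iff.1 h4))) ((Invs.smul_eq_iff.1 h5).trans hw.symm)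
  exact Subtype.ext (by rw [← hw, ← h6])

section
variable {X : Set (IrrCharacter G)} {Y : HatNe A → IrrCharacter G} {a : IrrCharacter G → ℤ}
  {d δ : ℤ} (T : FrobStr 2 (principalBlock M G) ι (autN ι) X Y a d δ)
include T

/-- With two classes of involutions the nonexceptional characters are trivial on the Sylow
subgroup. -/
theorem apply_one_eq' {u v : A} (hu : u ≠ 1) (hu2 : u * u = 1) (hv : v ≠ 1) (hv2 : v * v = 1)
    (huv : ¬ ∃ σ ∈ autN ι, σ u = v) {χ : IrrCharacter G} (hχ : χ ∈ X) : χ.1 1 = a χ := by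
  classical
  have : Nontrivial A := ⟨u, 1, hu⟩
  have h1 := ip_eq_mul_of_const (p := 2) (θ := clMul (ι u) (ι v)) (χ := χ.1) (a := a χ)
    (fun g hg => clMul_eq_zero fun s t hs ht h => by
      have h2 : ∀ w s, w * w = 1 → IsConj (ι w) s → s * s = 1 := fun w s hw h => by
        obtain ⟨k, rfl⟩ := isConj_iff.1 h
        rw [conj_mul, ← map_mul, hw, map_one, mul_one, mul_inv_cancel]
      exact huv (F.exists_of_isConj (hs.trans ((isConj_of_odd_orderOf_mul (h2 _ _ hu2 hs)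
        (h2 _ _ hv2 ht) (h ▸ Nat.odd_iff.2 (by omega))).symm.trans ht.symm))))
    (F.apply_eq_of_const hM (T.subset hχ) (T.valX χ hχ))
  rw [← irrOne_val, clMul_eq_sum, ip_sum_irr_left, ip_sum_irr_left, T.valX χ hχ u hu,
    T.valX χ hχ v hv] at h1
  have h2 : (a χ : ℂ) ≠ 0 := Int.cast_ne_zero.2 (F.ne_zero hM T hχ)
  have h3 := irr_apply_one_ne_zero χ
  have h4 : ∀ x : G, ((Subgroup.centralizer ({x} : Set G)).index : ℂ) ≠ 0 := fun x =>
    Nat.cast_ne_zero.2 Subgroup.index_ne_zero_of_finite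
  have h5 := card_cast_ne_zero (G := G)
  have h6 := h4 (ι u)
  have h7 := h4 (ι v)
  simp only [map_intCast, irrOne_apply, map_one] at h1
  field_simp at h1
  exact h1.symm

theorem one_mem_X [Nontrivial A] : irrOne G ∈ bset X ∧ a (irrOne G) = 1 := by
  obtain ⟨u, hu⟩ := exists_ne (1 : A)
  have h1 := T.one_mem (irrOne_mem_principalBlock hM)
  have h2 := T.valX _ h1 u hu
  rw [irrOne_apply] at h2
  exact ⟨mem_bset.2 h1, by exact_mod_cast h2.symm⟩

theorem card_dvd_degree_sub {χ : IrrCharacter G} (hχ : χ ∈ X) :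
    (Nat.card A : ℤ) ∣ charDegree χ.1 - a χ := by
  classical
  have := Fintype.ofFinite A
  have h1 := card_mul_fco ι 1 (T.subset hχ)
  rw [← Finset.add_sum_erase _ _ (Finset.mem_univ 1), Finset.sum_congr rfl (g := fun _ => (a χ : ℂ))
    fun u hu => by rw [T.valX χ hχ u (Finset.ne_of_mem_erase hu)]; simp, Finset.sum_const,
    Finset.card_erase_of_mem (Finset.mem_univ _), Finset.card_univ, ← Nat.card_eq_fintype_card,
    nsmul_eq_mul, Nat.cast_sub Nat.card_pos, map_one, irr_apply_one] at h1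
  refine ⟨fco (principalBlock M G) ι 1 χ - a χ, ?_⟩
  have : ((charDegree χ.1 - a χ : ℤ) : ℂ) =
      ((Nat.card A * (fco (principalBlock M G) ι 1 χ - a χ) : ℤ) : ℂ) := by
    simp only [Units.val_one, map_one, mul_one] at h1
    push_cast at h1 ⊢
    linear_combination -h1
  exact_mod_cast this

/-- Two classes of involutions. -/
theorem exists_ker_of_two (he : Nat.card (autN ι) ≠ 1) (hc : Nat.card (autN ι) + 1 < Nat.card A)
    {u v : A} (hu : u ≠ 1) (hu2 : u * u = 1) (hv : v ≠ 1) (hv2 : v * v = 1)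
    (huv : ¬ ∃ σ ∈ autN ι, σ u = v) :
    ∃ χ ∈ principalBlock M G, χ ≠ irrOne G ∧ ι.range ≤ ker χ.1 := by
  classical
  have : Nontrivial A := ⟨u, 1, hu⟩
  by_contra h
  have h1 : bset X = {irrOne G} := Finset.eq_singleton_iff_unique_mem.2
    ⟨(F.one_mem_X hM T).1, fun χ hχ => by_contra fun h' => h ⟨χ, T.subset (mem_bset.1 hχ), h', by
      rintro _ ⟨w, rfl⟩
      by_cases hw : w = 1
      · rw [hw, map_one]; exact one_mem _
      rw [irr_mem_ker_iff, T.valX χ (mem_bset.1 hχ) w hw,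
        F.apply_one_eq' hM T hu hu2 hv hv2 huv (mem_bset.1 hχ)]⟩⟩
  have hr := T.two_le_card_range hc
  obtain ⟨⟨_, l, -⟩⟩ : Nonempty (Set.range Y) := (Nat.card_ne_zero.1 (by omega)).1
  have h2 := T.reg l 1 not_dvd_orderOf_one
  have h3 := T.norm
  rw [h1, Finset.sum_singleton, (F.one_mem_X hM T).2] at h2 h3
  rw [irr_apply_one, irrOne_apply] at h2
  have h4 : (δ - Nat.card (Set.range Y) * d) * charDegree (Y l).1 = 1 := by
    have : (((δ - Nat.card (Set.range Y) * d) * charDegree (Y l).1 : ℤ) : ℂ) = (1 : ℤ) := by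
      push_cast at h2 ⊢; linear_combination -h2
    exact_mod_cast this
  have h5 := Int.eq_one_of_mul_eq_one_left (by positivity) h4
  rw [h5, mul_one] at h4
  have h6 : (2 : ℤ) ≤ Nat.card (Set.range Y) := by exact_mod_cast hr
  generalize (Nat.card (Set.range Y) : ℤ) = t at h3 h4 h6
  apply he
  have h7 : d = 0 ∨ (d = -1 ∧ t = 2 ∧ δ = -1) := by
    rcases lt_trichotomy d 0 with h | h | h
    · right
      have : d = -1 := by rcases T.sign with h' | h' <;> nlinarith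
      rw [this] at h4
      rcases T.sign with h' | h' <;> omega
    · exact Or.inl h
    · rcases T.sign with h' | h' <;> nlinarith
  rcases h7 with rfl | ⟨rfl, rfl, rfl⟩
  · rcases T.sign with rfl | rfl <;> omega
  · omega

end

section
variable {X : Set (IrrCharacter G)} {Y : HatNe A → IrrCharacter G} {a : IrrCharacter G → ℤ}
  {δ : ℤ} (T : FrobStr 2 (principalBlock M G) ι (autN ι) X Y a 0 δ)
include T

omit F hM in
theorem sum_sq_of_zero : ∑ χ ∈ bset X, a χ * a χ = Nat.card (autN ι) := by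
  have h := T.norm
  have hδ : δ ^ 2 = 1 := by rcases T.sign with h | h <;> simp [h]
  simp only [← sq]
  linear_combination h - hδ

theorem vec_apply (l : HatNe A) (g : G) (w : A) (h : IsConj (pPart 2 g) (ι w)) :
    (∑ χ ∈ bset X, (a χ : ℂ) • χ.1 - (δ : ℂ) • (Y l).1) g =
      Nat.card (autN ι) - osum (autN ι) l.1 w := by
  have := Fintype.ofFinite (autN ι)
  simp only [Pi.sub_apply, Finset.sum_apply, Pi.smul_apply, smul_eq_mul]
  by_cases hw : w = 1
  · rw [hw, map_one, isConj_one_left, pPart_eq_one_iff] at h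
    have h1 := T.reg l g h
    rw [hw, osum_eq]
    simp only [map_one, Units.val_one, Finset.sum_const, Finset.card_univ, nsmul_eq_mul, mul_one,
      ← Nat.card_eq_fintype_card]
    push_cast at h1
    linear_combination h1
  · rw [F.apply_eq_of_isConj hM (T.mem l) hw h, T.valY l w hw, Finset.sum_congr rfl fun χ hχ => by
      rw [F.apply_eq_of_isConj hM (T.subset (mem_bset.1 hχ)) hw h, T.valX χ (mem_bset.1 hχ) w hw]]
    have h1 : ∑ χ ∈ bset X, (a χ * a χ : ℂ) = Nat.card (autN ι) := by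
      exact_mod_cast sum_sq_of_zero T
    have hδ : (δ : ℂ) * δ = 1 := by rcases T.sign with h | h <;> simp [h]
    rw [h1]
    push_cast
    linear_combination (-osum (autN ι) l.1 w) * hδ

theorem sum_mul_nu2 {l : HatNe A} (hl : l.1 ^ 2 ≠ 1) :
    ∑ χ ∈ bset X, (a χ : ℂ) * nu2 χ.1 = 1 := by
  classical
  have : Nontrivial A := by
    by_contra h
    rw [not_nontrivial_iff_subsingleton] at h
    exact l.2 (MonoidHom.ext fun x => by rw [Subsingleton.elim x 1, map_one, map_one])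
  have := Fintype.ofFinite (autN ι)
  have h1 := nu2_eq_ip (∑ χ ∈ bset X, (a χ : ℂ) • χ.1 - (δ : ℂ) • (Y l).1)
  obtain ⟨m, hm⟩ : ∃ m : HatNe A, m.1 = l.1 ^ 2 := ⟨⟨_, hl⟩, rfl⟩
  rw [show (fun g => (∑ χ ∈ bset X, (a χ : ℂ) • χ.1 - (δ : ℂ) • (Y l).1) (g * g)) =
      ∑ χ ∈ bset X, (a χ : ℂ) • χ.1 - (δ : ℂ) • (Y m).1 from funext fun g => by
    obtain ⟨w, hw⟩ := F.exists_isConj (isPElt_pPart 2 g)
    rw [F.vec_apply hM T m g w hw, F.vec_apply hM T l (g * g) (w * w) (by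
      rw [← sq, ← sq, pPart_pow, map_pow]; exact hw.pow 2), osum_eq, osum_eq, hm]
    simp [sq], nu2_sub, nu2_sum, nu2_smul, T.nu2_eq_zero F.free
      (Nat.odd_iff.2 (by have := F.not_dvd_card_autN; omega)) hl, ip_sub_left, ip_sum_left,
    ip_smul_left, ← irrOne_val, ip_irr_ne fun h => T.not_mem _ (h ▸ mem_bset.1
      (F.one_mem_X hM T).1)] at h1
  simp only [nu2_smul, ip_smul_left, ip_irr, mul_ite, mul_one, mul_zero, Finset.sum_ite_eq',
    if_pos (F.one_mem_X hM T).1, (F.one_mem_X hM T).2, sub_zero, Int.cast_one] at h1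
  exact h1

variable {s : A} (hs : s ≠ 1) (hs2 : s * s = 1)
  (htr : ∀ v ≠ 1, v * v = 1 → ∃ σ ∈ autN ι, σ s = v)
include hs hs2 htr

omit hM T in
theorem isPretransitive_invs : MulAction.IsPretransitive G (Invs G) := by
  obtain ⟨z, hz⟩ : ∃ z : Invs G, z.1 = ι s := ⟨⟨_, F.orderOf_eq_two' hs hs2⟩, rfl⟩
  have h : ∀ b : Invs G, ∃ g : G, g • z = b := fun b => by
    obtain ⟨v, hv⟩ := F.exists_isConj (g := b.1) ⟨1, b.2⟩
    obtain ⟨k, hk⟩ := isConj_iff.1 hv
    have h1 : orderOf v = 2 := by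
      rw [← orderOf_injective ι F.inj, ← hk, orderOf_conj', b.2]
    obtain ⟨σ, hσ, rfl⟩ := htr v (fun h => by simp [h] at h1)
      (by rw [← sq, ← h1, pow_orderOf_eq_one])
    obtain ⟨t, ht⟩ := isConj_iff.1 ((isConj_of_mem_autN hσ s).trans hv.symm)
    exact ⟨t, Invs.smul_eq_iff.2 (hz ▸ ht)⟩
  refine ⟨fun b c => ?_⟩
  obtain ⟨g, rfl⟩ := h b
  obtain ⟨k, rfl⟩ := h c
  exact ⟨k * g⁻¹, by rw [mul_smul, inv_smul_smul]⟩

theorem sum_mul_mult (l : HatNe A) :
    ∑ χ ∈ bset X, a χ * mult (permChar G (Invs G)) χ.1 -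
      δ * mult (permChar G (Invs G)) (Y l).1 = Nat.card (autN ι) := by
  classical
  have := Fintype.ofFinite (autN ι)
  have := Fintype.ofFinite A
  have := F.isPretransitive_invs hs hs2 htr
  have hπ := isCharacter_permChar (G := G) (Invs G)
  have h1 := F.ip_res_centralizer hs (F.vec_apply hM T l)
  obtain ⟨z, hz⟩ : ∃ z : Invs G, z.1 = ι s := ⟨⟨_, F.orderOf_eq_two' hs hs2⟩, rfl⟩
  have h2 : MulAction.stabilizer G z = Subgroup.centralizer {ι s} := Subgroup.ext fun g => by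
    rw [MulAction.mem_stabilizer_iff, Invs.smul_eq_iff, Subgroup.mem_centralizer_singleton_iff,
      mul_inv_eq_iff_eq_mul, hz]
  have h3 : ∀ χ : IrrCharacter G, ip χ.1 (permChar G (Invs G)) = mult (permChar G (Invs G)) χ.1 :=
    fun χ => by rw [← conj_ip, hπ.ip_eq_mult (irr_isCharacter χ), map_natCast]
  have h4 : ip (fun w => (Nat.card (autN ι) : ℂ) - osum (autN ι) l.1 w) (fun _ => 1) =
      Nat.card (autN ι) := by
    rw [ip_def]
    simp only [osum_eq, map_one, mul_one, Finset.sum_sub_distrib]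
    rw [Finset.sum_comm, Finset.sum_eq_zero (f := fun σ : autN ι => ∑ w, (l.1 (σ.1 w) : ℂ))
      fun σ _ => (σ.1.toEquiv.sum_comp fun w => (l.1 w : ℂ)).trans (by
        rw [sum_apply_units_hom, if_neg l.2])]
    simp only [Finset.sum_const, Finset.card_univ, ← Nat.card_eq_fintype_card, nsmul_eq_mul,
      sub_zero, inv_mul_cancel_left₀ (card_cast_ne_zero (G := A))]
  rw [← ip_ind_right, ← h2, ← permChar_eq_ind_stabilizer, h4, ip_sub_left, ip_sum_left] at h1
  · simp only [ip_smul_left, h3] at h1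
    exact_mod_cast h1
  · exact (isClassFunction_sum _ _ fun χ _ => (irr_isClassFunction χ).smul _).sub
      ((irr_isClassFunction _).smul _)

theorem sign_of_one_class {τ : MulAut A} (hτ : τ ∈ autN ι) (hτ' : orderOf τ = Nat.card (autN ι))
    {l : HatNe A} (hl : l.1 ^ 2 ≠ 1) : ∀ χ ∈ X, a χ = 1 ∨ a χ = -1 := by
  classical
  have : Nontrivial A := ⟨s, 1, hs⟩
  have := F.isPretransitive_invs hs hs2 htr
  have hπ := isCharacter_permChar (G := G) (Invs G)
  have hπ1 : ip (permChar G (Invs G)) (fun _ => 1) = 1 := by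
    rw [permChar_eq_ind_stabilizer (X := Invs G) ⟨ι s, F.orderOf_eq_two' hs hs2⟩, ip_ind_one_one]
  have hm : ∀ χ ∈ X, (mult (permChar G (Invs G)) χ.1 : ℂ) +
      (if χ = irrOne G then 1 else 0) - nu2 χ.1 = a χ := fun χ hχ => by
    have h1 := ip_eq_mul_of_const (p := 2) (θ := permChar G (Invs G) + (irrOne G).1 -
      fun g => (Nat.card {x : G // x * x = g} : ℂ)) (χ := χ.1) (a := a χ)
      (fun g hg => by
        rw [Pi.sub_apply, card_sqrt_of_odd hg, Pi.add_apply, irrOne_apply, sub_self])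
      (F.apply_eq_of_const hM (T.subset hχ) (T.valX χ hχ))
    rw [ip_sub_left, ip_sub_left, ip_add_left, ip_add_left, ip_card_sqrt, ip_card_sqrt, hπ1,
      irr_conj_nu2, nu2_one, hπ.ip_eq_mult (irr_isCharacter χ), ip_irr, ← irrOne_val,
      ip_irr_self] at h1
    simpa [eq_comm] using h1
  have h1 := F.sum_mul_nu2 hM T hl
  have h2 := sum_sq_of_zero T
  have h3 : ∑ χ ∈ bset X, a χ * mult (permChar G (Invs G)) χ.1 = Nat.card (autN ι) := by
    have h4 : ∑ χ ∈ bset X, (a χ * a χ : ℂ) =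
        ∑ χ ∈ bset X, (a χ * (mult (permChar G (Invs G)) χ.1 : ℂ) +
          (if χ = irrOne G then (a χ : ℂ) else 0) - a χ * nu2 χ.1) :=
      Finset.sum_congr rfl fun χ hχ => by
        nth_rw 2 [← hm χ (mem_bset.1 hχ)]
        split_ifs <;> ring
    rw [Finset.sum_sub_distrib, Finset.sum_add_distrib, h1, Finset.sum_ite_eq',
      if_pos (F.one_mem_X hM T).1, (F.one_mem_X hM T).2, Int.cast_one, add_sub_cancel_right] at h4
    rw [← h2]
    exact_mod_cast h4.symm
  have hY : ∀ l, mult (permChar G (Invs G)) (Y l).1 = 0 := fun l => by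
    have h4 := F.sum_mul_mult hM T hs hs2 htr l
    rw [h3] at h4
    rcases T.sign with h | h <;> rw [h] at h4 <;> omega
  have h4 : ∀ χ ∈ bset X, a χ ≠ 0 ∧ mult (permChar G (Invs G)) χ.1 - 1 ≤ a χ ∧
      (mult (permChar G (Invs G)) χ.1 = 0 → a χ ≤ 1) := fun χ hχ => by
    have h5 := hm χ (mem_bset.1 hχ)
    have h6 := F.ne_zero hM T (mem_bset.1 hχ)
    obtain ⟨n, hn, hn'⟩ : ∃ n : ℤ, nu2 χ.1 = n ∧ -1 ≤ n ∧ n ≤ 1 := by
      rcases irr_nu2_cases χ with h8 | h8 | h8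
      exacts [⟨1, by simpa using h8, by omega⟩, ⟨-1, by simpa using h8, by omega⟩,
        ⟨0, by simpa using h8, by omega⟩]
    rw [hn] at h5
    split_ifs at h5 with h7
    · have h8 : a χ = 1 := h7 ▸ (F.one_mem_X hM T).2
      have h9 : (n : ℂ) = 1 := by rw [← hn, h7, irrOne_val, nu2_one]
      norm_cast at h5 h9
      omega
    · norm_cast at h5
      omega
  have h8 : ∀ χ ∈ bset X, (mult (permChar G (Invs G)) χ.1 : ℤ) ≤
      a χ * mult (permChar G (Invs G)) χ.1 := fun χ hχ => by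
    obtain ⟨h5, h6, -⟩ := h4 χ hχ
    rcases Nat.eq_zero_or_pos (mult (permChar G (Invs G)) χ.1) with h7 | h7
    · simp [h7]
    · exact le_mul_of_one_le_left (by omega) (by omega)
  have h5 := Finset.sum_eq_sum_iff_of_le h8
  have h6 := F.card_le_sum_mult' hM hτ hs hs2
  rw [← Finset.sum_subset (s₁ := bset X) (fun χ hχ => mem_bset.2 (T.subset (mem_bset.1 hχ)))
    fun χ hχ hχ' => by
      obtain ⟨l, rfl⟩ := ((T.mem_iff χ).1 (mem_bset.1 hχ)).resolve_left
        fun h => hχ' (mem_bset.2 h)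
      exact hY l] at h6
  have h7 := h5.1 (le_antisymm (Finset.sum_le_sum fun χ hχ => h8 χ hχ) (by
    rw [← Nat.cast_sum]; omega))
  intro χ hχ
  obtain ⟨h9, h10, h11⟩ := h4 χ (mem_bset.2 hχ)
  rcases Nat.eq_zero_or_pos (mult (permChar G (Invs G)) χ.1) with h12 | h12
  · have := h11 h12; omega
  · exact Or.inl ((right_eq_mul₀ (by omega)).1 (h7 χ (mem_bset.2 hχ)))

/-- One class of involutions. -/
theorem exists_ker_of_one {τ : MulAut A} (hτ : τ ∈ autN ι) (hτ' : orderOf τ = Nat.card (autN ι))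
    {l : HatNe A} (hl : l.1 ^ 2 ≠ 1) (he : 2 ≤ Nat.card (autN ι))
    (hQ : (Nat.card (autN ι) + 1) ^ 2 ≤ Nat.card A) :
    ∃ χ ∈ principalBlock M G, χ ≠ irrOne G ∧ ι.range ≤ ker χ.1 := by
  classical
  have : Nontrivial A := ⟨s, 1, hs⟩
  have := Fintype.ofFinite (autN ι)
  by_contra h
  have ha := F.sign_of_one_class hM T hs hs2 htr hτ hτ' hl
  have hsq : ∀ χ ∈ X, a χ * a χ = 1 := fun χ hχ => by rcases ha χ hχ with h | h <;> simp [h]
  obtain ⟨h1, h1'⟩ := F.one_mem_X hM T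
  have hcard : ((bset X).erase (irrOne G)).card + 1 = Nat.card (autN ι) := by
    rw [Finset.card_erase_add_one h1, ← Nat.cast_inj (R := ℤ), ← sum_sq_of_zero T,
      Finset.sum_congr rfl fun χ hχ => hsq χ (mem_bset.1 hχ)]
    simp
  obtain ⟨m, hm⟩ : ∃ m : HatNe A, m.1 = l.1 ^ 2 := ⟨⟨_, hl⟩, rfl⟩
  have hm1 : ∀ v, v * v = 1 → m.1 v = 1 := fun v hv => by
    rw [hm, MonoidHom.pow_apply, ← map_pow, sq, hv, map_one]
  have hz : ι s * ι s = 1 := by rw [← map_mul, hs2, map_one]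
  have e1 := T.reg m 1 not_dvd_orderOf_one
  have e2 := F.sum_inv_eq_zero hM (Nat.odd_iff.2 (by have := F.not_dvd_card_autN; omega)) hz
    (l := m.1) fun _ v hv => by
      obtain ⟨σ, -, rfl⟩ := F.exists_of_isConj hv
      exact hm1 _ (by rw [← map_mul, hs2, map_one])
  have e3 : (Y m).1 (ι s) = δ * Nat.card (autN ι) := by
    rw [T.valY m s hs, osum_eq, Finset.sum_congr rfl fun σ _ =>
      congrArg Units.val (hm1 (σ.1 s) (by rw [← map_mul, hs2, map_one]))]
    simp [← Nat.card_eq_fintype_card]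
  rw [T.fw_eq, e3, Finset.sum_congr rfl (s₂ := bset X)
    (g := fun χ => ((a χ * charDegree χ.1 : ℤ) : ℂ)⁻¹) fun χ hχ => by
      rw [T.valX χ (mem_bset.1 hχ) s hs, irr_apply_one]
      rcases ha χ (mem_bset.1 hχ) with h | h <;> simp [h],
    ← Finset.add_sum_erase _ _ h1, h1', charDegree_irrOne, irr_apply_one] at e2
  rw [← Finset.add_sum_erase _ _ h1, h1', irrOne_apply, irr_apply_one] at e1
  simp only [irr_apply_one] at e1
  refine abcore_num ((bset X).erase (irrOne G)) (fun χ => a χ * charDegree χ.1) he hQ hcard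
    (fun χ hχ => ?_) ?_
  · have h2 := mem_bset.1 (Finset.mem_of_mem_erase hχ)
    have h3 : a χ * charDegree χ.1 - 1 = a χ * (charDegree χ.1 - a χ) := by
      rw [mul_sub, hsq χ h2]
    refine ⟨h3 ▸ (F.card_dvd_degree_sub hM T h2).mul_left _, fun h4 => h ⟨χ, T.subset h2,
      Finset.ne_of_mem_erase hχ, ?_⟩⟩
    rintro _ ⟨w, rfl⟩
    by_cases hw : w = 1
    · rw [hw, map_one]; exact one_mem _
    rw [h4, sub_self] at h3
    rw [irr_mem_ker_iff, T.valX χ h2 w hw, irr_apply_one]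
    exact_mod_cast (sub_eq_zero.1 ((mul_eq_zero.1 h3.symm).resolve_left (F.ne_zero hM T h2))).symm
  · have hx : (charDegree (Y m).1 : ℂ) ≠ 0 := Nat.cast_ne_zero.2 (irr_degree_pos _).ne'
    have hδ : (δ : ℂ) * δ = 1 := by rcases T.sign with h | h <;> simp [h]
    rw [← Rat.cast_inj (α := ℂ)]
    push_cast at e1 e2 ⊢
    rw [show (1 : ℂ) + ∑ χ ∈ (bset X).erase (irrOne G), (a χ : ℂ) * charDegree χ.1 =
        δ * charDegree (Y m).1 by linear_combination e1,
      show (1 : ℂ) + ∑ χ ∈ (bset X).erase (irrOne G), ((a χ : ℂ) * charDegree χ.1)⁻¹ =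
        δ * ((δ * Nat.card (autN ι)) ^ 2 / charDegree (Y m).1) by linear_combination -e2]
    field_simp
    linear_combination (δ * δ + 1) * hδ

end

/-- If the free automizer is cyclic and not regular on the Sylow subgroup, some nontrivial
character of the principal block is trivial on the Sylow subgroup. -/
theorem exists_ker {τ : MulAut A} (hτ : τ ∈ autN ι) (hτ' : orderOf τ = Nat.card (autN ι))
    (he : Nat.card (autN ι) ≠ 1) (hc : Nat.card (autN ι) + 1 < Nat.card A) :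
    ∃ χ ∈ principalBlock M G, χ ≠ irrOne G ∧ ι.range ≤ ker χ.1 := by
  classical
  have := Fintype.ofFinite A
  have := Fintype.ofFinite (autN ι)
  have he0 := Nat.card_pos (α := autN ι)
  obtain ⟨X, Y, a, d, δ, T⟩ := F.exists_frobStr hM hc
  have hinv : ∀ u : A, u ≠ 1 → ∃ v ∈ Subgroup.zpowers u, v ≠ 1 ∧ v * v = 1 := fun u hu => by
    obtain ⟨v, hv⟩ := exists_prime_orderOf_dvd_card' (G := Subgroup.zpowers u) 2 (by
      rw [Nat.card_zpowers, ← orderOf_injective ι F.inj]; exact F.dvd_orderOf hu)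
    rw [← Subgroup.orderOf_coe] at hv
    exact ⟨v, v.2, fun h => by simp [h] at hv, by rw [← sq, ← hv, pow_orderOf_eq_one]⟩
  have : Nontrivial A := Finite.one_lt_card_iff_nontrivial.1 (by omega)
  obtain ⟨u, hu⟩ := exists_ne (1 : A)
  obtain ⟨s, -, hs, hs2⟩ := hinv u hu
  by_cases htr : ∀ v ≠ 1, v * v = 1 → ∃ σ ∈ autN ι, σ s = v
  swap
  · push Not at htr
    obtain ⟨v, hv, hv2, h⟩ := htr
    exact F.exists_ker_of_two hM T he hc hs hs2 hv hv2 fun ⟨σ, hσ, h'⟩ => h σ hσ h'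
  let O : Finset A := insert 1 (Finset.univ.image fun σ : autN ι => σ.1 s)
  have hO : O.card = Nat.card (autN ι) + 1 := by
    rw [Finset.card_insert_of_notMem (by simpa using hs),
      Finset.card_image_of_injective _ fun σ σ' h => Subtype.ext (eq_of_inv_mul_eq_one (F.free _
        (mul_mem (inv_mem σ.2) σ'.2) s hs (by
          rw [MulAut.mul_apply, ← show σ.1 s = _ from h, MulAut.inv_apply_self]))),
      Finset.card_univ, Nat.card_eq_fintype_card]
  have hO' : ∀ v, v ∈ O ↔ v * v = 1 := fun v => by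
    refine ⟨fun h => ?_, fun h => ?_⟩
    · rcases Finset.mem_insert.1 h with rfl | h
      · exact mul_one 1
      · obtain ⟨σ, -, rfl⟩ := Finset.mem_image.1 h
        rw [← map_mul, hs2, map_one]
    · by_cases hv : v = 1
      · exact hv ▸ Finset.mem_insert_self _ _
      · obtain ⟨σ, hσ, rfl⟩ := htr v hv h
        exact Finset.mem_insert_of_mem (Finset.mem_image.2 ⟨⟨σ, hσ⟩, Finset.mem_univ _, rfl⟩)
  have hker : Nat.card (powMonoidHom 2 : A →* A).ker = Nat.card (autN ι) + 1 := by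
    rw [← hO, ← Nat.card_eq_finsetCard]
    exact Nat.card_congr (Equiv.subtypeEquivRight fun v => by
      rw [hO', MonoidHom.mem_ker, powMonoidHom_apply, sq])
  obtain ⟨x, hx⟩ : ∃ x : A, x ^ 2 ≠ 1 := by
    by_contra h
    push Not at h
    rw [show (powMonoidHom 2 : A →* A).ker = ⊤ from (Subgroup.eq_top_iff' _).2 h,
      Subgroup.card_top] at hker
    omega
  have hran : Nat.card (autN ι) + 1 ≤ Nat.card (powMonoidHom 2 : A →* A).range := by
    obtain ⟨w, hw, hw1, hw2⟩ := hinv _ hx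
    obtain ⟨y, hy⟩ : w ∈ (powMonoidHom 2 : A →* A).range :=
      (Subgroup.zpowers_le.2 ⟨x, rfl⟩ : _ ≤ (powMonoidHom 2 : A →* A).range) hw
    obtain ⟨σ, -, hσ⟩ := htr w hw1 hw2
    rw [← hO, ← Nat.card_eq_finsetCard]
    refine Nat.card_le_card_of_injective (fun v => ⟨v.1, ?_⟩) fun v v' h =>
      Subtype.ext (Subtype.mk.inj h)
    rcases Finset.mem_insert.1 v.2 with h | h
    · exact h ▸ one_mem _
    · obtain ⟨σ', -, h⟩ := Finset.mem_image.1 h
      refine ⟨σ'.1 (σ⁻¹ y), ?_⟩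
      rw [powMonoidHom_apply, ← map_pow, ← map_pow, ← h, ← powMonoidHom_apply, hy, ← hσ,
        MulAut.inv_apply_self]
  have hQ : (Nat.card (autN ι) + 1) ^ 2 ≤ Nat.card A := by
    rw [← (powMonoidHom 2 : A →* A).ker.card_mul_index, Subgroup.index_ker, hker, sq]
    exact Nat.mul_le_mul_left _ hran
  obtain ⟨l, hl⟩ : ∃ l : A →* ℂˣ, l ^ 2 ≠ 1 := by
    by_contra h
    push Not at h
    have h1 := sum_hat_apply (x ^ 2)
    rw [if_neg hx, Finset.sum_congr rfl (g := fun _ => 1) fun l _ => by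
      rw [map_pow, ← MonoidHom.pow_apply, h l]; rfl] at h1
    simp at h1
  obtain rfl : d = 0 := by
    have h1 := T.norm
    have h2 := T.card_Y
    have h3 : Nat.card (autN ι) + 2 ≤ Nat.card (Set.range Y) := by
      by_contra h
      have := Nat.mul_le_mul_right (Nat.card (autN ι)) (Nat.lt_succ_iff.1 (not_le.1 h))
      have h4 : Nat.card A - 1 + 1 = Nat.card A := by omega
      nlinarith
    have h4 : (Nat.card (autN ι) : ℤ) + 2 ≤ Nat.card (Set.range Y) := by exact_mod_cast h3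
    rw [← Finset.add_sum_erase _ _ (F.one_mem_X hM T).1, (F.one_mem_X hM T).2] at h1
    have h5 : 0 ≤ ∑ χ ∈ (bset X).erase (irrOne G), a χ ^ 2 :=
      Finset.sum_nonneg fun _ _ => sq_nonneg _
    by_contra hd
    have hd1 : 1 ≤ d ^ 2 := by rcases lt_or_gt_of_ne hd with h | h <;> nlinarith
    nlinarith [sq_nonneg (d - δ)]
  exact F.exists_ker_of_one hM T hs hs2 htr hτ hτ' (l := ⟨l, fun h => hl (MonoidHom.ext fun _ => by simp [h])⟩)
    hl (by omega) hQ

end AbFrob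

end BT
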