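import Cfsg.Agent.Lib.Block.AbPrimeCore
import Cfsg.Agent.Lib.Block.HarrisKnorr

/-!
# Principal `2`-blocks with abelian defect group and prime inertial index
-/

set_option autoImplicit false
set_option linter.unusedSectionVars false

namespace BT

open Cfsg CT GT Subgroup
open scoped MonoidAlgebra ComplexConjugate Pointwise commutatorElement

variable {G : Type*} [Group G] [Finite G]

omit [Finite G] in
theorem le_or_le_of_prime_relIndex {C H N : Subgroup G} (hC : C ≤ H) (hH : H ≤ N)
    (hq : (C.relIndex N).Prime) : H ≤ C ∨ N ≤ H := by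
  have h3 := relIndex_mul_relIndex _ _ _ hC hH
  rcases (Nat.dvd_prime hq).1 (Dvd.intro _ h3) with h | h
  · exact Or.inl (relIndex_eq_one.1 h)
  · rw [h] at h3
    exact Or.inr (relIndex_eq_one.1 ((mul_eq_left₀ hq.ne_zero).1 h3))

theorem card_principal_of_prime {p : ℕ} [Fact p.Prime] {M : Ideal AlgInt} (hM : IsPModular p M)
    {P : Subgroup G} (hP : IsSylowIn p P ⊤) (hab : P ≤ centralizer (P : Set G)) {e : ℕ}
    (he : (centralizer (P : Set G)).relIndex (normalizer (P : Set G)) = e) (hq : e.Prime) :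
    e * Nat.card (principalBlock M G) +
      Nat.card ↥(P ⊓ centralizer (normalizer (P : Set G) : Set G)) =
      e * Nat.card ↥(P ⊓ centralizer (normalizer (P : Set G) : Set G)) *
        blockRank p (principalBlock M G) + Nat.card P := by
  obtain ⟨m, hm, rfl, hNP⟩ := exists_maxP_principal hM hP
  have h1 : m.inIdx = e := by rw [SPair.inIdx, hNP, he]
  have := hm.card_of_prime hab (h1 ▸ hq)
  rwa [h1, hNP] at this

variable {A : Type*} [CommGroup A] [Finite A]

theorem exists_gen_of_prime_card {E : Subgroup (MulAut A)} (hq : (Nat.card E).Prime) :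
    ∃ τ ∈ E, orderOf τ = Nat.card E := by
  have := Fact.mk hq
  obtain ⟨τ, hτ⟩ := exists_prime_orderOf_dvd_card' (G := E) _ dvd_rfl
  exact ⟨τ, τ.2, by rwa [Subgroup.orderOf_coe]⟩

namespace AbFrob
variable {M : Ideal AlgInt} (hM : IsPModular 2 M) {ι : A →* G} (F : AbFrob 2 ι)
  (hq : (Nat.card (autN ι)).Prime)
include F hq

omit F in
theorem nontrivial_of_prime : Nontrivial A := by
  by_contra h
  rw [not_nontrivial_iff_subsingleton] at h
  have : Subsingleton (MulAut A) := ⟨fun _ _ => MulEquiv.ext fun _ => Subsingleton.elim _ _⟩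
  exact hq.one_lt.ne' (Nat.card_eq_one_iff_unique.2 ⟨inferInstance, inferInstance⟩)

theorem succ_le_card : Nat.card (autN ι) + 1 ≤ Nat.card A := by
  have := nontrivial_of_prime hq
  have h1 := card_orbits_of_free F.free
  have h2 := Finite.one_lt_card (α := A)
  rcases Nat.eq_zero_or_pos (Nat.card (MulAction.orbitRel.Quotient (autN ι) (HatNe A))) with h | h
  · rw [h] at h1; omega
  · have := Nat.le_mul_of_pos_left (Nat.card (autN ι)) h
    omega

include hM

theorem prime_cases : Nat.card A = Nat.card (autN ι) + 1 ∨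
    ∃ H : Subgroup G, H.Normal ∧ centralizer (ι.range : Set G) ≤ H ∧
      H.index = Nat.card (autN ι) ∧ HasNormalPComplement 2 H := by
  have := nontrivial_of_prime hq
  refine (F.succ_le_card hq).eq_or_lt.imp Eq.symm fun hc => ?_
  obtain ⟨τ, hτ, hτ'⟩ := exists_gen_of_prime_card hq
  obtain ⟨χ, hχ, h1, h2⟩ := F.exists_ker hM hτ hτ' hq.one_lt.ne' hc
  have h3 := F.centralizer_le_ker hM hχ h2
  have hP := F.syl.of_le h2 le_top
  rw [card_autN F.inj] at hq ⊢
  have h4 := (le_or_le_of_prime_relIndex (le_inf h3 (centralizer_le_normalizer _)) inf_le_right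
    hq).resolve_right fun h => h1 ((irr_ker_eq_top_iff χ).1 (by
      rw [← hP.frattini_top, sup_eq_left.2 (h.trans inf_le_left)]))
  refine ⟨ker χ.1, inferInstance, h3, ?_, hP.hasNormalPComplement_of_le_centralizer h4⟩
  rw [← relIndex_top_right, ← hP.frattini_top, relIndex_sup_left, ← inf_relIndex_right,
    le_antisymm h4 (le_inf h3 (centralizer_le_normalizer _))]

theorem blockRank_of_prime : blockRank 2 (principalBlock M G) = Nat.card (autN ι) := by
  classical
  have := nontrivial_of_prime hq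
  have := Fintype.ofFinite A
  have := Fintype.ofFinite (autN ι)
  obtain ⟨τ, hτ, hτ'⟩ := exists_gen_of_prime_card hq
  have h1 := card_principal_of_prime hM F.syl (range_le_centralizer ι) (card_autN F.inj).symm hq
  have h2 : ι.range ⊓ centralizer (normalizer (ι.range : Set G) : Set G) = ⊥ := by
    rw [eq_bot_iff]
    rintro _ ⟨⟨u, rfl⟩, hu⟩
    by_contra h
    obtain ⟨t, ht, ht'⟩ := mem_autN.1 hτ
    have h3 := F.free τ hτ u (fun h' => h (by rw [h', map_one]; exact one_mem _))
      (F.inj (by rw [ht', hu t ht, mul_inv_cancel_right]))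
    rw [h3, orderOf_one] at hτ'
    exact hq.one_lt.ne hτ'
  rw [h2, card_bot, mul_one, ← Nat.card_congr (MonoidHom.ofInjective F.inj).toEquiv] at h1
  rcases (F.succ_le_card hq).eq_or_lt with hc | hc
  · obtain ⟨s, hs⟩ := exists_prime_orderOf_dvd_card' (G := A) 2 (by
      obtain ⟨u, hu⟩ := exists_ne (1 : A)
      exact (orderOf_injective ι F.inj u ▸ F.dvd_orderOf hu).trans (orderOf_dvd_natCard u))
    have hs1 : s ≠ 1 := fun h => by simp [h] at hs
    have hs2 : s * s = 1 := by rw [← sq, ← hs, pow_orderOf_eq_one]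
    have hO : (insert 1 (Finset.univ.image fun σ : autN ι => σ.1 s) : Finset A) = Finset.univ := by
      rw [← Finset.card_eq_iff_eq_univ, Finset.card_insert_of_notMem (by simpa using hs1),
        Finset.card_image_of_injective _ fun σ σ' h => Subtype.ext (eq_of_inv_mul_eq_one (F.free _
          (mul_mem (inv_mem σ.2) σ'.2) s hs1 (by
            rw [MulAut.mul_apply, ← show σ.1 s = _ from h, MulAut.inv_apply_self]))),
        Finset.card_univ, ← Nat.card_eq_fintype_card, ← Nat.card_eq_fintype_card, hc]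
    have h3 := F.card_of_regular hM (fun v => by
      rcases Finset.mem_insert.1 (hO ▸ Finset.mem_univ v) with rfl | h
      · exact mul_one 1
      · obtain ⟨σ, -, rfl⟩ := Finset.mem_image.1 h
        rw [← map_mul, hs2, map_one]) hτ hs1 (by omega)
    rw [h3, ← hc] at h1
    exact Nat.eq_of_mul_eq_mul_left hq.pos (by nlinarith)
  obtain ⟨X, Y, a, d, δ, T⟩ := F.exists_frobStr hM hc
  have h3 : Nat.card (principalBlock M G) = Nat.card X + Nat.card (Set.range Y) := by
    rw [T.eq_union, Nat.card_coe_set_eq, Set.ncard_union_eq T.disjoint, ← Nat.card_coe_set_eq,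
      ← Nat.card_coe_set_eq]
  have h4 := T.card_Y
  have h5 : blockRank 2 (principalBlock M G) = Nat.card X := by
    refine Nat.eq_of_mul_eq_mul_left hq.pos ?_
    rw [h3, show Nat.card A = Nat.card (Set.range Y) * Nat.card (autN ι) + 1 by omega] at h1
    nlinarith
  rw [h5]
  refine le_antisymm (T.card_le hc fun χ => F.ne_zero hM T) ?_
  obtain ⟨H, hH, h6, h7, -⟩ := (F.prime_cases hM hq).resolve_left (by omega)
  have h8 := (range_le_centralizer ι).trans h6
  have := Fact.mk hq
  have := isCyclic_of_prime_card (α := G ⧸ H) h7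
  have h9 : ∀ (ψ : IrrCharacter (G ⧸ H)), ∀ n ∈ H,
      (irrComp _ (QuotientGroup.mk'_surjective H) ψ).1 n =
        (irrComp _ (QuotientGroup.mk'_surjective H) ψ).1 1 := fun ψ n hn => by
    rw [irrComp_apply, irrComp_apply, map_one, QuotientGroup.mk'_apply,
      (QuotientGroup.eq_one_iff n).2 hn]
  rw [← h7, index_eq_card, ← card_irr_of_isMulCommutative]
  exact Nat.card_le_card_of_injective (fun ψ => (⟨irrComp _ (QuotientGroup.mk'_surjective H) ψ,
    T.mem_of_const hc (mem_principal_of_liesOver_of_centralizer_le hM F.syl.isPGroup h8 h6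
      (irrOne_mem_principalBlock hM) ((liesOver_irrOne_iff _).2 (h9 ψ)))
      (c := charDegree (irrComp _ (QuotientGroup.mk'_surjective H) ψ).1) fun u _ => by
        rw [h9 ψ _ (h8 ⟨u, rfl⟩), irr_apply_one, Int.cast_natCast]⟩ : X))
    fun ψ ψ' h => irrComp_injective _ _ (Subtype.mk.inj h)

end AbFrob

/-- An abelian Sylow `2`-subgroup of prime inertial index `e`: the principal block has `e`
irreducible Brauer characters. -/
theorem blockRank_principal_of_prime {M : Ideal AlgInt} (hM : IsPModular 2 M) {P : Subgroup G}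
    (hP : IsSylowIn 2 P ⊤) (hab : P ≤ centralizer (P : Set G))
    (hq : ((centralizer (P : Set G)).relIndex (normalizer (P : Set G))).Prime) :
    blockRank 2 (principalBlock M G) =
      (centralizer (P : Set G)).relIndex (normalizer (P : Set G)) := by
  obtain ⟨q, hq'⟩ : ∃ q, q = (centralizer (P : Set G)).relIndex (normalizer (P : Set G)) := ⟨_, rfl⟩
  rw [← hq'] at hq ⊢
  refine blockRank_principal_of_fixed hM (n := Nat.card P) (fun G _ _ P hP hab _ he h0 => ?_)
    G P hP hab le_rfl hq'.symm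
  obtain ⟨A, _, _, ι, hι, rfl⟩ := exists_comm_param (D := P) fun x hx y hy => hab hy x hx
  have F : AbFrob 2 ι := ⟨hι, hP, fun u hu => (le_or_le_of_prime_relIndex (le_inf
    (centralizer_le (Set.singleton_subset_iff.2 (show ι u ∈ ι.range from ⟨u, rfl⟩)))
    (centralizer_le_normalizer _))
    inf_le_right (he ▸ hq)).resolve_right fun h => hu (hι ((mem_bot.1 (h0.le ⟨⟨u, rfl⟩,
      fun t ht => mem_centralizer_singleton_iff.1 (h ht).1⟩)).trans (map_one ι).symm))⟩
  rw [← he, ← card_autN hι] at hq ⊢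
  exact F.blockRank_of_prime hM hq

universe u

theorem isSolvable_of_two_nilpotent
    (hFT : ∀ (H : Type u) [Group H] [Finite H], Odd (Nat.card H) → Group.IsSolvable H)
    {G : Type u} [Group G] [Finite G] (h : HasNormalPComplement 2 G) : Group.IsSolvable G :=
  (Group.isSolvable_iff_subgroup_quotient (pPrimeCore 2 G)).2 ⟨hFT _ (Nat.odd_iff.2 (by
    have := not_dvd_card_pPrimeCore 2 G; omega)),
    (hasNormalPComplement_iff_isPGroup_quotient.1 h).isSolvable'⟩

omit [Finite A] in
theorem mulAut_pow_apply_of_fixed {τ : MulAut A} {u : A} (h : τ u = u) (n : ℕ) : (τ ^ n) u = u := by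
  induction n with
  | zero => rfl
  | succ n ih => rw [pow_succ, MulAut.mul_apply, h, ih]

/-- The commutator map of an automorphism. -/
def commHom (τ : MulAut A) : A →* A := MonoidHom.id A / τ.toMonoidHom

omit [Finite A] in
theorem commHom_apply (τ : MulAut A) (u : A) : commHom τ u = u * (τ u)⁻¹ := div_eq_mul_inv _ _

omit [Finite A] in
theorem mem_ker_commHom {τ : MulAut A} {u : A} : u ∈ (commHom τ).ker ↔ τ u = u := by
  rw [MonoidHom.mem_ker, commHom_apply, mul_inv_eq_one, eq_comm]

omit [Finite A] in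
theorem mul_pow_inv_mem_range_commHom (τ : MulAut A) (n : ℕ) (u : A) :
    u * ((τ ^ n) u)⁻¹ ∈ (commHom τ).range := by
  induction n with
  | zero => simp
  | succ n ih =>
    have := mul_mem ih (⟨(τ ^ n) u, rfl⟩ : _ ∈ (commHom τ).range)
    rwa [commHom_apply, mul_assoc, inv_mul_cancel_left, ← MulAut.mul_apply, ← pow_succ'] at this

omit [Finite A] in
theorem pow_apply_mem_range_commHom (τ : MulAut A) (n : ℕ) {u : A} (hu : u ∈ (commHom τ).range) :
    (τ ^ n) u ∈ (commHom τ).range := by
  simpa using mul_mem (inv_mem (mul_pow_inv_mem_range_commHom τ n u)) hu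

theorem eq_one_of_mem_range_commHom {τ : MulAut A} (h : (orderOf τ).Coprime (Nat.card A)) {u : A}
    (hu : u ∈ (commHom τ).range) (hu' : τ u = u) : u = 1 := by
  obtain ⟨v, rfl⟩ := hu
  have h1 : ∀ n : ℕ, commHom τ v ^ n = v * ((τ ^ n) v)⁻¹ := fun n => by
    induction n with
    | zero => simp
    | succ n ih =>
      have h2 : τ (commHom τ v ^ n) = commHom τ v ^ n := by rw [map_pow, hu']
      rw [pow_succ', ← h2, ih, commHom_apply, map_mul, map_inv, mul_assoc, inv_mul_cancel_left,
        ← MulAut.mul_apply, ← pow_succ']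
  have h2 := h1 (orderOf τ)
  rw [pow_orderOf_eq_one, MulAut.one_apply, mul_inv_cancel] at h2
  exact orderOf_eq_one_iff.1 (Nat.eq_one_of_dvd_coprimes h (orderOf_dvd_of_pow_eq_one h2)
    (orderOf_dvd_natCard _))

/-- A nonsolvable group with an abelian Sylow `2`-subgroup `P` of prime inertial index `e`:
`[P, N(P)]` has order `e + 1`. -/
theorem card_eq_of_prime_of_not_isSolvable {M : Ideal AlgInt} (hM : IsPModular 2 M)
    (hFT : ∀ (H : Type u) [Group H] [Finite H], Odd (Nat.card H) → Group.IsSolvable H)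
    {G : Type u} [Group G] [Finite G] {P : Subgroup G} (hP : IsSylowIn 2 P ⊤)
    (hab : P ≤ centralizer (P : Set G))
    (hq : ((centralizer (P : Set G)).relIndex (normalizer (P : Set G))).Prime)
    (hG : ¬ Group.IsSolvable G) :
    Nat.card P = Nat.card ↥(P ⊓ centralizer (normalizer (P : Set G) : Set G)) *
      ((centralizer (P : Set G)).relIndex (normalizer (P : Set G)) + 1) := by
  obtain ⟨A, _, _, ι, hι, rfl⟩ := exists_comm_param (D := P) fun x hx y hy => hab hy x hx
  have hodd := (hP.of_le le_normalizer le_top).not_dvd_relIndex_of_le hab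
  rw [← card_autN hι] at hq hodd ⊢
  obtain ⟨τ, hτ, hτ'⟩ := exists_gen_of_prime_card hq
  have hgen : ∀ σ ∈ autN ι, ∃ n : ℕ, τ ^ n = σ := fun σ hσ => by
    have h1 : zpowers τ = autN ι := eq_of_le_of_card_ge (zpowers_le.2 hτ) (by
      rw [Nat.card_zpowers, hτ'])
    exact (mem_powers_iff_mem_zpowers.2 (h1 ▸ hσ) : σ ∈ Submonoid.powers τ)
  have hA : Nat.card A = Nat.card ι.range := Nat.card_congr (MonoidHom.ofInjective hι).toEquiv
  have hco : (orderOf τ).Coprime (Nat.card A) := by
    obtain ⟨k, hk⟩ := hP.isPGroup.exists_card_eq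
    rw [hA, hk, hτ']
    exact ((Nat.prime_two.coprime_iff_not_dvd.2 hodd).symm).pow_right k
  obtain ⟨t, ht, ht'⟩ := mem_autN.1 hτ
  have hZ : ι.range ⊓ centralizer (normalizer (ι.range : Set G) : Set G) =
      (commHom τ).ker.map ι := by
    ext x
    constructor
    · rintro ⟨⟨u, rfl⟩, hu⟩
      exact ⟨u, mem_ker_commHom.2 (hι (by rw [ht', hu t ht, mul_inv_cancel_right])), rfl⟩
    · rintro ⟨u, hu, rfl⟩
      refine ⟨⟨u, rfl⟩, fun n hn => ?_⟩
      obtain ⟨σ, hσ⟩ := exists_mulAut_of_mem_normalizer hι hn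
      obtain ⟨k, rfl⟩ := hgen σ (mem_autN.2 ⟨n, hn, hσ⟩)
      refine mul_inv_eq_iff_eq_mul.1 ((hσ u).symm.trans (congrArg ι ?_))
      exact mulAut_pow_apply_of_fixed (mem_ker_commHom.1 hu) k
  rw [hZ, card_map_of_injective hι, ← hA, ← (commHom τ).ker.card_mul_index, index_ker]
  congr 1
  set R := (commHom τ).range with hR
  have hRK : R.map ι = ι.range ⊓ commutator G := by
    refine le_antisymm (le_inf (map_le_range _ _) ?_) ?_
    · rintro _ ⟨_, ⟨u, rfl⟩, rfl⟩
      rw [commHom_apply, map_mul, map_inv, ht', show ι u * (t * ι u * t⁻¹)⁻¹ = ⁅ι u, t⁆ by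
        rw [commutatorElement_def]; group]
      exact commutator_mem_commutator (mem_top _) (mem_top _)
    · rw [inf_comm]
      refine hP.commutator_inf_le ?_
      rintro _ ⟨u, rfl⟩ g - ⟨v, hv⟩
      obtain ⟨n, hn, h1⟩ := exists_mem_normalizer_conj_eq_of_mem_centralizer hP.toSylowTop
        (x := ι u) (g := g) (hab ⟨u, rfl⟩) (hv ▸ hab ⟨v, rfl⟩)
      obtain ⟨σ, hσ⟩ := exists_mulAut_of_mem_normalizer hι hn
      obtain ⟨k, rfl⟩ := hgen σ (mem_autN.2 ⟨n, hn, hσ⟩)
      rw [← h1, ← hσ, ← map_inv, ← map_mul]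
      exact ⟨_, mul_pow_inv_mem_range_commHom τ k u, rfl⟩
  have hK : R.map ι ≤ commutator G := hRK.le.trans inf_le_right
  let κ : R →* commutator G := (ι.comp R.subtype).codRestrict _ fun v => hK ⟨v, v.2, rfl⟩
  have hκ : κ.range = (R.map ι).subgroupOf (commutator G) := by
    ext x
    exact ⟨fun ⟨v, hv⟩ => ⟨v, v.2, congrArg Subtype.val hv⟩,
      fun ⟨v, hv, hv'⟩ => ⟨⟨v, hv⟩, Subtype.ext hv'⟩⟩
  have hκi : Function.Injective κ := fun v w h => Subtype.ext (hι (congrArg Subtype.val h))
  have key : ∀ g ∈ normalizer (κ.range : Set (commutator G)), ∃ k : ℕ, ∀ v : R,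
      ι ((τ ^ k) v) = g * ι v * (g : G)⁻¹ := fun g hg => by
    rw [hκ, ← subgroupOf_normalizer_eq hK, mem_subgroupOf] at hg
    have h1 : IsSylowIn 2 ι.range (centralizer (R.map ι : Set G)) :=
      hP.of_le (hab.trans (centralizer_le (map_le_range _ _))) le_top
    obtain ⟨c, hc, n, hn, h2⟩ := h1.frattini (normalizer_le_normalizer_centralizer _ hg)
    obtain ⟨σ, hσ⟩ := exists_mulAut_of_mem_normalizer hι hn
    obtain ⟨k, rfl⟩ := hgen σ (mem_autN.2 ⟨n, hn, hσ⟩)
    refine ⟨k, fun v => ?_⟩
    have h3 := hc _ ⟨_, pow_apply_mem_range_commHom τ k v.2, rfl⟩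
    rw [← h2, mul_inv_rev, ← mul_assoc, mul_assoc c, mul_assoc c, ← hσ, ← h3, mul_inv_cancel_right]
  have F : AbFrob 2 κ := by
    refine ⟨hκi, ?_, fun u hu g hg => ?_⟩
    · rw [hκ, isSylowIn_subgroupOf_top_iff hK, hRK]
      exact hP.inf_of_le_normalizer le_top (by rw [normalizer_eq_top])
    obtain ⟨k, hk⟩ := key g hg.2
    have h1 : (τ ^ k) u = u := hι (by
      rw [hk, mul_inv_eq_iff_eq_mul]
      exact congrArg Subtype.val (mem_centralizer_singleton_iff.1 hg.1))
    have h2 : τ ^ k = 1 := by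
      by_contra h
      have h3 : zpowers (τ ^ k) = autN ι := by
        have := Fact.mk hq
        have h4 := (Nat.dvd_prime hq).1 (orderOf_dvd_natCard (⟨_, pow_mem hτ k⟩ : autN ι))
        rw [← Subgroup.orderOf_coe] at h4
        exact eq_of_le_of_card_ge (zpowers_le.2 (pow_mem hτ k)) (by
          rw [Nat.card_zpowers, h4.resolve_left fun h' => h (orderOf_eq_one_iff.1 h')])
      obtain ⟨j, hj⟩ : τ ∈ Submonoid.powers (τ ^ k) := mem_powers_iff_mem_zpowers.2 (h3 ▸ hτ)
      refine hu (Subtype.ext (eq_one_of_mem_range_commHom hco u.2 ?_))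
      rw [← hj]
      exact mulAut_pow_apply_of_fixed h1 j
    rintro _ ⟨v, rfl⟩
    have h3 := hk v
    rw [h2, MulAut.one_apply, eq_mul_inv_iff_mul_eq] at h3
    exact Subtype.ext h3
  have hinv : ∀ σ ∈ autN ι, ∀ v ∈ R, σ v ∈ R := fun σ hσ v hv => by
    obtain ⟨k, rfl⟩ := hgen σ hσ
    exact pow_apply_mem_range_commHom τ k hv
  let _ : MulDistribMulAction (autN ι) R :=
    { smul := fun σ v => ⟨σ.1 v, hinv _ σ.2 _ v.2⟩
      one_smul := fun _ => rfl
      mul_smul := fun _ _ _ => rfl
      smul_mul := fun σ v w => Subtype.ext (map_mul σ.1 v.1 w.1)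
      smul_one := fun σ => Subtype.ext (map_one σ.1) }
  have hdvd : Nat.card (autN κ) ∣ Nat.card (autN ι) := by
    refine (card_dvd_of_le (K := (MulDistribMulAction.toMulAut (autN ι) R).range)
      fun σ hσ => ?_).trans (card_range_dvd _)
    obtain ⟨g, hg, hg'⟩ := mem_autN.1 hσ
    obtain ⟨k, hk⟩ := key g hg
    exact ⟨⟨_, pow_mem hτ k⟩, MulEquiv.ext fun v => Subtype.ext (hι ((hk v).trans
      (congrArg Subtype.val (hg' v)).symm))⟩
  have hns : ¬ Group.IsSolvable (commutator G) := fun h => hG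
    ((Group.isSolvable_iff_subgroup_quotient (commutator G)).2 ⟨h,
      inferInstanceAs (Group.IsSolvable (Abelianization G))⟩)
  rcases (Nat.dvd_prime hq).1 hdvd with h | h
  · rw [card_autN hκi, relIndex_eq_one] at h
    exact (hns (isSolvable_of_two_nilpotent hFT (hasNormalPComplement_top_iff.1
      (F.syl.hasNormalPComplement_of_le_centralizer (inf_le_right.trans h))))).elim
  rw [← h] at hq ⊢
  refine (F.prime_cases hM hq).resolve_right fun ⟨H, _, _, h1, h2⟩ => hns ?_
  have := Fact.mk hq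
  have := isCyclic_of_prime_card (α := _ ⧸ H) h1
  exact (Group.isSolvable_iff_subgroup_quotient H).2 ⟨isSolvable_of_two_nilpotent hFT h2,
    isSolvable_of_isMulCommutative⟩

/-- The invariants of the principal `2`-block for an abelian Sylow `2`-subgroup with prime inertial
index, given the odd order theorem. -/
theorem principal_of_prime_of_oddOrder
    (hFT : ∀ (H : Type u) [Group H] [Finite H], Odd (Nat.card H) → Group.IsSolvable H)
    {G : Type u} [Group G] [Finite G] (M : Ideal AlgInt) (hM : IsPModular 2 M) (P : Sylow 2 G)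
    (hab : IsMulCommutative P) (he : ((centralizer ((P : Subgroup G) : Set G)).relIndex
      (normalizer ((P : Subgroup G) : Set G))).Prime) :
    blockRank 2 (principalBlock M G) = (centralizer ((P : Subgroup G) : Set G)).relIndex
      (normalizer ((P : Subgroup G) : Set G)) ∧
    (¬ Group.IsSolvable G → Nat.card (principalBlock M G) = Nat.card P) := by
  have hab' : (P : Subgroup G) ≤ centralizer ((P : Subgroup G) : Set G) :=
    le_centralizer (P : Subgroup G)
  have h1 := blockRank_principal_of_prime hM (isSylowIn_sylow P) hab' he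
  refine ⟨h1, fun hG => ?_⟩
  have h2 := card_eq_of_prime_of_not_isSolvable hM hFT (isSylowIn_sylow P) hab' he hG
  have h3 := card_principal_of_prime hM (isSylowIn_sylow P) hab' rfl he
  rw [h1, h2] at h3
  refine Nat.eq_of_mul_eq_mul_left he.pos ?_
  rw [show Nat.card P = Nat.card (P : Subgroup G) from rfl, h2]
  nlinarith

end BT
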