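import Cfsg.Agent.Lib.Block.Major
import Cfsg.Agent.Lib.Block.IBrIdem

/-!
# Graded units over a normal subgroup; the Alperin-Dade theorem on isomorphic principal blocks
-/

set_option autoImplicit false
set_option linter.unusedSectionVars false

namespace BT
open Cfsg CT GT
open scoped MonoidAlgebra ComplexConjugate Pointwise

variable {G : Type*} [Group G] [Finite G]

section NSum
variable {R : Type*} [CommRing R]

open Classical in
/-- The sum of the `N`-conjugates of `x`. -/
noncomputable def nclSum (R : Type*) [CommRing R] (N : Subgroup G) (x : G) : R[G] :=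
  ofFun fun g => if ∃ n ∈ N, n * x * n⁻¹ = g then 1 else 0

theorem coeff_nclSum (N : Subgroup G) (x g : G) [Decidable (∃ n ∈ N, n * x * n⁻¹ = g)] :
    (nclSum R N x).coeff g = if ∃ n ∈ N, n * x * n⁻¹ = g then 1 else 0 := by
  rw [nclSum, coeff_ofFun]
  congr

theorem isFixed_nclSum (N : Subgroup G) (x : G) : IsFixed N (nclSum R N x) := by
  classical
  intro h hh g
  rw [coeff_nclSum, coeff_nclSum]
  refine if_congr ⟨?_, ?_⟩ rfl rfl
  · rintro ⟨n, hn, h1⟩
    exact ⟨h⁻¹ * n, mul_mem (inv_mem hh) hn, by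
      rw [show h⁻¹ * n * x * (h⁻¹ * n)⁻¹ = h⁻¹ * (n * x * n⁻¹) * h by group, h1]; group⟩
  · rintro ⟨n, hn, rfl⟩
    exact ⟨h * n, mul_mem hh hn, by group⟩

theorem exists_of_coeff_nclSum_ne_zero {N : Subgroup G} {x g : G}
    (h : (nclSum R N x).coeff g ≠ 0) : ∃ n ∈ N, n * x * n⁻¹ = g := by
  classical
  rw [coeff_nclSum] at h
  by_contra h'
  exact h (if_neg h')

theorem cosetPart_nclSum {N : Subgroup G} [N.Normal] (x : G) {s t : G ⧸ N}
    (h : s * (x : G ⧸ N) = t) : cosetPart s t (nclSum R N x) = nclSum R N x := by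
  rw [cosetPart, trunc_eq_self_iff]
  intro g hg
  obtain ⟨n, hn, rfl⟩ := exists_of_coeff_nclSum_ne_zero hg
  simp only [Set.mem_ofPred_eq, QuotientGroup.mk_mul, QuotientGroup.mk_inv,
    (QuotientGroup.eq_one_iff n).2 hn, one_mul, inv_one, mul_one, h]

theorem aug_nclSum (N : Subgroup G) (x : G) :
    aug (nclSum R N x) = ((Subgroup.centralizer ({x} : Set G)).relIndex N : R) := by
  classical
  have := Fintype.ofFinite G
  let inst : MulAction N G := MulAction.compHom G ((MulAut.conj : G →* MulAut G).comp N.subtype)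
  have h1 := @MulAction.index_stabilizer N G _ inst x
  have h2 : @MulAction.stabilizer N G _ inst x = (Subgroup.centralizer {x}).subgroupOf N := by
    ext y
    rw [Subgroup.mem_subgroupOf, Subgroup.mem_centralizer_singleton_iff]
    show (y : G) * x * (y : G)⁻¹ = x ↔ _
    rw [mul_inv_eq_iff_eq_mul]
  rw [aug_eq_sum, Subgroup.relIndex, ← h2, h1]
  simp only [coeff_nclSum]
  rw [Finset.sum_boole, ← Set.ncard_coe_finset]
  congr 2
  ext g
  simp only [Finset.coe_filter, Finset.mem_univ, true_and, Set.mem_ofPred_eq]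
  exact ⟨fun ⟨n, hn, h⟩ => ⟨⟨n, hn⟩, h⟩, fun ⟨n, h⟩ => ⟨n, n.2, h⟩⟩

end NSum

variable {p : ℕ} [Fact p.Prime] {M : Ideal AlgInt} (hM : IsPModular p M)

theorem isInt_nclSum (N : Subgroup G) (x : G) : IsInt hM (nclSum ℂ N x) := by
  classical
  intro g
  rw [coeff_nclSum]
  split_ifs
  · exact one_mem _
  · exact zero_mem _

section Graded
variable {N : Subgroup G} [N.Normal]

theorem cosetPart_mul_of_eq {R : Type*} [CommRing R] {s t r : G ⧸ N} {a b : R[G]}
    (ha : cosetPart s t a = a) (hb : cosetPart t r b = b) : cosetPart s r (a * b) = a * b := by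
  classical
  have := Fintype.ofFinite (G ⧸ N)
  rw [cosetPart_mul, Finset.sum_eq_single t]
  · rw [ha, hb]
  · intro v _ hv
    rw [← ha, cosetPart_cosetPart, if_neg hv, zero_mul]
  · simp

theorem suppIn_of_cosetPart_self {R : Type*} [CommRing R] {s : G ⧸ N} {a : R[G]}
    (ha : cosetPart s s a = a) : SuppIn (N : Set G) a := by
  rwa [cosetPart_self, trunc_eq_self_iff] at ha

/-- The central character of `θ` on the `N`-part. -/
noncomputable def omegaN (θ : IrrCharacter N) (a : ℂ[G]) : ℂ := omega θ.1 (proj N a)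

omit [N.Normal] in
theorem omegaN_mul (θ : IrrCharacter N) {a : ℂ[G]} (hs : SuppIn (N : Set G) a) (hf : IsFixed N a)
    (b : ℂ[G]) : omegaN θ (a * b) = omegaN θ a * omegaN θ b := by
  rw [omegaN, proj_mul_of_suppIn hs, omega_mul θ hf.isCentral_proj]; rfl

omit [N.Normal] in
theorem omegaN_sum {ι : Type*} (θ : IrrCharacter N) (s : Finset ι) (a : ι → ℂ[G]) :
    omegaN θ (∑ i ∈ s, a i) = ∑ i ∈ s, omegaN θ (a i) := by
  rw [omegaN, map_sum, omega_sum]; rfl

omit [N.Normal] in
theorem omegaN_trunc (θ : IrrCharacter N) (a : ℂ[G]) :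
    omegaN θ (trunc (N : Set G) a) = omegaN θ a := by
  rw [omegaN, proj_trunc]; rfl

omit [N.Normal] in
theorem omegaN_mem (θ : IrrCharacter N) {a : ℂ[G]} (hf : IsFixed N a) (hi : IsInt hM a) :
    omegaN θ a ∈ locRing hM :=
  omega_mem_locRing hM θ hf.isCentral_proj (hi.proj hM N)

omit [N.Normal] in
theorem omegaN_sub_mem {θ θ' : IrrCharacter N} (h : SameBlock M θ.1 θ'.1) {a : ℂ[G]}
    (hf : IsFixed N a) (hi : IsInt hM a) : omegaN θ a - omegaN θ' a ∈ locIdeal hM :=
  omega_sub_mem_locIdeal hM (isPBlock_blockOf θ) (mem_blockOf_self hM θ) h hf.isCentral_proj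
    (hi.proj hM N)

omit [N.Normal] in
theorem omegaN_irrOne {a : ℂ[G]} (hs : SuppIn (N : Set G) a) : omegaN (irrOne N) a = aug a := by
  have := Fintype.ofFinite N
  rw [omegaN, omega_def, ev_eq_sum, ← emb_proj_of_suppIn N hs, aug_emb, proj_emb, aug_eq_sum]
  simp

/-- A system of `N`-fixed homogeneous elements, one pair for each coset of `N`. -/
structure GrSys (N : Subgroup G) [N.Normal] where
  u : G ⧸ N → ℂ[G]
  w : G ⧸ N → ℂ[G]
  fu : ∀ t, IsFixed N (u t)
  fw : ∀ t, IsFixed N (w t)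
  cu : ∀ t, cosetPart 1 t (u t) = u t
  cw : ∀ t, cosetPart t 1 (w t) = w t

namespace GrSys
variable (S : GrSys N)

theorem supp_wu (t : G ⧸ N) : SuppIn (N : Set G) (S.w t * S.u t) :=
  suppIn_of_cosetPart_self (cosetPart_mul_of_eq (S.cw t) (S.cu t))

theorem supp_uw (t : G ⧸ N) : SuppIn (N : Set G) (S.u t * S.w t) :=
  suppIn_of_cosetPart_self (cosetPart_mul_of_eq (S.cu t) (S.cw t))

theorem fixed_wu (t : G ⧸ N) : IsFixed N (S.w t * S.u t) :=
  (fixedAlg ℂ N).mul_mem (S.fw t) (S.fu t)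

theorem fixed_uw (t : G ⧸ N) : IsFixed N (S.u t * S.w t) :=
  (fixedAlg ℂ N).mul_mem (S.fu t) (S.fw t)

theorem omegaN_uw (θ : IrrCharacter N) {t : G ⧸ N} (h : omegaN θ (S.w t * S.u t) ≠ 0) :
    omegaN θ (S.u t * S.w t) = omegaN θ (S.w t * S.u t) := by
  have h1 : (S.w t * S.u t) * (S.w t * S.u t) = (S.u t * S.w t) * (S.w t * S.u t) := by
    have := ((S.fw t).commute_of_suppIn (S.supp_uw t)).eq
    calc (S.w t * S.u t) * (S.w t * S.u t) = (S.w t * (S.u t * S.w t)) * S.u t := by
          simp only [mul_assoc]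
      _ = _ := by rw [this]; simp only [mul_assoc]
  have h2 := congrArg (omegaN θ) h1
  rw [omegaN_mul θ (S.supp_wu t) (S.fixed_wu t), omegaN_mul θ (S.supp_uw t) (S.fixed_uw t)] at h2
  exact (mul_right_cancel₀ h h2).symm

/-- The matrix of multiplication by an `N`-fixed element on `(ℂ[G] e_θ)^N`. -/
noncomputable def mat (θ : IrrCharacter N) (a : ℂ[G]) : Matrix (G ⧸ N) (G ⧸ N) ℂ :=
  Matrix.of fun s t => omegaN θ (S.u s * cosetPart s t a * S.w t) / omegaN θ (S.w t * S.u t)

theorem fixed_entry {a : ℂ[G]} (ha : IsFixed N a) (s t : G ⧸ N) :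
    IsFixed N (S.u s * cosetPart s t a * S.w t) :=
  (fixedAlg ℂ N).mul_mem ((fixedAlg ℂ N).mul_mem (S.fu s) (isFixed_cosetPart s t ha)) (S.fw t)

theorem supp_entry (a : ℂ[G]) (s t : G ⧸ N) :
    SuppIn (N : Set G) (S.u s * cosetPart s t a * S.w t) := by
  classical
  exact suppIn_of_cosetPart_self (cosetPart_mul_of_eq (cosetPart_mul_of_eq (S.cu s)
    (by rw [cosetPart_cosetPart, if_pos rfl])) (S.cw t))

theorem mat_mul [Fintype (G ⧸ N)] (θ : IrrCharacter N) (h : ∀ t, omegaN θ (S.w t * S.u t) ≠ 0)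
    {a : ℂ[G]} (ha : IsFixed N a) (b : ℂ[G]) :
    S.mat θ (a * b) = S.mat θ a * S.mat θ b := by
  ext s r
  simp only [mat, Matrix.mul_apply, Matrix.of_apply]
  rw [cosetPart_mul, Finset.mul_sum, Finset.sum_mul, omegaN_sum, Finset.sum_div]
  refine Finset.sum_congr rfl fun t _ => ?_
  rw [div_mul_div_comm, ← omegaN_mul θ (S.supp_entry a s t) (S.fixed_entry ha s t)]
  have h1 : S.u s * cosetPart s t a * S.w t * (S.u t * cosetPart t r b * S.w r) =
      (S.w t * S.u t) * (S.u s * (cosetPart s t a * cosetPart t r b) * S.w r) := by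
    have := (((fixedAlg ℂ N).mul_mem (S.fu s) (isFixed_cosetPart s t ha) :
      IsFixed N (S.u s * cosetPart s t a)).commute_of_suppIn (S.supp_wu t)).eq
    calc S.u s * cosetPart s t a * S.w t * (S.u t * cosetPart t r b * S.w r)
        = (S.u s * cosetPart s t a * (S.w t * S.u t)) * (cosetPart t r b * S.w r) := by
          simp only [mul_assoc]
      _ = _ := by rw [this]; simp only [mul_assoc]
  rw [h1, omegaN_mul θ (S.supp_wu t) (S.fixed_wu t), mul_div_mul_left _ _ (h t)]

theorem trace_mat [Fintype (G ⧸ N)] (θ : IrrCharacter N)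
    (h : ∀ t, omegaN θ (S.w t * S.u t) ≠ 0) {a : ℂ[G]} (ha : IsFixed N a) :
    (S.mat θ a).trace = N.index * omegaN θ a := by
  rw [Matrix.trace, Subgroup.index, Nat.card_eq_fintype_card, ← nsmul_eq_mul, ← Finset.card_univ,
    ← Finset.sum_const]
  refine Finset.sum_congr rfl fun s _ => ?_
  simp only [mat, Matrix.diag_apply, Matrix.of_apply]
  have h1 : S.u s * cosetPart s s a * S.w s = cosetPart s s a * (S.u s * S.w s) := by
    rw [cosetPart_self, ((S.fu s).commute_of_suppIn (suppIn_trunc _ a)).eq, mul_assoc]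
  rw [h1, omegaN_mul θ (by rw [cosetPart_self]; exact suppIn_trunc _ a) (isFixed_cosetPart s s ha),
    S.omegaN_uw θ (h s), mul_div_assoc, div_self (h s), mul_one, cosetPart_self, omegaN_trunc]

variable (hu : ∀ t, IsInt hM (S.u t)) (hw : ∀ t, IsInt hM (S.w t))
include hu hw

theorem isInt_entry {a : ℂ[G]} (ha : IsInt hM a) (s t : G ⧸ N) :
    IsInt hM (S.u s * cosetPart s t a * S.w t) :=
  ((hu s).mul hM (ha.trunc hM _)).mul hM (hw t)

theorem mat_mem (θ : IrrCharacter N) (h : ∀ t, omegaN θ (S.w t * S.u t) ∉ locIdeal hM)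
    {a : ℂ[G]} (ha : IsFixed N a) (hi : IsInt hM a) (s t : G ⧸ N) :
    S.mat θ a s t ∈ locRing hM := by
  simp only [mat, Matrix.of_apply]
  rw [div_eq_mul_inv]
  exact mul_mem (omegaN_mem hM θ (S.fixed_entry ha s t) (S.isInt_entry hM hu hw hi s t))
    (inv_mem_locRing hM (omegaN_mem hM θ (S.fixed_wu t) ((hw t).mul hM (hu t))) (h t))

theorem not_mem_of_sameBlock {θ θ' : IrrCharacter N} (hb : SameBlock M θ.1 θ'.1)
    (h : ∀ t, omegaN θ (S.w t * S.u t) ∉ locIdeal hM) (t : G ⧸ N) :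
    omegaN θ' (S.w t * S.u t) ∉ locIdeal hM := fun h' =>
  h t (by simpa using add_mem (omegaN_sub_mem hM hb (S.fixed_wu t) ((hw t).mul hM (hu t))) h')

theorem map_red_mat_eq {θ θ' : IrrCharacter N} (hb : SameBlock M θ.1 θ'.1)
    (h : ∀ t, omegaN θ (S.w t * S.u t) ∉ locIdeal hM)
    {a : ℂ[G]} (ha : IsFixed N a) (hi : IsInt hM a) :
    (S.mat θ a).map (red hM) = (S.mat θ' a).map (red hM) := by
  ext s t
  have h' := S.not_mem_of_sameBlock hM hu hw hb h
  have m1 := fun φ : IrrCharacter N =>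
    omegaN_mem hM φ (S.fixed_entry ha s t) (S.isInt_entry hM hu hw hi s t)
  have m2 := fun φ : IrrCharacter N => omegaN_mem hM φ (S.fixed_wu t) ((hw t).mul hM (hu t))
  simp only [mat, Matrix.map_apply, Matrix.of_apply, div_eq_mul_inv]
  rw [red_mul hM (m1 θ) (inv_mem_locRing hM (m2 θ) (h t)),
    red_mul hM (m1 θ') (inv_mem_locRing hM (m2 θ') (h' t)), red_inv hM (m2 θ) (h t),
    red_inv hM (m2 θ') (h' t),
    (red_eq_iff hM (m1 θ) (m1 θ')).2
      (omegaN_sub_mem hM hb (S.fixed_entry ha s t) (S.isInt_entry hM hu hw hi s t)),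
    (red_eq_iff hM (m2 θ) (m2 θ')).2
      (omegaN_sub_mem hM hb (S.fixed_wu t) ((hw t).mul hM (hu t)))]

/-- For an `N`-fixed integral idempotent `e`, `ω_θ(e_N)` is constant on the block of `θ`. -/
theorem omegaN_idem_eq {θ θ' : IrrCharacter N} (hb : SameBlock M θ.1 θ'.1)
    (h : ∀ t, omegaN θ (S.w t * S.u t) ∉ locIdeal hM)
    {e : ℂ[G]} (he : IsFixed N e) (hi : IsInt hM e) (hee : e * e = e) :
    omegaN θ e = omegaN θ' e := by
  classical
  have := Fintype.ofFinite (G ⧸ N)
  have h' := S.not_mem_of_sameBlock hM hu hw hb h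
  have n1 : ∀ t, omegaN θ (S.w t * S.u t) ≠ 0 := fun t h0 => h t (h0 ▸ zero_mem _)
  have n2 : ∀ t, omegaN θ' (S.w t * S.u t) ≠ 0 := fun t h0 => h' t (h0 ▸ zero_mem _)
  have i1 : S.mat θ e * S.mat θ e = S.mat θ e := by rw [← S.mat_mul θ n1 he, hee]
  have i2 : S.mat θ' e * S.mat θ' e = S.mat θ' e := by rw [← S.mat_mul θ' n2 he, hee]
  have h1 := trace_eq_rank_of_idem i1
  have h2 := trace_eq_rank_of_idem i2
  rw [← rank_map_red_of_idem hM (S.mat_mem hM hu hw θ h he hi) i1,
    S.map_red_mat_eq hM hu hw hb h he hi,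
    rank_map_red_of_idem hM (S.mat_mem hM hu hw θ' h' he hi) i2, ← h2,
    S.trace_mat θ n1 he, S.trace_mat θ' n2 he] at h1
  exact mul_left_cancel₀ (Nat.cast_ne_zero.2 (index_pos N).ne') h1

end GrSys

/-- The system of `N`-class sums attached to a choice of coset representatives. -/
noncomputable def grSysOf (x : G ⧸ N → G) (hx : ∀ t, (x t : G ⧸ N) = t) : GrSys N where
  u t := nclSum ℂ N (x t)
  w t := nclSum ℂ N (x t)⁻¹
  fu _ := isFixed_nclSum _ _
  fw _ := isFixed_nclSum _ _
  cu t := cosetPart_nclSum _ (by rw [one_mul, hx])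
  cw t := cosetPart_nclSum _ (by rw [QuotientGroup.mk_inv, hx, mul_inv_cancel])

include hM in
/-- If `G = N C(P)` for a Sylow `p`-subgroup `P` of `N`, then `ω_θ(e_N) = aug (e_N)` for `θ` in
the principal block of `N` and every `N`-fixed integral idempotent `e`. -/
theorem omegaN_idem_eq_of_principal {P : Subgroup G} (hP : IsSylowIn p P N)
    (hs : N ⊔ Subgroup.centralizer (P : Set G) = ⊤) {θ : IrrCharacter N}
    (hθ : θ ∈ principalBlock M N) {e : ℂ[G]} (he : IsFixed N e) (hi : IsInt hM e)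
    (hee : e * e = e) : omegaN θ e = omegaN (irrOne N) e := by
  have hex : ∀ t : G ⧸ N, ∃ x ∈ Subgroup.centralizer (P : Set G), (x : G ⧸ N) = t := by
    intro t
    obtain ⟨g, rfl⟩ := QuotientGroup.mk_surjective t
    have hg : g ∈ N ⊔ Subgroup.centralizer (P : Set G) := hs ▸ Subgroup.mem_top g
    obtain ⟨n, hn, c, hc, rfl⟩ := (mem_sup_of_le_normalizer_left
      Subgroup.le_normalizer_of_normal).1 hg
    exact ⟨c, hc, by rw [QuotientGroup.mk_mul, (QuotientGroup.eq_one_iff n).2 hn, one_mul]⟩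
  choose x hxC hx using hex
  refine ((grSysOf x hx).omegaN_idem_eq hM (fun t => isInt_nclSum hM _ _)
    (fun t => isInt_nclSum hM _ _) (θ := irrOne N) hθ (fun t => ?_) he hi hee).symm
  rw [omegaN_irrOne ((grSysOf x hx).supp_wu t), map_mul]
  show aug (nclSum ℂ N (x t)⁻¹) * aug (nclSum ℂ N (x t)) ∉ locIdeal hM
  rw [aug_nclSum, aug_nclSum, ← Nat.cast_mul, natCast_mem_locIdeal_iff,
    (Fact.out : p.Prime).dvd_mul, not_or]
  exact ⟨hP.not_dvd_relIndex_of_le (le_centralizer_singleton_iff.2 (inv_mem (hxC t))),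
    hP.not_dvd_relIndex_of_le (le_centralizer_singleton_iff.2 (hxC t))⟩

include hM in
/-- If `G = N C(P)` with `P` Sylow and `G/N` a `p'`-group, the principal block contains no
nonprincipal character of `G/N`. -/
theorem eq_irrOne_of_mem_principal_of_le_ker {P : Subgroup G} (hP : IsSylowIn p P ⊤)
    (hs : N ⊔ Subgroup.centralizer (P : Set G) = ⊤) (hidx : ¬ p ∣ N.index) {β : IrrCharacter G}
    (hβ : β ∈ principalBlock M G) (hk : N ≤ ker β.1) : β = irrOne G := by
  classical
  have := Fintype.ofFinite (G ⧸ N)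
  obtain ⟨γ, rfl⟩ := (exists_inflate_eq_iff N β).2 hk
  have hd : ¬ p ∣ charDegree γ.1 := fun h => hidx (h.trans (irr_degree_dvd_card γ))
  have h1 : ∀ t : G ⧸ N, 1 - γ.1 t / γ.1 1 ∈ locIdeal hM := by
    intro t
    obtain ⟨g, rfl⟩ := QuotientGroup.mk_surjective t
    have hg : g ∈ N ⊔ Subgroup.centralizer (P : Set G) := hs ▸ Subgroup.mem_top g
    obtain ⟨n, hn, c, hc, rfl⟩ := (mem_sup_of_le_normalizer_left
      Subgroup.le_normalizer_of_normal).1 hg
    rw [QuotientGroup.mk_mul, (QuotientGroup.eq_one_iff n).2 hn, one_mul]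
    have h2 : centralChar (fun _ => (1 : ℂ)) c - centralChar (inflate N γ).1 c ∈ locIdeal hM :=
      hβ c
    have h3 : ¬ p ∣ (Subgroup.centralizer ({c} : Set G)).index := by
      rw [← Subgroup.relIndex_top_right]
      exact hP.not_dvd_relIndex_of_le (le_centralizer_singleton_iff.2 hc)
    have h4 := mul_mem_locIdeal_left hM (inv_natCast_mem_locRing hM h3) h2
    have h5 : ((Subgroup.centralizer ({c} : Set G)).index : ℂ) ≠ 0 :=
      Nat.cast_ne_zero.2 (index_pos _).ne'
    unfold centralChar at h4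
    simp only [inflate_apply, QuotientGroup.mk_one] at h4
    convert h4 using 1
    field_simp
  by_contra hne
  have hne' : γ ≠ irrOne _ := fun h => hne (by rw [h, inflate_irrOne])
  have h2 := ip_irr_ne hne'
  rw [ip_def, mul_eq_zero] at h2
  have h3 : ∑ t : G ⧸ N, γ.1 t = 0 := by
    simpa using h2.resolve_left (inv_ne_zero card_cast_ne_zero)
  have h4 := sum_mem (S := locIdeal hM) (t := Finset.univ) fun t _ => h1 t
  rw [Finset.sum_sub_distrib, ← Finset.sum_div, h3, zero_div, sub_zero, Finset.sum_const,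
    nsmul_eq_mul, mul_one, natCast_mem_locIdeal_iff, Finset.card_univ,
    ← Nat.card_eq_fintype_card] at h4
  exact hidx h4

include hM in
/-- Alperin-Dade: the members of the principal block over `θ ∈ B₀(N)`. -/
theorem sum_principal_mult_mul_degree {P : Subgroup G} (hP : IsSylowIn p P ⊤)
    (hs : N ⊔ Subgroup.centralizer (P : Set G) = ⊤) (hidx : ¬ p ∣ N.index) {θ : IrrCharacter N}
    (hθ : θ ∈ principalBlock M N) :
    ∑ χ ∈ bset (principalBlock M G), mult (res N χ.1) θ.1 * charDegree χ.1 = charDegree θ.1 := by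
  have key : ∀ φ : IrrCharacter N,
      ((∑ χ ∈ bset (principalBlock M G), mult (res N χ.1) φ.1 * charDegree χ.1 : ℕ) : ℂ) =
        N.index * φ.1 1 * omegaN φ (setIdem (principalBlock M G)) := by
    intro φ
    rw [omegaN, ← blockPart_ind_apply_one, degree_blockPart_eq_sum _ (irr_isCharacter φ).ind]
    congr 1
    exact Finset.sum_congr rfl fun χ _ => by
      rw [mult_ind N (irr_isCharacter φ) (irr_isCharacter χ)]
  have h1 := omegaN_idem_eq_of_principal hM
    (hP.of_le (le_of_isPGroup_of_not_dvd_index hP.isPGroup hidx) le_top) hs hθ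
    ((isCentral_setIdem (principalBlock M G)).isFixed N) (isInt_setIdem hM isPBlock_principalBlock)
    (by rw [setIdem_mul, Set.inter_self])
  have h2 := key (irrOne N)
  rw [Finset.sum_eq_single (irrOne G)] at h2
  · rw [show res N (irrOne G).1 = (irrOne N).1 from rfl,
      mult_eq_of_ip_eq (n := 1) (by rw [ip_irr_self, Nat.cast_one]), charDegree_irrOne] at h2
    have h3 := key θ
    rw [h1, mul_right_comm, irr_apply_one] at h3
    simp only [irrOne_apply, mul_one, Nat.cast_one] at h2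
    rw [← h2, one_mul] at h3
    exact_mod_cast h3
  · intro χ hχ hne
    rw [mul_eq_zero]; left
    by_contra h0
    exact hne (eq_irrOne_of_mem_principal_of_le_ker hM hP hs hidx (mem_bset.1 hχ)
      ((liesOver_one_iff N χ).1 ((liesOver_iff_mult_pos (irr_isCharacter χ) isCharacter_one).2
        (Nat.pos_of_ne_zero h0))))
  · intro h; exact absurd (mem_bset.2 (irrOne_mem_principalBlock hM)) h

include hM in
theorem res_eq_of_principal_of_sup_centralizer {P : Subgroup G} (hP : IsSylowIn p P ⊤)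
    (hs : N ⊔ Subgroup.centralizer (P : Set G) = ⊤) (hidx : ¬ p ∣ N.index) {χ : IrrCharacter G}
    (hχ : χ ∈ principalBlock M G) {θ : IrrCharacter N} (hl : LiesOver N χ.1 θ.1) :
    res N χ.1 = θ.1 := by
  have h1 := sum_principal_mult_mul_degree hM hP hs hidx (mem_principal_of_liesOver hM hχ hl)
  refine hl.res_eq_of_degree_le (irr_isCharacter χ) ?_
  rw [← h1]
  refine le_trans ?_ (Finset.single_le_sum (f := fun χ : IrrCharacter G =>
    mult (res N χ.1) θ.1 * charDegree χ.1) (fun _ _ => Nat.zero_le _) (mem_bset.2 hχ))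
  exact Nat.le_mul_of_pos_left _
    ((liesOver_iff_mult_pos (irr_isCharacter χ) (irr_isCharacter θ)).1 hl)

include hM in
theorem eq_of_principal_of_sup_centralizer {P : Subgroup G} (hP : IsSylowIn p P ⊤)
    (hs : N ⊔ Subgroup.centralizer (P : Set G) = ⊤) (hidx : ¬ p ∣ N.index)
    {χ ψ : IrrCharacter G} (hχ : χ ∈ principalBlock M G) (hψ : ψ ∈ principalBlock M G)
    {θ : IrrCharacter N} (hl : LiesOver N χ.1 θ.1) (hl' : LiesOver N ψ.1 θ.1) : χ = ψ := by
  classical
  have h1 := sum_principal_mult_mul_degree hM hP hs hidx (mem_principal_of_liesOver hM hχ hl)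
  by_contra hne
  have h2 := Finset.sum_le_sum_of_subset (f := fun χ : IrrCharacter G =>
    mult (res N χ.1) θ.1 * charDegree χ.1) (s := {χ, ψ}) (t := bset (principalBlock M G))
    (by intro x hx
        rcases Finset.mem_insert.1 hx with rfl | hx
        · exact mem_bset.2 hχ
        · rw [Finset.mem_singleton.1 hx]; exact mem_bset.2 hψ)
  rw [Finset.sum_pair hne, h1] at h2
  have a1 := (liesOver_iff_mult_pos (irr_isCharacter χ) (irr_isCharacter θ)).1 hl
  have a2 := (liesOver_iff_mult_pos (irr_isCharacter ψ) (irr_isCharacter θ)).1 hl'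
  have a3 := hl.degree_le (irr_isCharacter χ)
  have a4 := irr_degree_pos ψ
  have a5 := Nat.le_mul_of_pos_left (charDegree χ.1) a1
  have a6 := Nat.le_mul_of_pos_left (charDegree ψ.1) a2
  omega

include hM in
theorem exists_principal_res_eq_of_sup_centralizer {P : Subgroup G} (hP : IsSylowIn p P ⊤)
    (hs : N ⊔ Subgroup.centralizer (P : Set G) = ⊤) (hidx : ¬ p ∣ N.index)
    {θ : IrrCharacter N} (hθ : θ ∈ principalBlock M N) :
    ∃ χ ∈ principalBlock M G, res N χ.1 = θ.1 := by
  obtain ⟨χ, hχ, hl⟩ := exists_principal_liesOver (G := G) hM hθ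
  exact ⟨χ, hχ, res_eq_of_principal_of_sup_centralizer hM hP hs hidx hχ hl⟩

end Graded

end BT
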