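import Cfsg.Agent.Lib.Block.Alperin
import Cfsg.Agent.Lib.Block.Principal
import Cfsg.Agent.Lib.Block.GalBlock
import Cfsg.Agent.Lib.Block.StarChar
import Cfsg.Agent.Lib.Char.Extend
import Cfsg.Agent.Lib.Char.Gallagher

/-!
# Extensions in the principal block when `|G : N C_G(Q)|` is a power of `p`
-/

set_option autoImplicit false
set_option linter.unusedSectionVars false
set_option linter.style.haveILetI false

namespace BT

open Cfsg CT GT
open scoped MonoidAlgebra ComplexConjugate Pointwise commutatorElement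

variable {p : ℕ} [Fact p.Prime] {M : Ideal AlgInt} (hM : IsPModular p M)
variable {G : Type*} [Group G] [Finite G]

/-- Sum of `F` over the `p`-regular elements of the coset `g N`. -/
noncomputable def cosReg (p : ℕ) (N : Subgroup G) (F : G → ℂ) (g : G) : ℂ :=
  haveI := Fintype.ofFinite N
  ∑ n : N, pRegularPart p F (g * n)

theorem cosReg_def (N : Subgroup G) [Fintype N] (F : G → ℂ) (g : G) :
    cosReg p N F g = ∑ n : N, pRegularPart p F (g * n) := by
  unfold cosReg; congr!

variable {N : Subgroup G}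

theorem cosReg_eq_blockPart [N.Normal] {F : G → ℂ} (hF : IsClassFunction G F) (g : G) :
    cosReg p N F g = Nat.card N * blockPart (kerSet N) (pRegularPart p F) g := by
  haveI := Fintype.ofFinite N
  rw [blockPart_kerSet N (hF.pRegularPart p), mul_inv_cancel_left₀ card_cast_ne_zero, cosReg_def]

theorem isClassFunction_cosReg [N.Normal] {F : G → ℂ} (hF : IsClassFunction G F) :
    IsClassFunction G (cosReg p N F) := by
  have : cosReg p N F = (Nat.card N : ℂ) • blockPart (kerSet N) (pRegularPart p F) :=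
    funext (cosReg_eq_blockPart hF)
  rw [this, blockPart_eq_sum_bset]
  exact (isClassFunction_sum _ _ fun χ _ => (irr_isClassFunction χ).smul _).smul _

theorem cosReg_lin_mul {f : G →* ℂˣ} (hf : N ≤ f.ker) (F : G → ℂ) (g : G) :
    cosReg p N (fun x => (f x : ℂ) * F x) g = f g * cosReg p N F g := by
  haveI := Fintype.ofFinite N
  rw [cosReg_def, cosReg_def, Finset.mul_sum]
  refine Finset.sum_congr rfl fun n _ => ?_
  rw [pRegularPart_apply, pRegularPart_apply, map_mul, (MonoidHom.mem_ker.1 (hf n.2)), mul_one]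
  split_ifs <;> simp

theorem cosReg_mul_mem (F : G → ℂ) (g : G) {n : G} (hn : n ∈ N) :
    cosReg p N F (g * n) = cosReg p N F g := by
  haveI := Fintype.ofFinite N
  rw [cosReg_def, cosReg_def]
  exact Fintype.sum_equiv (Equiv.mulLeft (⟨n, hn⟩ : N)) _ _ fun x => by simp [mul_assoc]

theorem cosReg_res {V : Subgroup G} (hV : N ≤ V) (F : G → ℂ) (v : V) :
    cosReg p (N.subgroupOf V) (res V F) v = cosReg p N F v := by
  haveI := Fintype.ofFinite N
  haveI := Fintype.ofFinite (N.subgroupOf V)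
  rw [cosReg_def, cosReg_def]
  refine Fintype.sum_equiv (Subgroup.subgroupOfEquivOfLe hV).toEquiv _ _ fun x => ?_
  rw [← res_pRegularPart]; rfl

theorem cosReg_one (F : G → ℂ) :
    cosReg p N F 1 = Nat.card N * ip (pRegularPart p (res N F)) (irrOne N).1 := by
  haveI := Fintype.ofFinite N
  rw [cosReg_def, ip_def, mul_inv_cancel_left₀ card_cast_ne_zero, ← res_pRegularPart]
  simp

theorem map_cosReg (σ : ℂ →+* ℂ) (F : G → ℂ) (g : G) :
    σ (cosReg p N F g) = cosReg p N (gal σ F) g := by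
  haveI := Fintype.ofFinite N
  rw [cosReg_def, cosReg_def, map_sum, pRegularPart_gal]
  rfl

theorem sum_cosReg [Fintype G] (F : G → ℂ) :
    ∑ g, cosReg p N F g = Nat.card N * ∑ g, pRegularPart p F g := by
  haveI := Fintype.ofFinite N
  simp only [cosReg_def]
  rw [Finset.sum_comm, Finset.sum_congr rfl (g := fun _ => ∑ g, pRegularPart p F g),
    Finset.sum_const, nsmul_eq_mul, Finset.card_univ, Nat.card_eq_fintype_card]
  intro n _
  exact Fintype.sum_equiv (Equiv.mulRight (n : G)) _ _ fun x => rfl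

include hM in
theorem ip_pRegularPart_irrOne_ne_zero_iff (χ : IrrCharacter G) :
    ip (pRegularPart p χ.1) (irrOne G).1 ≠ 0 ↔ χ ∈ principalBlock M G := by
  constructor
  · intro h
    exact sameBlock_symm hM (sameBlock_of_ip_pRegularPart_ne_zero hM h)
  · intro h
    rw [ip_pRegularPart_comm (irr_isCharacter χ).isGen (irr_isCharacter _).isGen]
    refine ip_pRegularPart_ne_zero hM isPBlock_principalBlock (irrOne_mem_principalBlock hM) h ?_
    unfold blockHeight
    rw [charDegree_irrOne]; simp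

include hM in
theorem cosReg_eq_of_principal [N.Normal] {P : Subgroup G} (hP : IsSylowIn p P ⊤)
    (hs : N ⊔ Subgroup.centralizer (P : Set G) = ⊤) (hidx : ¬ p ∣ N.index) {χ : IrrCharacter G}
    (hχ : χ ∈ principalBlock M G) (g : G) : cosReg p N χ.1 g = cosReg p N χ.1 1 := by
  have h : ∀ x, blockPart (kerSet N) (pRegularPart p χ.1) x =
      ip (pRegularPart p χ.1) (irrOne G).1 := by
    intro x
    rw [blockPart_apply_eq_sum_bset, Finset.sum_eq_single_of_mem (irrOne G)
      (mem_bset.2 (mem_kerSet.2 fun _ _ _ => rfl)), irrOne_apply, mul_one]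
    intro β hβ hne
    by_contra h0
    exact hne (eq_irrOne_of_mem_principal_of_le_ker hM hP hs hidx
      ((mem_block_iff_sameBlock hM isPBlock_principalBlock hχ β).2
        (sameBlock_of_ip_pRegularPart_ne_zero hM (left_ne_zero_of_mul h0))) (mem_bset.1 hβ))
  rw [cosReg_eq_blockPart (irr_isClassFunction χ), cosReg_eq_blockPart (irr_isClassFunction χ),
    h, h]

theorem alperin_hyp_subgroupOf [N.Normal] {Q V : Subgroup G} (hQ : IsSylowIn p Q N) (hNV : N ≤ V)
    (hV : V ≤ N ⊔ Subgroup.centralizer (Q : Set G)) (hidx : ¬ p ∣ N.relIndex V) :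
    IsSylowIn p (Q.subgroupOf V) ⊤ ∧
      N.subgroupOf V ⊔ Subgroup.centralizer ((Q.subgroupOf V : Subgroup V) : Set V) = ⊤ := by
  refine ⟨(isSylowIn_subgroupOf_top_iff (hQ.le.trans hNV)).2 (hQ.trans hNV hidx), ?_⟩
  rw [eq_top_iff]
  rintro ⟨v, hv⟩ -
  obtain ⟨n, hn, c, hc, rfl⟩ :=
    (mem_sup_of_le_normalizer_left Subgroup.le_normalizer_of_normal).1 (hV hv)
  have hcV : c ∈ V := by simpa using mul_mem (inv_mem (hNV hn)) hv
  have : (⟨n * c, hv⟩ : V) = ⟨n, hNV hn⟩ * ⟨c, hcV⟩ := rfl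
  rw [this]
  exact mul_mem (Subgroup.mem_sup_left hn)
    (Subgroup.mem_sup_right fun x hx => Subtype.ext (hc x hx))

include hM in
theorem exists_principal_resLe_eq [N.Normal] {Q V : Subgroup G} (hQ : IsSylowIn p Q N)
    (hNV : N ≤ V) (hV : V ≤ N ⊔ Subgroup.centralizer (Q : Set G)) (hidx : ¬ p ∣ N.relIndex V)
    {θ : IrrCharacter N} (hθ : θ ∈ principalBlock M N) :
    ∃ ψ ∈ principalBlock M V, resLe hNV ψ.1 = θ.1 := by
  obtain ⟨h1, h2⟩ := alperin_hyp_subgroupOf hQ hNV hV hidx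
  obtain ⟨ψ, hψ, e⟩ := exists_principal_res_eq_of_sup_centralizer hM h1 h2 hidx
    ((irrOf_mem_principal_iff hNV θ).2 hθ)
  exact ⟨ψ, hψ, (res_subgroupOf_eq_irrOf_iff hNV).1 e⟩

include hM in
theorem exists_hom_cosReg_eq [N.Normal] {Q V : Subgroup G} (hQ : IsSylowIn p Q N)
    (hNV : N ≤ V) (hV : V ≤ N ⊔ Subgroup.centralizer (Q : Set G)) (hidx : ¬ p ∣ N.relIndex V)
    {θ : IrrCharacter N} (hθ : θ ∈ principalBlock M N) {η : G → ℂ} (hη : IsCharacter G η)
    (hres : res N η = θ.1) :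
    ∃ β : V →* ℂˣ, ∀ v : V, cosReg p N η v = β v * cosReg p N η 1 := by
  obtain ⟨h1, h2⟩ := alperin_hyp_subgroupOf hQ hNV hV hidx
  obtain ⟨ψ, hψ, e⟩ := exists_principal_res_eq_of_sup_centralizer hM h1 h2 hidx
    ((irrOf_mem_principal_iff hNV θ).2 hθ)
  obtain ⟨β, hβ, e'⟩ := exists_units_hom_of_res_eq_res (irr_isCharacter ψ) e (hη.res V)
    ((res_subgroupOf_eq_irrOf_iff hNV).2 hres)
  have h : ∀ v : V, cosReg p N η v = β v * cosReg p (N.subgroupOf V) ψ.1 1 := fun v => by
    rw [← cosReg_res hNV, e', ← cosReg_eq_of_principal hM h1 h2 hidx hψ v, ← cosReg_lin_mul hβ]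
    rfl
  refine ⟨β, fun v => ?_⟩
  have h0 := h 1
  rw [map_one, Units.val_one, one_mul, OneMemClass.coe_one] at h0
  rw [h, h0]

theorem eq_one_of_forall_fixed (hp2 : p ≠ 2) {m : ℕ} (hm : ¬ p ∣ m) {z : ℂ} {k : ℕ}
    (hz : z ^ p ^ k = 1) (h : ∀ σ : ℂ ≃+* ℂ, σ (zeta m) = zeta m → σ z = z) : z = 1 := by
  have hp : p.Prime := Fact.out
  have hm0 : m ≠ 0 := fun e => hm (e ▸ dvd_zero p)
  have hc : m.Coprime (p ^ k) := ((hp.coprime_iff_not_dvd.2 hm).symm).pow_right k
  obtain ⟨j, hj1, hj2⟩ := Nat.chineseRemainder hc 1 2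
  have hj : j.Coprime (m * p ^ k) := by
    refine Nat.Coprime.mul_right ?_ ?_
    · rw [Nat.Coprime, hj1.gcd_eq]; simp
    · rw [Nat.Coprime, hj2.gcd_eq]
      exact ((Nat.coprime_primes Nat.prime_two hp).2 hp2.symm).pow_right k
  have hn : m * p ^ k ≠ 0 := mul_ne_zero hm0 (pow_ne_zero _ hp.ne_zero)
  obtain ⟨σ, hσ⟩ := exists_ringEquiv_pow hn hj
  have h1 := h σ ((ringHom_zeta_eq_iff (σ : ℂ →+* ℂ) hn (dvd_mul_right _ _) hσ).2 hj1)
  rw [hσ z (by rw [mul_comm, pow_mul, hz, one_pow]), pow_eq_pow_of_modEq hj2 hz, pow_two] at h1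
  have h0 : z ≠ 0 := fun e => by
    rw [e, zero_pow (pow_ne_zero _ hp.ne_zero)] at hz; exact zero_ne_one hz
  exact mul_left_cancel₀ h0 (h1.trans (mul_one z).symm)

theorem not_dvd_detOrder_of_mem_cycField (hp2 : p ≠ 2) {m : ℕ} (hm : ¬ p ∣ m) {θ : G → ℂ}
    (hθ : IsCharacter G θ) (h : ∀ g, θ g ∈ cycField m) : ¬ p ∣ detOrder θ := by
  rw [not_dvd_detOrder_iff θ Fact.out]
  intro g k hg
  refine eq_one_of_forall_fixed hp2 hm (k := k) (by rw [← detChar_pow, hg, detChar_one])
    fun σ hσ => ?_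
  have h1 : gal (σ : ℂ →+* ℂ) θ = θ := funext fun x =>
    ringHom_apply_of_mem_adjoin (by rintro _ rfl; exact hσ) (h x)
  have h2 := congrFun (hθ.detChar_gal (σ : ℂ →+* ℂ)) g
  rw [h1] at h2
  exact h2.symm

/-- An extension can be twisted so that its determinantal order is prime to `p`. -/
theorem exists_extension_not_dvd_detOrder [N.Normal] {θ : IrrCharacter N}
    (hdeg : ¬ p ∣ charDegree θ.1) (hdet : ¬ p ∣ detOrder θ.1) {η : IrrCharacter G}
    (hres : res N η.1 = θ.1) :
    ∃ η' : IrrCharacter G, res N η'.1 = θ.1 ∧ ¬ p ∣ detOrder η'.1 := by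
  have hp : p.Prime := Fact.out
  obtain ⟨k, -, hk⟩ := exists_forall_pRegPart_eq_pow G p
  have hc : (detOrder θ.1 * charDegree θ.1).Coprime (p ^ k) :=
    (Nat.Coprime.mul_left (hp.coprime_iff_not_dvd.2 hdet).symm
      (hp.coprime_iff_not_dvd.2 hdeg).symm).pow_right k
  obtain ⟨b, hb⟩ : ∃ b : ℕ, detOrder θ.1 * charDegree θ.1 * b ≡ 1 [MOD p ^ k] :=
    (Nat.exists_mul_mod_eq_of_coprime 1 hc (pow_ne_zero _ hp.ne_zero)).imp fun _ h => h.2
  let f : G →* ℂˣ := ((detHom η.1).toHomUnits ^ (detOrder θ.1 * b))⁻¹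
  have hf : ∀ g, (f g : ℂ) = (detChar η.1 g ^ (detOrder θ.1 * b))⁻¹ := fun g => by simp [f]
  have hker : N ≤ f.ker := fun n hn => by
    rw [MonoidHom.mem_ker, ← Units.val_eq_one, hf]
    have := congrFun ((irr_isCharacter η).detChar_res N) ⟨n, hn⟩
    rw [hres, res_apply] at this
    rw [← this, pow_mul, detChar_pow_detOrder, one_pow, inv_one]
  refine ⟨f • η, by rw [res_lin_smul_of_le_ker hker, hres], ?_⟩
  rw [not_dvd_detOrder_iff _ hp]
  intro g j hg
  have hu : g ^ p ^ k = 1 := by rw [← hk, (isPElt_of_pow_eq_one hg).pRegPart_eq]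
  have hd : detChar η.1 g ^ p ^ k = 1 := by rw [← detChar_pow, hu, detChar_one]
  rw [lin_smul_val, mul_comm, (irr_isCharacter η).detChar_mul_linear (irr_isCharacter _)
    (charDegree_linChar f), Pi.mul_apply, Pi.pow_apply, linChar_apply, hf, inv_pow, ← pow_mul,
    ← charDegree_res N, hres, mul_right_comm, pow_eq_pow_of_modEq hb hd, pow_one,
    mul_inv_cancel₀ (detChar_ne_zero _ _)]

theorem detOrder_irrOf_eq {T : Subgroup G} (h : N ≤ T) (θ : IrrCharacter N) :
    detOrder (irrOf h θ).1 = detOrder θ.1 :=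
  (irr_isCharacter θ).detOrder_comp_of_surjective (Subgroup.subgroupOfEquivOfLe h).toMonoidHom
    (Subgroup.subgroupOfEquivOfLe h).surjective

universe u

open scoped IsMulCommutative in
include hM in
theorem exists_principal_extension {G : Type u} [Group G] [Finite G] {N : Subgroup G} [N.Normal]
    {θ : IrrCharacter N} (hinv : ∀ g : G, g • θ = θ) (hdeg : ¬ p ∣ charDegree θ.1)
    (hdet : ¬ p ∣ detOrder θ.1) (hθ : θ ∈ principalBlock M N) {Q : Subgroup G}
    (hQ : IsSylowIn p Q N) {a : ℕ}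
    (hidx : (N ⊔ Subgroup.centralizer (Q : Set G)).index = p ^ a) :
    ∃ χ ∈ principalBlock M G, res N χ.1 = θ.1 ∧ ¬ p ∣ detOrder χ.1 ∧
      ∀ σ : ℂ →+* ℂ, gal σ θ.1 = θ.1 → gal σ χ.1 = χ.1 := by
  classical
  have hp : p.Prime := Fact.out
  haveI := Fintype.ofFinite G
  set H := N ⊔ Subgroup.centralizer (Q : Set G) with hH
  haveI : H.Normal := by
    refine normal_of_le_normalizer_of_sup_eq_top hQ.frattini_top
      (le_sup_left.trans Subgroup.le_normalizer) fun g hg => ?_
    rw [← conj_smul_eq_iff_mem_normalizer, hH, Subgroup.smul_sup, conj_smul_centralizer,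
      conj_smul_eq_of_mem_normalizer hg,
      conj_smul_eq_of_mem_normalizer (Subgroup.le_normalizer_of_normal (Subgroup.mem_top g))]
  have hsub : ∀ E : Subgroup G, ¬ p ∣ Nat.card E → N ⊔ E ≤ H ∧ ¬ p ∣ N.relIndex (N ⊔ E) := by
    intro E hE
    refine ⟨sup_le le_sup_left fun x hx => (isPRegular_of_mem hE hx).mem_of_index_eq_pow H hidx,
      fun h => hE (h.trans ?_)⟩
    rw [Subgroup.relIndex_sup_left]
    exact Subgroup.relIndex_dvd_card _ _
  -- an extension exists
  obtain ⟨η₀, hη₀⟩ := exists_extension_of_sylow N θ (forall_smul_iff.1 hinv) (by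
    intro q _ _
    obtain ⟨P⟩ := (inferInstance : Nonempty (Sylow q G))
    refine ⟨P, ?_⟩
    by_cases hq : q = p
    · subst hq
      obtain ⟨k, hk⟩ : ∃ k, N.relIndex (N ⊔ P) = q ^ k := by
        rw [Subgroup.relIndex_sup_left]; exact P.isPGroup'.exists_relIndex_eq_pow N
      obtain ⟨ψ, ⟨hψ, -⟩, -⟩ := existsUnique_canonical_extension (N.subgroupOf (N ⊔ P))
        (irrOf le_sup_left θ) (forall_smul_iff.1 (forall_smul_irrOf _ fun t _ => hinv t))
        (by
          change (N.relIndex _).Coprime _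
          rw [hk, charDegree_irrOf]; exact (hp.coprime_iff_not_dvd.2 hdeg).pow_left k)
        (by
          change (N.relIndex _).Coprime _
          rw [hk, detOrder_irrOf_eq]
          exact (hp.coprime_iff_not_dvd.2 hdet).pow_left k)
      exact ⟨ψ.1, irr_isCharacter ψ, congrFun ((res_subgroupOf_eq_irrOf_iff _).1 hψ)⟩
    · have hP : ¬ p ∣ Nat.card P := by
        obtain ⟨k, hk⟩ := IsPGroup.iff_card.1 P.isPGroup'
        rw [hk]
        exact fun h => hq ((Nat.prime_dvd_prime_iff_eq hp Fact.out).1 (hp.dvd_of_dvd_pow h)).symm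
      obtain ⟨ψ, -, e⟩ := exists_principal_resLe_eq hM hQ le_sup_left (hsub _ hP).1 (hsub _ hP).2 hθ
      exact ⟨ψ.1, irr_isCharacter ψ, congrFun e⟩)
  obtain ⟨η, hη, hηdet⟩ := exists_extension_not_dvd_detOrder hdeg hdet hη₀
  set c := cosReg p N η.1 1 with hc
  have hc' : c = Nat.card N * ip (pRegularPart p θ.1) (irrOne N).1 := by rw [hc, cosReg_one, hη]
  have hc0 : c ≠ 0 := by
    rw [hc']
    exact mul_ne_zero card_cast_ne_zero ((ip_pRegularPart_irrOne_ne_zero_iff hM θ).2 hθ)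
  let F : G → ℂ := fun g => cosReg p N η.1 (pRegPart p g) / c
  have hFc : IsClassFunction G F := fun g h => by
    simp only [F]
    rw [(isClassFunction_cosReg (irr_isClassFunction η)).of_isConj
      (isConj_pRegPart (isConj_iff.2 ⟨_, rfl⟩)).symm]
  have hnil : ∀ E : Subgroup G, Group.IsNilpotent E → ∃ β : E →* ℂˣ, ∀ e : E, F e = β e := by
    intro E hE
    let r : E →* E := MonoidHom.mk' (pRegPart p) fun a b =>
      (pPart_mul_and_pRegPart_mul_of_nilpotent a b).2
    have hr : ¬ p ∣ Nat.card (E.subtype.comp r).range := by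
      rw [not_dvd_card_iff_forall_isPRegular]
      rintro _ ⟨e, rfl⟩
      exact isPRegular_coe.2 (isPRegular_pRegPart p e)
    obtain ⟨β, hβ⟩ := exists_hom_cosReg_eq hM hQ le_sup_left (hsub _ hr).1 (hsub _ hr).2 hθ
      (irr_isCharacter η) hη
    refine ⟨β.comp ((Subgroup.inclusion le_sup_right).comp (E.subtype.comp r).rangeRestrict),
      fun e => ?_⟩
    have := hβ ((Subgroup.inclusion le_sup_right) ((E.subtype.comp r).rangeRestrict e))
    simp only [F]
    rw [← coe_pRegPart, div_eq_iff hc0]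
    exact this
  have hF1 : ∀ g, ‖F g‖ = 1 := fun g => by
    obtain ⟨β, hβ⟩ := hnil (Subgroup.zpowers g) inferInstance
    rw [show F g = β ⟨g, Subgroup.mem_zpowers g⟩ from hβ ⟨g, Subgroup.mem_zpowers g⟩,
      units_hom_norm]
  have hFone : F 1 = 1 := by simp only [F]; rw [pRegPart_one, ← hc, div_self hc0]
  have hgen : IsGeneralizedCharacter G F := isGen_of_forall_nilpotent hFc fun E hE => by
    obtain ⟨β, hβ⟩ := hnil E hE
    rw [show res E F = fun e => (β e : ℂ) from funext hβ]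
    exact (isCharacter_units_hom β).isGen
  have hip : ip F F = 1 := by
    rw [ip_self_eq]
    simp only [hF1, one_pow, Finset.sum_const, Finset.card_univ, nsmul_eq_mul, mul_one,
      ← Nat.card_eq_fintype_card]
    rw [inv_mul_cancel₀ (by exact_mod_cast Nat.card_pos.ne')]; simp
  obtain ⟨f, hf⟩ : ∃ f : G →* ℂˣ, F = fun g => (f g : ℂ) := by
    obtain ⟨ξ, hξ | hξ⟩ := hgen.eq_irr_or_neg_of_ip_self hip
    · exact (hξ ▸ irr_isCharacter ξ : IsCharacter G F).exists_units_hom_of_degree_one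
        (charDegree_eq_of_apply_one (by rw [hFone, Nat.cast_one]))
    · exfalso
      rw [hξ, Pi.neg_apply, irr_apply_one] at hFone
      have h1 : ((charDegree ξ.1 + 1 : ℕ) : ℂ) = 0 := by push_cast; linear_combination -hFone
      exact Nat.succ_ne_zero _ (Nat.cast_eq_zero.1 h1)
  have hfF : ∀ g, (f g : ℂ) = F g := fun g => (congrFun hf g).symm
  have hker : N ≤ f⁻¹.ker := fun n hn => by
    rw [MonoidHom.mem_ker, MonoidHom.inv_apply, inv_eq_one, ← Units.val_eq_one, hfF]
    simp only [F]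
    rw [div_eq_one_iff_eq hc0, hc, ← cosReg_mul_mem η.1 1 (pRegPart_mem p hn), one_mul]
  have hfu : ∀ u, IsPElt p u → f u = 1 := fun u hu => by
    rw [← Units.val_eq_one, hfF]
    simp only [F]
    rw [hu.pRegPart_eq, ← hc, div_self hc0]
  set χ := f⁻¹ • η with hχ
  have hres : res N χ.1 = θ.1 := by rw [hχ, res_lin_smul_of_le_ker hker, hη]
  have hcos : ∀ g, IsPRegular p g → cosReg p N χ.1 g = c := fun g hg => by
    have h1 : cosReg p N χ.1 g = f⁻¹ g * cosReg p N η.1 g := cosReg_lin_mul hker η.1 g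
    have h2 : (f g : ℂ) = cosReg p N η.1 g / c := by rw [hfF]; simp only [F]; rw [hg.pRegPart_eq]
    rw [h1, MonoidHom.inv_apply, Units.val_inv_eq_inv_val, inv_mul_eq_iff_eq_mul₀ (f g).ne_zero,
      h2, div_mul_cancel₀ _ hc0]
  have hχdet : ∀ u, IsPElt p u → detChar χ.1 u = 1 := fun u hu => by
    obtain ⟨k, hk⟩ := hu.exists_pow_eq_one
    rw [hχ, lin_smul_val, mul_comm, (irr_isCharacter η).detChar_mul_linear (irr_isCharacter _)
      (charDegree_linChar _), Pi.mul_apply, Pi.pow_apply, linChar_apply, MonoidHom.inv_apply,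
      hfu u hu, (not_dvd_detOrder_iff _ hp).1 hηdet u k hk]
    simp
  refine ⟨χ, ?_, hres, (not_dvd_detOrder_iff _ hp).2 fun u k hu =>
    hχdet u (isPElt_of_pow_eq_one hu), fun σ hσ => ?_⟩
  · rw [← ip_pRegularPart_irrOne_ne_zero_iff hM, ip_def]
    refine mul_ne_zero (inv_ne_zero card_cast_ne_zero) fun h0 => ?_
    have h1 := sum_cosReg (p := p) (N := N) χ.1
    simp only [irrOne_apply, map_one, mul_one] at h0
    rw [h0, mul_zero, Finset.sum_congr rfl
      (g := fun g => if ∃ n ∈ N, IsPRegular p (g * n) then c else 0), Finset.sum_ite,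
      Finset.sum_const_zero, add_zero, Finset.sum_const, nsmul_eq_mul] at h1
    · refine mul_ne_zero (Nat.cast_ne_zero.2 (Finset.card_pos.2 ⟨1, ?_⟩).ne') hc0 h1
      exact Finset.mem_filter.2 ⟨Finset.mem_univ _, 1, one_mem _, by simpa using isPRegular_one⟩
    · intro g _
      split_ifs with h
      · obtain ⟨n, hn, h⟩ := h
        rw [← cosReg_mul_mem χ.1 g hn, hcos _ h]
      · haveI := Fintype.ofFinite N
        rw [cosReg_def]
        exact Finset.sum_eq_zero fun n _ => pRegularPart_of_dvd _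
          (not_not.1 fun h' => h ⟨n, n.2, h'⟩)
  · obtain ⟨μ, hμ, e⟩ := exists_lin_smul_of_res_eq hres (χ' := irrGal σ χ)
      (by rw [irrGal_val, res_gal, hres, hσ])
    have hσc : σ c = c := by
      rw [← hcos 1 isPRegular_one, map_cosReg, cosReg_one, cosReg_one, res_gal, hres, hσ]
    have h1 : ∀ g, IsPRegular p g → μ g = 1 := fun g hg => by
      have h2 : cosReg p N (μ • χ).1 g = μ g * cosReg p N χ.1 g := cosReg_lin_mul hμ χ.1 g
      rw [e, irrGal_val, ← map_cosReg, hcos g hg, hσc] at h2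
      exact Units.val_eq_one.1 (mul_right_cancel₀ hc0 (h2.symm.trans (one_mul c).symm))
    have h2 : ∀ u, IsPElt p u → μ u = 1 := fun u hu => by
      have h3 := congrFun ((irr_isCharacter χ).detChar_gal σ) u
      rw [gal_apply, hχdet u hu, map_one, ← irrGal_val, ← e, lin_smul_val, mul_comm,
        (irr_isCharacter χ).detChar_mul_linear (irr_isCharacter _) (charDegree_linChar _),
        Pi.mul_apply, Pi.pow_apply, hχdet u hu, one_mul, linChar_apply, ← charDegree_res N, hres,
        ← Units.val_pow_eq_pow_val, Units.val_eq_one] at h3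
      exact (hu.map μ).eq_one_of_isPRegular (isPRegular_of_pow_eq_one hdeg h3)
    have h3 : μ = 1 := MonoidHom.ext fun g => by
      rw [← pPart_mul_pRegPart p g, map_mul, h2 _ (isPElt_pPart p g),
        h1 _ (isPRegular_pRegPart p g), one_mul, MonoidHom.one_apply]
    funext g
    rw [← irrGal_val, ← e, lin_smul_apply, h3, MonoidHom.one_apply, Units.val_one, one_mul]

end BT
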