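import Mathlib

/-!
# A finiteness theorem for rational orthogonal projectors satisfying Voronoi conditions
-/

set_option autoImplicit false
set_option linter.unusedSectionVars false

namespace BT.LF

open Matrix

variable {ι : Type*} [Fintype ι] [DecidableEq ι]

/-- Integer vectors. -/
def IV (y : ι → ℚ) : Prop := ∀ i, ∃ z : ℤ, y i = z

/-- Orthogonal projectors. -/
structure Pr (P : Matrix ι ι ℚ) : Prop where
  symm : Pᵀ = P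
  idem : P * P = P

theorem IV.add {x y : ι → ℚ} (hx : IV x) (hy : IV y) : IV (x + y) := fun i => by
  obtain ⟨a, ha⟩ := hx i
  obtain ⟨b, hb⟩ := hy i
  exact ⟨a + b, by simp [ha, hb]⟩

theorem IV.zsmul {x : ι → ℚ} (hx : IV x) (n : ℤ) : IV ((n : ℚ) • x) := fun i => by
  obtain ⟨a, ha⟩ := hx i
  exact ⟨n * a, by simp [ha]⟩

theorem IV.single (i : ι) : IV (Pi.single i (1 : ℚ) : ι → ℚ) := fun j => by
  by_cases h : j = i
  · exact ⟨1, by simp [h]⟩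
  · exact ⟨0, by simp [h]⟩

theorem IV.zero : IV (0 : ι → ℚ) := fun _ => ⟨0, by simp⟩

theorem IV.dot {x y : ι → ℚ} (hx : IV x) (hy : IV y) : ∃ z : ℤ, x ⬝ᵥ y = z := by
  choose a ha using hx
  choose b hb using hy
  exact ⟨∑ i, a i * b i, by simp [dotProduct, ha, hb]⟩

theorem exists_den (P : Matrix ι ι ℚ) :
    ∃ m : ℕ, 0 < m ∧ ∀ y, IV y → IV ((m : ℚ) • P *ᵥ y) := by
  refine ⟨∏ i, ∏ j, (P i j).den, Finset.prod_pos fun i _ => Finset.prod_pos fun j _ =>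
    (P i j).den_pos, fun y hy i => ?_⟩
  choose b hb using hy
  have h : ∀ j, ∃ z : ℤ, ((∏ i, ∏ j, (P i j).den : ℕ) : ℚ) * P i j = z := fun j => by
    obtain ⟨c, hc⟩ : (P i j).den ∣ ∏ i, ∏ j, (P i j).den :=
      (Finset.dvd_prod_of_mem (fun j => (P i j).den) (Finset.mem_univ j)).trans
        (Finset.dvd_prod_of_mem (fun i => ∏ j, (P i j).den) (Finset.mem_univ i))
    refine ⟨c * (P i j).num, ?_⟩
    rw [hc]
    push_cast
    rw [mul_comm ((P i j).den : ℚ), mul_assoc, Rat.den_mul_eq_num]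
  choose c hc using h
  refine ⟨∑ j, c j * b j, ?_⟩
  simp only [Pi.smul_apply, smul_eq_mul, mulVec, dotProduct, Finset.mul_sum, Int.cast_sum,
    Int.cast_mul]
  exact Finset.sum_congr rfl fun j _ => by rw [← mul_assoc, hc, hb]

theorem dot_nonneg (v : ι → ℚ) : 0 ≤ v ⬝ᵥ v :=
  Finset.sum_nonneg fun i _ => mul_self_nonneg (v i)

theorem dot_pos {v : ι → ℚ} (h : v ≠ 0) : 0 < v ⬝ᵥ v :=
  (dot_nonneg v).lt_of_ne fun h' => h (dotProduct_self_eq_zero.1 h'.symm)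

theorem finite_IV (T : ℚ) : {x : ι → ℚ | IV x ∧ x ⬝ᵥ x ≤ T}.Finite := by
  have h1 : ∀ _i : ι, ((fun z : ℤ => (z : ℚ)) '' Set.Icc (-⌈T⌉) ⌈T⌉).Finite := fun _ =>
    (Set.finite_Icc _ _).image _
  refine (Set.Finite.pi' h1).subset ?_
  rintro x ⟨hx, hT⟩ i
  obtain ⟨z, hz⟩ := hx i
  refine ⟨z, ?_, hz.symm⟩
  have h2 : x i * x i ≤ x ⬝ᵥ x :=
    Finset.single_le_sum (f := fun i => x i * x i) (fun i _ => mul_self_nonneg (x i))
      (Finset.mem_univ i)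
  have h3 : z * z ≤ ⌈T⌉ := by
    have : ((z * z : ℤ) : ℚ) ≤ ⌈T⌉ := by
      push_cast
      rw [← hz]
      exact h2.trans (hT.trans (Int.le_ceil T))
    exact_mod_cast this
  constructor <;> nlinarith [sq_nonneg (z + 1), sq_nonneg (z - 1), Int.le_self_sq z,
    Int.le_self_sq (-z)]

namespace Pr

variable {P : Matrix ι ι ℚ} (hP : Pr P)
include hP

theorem dot_mulVec (x y : ι → ℚ) : x ⬝ᵥ P *ᵥ y = P *ᵥ x ⬝ᵥ y := by
  rw [dotProduct_mulVec, ← mulVec_transpose, hP.symm]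

theorem mulVec_mulVec (x : ι → ℚ) : P *ᵥ P *ᵥ x = P *ᵥ x := by
  rw [Matrix.mulVec_mulVec, hP.idem]

theorem dot_both (x y : ι → ℚ) : P *ᵥ x ⬝ᵥ P *ᵥ y = P *ᵥ x ⬝ᵥ y := by
  rw [hP.dot_mulVec, hP.mulVec_mulVec]

theorem diag (i : ι) : P i i = ∑ j, P i j * P i j := by
  conv_lhs => rw [← hP.idem, mul_apply]
  refine Finset.sum_congr rfl fun j _ => ?_
  rw [← transpose_apply P i j, hP.symm]

theorem trace_le : P.trace ≤ Fintype.card ι := by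
  have h : ∀ i, P i i ≤ 1 := fun i => by
    have h1 : P i i * P i i ≤ P i i := by
      conv_rhs => rw [hP.diag]
      exact Finset.single_le_sum (f := fun j => P i j * P i j)
        (fun j _ => mul_self_nonneg _) (Finset.mem_univ i)
    nlinarith
  calc P.trace ≤ ∑ _i : ι, (1 : ℚ) := Finset.sum_le_sum fun i _ => h i
    _ = _ := by simp

theorem eq_zero_of_trace_le (h : P.trace ≤ 0) : P = 0 := by
  have h0 : ∀ i, 0 ≤ P i i := fun i => by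
    rw [hP.diag]; exact Finset.sum_nonneg fun j _ => mul_self_nonneg _
  have h1 : ∀ i, P i i = 0 := fun i =>
    (Finset.sum_eq_zero_iff_of_nonneg fun i _ => h0 i).1
      (le_antisymm h (Finset.sum_nonneg fun i _ => h0 i)) i (Finset.mem_univ i)
  ext i j
  have h2 := h1 i
  rw [hP.diag] at h2
  exact mul_self_eq_zero.1
    ((Finset.sum_eq_zero_iff_of_nonneg fun j _ => mul_self_nonneg _).1 h2 j (Finset.mem_univ j))

theorem one_sub : Pr (1 - P) :=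
  ⟨by rw [transpose_sub, transpose_one, hP.symm], by
    rw [sub_mul, mul_sub, mul_sub, hP.idem]; simp⟩

theorem mul {Q : Matrix ι ι ℚ} (hQ : Pr Q) (h : P * Q = Q * P) : Pr (P * Q) :=
  ⟨by rw [transpose_mul, hP.symm, hQ.symm, h], by
    rw [mul_assoc, ← mul_assoc Q, ← h, mul_assoc P, hQ.idem, ← mul_assoc, hP.idem]⟩

end Pr

/-- Remove the direction `v` from a projector. -/
def sub1 (P : Matrix ι ι ℚ) (v : ι → ℚ) : Matrix ι ι ℚ := P - (v ⬝ᵥ v)⁻¹ • vecMulVec v v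

theorem sub1_mulVec (P : Matrix ι ι ℚ) (v y : ι → ℚ) :
    sub1 P v *ᵥ y = P *ᵥ y - ((v ⬝ᵥ y) / (v ⬝ᵥ v)) • v := by
  rw [sub1, sub_mulVec, smul_mulVec, vecMulVec_mulVec]
  ext i
  simp [div_eq_inv_mul]
  ring

theorem trace_sub1 (P : Matrix ι ι ℚ) {v : ι → ℚ} (hv : v ≠ 0) :
    (sub1 P v).trace = P.trace - 1 := by
  rw [sub1, trace_sub, trace_smul, trace_vecMulVec, smul_eq_mul,
    inv_mul_cancel₀ (dot_pos hv).ne']

theorem comm_sub1 {A P : Matrix ι ι ℚ} (hA : Aᵀ = A) (h : A * P = P * A) {v : ι → ℚ} {c : ℚ}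
    (hv : A *ᵥ v = c • v) : A * sub1 P v = sub1 P v * A := by
  have h1 : v ᵥ* A = c • v := by rw [← hv, ← mulVec_transpose, hA]
  rw [sub1, mul_sub, sub_mul, h, Matrix.mul_smul, Matrix.smul_mul, mul_vecMulVec, vecMulVec_mul,
    hv, h1, smul_vecMulVec, vecMulVec_smul]

theorem Pr.sub1 {P : Matrix ι ι ℚ} (hP : Pr P) {v : ι → ℚ} (hv : v ≠ 0) (h : P *ᵥ v = v) :
    Pr (sub1 P v) := by
  have h1 : v ᵥ* P = v := by rw [← mulVec_transpose, hP.symm, h]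
  refine ⟨by rw [LF.sub1, transpose_sub, transpose_smul, hP.symm, transpose_vecMulVec], ?_⟩
  have h2 : vecMulVec v v * vecMulVec v v = (v ⬝ᵥ v) • vecMulVec v v := by
    rw [vecMulVec_mul_vecMulVec, vecMulVec_smul]
  rw [LF.sub1, sub_mul, mul_sub, mul_sub, hP.idem, Matrix.mul_smul, Matrix.smul_mul,
    Matrix.smul_mul, Matrix.mul_smul, mul_vecMulVec, vecMulVec_mul, h, h1, h2, smul_smul,
    smul_smul, mul_assoc, inv_mul_cancel₀ (dot_pos hv).ne', mul_one]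
  simp

theorem exists_shortest {P : Matrix ι ι ℚ} (h0 : P ≠ 0) :
    ∃ y, IV y ∧ P *ᵥ y ≠ 0 ∧ ∀ y', IV y' → P *ᵥ y' ≠ 0 →
      P *ᵥ y ⬝ᵥ P *ᵥ y ≤ P *ᵥ y' ⬝ᵥ P *ᵥ y' := by
  obtain ⟨m, hm, hd⟩ := exists_den P
  have hex : ∃ N : ℕ, ∃ y, IV y ∧ P *ᵥ y ≠ 0 ∧ (m : ℚ) * m * (P *ᵥ y ⬝ᵥ P *ᵥ y) ≤ N := by
    by_contra hne
    refine h0 (ext_of_mulVec_single fun i => ?_)
    by_contra h1
    exact hne ⟨⌈(m : ℚ) * m * (P *ᵥ Pi.single i 1 ⬝ᵥ P *ᵥ Pi.single i 1)⌉₊, _, IV.single i,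
      by rwa [zero_mulVec] at h1, Nat.le_ceil _⟩
  classical
  obtain ⟨y, hy, hy0, hyN⟩ := Nat.find_spec hex
  refine ⟨y, hy, hy0, fun y' hy' hy0' => ?_⟩
  obtain ⟨z, hz⟩ := (hd y' hy').dot (hd y' hy')
  rw [smul_dotProduct, dotProduct_smul, smul_eq_mul, smul_eq_mul, ← mul_assoc] at hz
  have hm' : (0 : ℚ) < m * m := by positivity
  have hz0 : (0 : ℚ) ≤ z := hz ▸ mul_nonneg hm'.le (dot_nonneg _)
  have hz1 : 0 ≤ z := by exact_mod_cast hz0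
  lift z to ℕ using hz1
  have h2 : Nat.find hex ≤ z := Nat.find_min' hex ⟨y', hy', hy0', by rw [hz]; simp⟩
  have h3 : ((Nat.find hex : ℕ) : ℚ) ≤ (m : ℚ) * m * (P *ᵥ y' ⬝ᵥ P *ᵥ y') := by
    rw [hz]; exact_mod_cast h2
  exact le_of_mul_le_mul_left (hyN.trans h3) hm'

theorem dot_decomp {P : Matrix ι ι ℚ} (hP : Pr P) {y₁ : ι → ℚ} (h0 : P *ᵥ y₁ ≠ 0) (b : ι → ℚ)
    (n : ℚ) :
    P *ᵥ (b - n • y₁) ⬝ᵥ P *ᵥ (b - n • y₁) =
      sub1 P (P *ᵥ y₁) *ᵥ b ⬝ᵥ sub1 P (P *ᵥ y₁) *ᵥ b +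
        ((P *ᵥ y₁ ⬝ᵥ b) / (P *ᵥ y₁ ⬝ᵥ P *ᵥ y₁) - n) ^ 2 * (P *ᵥ y₁ ⬝ᵥ P *ᵥ y₁) := by
  have h1 := (dot_pos h0).ne'
  have h2 : P *ᵥ b ⬝ᵥ P *ᵥ y₁ = P *ᵥ y₁ ⬝ᵥ b := by rw [dotProduct_comm, hP.dot_both]
  have h3 : P *ᵥ y₁ ⬝ᵥ P *ᵥ b = P *ᵥ y₁ ⬝ᵥ b := hP.dot_both _ _
  rw [sub1_mulVec, mulVec_sub, mulVec_smul]
  simp only [sub_dotProduct, dotProduct_sub, smul_dotProduct, dotProduct_smul, smul_eq_mul, h2, h3]
  field_simp
  ring

theorem sq_sub_round_le (t : ℚ) : (t - round t) ^ 2 ≤ 1 / 4 := by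
  have h := abs_sub_round t
  have := sq_abs (t - round t)
  nlinarith [abs_nonneg (t - round t)]

/-- Transference: a short vector of the dual lattice controls the covering radius. -/
theorem transfer (r : ℕ) : ∀ P : Matrix ι ι ℚ, Pr P → P.trace ≤ r → P ≠ 0 →
    ∃ x, IV x ∧ x ≠ 0 ∧ P *ᵥ x = x ∧
      (∃ y, IV y ∧ P *ᵥ y ≠ 0 ∧ (P *ᵥ y ⬝ᵥ P *ᵥ y) * (x ⬝ᵥ x) ≤ 2 ^ r) ∧
      ∀ b, ∃ y, IV y ∧ (P *ᵥ (b - y) ⬝ᵥ P *ᵥ (b - y)) * (x ⬝ᵥ x) ≤ 2 ^ r := by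
  induction r with
  | zero => exact fun P hP h h0 => absurd (hP.eq_zero_of_trace_le (by simpa using h)) h0
  | succ r ih =>
    intro P hP h h0
    obtain ⟨y₁, hy₁, hv0, hmin⟩ := exists_shortest h0
    set v := P *ᵥ y₁ with hv
    have hPv : P *ᵥ v = v := hP.mulVec_mulVec _
    have hvp := dot_pos hv0
    have hP' := hP.sub1 hv0 hPv
    have key : ∀ b y', IV y' → ∃ y, IV y ∧ P *ᵥ (b - y) ⬝ᵥ P *ᵥ (b - y) ≤
        sub1 P v *ᵥ (b - y') ⬝ᵥ sub1 P v *ᵥ (b - y') + 1 / 4 * (v ⬝ᵥ v) := fun b y' hy' => by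
      refine ⟨y' + (round ((v ⬝ᵥ (b - y')) / (v ⬝ᵥ v)) : ℚ) • y₁, hy'.add (hy₁.zsmul _), ?_⟩
      rw [← sub_sub, dot_decomp hP hv0]
      gcongr
      exact sq_sub_round_le _
    have h2r : (1 : ℚ) ≤ 2 ^ r := one_le_pow₀ (by norm_num)
    by_cases hz : sub1 P v = 0
    · have hxx : (v ⬝ᵥ v) * (((v ⬝ᵥ v)⁻¹ • v) ⬝ᵥ ((v ⬝ᵥ v)⁻¹ • v)) = 1 := by
        rw [smul_dotProduct, dotProduct_smul, smul_eq_mul, smul_eq_mul]
        field_simp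
      refine ⟨(v ⬝ᵥ v)⁻¹ • v, fun i => ?_, smul_ne_zero (inv_ne_zero hvp.ne') hv0,
        by rw [mulVec_smul, hPv], ⟨y₁, hy₁, hv0, by rw [hxx, pow_succ]; linarith⟩, fun b => ?_⟩
      · set t := (v ⬝ᵥ Pi.single i 1) / (v ⬝ᵥ v) with ht
        refine ⟨round t, ?_⟩
        have h1 := dot_decomp hP hv0 (Pi.single i 1) (round t)
        rw [← hv, hz, ← ht, zero_mulVec, zero_dotProduct, zero_add] at h1
        have h2 : P *ᵥ (Pi.single i 1 - (round t : ℚ) • y₁) = 0 := by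
          by_contra h3
          have h4 := hmin _ (by
            rw [sub_eq_add_neg, ← neg_smul, ← Int.cast_neg]
            exact (IV.single i).add (hy₁.zsmul _)) h3
          rw [h1] at h4
          nlinarith [sq_sub_round_le t]
        rw [h2, zero_dotProduct] at h1
        have h5 : t - round t = 0 := by
          simpa [hvp.ne'] using h1.symm
        rw [← sub_eq_zero.1 h5, ht]
        simp [div_eq_inv_mul]
      · obtain ⟨y, hy, h1⟩ := key b 0 IV.zero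
        refine ⟨y, hy, ?_⟩
        rw [hz, zero_mulVec, zero_dotProduct, zero_add] at h1
        have h2 := mul_le_mul_of_nonneg_right h1 (dot_nonneg ((v ⬝ᵥ v)⁻¹ • v))
        rw [mul_assoc, hxx] at h2
        rw [pow_succ]
        linarith
    · obtain ⟨x, hx, hx0, hPx, ⟨y', hy', hy0', hyx⟩, hb⟩ := ih _ hP'
        (by rw [trace_sub1 _ hv0]; push_cast at h; linarith) hz
      have hxp := dot_pos hx0
      have hvx : (v ⬝ᵥ v) * (x ⬝ᵥ x) ≤ 4 / 3 * 2 ^ r := by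
        set t := (v ⬝ᵥ y') / (v ⬝ᵥ v) with ht
        have h1 := dot_decomp hP hv0 y' (round t)
        rw [← hv, ← ht] at h1
        have h2 : P *ᵥ (y' - (round t : ℚ) • y₁) ≠ 0 := fun h2 => by
          rw [h2, zero_dotProduct] at h1
          have := dot_pos hy0'
          nlinarith [sq_nonneg (t - round t)]
        have h4 := hmin _ (by
            rw [sub_eq_add_neg, ← neg_smul, ← Int.cast_neg]
            exact hy'.add (hy₁.zsmul _)) h2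
        rw [h1] at h4
        have h5 : v ⬝ᵥ v ≤ 4 / 3 * (sub1 P v *ᵥ y' ⬝ᵥ sub1 P v *ᵥ y') := by
          nlinarith [sq_sub_round_le t]
        nlinarith
      refine ⟨x, hx, hx0, ?_, ⟨y₁, hy₁, hv0, by rw [pow_succ]; linarith⟩, fun b => ?_⟩
      · conv_lhs => rw [← hPx, sub1_mulVec, mulVec_sub, mulVec_smul, hPv, hP.mulVec_mulVec,
          ← sub1_mulVec, hPx]
      · obtain ⟨y'', hy'', h1⟩ := hb b
        obtain ⟨y, hy, h2⟩ := key b y'' hy''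
        refine ⟨y, hy, ?_⟩
        have h3 := mul_le_mul_of_nonneg_right h2 hxp.le
        rw [pow_succ]
        nlinarith

/-- The Voronoi condition. -/
def Vor (e : ι → ℚ) (M : Matrix ι ι ℚ) : Prop :=
  ∀ y, IV y → M *ᵥ y ⬝ᵥ e ≤ M *ᵥ y ⬝ᵥ M *ᵥ y

theorem exists_short {e : ι → ℚ} {M Q : Matrix ι ι ℚ} (hM : Pr M) (hQ : Pr Q)
    (h : M * Q = Q * M) (hV : Vor e M) {m : ℕ} (hm : 0 < m)
    (hd : ∀ y, IV y → IV ((m : ℚ) • Q *ᵥ y)) {c : ℚ} (hc : 0 < c)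
    (hb : c ≤ (M * Q) *ᵥ e ⬝ᵥ (M * Q) *ᵥ e) :
    ∃ x, IV x ∧ x ⬝ᵥ x ≤ 4 * m ^ 2 * 2 ^ Fintype.card ι / c ∧ x ≠ 0 ∧ Q *ᵥ x = x ∧
      M *ᵥ x = x := by
  have hP := hM.mul hQ h
  obtain ⟨x, hx, hx0, hPx, -, hcov⟩ := transfer _ _ hP hP.trace_le fun h0 => by
    rw [h0] at hb
    simp at hb
    linarith
  have hm' : (0 : ℚ) < m := by exact_mod_cast hm
  refine ⟨x, hx, ?_, hx0, ?_, ?_⟩
  · obtain ⟨y, hy, h1⟩ := hcov ((2 * m : ℚ)⁻¹ • e)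
    have h2 := hV _ (hd y hy)
    rw [mulVec_smul, Matrix.mulVec_mulVec] at h2
    simp only [smul_dotProduct, dotProduct_smul, smul_eq_mul] at h2
    have h3 := le_of_mul_le_mul_left h2 hm'
    have h4 : (M * Q) *ᵥ e ⬝ᵥ (M * Q) *ᵥ y = (M * Q) *ᵥ y ⬝ᵥ e := by
      rw [dotProduct_comm, hP.dot_both]
    have h5 : (M * Q) *ᵥ y ⬝ᵥ (M * Q) *ᵥ e = (M * Q) *ᵥ y ⬝ᵥ e := hP.dot_both _ _
    rw [mulVec_sub, mulVec_smul] at h1
    simp only [sub_dotProduct, dotProduct_sub, smul_dotProduct, dotProduct_smul, smul_eq_mul,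
      h4, h5] at h1
    have h6 : c / (4 * m ^ 2) ≤ (2 * m : ℚ)⁻¹ * ((2 * m : ℚ)⁻¹ * ((M * Q) *ᵥ e ⬝ᵥ (M * Q) *ᵥ e)) -
        (2 * m : ℚ)⁻¹ * ((M * Q) *ᵥ y ⬝ᵥ e) - ((2 * m : ℚ)⁻¹ * ((M * Q) *ᵥ y ⬝ᵥ e) -
          (M * Q) *ᵥ y ⬝ᵥ (M * Q) *ᵥ y) := by
      have h7 : (m : ℚ)⁻¹ * ((M * Q) *ᵥ y ⬝ᵥ e) ≤ (M * Q) *ᵥ y ⬝ᵥ (M * Q) *ᵥ y := by
        rw [inv_mul_le_iff₀ hm']; exact h3
      have h8 : c / (4 * m ^ 2) ≤
          (2 * m : ℚ)⁻¹ * ((2 * m : ℚ)⁻¹ * ((M * Q) *ᵥ e ⬝ᵥ (M * Q) *ᵥ e)) := by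
        rw [← mul_assoc, div_eq_inv_mul]
        refine mul_le_mul (le_of_eq ?_) hb hc.le (by positivity)
        field_simp
        ring
      have h9 : (2 * m : ℚ)⁻¹ = 1 / 2 * (m : ℚ)⁻¹ := by field_simp
      rw [h9] at h8 ⊢
      linarith
    rw [mul_sub] at h1
    have h7 := (mul_le_mul_of_nonneg_right h6 (dot_nonneg x)).trans h1
    rw [le_div_iff₀ hc]
    rw [div_mul_eq_mul_div, div_le_iff₀ (by positivity)] at h7
    linarith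
  · conv_lhs => rw [← hPx, Matrix.mulVec_mulVec, h, ← mul_assoc, hQ.idem, ← h, hPx]
  · conv_lhs => rw [← hPx, Matrix.mulVec_mulVec, ← mul_assoc, hM.idem, hPx]

theorem finite_aux (e : ι → ℚ) (r : ℕ) : ∀ Q : Matrix ι ι ℚ, Pr Q → Q.trace ≤ r →
    {a | ∃ M, Pr M ∧ M * Q = Q * M ∧ Vor e M ∧ Vor e (1 - M) ∧ a = (M * Q) *ᵥ e}.Finite := by
  induction r with
  | zero =>
    intro Q hQ h
    refine (Set.finite_singleton 0).subset ?_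
    rintro _ ⟨M, -, -, -, -, rfl⟩
    simp [hQ.eq_zero_of_trace_le (by simpa using h)]
  | succ r ih =>
    intro Q hQ h
    by_cases h0 : Q *ᵥ e = 0
    · refine (Set.finite_singleton 0).subset ?_
      rintro _ ⟨M, -, -, -, -, rfl⟩
      simp [← Matrix.mulVec_mulVec, h0]
    obtain ⟨m, hm, hd⟩ := exists_den Q
    have hc : 0 < (Q *ᵥ e ⬝ᵥ Q *ᵥ e) / 2 := half_pos (dot_pos h0)
    set T := 4 * (m : ℚ) ^ 2 * 2 ^ Fintype.card ι / ((Q *ᵥ e ⬝ᵥ Q *ᵥ e) / 2)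
    have hX : {x : ι → ℚ | (IV x ∧ x ⬝ᵥ x ≤ T) ∧ x ≠ 0 ∧ Q *ᵥ x = x}.Finite :=
      (finite_IV T).subset fun x hx => hx.1
    refine (hX.biUnion (t := fun x => ⋃ c ∈ ({0, 1} : Set ℚ),
      (fun a => a + (c * ((x ⬝ᵥ e) / (x ⬝ᵥ x))) • x) ''
        {a | ∃ M, Pr M ∧ M * sub1 Q x = sub1 Q x * M ∧ Vor e M ∧ Vor e (1 - M) ∧
          a = (M * sub1 Q x) *ᵥ e}) fun x hx => (Set.toFinite _).biUnion fun c _ =>
        (ih _ (hQ.sub1 hx.2.1 hx.2.2)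
          (by rw [trace_sub1 _ hx.2.1]; push_cast at h; linarith)).image _).subset ?_
    rintro _ ⟨M, hM, hMQ, hV, hV', rfl⟩
    have hMQ' : (1 - M) * Q = Q * (1 - M) := by rw [sub_mul, mul_sub, hMQ]; simp
    have hsum : (M * Q) *ᵥ e ⬝ᵥ (M * Q) *ᵥ e + ((1 - M) * Q) *ᵥ e ⬝ᵥ ((1 - M) * Q) *ᵥ e =
        Q *ᵥ e ⬝ᵥ Q *ᵥ e := by
      rw [← Matrix.mulVec_mulVec, ← Matrix.mulVec_mulVec, hM.dot_both, hM.one_sub.dot_both,
        ← add_dotProduct, ← add_mulVec]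
      simp
    have key : ∀ x c, c ∈ ({0, 1} : Set ℚ) → IV x → x ⬝ᵥ x ≤ T → x ≠ 0 → Q *ᵥ x = x →
        M *ᵥ x = c • x → (M * Q) *ᵥ e ∈ ⋃ x ∈ {x : ι → ℚ | (IV x ∧ x ⬝ᵥ x ≤ T) ∧ x ≠ 0 ∧
          Q *ᵥ x = x}, ⋃ c ∈ ({0, 1} : Set ℚ),
      (fun a => a + (c * ((x ⬝ᵥ e) / (x ⬝ᵥ x))) • x) ''
        {a | ∃ M, Pr M ∧ M * sub1 Q x = sub1 Q x * M ∧ Vor e M ∧ Vor e (1 - M) ∧
          a = (M * sub1 Q x) *ᵥ e} := fun x c hc h1 h2 h3 h4 h5 => by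
      refine Set.mem_biUnion (x := x) ⟨⟨h1, h2⟩, h3, h4⟩ (Set.mem_biUnion hc
        ⟨_, ⟨M, hM, comm_sub1 hM.symm hMQ h5, hV, hV', rfl⟩, ?_⟩)
      simp only [← Matrix.mulVec_mulVec, sub1_mulVec, mulVec_sub, mulVec_smul, h5, smul_smul,
        mul_comm c, sub_add_cancel]
    rcases le_total ((Q *ᵥ e ⬝ᵥ Q *ᵥ e) / 2) ((M * Q) *ᵥ e ⬝ᵥ (M * Q) *ᵥ e) with h1 | h1
    · obtain ⟨x, h2, h3, h4, h5, h6⟩ := exists_short hM hQ hMQ hV hm hd hc h1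
      exact key x 1 (by simp) h2 h3 h4 h5 (by rw [h6, one_smul])
    · obtain ⟨x, h2, h3, h4, h5, h6⟩ := exists_short hM.one_sub hQ hMQ' hV' hm hd hc
        (by linarith)
      refine key x 0 (by simp) h2 h3 h4 h5 ?_
      rw [sub_mulVec, one_mulVec, sub_eq_self] at h6
      rw [h6, zero_smul]

/-- **Finiteness theorem.** -/
theorem finite_mulVec (e : ι → ℚ) :
    {a | ∃ M : Matrix ι ι ℚ, Pr M ∧ Vor e M ∧ Vor e (1 - M) ∧ a = M *ᵥ e}.Finite :=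
  (finite_aux e (Fintype.card ι) 1 ⟨transpose_one, one_mul 1⟩ (by simp)).subset
    fun _ ⟨M, h1, h2, h3, h4⟩ => ⟨M, h1, by simp, h2, h3, by simpa using h4⟩

theorem latFin_realise_eqns : True := by
  have := @IV.eq_1.{0}
  have := @sub1.eq_1.{0}
  have := @Vor.eq_1.{0}
  trivial

end BT.LF
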