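import Cfsg.Agent.Lib.Block.KMoment
import Cfsg.Agent.Lib.Block.LatFin

/-!
# Brauer's problem 21 for principal blocks
-/

set_option autoImplicit false
set_option linter.unusedSectionVars false

namespace BT

open Cfsg CT Subgroup Matrix
open scoped ComplexConjugate

variable {G : Type*} [Group G] [Finite G]
variable {p : ℕ} [hp : Fact p.Prime] {M : Ideal AlgInt} (hM : IsPModular p M)

theorem ip_comb_comb (B : Set (IrrCharacter G)) (n m : IrrCharacter G → ℤ) :
    ip (comb B n) (comb B m) = ((∑ χ ∈ bset B, n χ * m χ : ℤ) : ℂ) := by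
  classical
  rw [comb, comb, ip_sum_left]
  push_cast
  refine Finset.sum_congr rfl fun χ hχ => ?_
  rw [ip_sum_right, Finset.sum_eq_single χ (fun ψ _ h => by
    rw [ip_smul_left, ip_smul_right, ip_irr_ne h.symm]; simp) fun h => absurd hχ h,
    ip_smul_left, ip_smul_right, ip_irr_self, map_intCast, mul_one]

/-- The moment inequality on the `p`-singular elements. -/
theorem sing_moment {B : Set (IrrCharacter G)} (h1 : irrOne G ∈ B) (n : IrrCharacter G → ℤ) :
    p ^ blockDefect p B * n (irrOne G) - ∑ χ ∈ bset B, n χ * cm p B (irrOne G).1 χ.1 ≤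
      p ^ blockDefect p B * ∑ χ ∈ bset B, n χ * n χ -
        ∑ χ ∈ bset B, ∑ ψ ∈ bset B, n χ * n ψ * cm p B χ.1 ψ.1 := by
  classical
  have := Fintype.ofFinite G
  have hG : (Nat.card G : ℂ) ≠ 0 := by exact_mod_cast (Nat.card_pos (α := G)).ne'
  have h2 := pow_mul_sum_comb_one (p := p) h1 n
  have h3 := pow_mul_sum_norm_sq_comb (p := p) (B := B) n
  have h4 := (norm_sum_le (regSet p G)ᶜ (comb B n)).trans
    (sum_norm_le_sum_norm_sq (isGen_comb B n) _ fun g hg k hk => by
      simp only [Finset.mem_compl, mem_regSet, not_not] at hg ⊢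
      rwa [(hk.coprime_dvd_right (orderOf_dvd_natCard g)).symm.orderOf_pow])
  have h5 : ∑ g, comb B n g = Nat.card G * (n (irrOne G) : ℂ) := by
    have h := ip_comb_comb B n (fun ψ => if ψ = irrOne G then 1 else 0)
    have h6 : ∀ g, comb B (fun ψ => if ψ = irrOne G then 1 else 0) g = 1 := fun g => by
      rw [comb_apply, Finset.sum_eq_single (irrOne G) (fun ψ _ h => by simp [h])
        fun h => absurd (mem_bset.2 h1) h]
      simp
    rw [ip_def, Finset.sum_eq_single (irrOne G) (fun ψ _ h => by simp [h])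
        fun h => absurd (mem_bset.2 h1) h] at h
    simp only [h6, map_one, mul_one, if_true] at h
    rw [← h, mul_inv_cancel_left₀ hG]
  have h6 : ∑ g, ‖comb B n g‖ ^ 2 = Nat.card G * ((∑ χ ∈ bset B, n χ * n χ : ℤ) : ℝ) := by
    have h := ip_comb_comb B n n
    rw [ip_def, inv_mul_eq_iff_eq_mul₀ hG] at h
    simp only [Complex.mul_conj, Complex.normSq_eq_norm_sq] at h
    exact_mod_cast h
  rw [← Finset.sum_add_sum_compl (regSet p G)] at h5 h6
  have h7 : (p : ℂ) ^ blockDefect p B * ∑ g ∈ (regSet p G)ᶜ, comb B n g = Nat.card G *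
      ((p ^ blockDefect p B * n (irrOne G) - ∑ χ ∈ bset B, n χ * cm p B (irrOne G).1 χ.1 : ℤ) :
        ℂ) := by
    rw [Int.cast_sub, mul_sub, ← h2]
    push_cast
    linear_combination (p : ℂ) ^ blockDefect p B * h5
  have h8 := congrArg norm h7
  rw [norm_mul, norm_mul, norm_pow, Complex.norm_natCast, Complex.norm_natCast,
    Complex.norm_intCast] at h8
  have h9 : (0 : ℝ) < Nat.card G := by exact_mod_cast Nat.card_pos
  have h10 := mul_le_mul_of_nonneg_left h4 (by positivity : (0 : ℝ) ≤ (p : ℝ) ^ blockDefect p B)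
  rw [h8] at h10
  have h11 : (p : ℝ) ^ blockDefect p B * ∑ g ∈ (regSet p G)ᶜ, ‖comb B n g‖ ^ 2 = Nat.card G *
      ((p ^ blockDefect p B * ∑ χ ∈ bset B, n χ * n χ -
        ∑ χ ∈ bset B, ∑ ψ ∈ bset B, n χ * n ψ * cm p B χ.1 ψ.1 : ℤ) : ℝ) := by
    rw [Int.cast_sub, mul_sub, ← h3, Int.cast_mul]
    push_cast at h6 ⊢
    linear_combination (p : ℝ) ^ blockDefect p B * h6
  rw [h11] at h10
  exact (le_abs_self _).trans (by exact_mod_cast le_of_mul_le_mul_left h10 h9)

include hM in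
theorem exists_projector : ∃ (n : ℕ) (i : Fin n) (A : Matrix (Fin n) (Fin n) ℚ),
    n = Nat.card (principalBlock M G) ∧ LF.Pr A ∧ LF.Vor (Pi.single i 1) A ∧
      LF.Vor (Pi.single i 1) (1 - A) ∧
      ((A *ᵥ Pi.single i 1) i).den = p ^ (Nat.card G).factorization p := by
  classical
  set B := principalBlock M G with hB
  have hBB : IsPBlock M B := isPBlock_principalBlock
  have h1 : irrOne G ∈ B := irrOne_mem_principalBlock hM
  set f := (bset B).equivFin.symm
  set q : ℚ := (p : ℚ) ^ blockDefect p B with hq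
  have hq0 : 0 < q := by have := hp.out.pos; positivity
  have hf : ∀ i, (f i).1 ∈ B := fun i => mem_bset.1 (f i).2
  have hsum : ∀ F : IrrCharacter G → ℚ, ∑ i, F (f i).1 = ∑ χ ∈ bset B, F χ := fun F => by
    rw [← Finset.sum_coe_sort (bset B)]
    exact f.sum_comp fun χ => F χ.1
  set i₀ := f.symm ⟨irrOne G, mem_bset.2 h1⟩
  have hi₀ : (f i₀).1 = irrOne G := by simp [i₀]
  set A : Matrix (Fin (bset B).card) (Fin (bset B).card) ℚ :=
    Matrix.of fun i j => (cm p B (f i).1.1 (f j).1.1 : ℚ) / q with hA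
  have hPr : LF.Pr A := by
    refine ⟨?_, ?_⟩
    · ext i j
      simp [hA, cm_comm_irr B (f i).1]
    · ext i j
      have h := sum_cm_mul_cm hM hBB (hf i) (hf j)
      have h' : ∑ ξ ∈ bset B, (cm p B (f i).1.1 ξ.1 : ℚ) * cm p B (f j).1.1 ξ.1 =
        q * cm p B (f i).1.1 (f j).1.1 := by rw [hq]; exact_mod_cast h
      rw [← hsum fun ξ => (cm p B (f i).1.1 ξ.1 : ℚ) * cm p B (f j).1.1 ξ.1] at h'
      simp only [hA, mul_apply, of_apply, div_mul_div_comm]
      rw [← Finset.sum_div, div_eq_div_iff (by positivity) hq0.ne']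
      simp only [cm_comm_irr B _ (f j).1]
      rw [h', cm_comm_irr B (f i).1]
      ring
  have key : ∀ y, LF.IV y → ∃ n : IrrCharacter G → ℤ, y i₀ = n (irrOne G) ∧
      y ⬝ᵥ y = ((∑ χ ∈ bset B, n χ * n χ : ℤ) : ℚ) ∧
      q * (A *ᵥ y ⬝ᵥ Pi.single i₀ 1) = ((∑ χ ∈ bset B, n χ * cm p B (irrOne G).1 χ.1 : ℤ) : ℚ) ∧
      q * (A *ᵥ y ⬝ᵥ y) =
        ((∑ χ ∈ bset B, ∑ ψ ∈ bset B, n χ * n ψ * cm p B χ.1 ψ.1 : ℤ) : ℚ) := fun y hy => by
    choose z hz using hy
    set n : IrrCharacter G → ℤ := fun χ => if h : χ ∈ bset B then z (f.symm ⟨χ, h⟩) else 0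
    have hn : ∀ i, y i = n (f i).1 := fun i => by simp [n, hz, hf i]
    refine ⟨n, by rw [hn, hi₀], ?_, ?_, ?_⟩
    · push_cast
      rw [← hsum fun χ => (n χ : ℚ) * n χ]
      simp [dotProduct, hn]
    · push_cast
      rw [← hsum fun χ => (n χ : ℚ) * cm p B (irrOne G).1 χ.1, dotProduct_single, mul_one]
      simp only [mulVec, dotProduct, hA, of_apply, Finset.mul_sum, hi₀, hn]
      exact Finset.sum_congr rfl fun i _ => by field_simp
    · push_cast
      rw [← hsum fun χ => ∑ ψ ∈ bset B, (n χ : ℚ) * n ψ * cm p B χ.1 ψ.1]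
      simp only [dotProduct, Finset.mul_sum]
      refine Finset.sum_congr rfl fun i _ => ?_
      rw [← hsum fun ψ => (n (f i).1 : ℚ) * n ψ * cm p B (f i).1.1 ψ.1]
      simp only [mulVec, dotProduct, hA, of_apply, Finset.mul_sum, Finset.sum_mul, hn]
      exact Finset.sum_congr rfl fun i _ => by field_simp
  refine ⟨_, i₀, A, card_bset B, hPr, fun y hy => ?_, fun y hy => ?_, ?_⟩
  · obtain ⟨n, -, -, h2, h3⟩ := key y hy
    rw [hPr.dot_both]
    refine le_of_mul_le_mul_left ?_ hq0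
    rw [h2, h3]
    exact_mod_cast (le_abs_self _).trans (abs_sum_cm_le h1 n)
  · obtain ⟨n, h4, h5, h2, h3⟩ := key y hy
    rw [hPr.one_sub.dot_both]
    refine le_of_mul_le_mul_left ?_ hq0
    rw [sub_mulVec, one_mulVec, sub_dotProduct, sub_dotProduct, mul_sub, mul_sub, h2, h3, h5,
      dotProduct_single, mul_one, h4, hq]
    exact_mod_cast sing_moment h1 n
  · have h2 : ¬ (p : ℤ) ∣ cm p B (irrOne G).1 (irrOne G).1 := by
      rw [dvd_cm_iff hM hBB h1 h1]
      simp [hB, blockHeight_irrOne_principal hM]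
    rw [mulVec_single_one, col_apply, hA, of_apply, hi₀, hq, ← blockDefect_principal hM]
    have h3 := Rat.den_div_eq_of_coprime (a := cm p B (irrOne G).1 (irrOne G).1)
      (b := (p : ℤ) ^ blockDefect p B) (by have := hp.out.pos; positivity) (by
        rw [Int.natAbs_pow, Int.natAbs_natCast]
        exact Nat.Coprime.pow_right _ ((hp.out.coprime_iff_not_dvd.2 fun h =>
          h2 (Int.natCast_dvd.2 h)).symm))
    exact_mod_cast h3

/-- **Brauer's problem 21 for principal blocks**, uniformly in `p`. -/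
theorem exists_bound_of_card_principal (k : ℕ) : ∃ N : ℕ, ∀ (p : ℕ) [Fact p.Prime]
    (G : Type*) [Group G] [Finite G] (M : Ideal AlgInt), IsPModular p M →
      Nat.card (principalBlock M G) ≤ k → p ^ (Nat.card G).factorization p ≤ N := by
  have h : (⋃ n ∈ Set.Iic k, ⋃ i : Fin n, (fun a : Fin n → ℚ => (a i).den) ''
      {a | ∃ A : Matrix (Fin n) (Fin n) ℚ, LF.Pr A ∧ LF.Vor (Pi.single i 1) A ∧
        LF.Vor (Pi.single i 1) (1 - A) ∧ a = A *ᵥ Pi.single i 1}).Finite :=
    (Set.finite_Iic k).biUnion fun n _ => Set.finite_iUnion fun i =>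
      (LF.finite_mulVec _).image _
  obtain ⟨N, hN⟩ := h.bddAbove
  refine ⟨N, fun p _ G _ _ M hM hk => hN ?_⟩
  obtain ⟨n, i, A, hn, h1, h2, h3, h4⟩ := exists_projector hM (G := G)
  exact Set.mem_biUnion (x := n) (hn ▸ hk) (Set.mem_iUnion.2 ⟨i, _, ⟨A, h1, h2, h3, rfl⟩, h4⟩)

end BT
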