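import Cfsg.Agent.Lib.Block.PrincipalB
import Cfsg.Agent.Lib.Char.CommSum
import Cfsg.Agent.Lib.Char.Invol
import Cfsg.Agent.Lib.Grp.PGrp

/-!
# Glauberman's `Z*`-theorem, reduced to the case of a unique involution

`BT.zstar_of_class` proves the `Z*`-theorem for any class of finite groups closed under subgroups
and quotients in which the "Brauer–Suzuki case" is known; `BT.zstar_of_abelian` is the case of
abelian Sylow `2`-subgroups.
-/

set_option autoImplicit false
set_option linter.unusedSectionVars false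

namespace BT

open Cfsg CT Subgroup
open scoped ComplexConjugate

universe u

section Isol

variable {G : Type*} [Group G] {H : Type*} [Group H]

/-- `u` is an isolated involution (or the identity). -/
def Isol (u : G) : Prop := u * u = 1 ∧ ∀ g : G, Odd (orderOf (u * (g * u * g⁻¹)))

theorem conj_mul_self_of_sq {u : G} (h : u * u = 1) (g : G) :
    g * u * g⁻¹ * (g * u * g⁻¹) = 1 := by
  calc g * u * g⁻¹ * (g * u * g⁻¹) = g * (u * u) * g⁻¹ := by group
    _ = 1 := by rw [h]; group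

theorem Isol.map {u : G} (h : Isol u) (f : G →* H) (hf : Function.Surjective f) : Isol (f u) := by
  refine ⟨by rw [← map_mul, h.1, map_one], fun g => ?_⟩
  obtain ⟨g, rfl⟩ := hf g
  have := orderOf_map_dvd f (u * (g * u * g⁻¹))
  simp only [map_mul, map_inv] at this
  exact (h.2 g).of_dvd_nat this

theorem Isol.mk {u : G} (h : Isol u) {K : Subgroup G} (hu : u ∈ K) : Isol (⟨u, hu⟩ : K) := by
  refine ⟨Subtype.ext h.1, fun g => ?_⟩
  rw [← Subgroup.orderOf_coe]
  exact h.2 g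

theorem Isol.conj {u : G} (h : Isol u) (x : G) : Isol (x * u * x⁻¹) := by
  refine ⟨conj_mul_self_of_sq h.1 x, fun g => ?_⟩
  have := h.2 (x⁻¹ * g * x)
  rw [← GT.orderOf_conj' _ x] at this
  convert this using 2
  group

theorem Isol.eq_of_isPElt {u : G} (h : Isol u) {g : G}
    (hg : GT.IsPElt 2 (u * (g * u * g⁻¹))) : g * u * g⁻¹ = u := by
  have h1 : u * (g * u * g⁻¹) = 1 :=
    hg.eq_one_of_isPRegular (fun hd => (Nat.not_even_iff_odd.2 (h.2 g)) (even_iff_two_dvd.2 hd))
  calc g * u * g⁻¹ = u * u * (g * u * g⁻¹) := by rw [h.1, one_mul]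
    _ = u := by rw [mul_assoc, h1, mul_one]

theorem Isol.eq_of_commute {u : G} (h : Isol u) {g : G} (hg : Commute u (g * u * g⁻¹)) :
    g * u * g⁻¹ = u := by
  refine h.eq_of_isPElt (GT.isPElt_of_pow_eq_one (k := 1) ?_)
  rw [pow_one, hg.mul_pow, sq, sq, h.1, conj_mul_self_of_sq h.1, one_mul]

theorem conj_pow_mul_of_sq {a b : G} (ha : a * a = 1) (hb : b * b = 1) (j : ℕ) :
    a * (a * b) ^ j = ((a * b) ^ j)⁻¹ * a := by
  have h1 : a * (a * b) * a⁻¹ = (a * b)⁻¹ := by
    rw [mul_inv_rev, inv_eq_of_mul_eq_one_right ha, inv_eq_of_mul_eq_one_right hb, ← mul_assoc, ha,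
      one_mul]
  have h2 : a * (a * b) ^ j * a⁻¹ = ((a * b) ^ j)⁻¹ := by
    rw [← conj_pow, h1, inv_pow]
  rw [← h2]; group

/-- The involution in the dihedral rotation subgroup. -/
theorem exists_central_invol {a b : G} (ha : a * a = 1) (hb : b * b = 1) {m : ℕ}
    (hm : orderOf (a * b) = 2 * m) (hm0 : m ≠ 0) :
    (a * b) ^ m * (a * b) ^ m = 1 ∧ (a * b) ^ m ≠ 1 ∧ Commute ((a * b) ^ m) a ∧
      Commute ((a * b) ^ m) b := by
  have h1 : (a * b) ^ m * (a * b) ^ m = 1 := by
    rw [← pow_add, ← two_mul, ← hm, pow_orderOf_eq_one]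
  have h2 : Commute ((a * b) ^ m) a := by
    have := conj_pow_mul_of_sq ha hb m
    rw [inv_eq_of_mul_eq_one_right h1] at this
    exact this.symm
  refine ⟨h1, fun h => ?_, h2, ?_⟩
  · have := Nat.le_of_dvd (Nat.pos_of_ne_zero hm0) (orderOf_dvd_of_pow_eq_one h)
    omega
  · have h3 : Commute ((a * b) ^ m) (a * (a * b)) := h2.mul_right ((Commute.refl _).pow_left m)
    rwa [← mul_assoc, ha, one_mul] at h3

variable [Finite G]

theorem isol_of_forall_commute {u : G} (hu : u * u = 1)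
    (h : ∀ g : G, Commute u (g * u * g⁻¹) → g * u * g⁻¹ = u) : Isol u := by
  refine ⟨hu, fun g => ?_⟩
  by_contra hodd
  obtain ⟨m, hm⟩ := even_iff_two_dvd.1 (Nat.not_odd_iff_even.1 hodd)
  have hm0 : m ≠ 0 := by
    rintro rfl
    exact (orderOf_pos _).ne' hm
  set b := g * u * g⁻¹ with hbdef
  have hb : b * b = 1 := conj_mul_self_of_sq hu g
  obtain ⟨h1, h2, h3, h4⟩ := exists_central_invol hu hb hm hm0
  have key : ∃ x : G, u * (u * b) ^ m = x * u * x⁻¹ := by
    obtain ⟨j, rfl | rfl⟩ := Nat.even_or_odd' m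
    · refine ⟨((u * b) ^ j)⁻¹, ?_⟩
      rw [inv_inv, ← conj_pow_mul_of_sq hu hb, two_mul, pow_add, mul_assoc]
    · refine ⟨((u * b) ^ j)⁻¹ * g, ?_⟩
      have e1 : ((u * b) ^ j)⁻¹ * g * u * (((u * b) ^ j)⁻¹ * g)⁻¹
          = ((u * b) ^ j)⁻¹ * b * (u * b) ^ j := by rw [hbdef]; group
      have e2 : u * (u * b) = b := by rw [← mul_assoc, hu, one_mul]
      rw [e1]
      calc u * (u * b) ^ (2 * j + 1) = u * (u * b) ^ j * (u * b) * (u * b) ^ j := by
            generalize u * b = w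
            rw [show 2 * j + 1 = j + 1 + j by ring, pow_add, pow_succ]
            simp only [mul_assoc]
        _ = _ := by rw [conj_pow_mul_of_sq hu hb, mul_assoc _ u, e2]
  obtain ⟨x, hx⟩ := key
  have h5 := h x (by rw [← hx]; exact (Commute.refl u).mul_right h3.symm)
  rw [← hx] at h5
  exact h2 (mul_left_cancel (h5.trans (mul_one u).symm))

theorem Isol.exists_commute_conj_eq {u : G} (h : Isol u) {v k : G} (hv : Commute u v)
    (hk : Commute u (k * v * k⁻¹)) : ∃ m : G, Commute m u ∧ m * v * m⁻¹ = k * v * k⁻¹ := by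
  have h1 : u ∈ centralizer ({k * v * k⁻¹} : Set G) := mem_centralizer_singleton_iff.2 hk.eq
  have h2 : k * u * k⁻¹ ∈ centralizer ({k * v * k⁻¹} : Set G) := by
    rw [mem_centralizer_singleton_iff]
    calc k * u * k⁻¹ * (k * v * k⁻¹) = k * (u * v) * k⁻¹ := by group
      _ = k * v * k⁻¹ * (k * u * k⁻¹) := by rw [hv.eq]; group
  have h3 : IsConj (⟨k * u * k⁻¹, h2⟩ : centralizer ({k * v * k⁻¹} : Set G)) ⟨u, h1⟩ :=
    GT.isConj_of_odd_orderOf_mul (Subtype.ext h.1) (Subtype.ext (conj_mul_self_of_sq h.1 k))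
      (by rw [← Subgroup.orderOf_coe]; exact h.2 k)
  obtain ⟨c, hc⟩ := isConj_iff.1 h3
  have hc' : (c : G) * (k * u * k⁻¹) * (c : G)⁻¹ = u := congrArg Subtype.val hc
  have hc2 := mem_centralizer_singleton_iff.1 c.2
  refine ⟨c * k, ?_, ?_⟩
  · show (c : G) * k * u = u * (c * k)
    calc (c : G) * k * u = c * (k * u * k⁻¹) * (c : G)⁻¹ * (c * k) := by group
      _ = u * (c * k) := by rw [hc']
  · calc (c : G) * k * v * ((c : G) * k)⁻¹ = c * (k * v * k⁻¹) * (c : G)⁻¹ := by group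
      _ = k * v * k⁻¹ := by rw [hc2]; group

theorem pPrimeCore_quotient_eq_bot_of_le_center {p : ℕ} [Fact p.Prime] (h : pPrimeCore p G = ⊥)
    (Z : Subgroup G) [Z.Normal] (hZ : Z ≤ center G) :
    pPrimeCore p (G ⧸ Z) = ⊥ := by
  set K := (pPrimeCore p (G ⧸ Z)).comap (QuotientGroup.mk' Z) with hK
  have hn : K.Normal := Subgroup.Normal.comap inferInstance _
  have h1 : HasNormalPComplement p K := by
    obtain ⟨P⟩ := (inferInstance : Nonempty (Sylow p K))
    refine GT.hasNormalPComplement_of_sylow_le_center P fun x hx => ?_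
    have h2 : GT.IsPElt p (QuotientGroup.mk' Z (x : G)) :=
      (GT.isPElt_coe.2 (GT.isPElt_of_mem_sylow P hx)).map _
    have h3 := h2.eq_one_of_isPRegular (GT.isPRegular_of_mem_pPrimeCore x.2)
    have h4 : (x : G) ∈ Z := (QuotientGroup.eq_one_iff _).1 h3
    rw [mem_center_iff]
    intro y
    exact Subtype.ext (mem_center_iff.1 (hZ h4) y)
  rw [eq_bot_iff]
  intro y hy
  obtain ⟨x, rfl⟩ := QuotientGroup.mk'_surjective Z y
  have hx : x ∈ K := hy
  have h2 : GT.pRegPart p (⟨x, hx⟩ : K) ∈ pPrimeCore p K :=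
    GT.hasNormalPComplement_iff_forall_mem.1 h1 _ (GT.isPRegular_pRegPart p _)
  have h3 : GT.pRegPart p x ∈ pPrimeCore p G ⊓ K := by
    rw [← GT.map_subtype_pPrimeCore]
    exact ⟨_, h2, GT.coe_pRegPart _⟩
  rw [h, bot_inf_eq, mem_bot, GT.pRegPart_eq_one_iff] at h3
  exact mem_bot.2 ((h3.map _).eq_one_of_isPRegular (GT.isPRegular_of_mem_pPrimeCore hy))

end Isol

variable {G : Type*} [Group G] [Finite G] {M : Ideal AlgInt}

/-- The key character computation. -/
theorem Isol.principal_apply_mul_conj (hM : IsPModular 2 M) {u : G} (hu : Isol u)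
    (IH : ∀ z : G, z * z = 1 → z ≠ 1 → ∀ u' : centralizer ({z} : Set G), Isol u' →
      ∀ c, u' * (c * u' * c⁻¹) ∈ pPrimeCore 2 (centralizer ({z} : Set G)))
    {v : G} (hv : v * v = 1) (hvu : v ≠ u) (hc : Commute u v)
    {χ : IrrCharacter G} (hχ : χ ∈ principalBlock M G) (g : G) :
    χ.1 (v * (g * u * g⁻¹)) = χ.1 (v * u) := by
  set b := g * u * g⁻¹ with hbdef
  have hb : Isol b := hu.conj g
  have hev : ¬ Odd (orderOf (v * b)) := by
    intro hodd
    obtain ⟨c, hc'⟩ := isConj_iff.1 (GT.isConj_of_odd_orderOf_mul hv hb.1 hodd)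
    have h1 : c * g * u * (c * g)⁻¹ = v := by rw [← hc', hbdef]; group
    exact hvu (h1.symm.trans (hu.eq_of_commute (by rw [h1]; exact hc)))
  obtain ⟨m, hm⟩ := even_iff_two_dvd.1 (Nat.not_odd_iff_even.1 hev)
  have hm0 : m ≠ 0 := by
    rintro rfl
    exact (orderOf_pos _).ne' hm
  obtain ⟨h1, h2, h3, h4⟩ := exists_central_invol hv hb.1 hm hm0
  set z := (v * b) ^ m with hz
  have hvC : v ∈ centralizer ({z} : Set G) := mem_centralizer_singleton_iff.2 h3.symm.eq
  have hbC : b ∈ centralizer ({z} : Set G) := mem_centralizer_singleton_iff.2 h4.symm.eq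
  have h5 := IH z h1 h2 ⟨b, hbC⟩ (hb.mk hbC) ⟨v, hvC⟩
  set w : centralizer ({z} : Set G) := ⟨v, hvC⟩ * ⟨b, hbC⟩ with hw
  have h6 : w ^ 2 ∈ pPrimeCore 2 (centralizer ({z} : Set G)) := by
    have := inv_mem h5
    convert this using 1
    apply Subtype.ext
    simp only [hw, coe_mul, coe_inv, mul_inv_rev, inv_inv,
      inv_eq_of_mul_eq_one_right hv, inv_eq_of_mul_eq_one_right hb.1, sq, mul_assoc]
  have h7 : orderOf (w ^ 2) = m := by
    rw [orderOf_pow' _ two_ne_zero, ← Subgroup.orderOf_coe]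
    show orderOf (v * b) / Nat.gcd (orderOf (v * b)) 2 = m
    rw [hm]; simp
  have h8 : Odd m := by
    have := GT.isPRegular_of_mem_pPrimeCore h6
    rw [GT.isPRegular_iff, h7] at this
    exact Nat.not_even_iff_odd.1 (fun h => this (even_iff_two_dvd.1 h))
  obtain ⟨j, hj⟩ := h8
  have h9 : (((w ^ 2) ^ (j + 1) : centralizer ({z} : Set G)) : G) = z * (v * b) := by
    rw [← pow_mul, coe_pow]
    show (v * b) ^ (2 * (j + 1)) = (v * b) ^ m * (v * b)
    rw [← pow_succ]
    congr 1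
    omega
  have hx := pow_mem h6 (j + 1)
  set x := (w ^ 2) ^ (j + 1) with hxdef
  have hz2 : GT.IsPElt 2 z := GT.isPElt_of_pow_eq_one (k := 1) (by rw [pow_one, sq, h1])
  have h10 := principal_apply_mul_mul_of_mem hM rfl hz2 hχ (s := 1) not_dvd_orderOf_one hx
  rw [one_mul, h9, ← mul_assoc, h1, one_mul, coe_one, mul_one] at h10
  rw [h10]
  have h11 : IsConj b (v * z) := by
    refine GT.isConj_of_odd_orderOf_mul ?_ hb.1 ?_
    · rw [mul_assoc, ← mul_assoc z, h3.eq, mul_assoc, h1, mul_one, hv]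
    · rw [← h3.eq, mul_assoc, ← h9, Subgroup.orderOf_coe]
      exact Nat.not_even_iff_odd.1
        (fun h => GT.isPRegular_of_mem_pPrimeCore hx (even_iff_two_dvd.1 h))
  obtain ⟨c, hc'⟩ := isConj_iff.1 h11
  have h12 : v * z = c * g * u * (c * g)⁻¹ := by rw [← hc', hbdef]; group
  have h13 : Commute u ((c * g)⁻¹ * v * (c * g)⁻¹⁻¹) := by
    have e : Commute v (v * z) := (Commute.refl v).mul_right h3.symm
    rw [h12] at e
    show u * _ = _ * u
    calc u * ((c * g)⁻¹ * v * (c * g)⁻¹⁻¹)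
        = (c * g)⁻¹ * ((c * g * u * (c * g)⁻¹) * v) * (c * g) := by group
      _ = (c * g)⁻¹ * v * (c * g)⁻¹⁻¹ * u := by rw [← e.eq]; group
  obtain ⟨n, hn1, hn2⟩ := hu.exists_commute_conj_eq hc h13
  refine (irr_isClassFunction χ).of_isConj (isConj_iff.2 ⟨n⁻¹ * (c * g)⁻¹, ?_⟩)
  have e1 : z = v * (c * g * u * (c * g)⁻¹) := by rw [← h12, ← mul_assoc, hv, one_mul]
  rw [e1]
  calc n⁻¹ * (c * g)⁻¹ * (v * (c * g * u * (c * g)⁻¹)) * (n⁻¹ * (c * g)⁻¹)⁻¹
      = n⁻¹ * ((c * g)⁻¹ * v * (c * g)⁻¹⁻¹) * u * n := by group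
    _ = v * (n⁻¹ * (u * n)) := by rw [← hn2]; group
    _ = v * u := by rw [← hn1.eq]; group

theorem Isol.exists_mem_ker {u : G} (hu : Isol u)
    (IH : ∀ z : G, z * z = 1 → z ≠ 1 → ∀ u' : centralizer ({z} : Set G), Isol u' →
      ∀ c, u' * (c * u' * c⁻¹) ∈ pPrimeCore 2 (centralizer ({z} : Set G)))
    {v : G} (hv : v * v = 1) (hv1 : v ≠ 1) (hvu : v ≠ u) (hc : Commute u v) :
    ∃ χ : IrrCharacter G, χ ≠ irrOne G ∧ u ∈ ker χ.1 := by
  classical
  have := Fintype.ofFinite G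
  obtain ⟨M, hM⟩ := exists_isPModular (p := 2) Nat.prime_two
  have key : ∀ v : G, v * v = 1 → v ≠ u → Commute u v → ∀ χ ∈ principalBlock M G,
      χ.1 u * χ.1 v = χ.1 1 * χ.1 (v * u) := by
    intro v hv hvu hc χ hχ
    have h1 := sum_irr_mul_conjugate χ u v
    simp only [hu.principal_apply_mul_conj hM IH hv hvu hc hχ, Finset.sum_const, Finset.card_univ,
      nsmul_eq_mul, ← Nat.card_eq_fintype_card] at h1
    have h2 := irr_apply_one_ne_zero χ
    have h3 := card_cast_ne_zero (G := G)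
    field_simp at h1
    linear_combination -h1
  have hvu2 : v * u * (v * u) = 1 := by
    rw [mul_assoc, ← mul_assoc u, hc.eq, mul_assoc, hu.1, mul_one, hv]
  have hz2 : ∀ z : G, z * z = 1 → GT.IsPElt 2 z := fun z h1 =>
    GT.isPElt_of_pow_eq_one (k := 1) (by rw [pow_one, sq, h1])
  have h1 : bker (principalBlock M G) v 1 = 0 :=
    bker_eq_zero_of_regular' hM isPBlock_principalBlock ((hz2 v hv).dvd_orderOf hv1)
      not_dvd_orderOf_one
  have h2 : bker (principalBlock M G) v u = 0 := by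
    refine bker_eq_zero_of_not_isConj hM isPBlock_principalBlock ?_
    rw [(hz2 v hv).pPart_eq, (hz2 u hu.1).pPart_eq]
    intro h
    obtain ⟨c, hc'⟩ := isConj_iff.1 h.symm
    exact hvu (hc'.symm.trans (hu.eq_of_commute (by rw [hc']; exact hc)))
  by_contra hne
  push Not at hne
  have h3 : ∑ χ ∈ bset (principalBlock M G), χ.1 v * (χ.1 1 + χ.1 u) = 0 := by
    rw [bker_def] at h1 h2
    simp only [conj_irr_of_sq _ (mul_one (1 : G)), conj_irr_of_sq _ hu.1] at h1 h2
    simp only [mul_add, Finset.sum_add_distrib, h1, h2, add_zero]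
  rw [Finset.sum_eq_single (irrOne G)] at h3
  · norm_num at h3
  · intro χ hχ hχ1
    have e1 := key v hv hvu hc χ (mem_bset.1 hχ)
    have e2 := key (v * u) hvu2 (fun h => hv1 (mul_right_cancel (h.trans (one_mul u).symm)))
      (hc.mul_right (Commute.refl u)) χ (mem_bset.1 hχ)
    rw [mul_assoc, hu.1, mul_one] at e2
    have e3 : χ.1 u - χ.1 1 ≠ 0 := fun h => hne χ hχ1 ((irr_mem_ker_iff χ).2 (sub_eq_zero.1 h))
    apply mul_left_cancel₀ e3
    linear_combination χ.1 u * e1 + χ.1 1 * e2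
  · intro h
    exact (h (mem_bset.2 (irrOne_mem_principalBlock hM))).elim

/-- Glauberman's `Z*`-theorem, given the case of a unique involution. -/
theorem zstar_of_class {𝒞 : ∀ (G : Type u) [Group G] [Finite G], Prop}
    (hsub : ∀ (G : Type u) [Group G] [Finite G] (H : Subgroup G), 𝒞 G → 𝒞 H)
    (hquot : ∀ (G : Type u) [Group G] [Finite G] (N : Subgroup G) [N.Normal], 𝒞 G → 𝒞 (G ⧸ N))
    (hBS : ∀ (G : Type u) [Group G] [Finite G], 𝒞 G → ∀ u : G, u * u = 1 → u ≠ 1 →
      (∀ v : G, v * v = 1 → Commute u v → v = 1 ∨ v = u) →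
      ∀ g : G, u * (g * u * g⁻¹) ∈ pPrimeCore 2 G)
    (G : Type u) [Group G] [Finite G] (hG : 𝒞 G) {u : G} (hu : Isol u) (g : G) :
    u * (g * u * g⁻¹) ∈ pPrimeCore 2 G := by
  induction hn : Nat.card G using Nat.strong_induction_on generalizing G with
  | _ n ih =>
  subst hn
  have ihq : ∀ (N : Subgroup G) [N.Normal], N ≠ ⊥ →
      QuotientGroup.mk' N (u * (g * u * g⁻¹)) ∈ pPrimeCore 2 (G ⧸ N) := by
    intro N _ hN
    have := ih _ (GT.card_quotient_lt hN) (G ⧸ N) (hquot G N hG)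
      (hu.map _ (QuotientGroup.mk'_surjective N)) (QuotientGroup.mk' N g) rfl
    simpa only [map_mul, map_inv] using this
  have ihs : ∀ K : Subgroup G, K ≠ ⊤ → ∀ u' : K, Isol u' → ∀ c, u' * (c * u' * c⁻¹) ∈
      pPrimeCore 2 K := fun K hK u' hu' c =>
    ih _ (GT.card_lt_of_ne_top hK) K (hsub G K hG) hu' c rfl
  by_cases hO : pPrimeCore 2 G = ⊥
  swap
  · have := ihq _ hO
    rw [GT.pPrimeCore_quotient_pPrimeCore, mem_bot] at this
    exact (QuotientGroup.eq_one_iff _).1 this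
  suffices h : g * u * g⁻¹ = u by rw [h, hu.1]; exact one_mem _
  by_cases hu1 : u = 1
  · simp [hu1]
  by_cases hz : ∃ z : G, z * z = 1 ∧ z ≠ 1 ∧ centralizer ({z} : Set G) = ⊤
  · obtain ⟨z, hz1, hz2, hz3⟩ := hz
    have hzc : zpowers z ≤ center G := by
      rw [zpowers_le, mem_center_iff]
      intro y
      exact mem_centralizer_singleton_iff.1 (hz3 ▸ mem_top y)
    have : (zpowers z).Normal := ⟨fun n hn g => by
      rwa [mem_center_iff.1 (hzc hn) g, mul_inv_cancel_right]⟩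
    have hz4 : GT.IsPElt 2 z := GT.isPElt_of_pow_eq_one (k := 1) (by rw [pow_one, sq, hz1])
    have h1 := ihq (zpowers z) (by rwa [Ne, zpowers_eq_bot])
    rw [pPrimeCore_quotient_eq_bot_of_le_center hO _ hzc, mem_bot] at h1
    exact hu.eq_of_isPElt (hz4.of_mem_zpowers ((QuotientGroup.eq_one_iff _).1 h1))
  push Not at hz
  by_cases hv : ∀ v : G, v * v = 1 → Commute u v → v = 1 ∨ v = u
  · have := hBS G hG u hu.1 hu1 hv g
    rw [hO, mem_bot] at this
    exact hu.eq_of_isPElt (this ▸ GT.isPElt_one)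
  push Not at hv
  obtain ⟨v, hv1, hv2, hv3, hv4⟩ := hv
  obtain ⟨χ, hχ1, hχ2⟩ := hu.exists_mem_ker (fun z h1 h2 => ihs _ (hz z h1 h2)) hv1 hv3 hv4 hv2
  have hk : g * u * g⁻¹ ∈ ker χ.1 := (irr_ker_normal χ).conj_mem _ hχ2 g
  have h1 := ihs _ (fun h => hχ1 ((ker_irr_eq_top_iff χ).1 h)) _ (hu.mk hχ2) ⟨_, hk⟩
  have h2 : u * (g * u * g⁻¹ * u * (g * u * g⁻¹)⁻¹) ∈ pPrimeCore 2 G ⊓ ker χ.1 := by
    rw [← GT.map_subtype_pPrimeCore]
    exact ⟨_, h1, rfl⟩
  rw [hO, bot_inf_eq, mem_bot] at h2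
  refine hu.eq_of_commute ?_
  show u * _ = _ * u
  calc u * (g * u * g⁻¹) = u * (u * (g * u * g⁻¹ * u * (g * u * g⁻¹)⁻¹)) * (g * u * g⁻¹) := by
        rw [h2, mul_one]
    _ = (u * u) * (g * u * g⁻¹ * u) := by group
    _ = g * u * g⁻¹ * u := by rw [hu.1, one_mul]

/-- All `2`-subgroups are abelian. -/
def AbTwo (G : Type*) [Group G] : Prop :=
  ∀ Q : Subgroup G, IsPGroup 2 Q → ∀ x ∈ Q, ∀ y ∈ Q, x * y = y * x

theorem abTwo_of_sylow (P : Sylow 2 G) (h : ∀ x ∈ (P : Subgroup G), ∀ y ∈ (P : Subgroup G),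
    x * y = y * x) : AbTwo G := by
  intro Q hQ x hx y hy
  obtain ⟨g, hg⟩ := GT.exists_conj_le_sylow P hQ
  have := h _ (hg (Subgroup.smul_mem_pointwise_smul _ _ _ hx)) _
    (hg (Subgroup.smul_mem_pointwise_smul _ _ _ hy))
  rw [← smul_mul', ← smul_mul'] at this
  exact MulAction.injective _ this

theorem AbTwo.subgroup (h : AbTwo G) (H : Subgroup G) : AbTwo H := fun Q hQ x hx y hy =>
  Subtype.ext (h (Q.map H.subtype) (hQ.map _) x ⟨x, hx, rfl⟩ y ⟨y, hy, rfl⟩)

theorem AbTwo.of_surjective {H : Type*} [Group H] [Finite H] (h : AbTwo G) {f : G →* H}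
    (hf : Function.Surjective f) : AbTwo H := by
  obtain ⟨P⟩ := (inferInstance : Nonempty (Sylow 2 G))
  refine abTwo_of_sylow (P.mapSurjective hf) ?_
  rintro _ ⟨x, hx, rfl⟩ _ ⟨y, hy, rfl⟩
  rw [← map_mul, ← map_mul, h P P.isPGroup' x hx y hy]

/-- The `Z*`-theorem for groups with abelian Sylow `2`-subgroups. -/
theorem zstar_of_abelian (hG : AbTwo G) {u : G} (hu : Isol u) (g : G) :
    u * (g * u * g⁻¹) ∈ pPrimeCore 2 G := by
  refine zstar_of_class (𝒞 := fun G _ _ => AbTwo G) (fun G _ _ H h => h.subgroup H)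
    (fun G _ _ N _ h => h.of_surjective (QuotientGroup.mk'_surjective N)) ?_ G hG hu g
  intro G _ _ hG u hu hu1 huniq g
  have hu2 : GT.IsPElt 2 u := GT.isPElt_of_pow_eq_one (k := 1) (by rw [pow_one, sq, hu])
  obtain ⟨P, hP⟩ := hu2.exists_mem_sylow
  have hab := hG P P.isPGroup'
  have : IsMulCommutative (P : Subgroup G) := ⟨⟨fun x y => Subtype.ext (hab _ x.2 _ y.2)⟩⟩
  have hcyc : IsCyclic (P : Subgroup G) := by
    by_contra hc
    obtain ⟨x, hx, y, hy, hx2, hy2, hy1, hxy⟩ :=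
      GT.exists_pair_of_not_isCyclic_of_isPGroup P.isPGroup' hc
    rcases huniq x (by rw [← sq, hx2]) (hab _ hP _ hx) with rfl | rfl
    · exact hxy (one_mem _)
    rcases huniq y (by rw [← sq, hy2]) (hab _ hP _ hy) with rfl | rfl
    · exact hy1 rfl
    · exact hxy (mem_zpowers _)
  have hN := GT.hasNormalPComplement_two_of_isCyclic P
  have h1 := (hG.of_surjective (QuotientGroup.mk'_surjective (pPrimeCore 2 G))) ⊤
    ((GT.hasNormalPComplement_iff_isPGroup_quotient.1 hN).to_subgroup ⊤)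
    (QuotientGroup.mk' _ g) (mem_top _) (QuotientGroup.mk' _ u) (mem_top _)
  rw [← QuotientGroup.eq_one_iff, ← QuotientGroup.mk'_apply]
  simp only [map_mul, map_inv]
  rw [h1, mul_inv_cancel_right, ← map_mul, hu, map_one]

/-- In a group with abelian Sylow `2`-subgroup `P` and no odd normal subgroup, the elements of `P`
centralized by `N(P)` are central. -/
theorem mem_center_of_abelian_of_normalizer (hO : pPrimeCore 2 G = ⊥) (P : Sylow 2 G)
    (hab : ∀ x ∈ (P : Subgroup G), ∀ y ∈ (P : Subgroup G), x * y = y * x) {t : G}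
    (ht : t ∈ (P : Subgroup G))
    (hN : ∀ n ∈ normalizer ((P : Subgroup G) : Set G), n * t * n⁻¹ = t) : t ∈ center G := by
  have hG := abTwo_of_sylow P hab
  -- weak closure
  have wc : ∀ (G : Type _) [Group G] [Finite G] (P : Sylow 2 G),
      (∀ x ∈ (P : Subgroup G), ∀ y ∈ (P : Subgroup G), x * y = y * x) → ∀ t ∈ (P : Subgroup G),
      (∀ n ∈ normalizer ((P : Subgroup G) : Set G), n * t * n⁻¹ = t) →
      ∀ g : G, g * t * g⁻¹ ∈ (P : Subgroup G) → g * t * g⁻¹ = t := by
    intro G _ _ P hab t ht hN g hg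
    obtain ⟨n, hn, e⟩ := GT.exists_mem_normalizer_conj_eq_of_mem_centralizer P
      (x := t) (g := g) (fun y hy => hab _ hy _ ht) (fun y hy => hab _ hy _ hg)
    rw [← e, hN n hn]
  obtain ⟨k, hk⟩ := (GT.isPElt_of_mem_sylow P ht).exists_pow_eq_one
  clear hG
  induction k generalizing G with
  | zero =>
    rw [pow_zero, pow_one] at hk
    rw [hk]; exact one_mem _
  | succ k ih =>
    set z := t ^ 2 ^ k with hz
    have hz1 : z * z = 1 := by rw [hz, ← pow_add, ← two_mul, ← pow_succ', hk]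
    have hzP : z ∈ (P : Subgroup G) := pow_mem ht _
    have hzN : ∀ n ∈ normalizer ((P : Subgroup G) : Set G), n * z * n⁻¹ = z := fun n hn => by
      rw [hz, ← conj_pow, hN n hn]
    have hz4 : GT.IsPElt 2 z := GT.isPElt_of_mem_sylow P hzP
    have hiso : Isol z := by
      refine isol_of_forall_commute hz1 fun g hg => ?_
      have hQ : IsPGroup 2 (zpowers z ⊔ zpowers (g * z * g⁻¹) : Subgroup G) :=
        IsPGroup.to_sup_of_normal_right' hz4.isPGroup_zpowers (hz4.conj g).isPGroup_zpowers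
          (GT.le_normalizer_of_le_centralizer (by
            rw [zpowers_le, GT.centralizer_zpowers, mem_centralizer_singleton_iff]; exact hg.eq))
      obtain ⟨x, hx⟩ := GT.exists_conj_le_sylow P hQ
      have e1 := wc G P hab z hzP hzN x
        (hx (Subgroup.smul_mem_pointwise_smul _ _ _ (mem_sup_left (mem_zpowers z))))
      have e2 := wc G P hab z hzP hzN (x * g) (by
        have := hx (Subgroup.smul_mem_pointwise_smul _ _ _
          (mem_sup_right (mem_zpowers (g * z * g⁻¹))))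
        convert this using 1
        simp only [MulAut.smul_def, MulAut.conj_apply]; group)
      calc g * z * g⁻¹ = x⁻¹ * (x * g * z * (x * g)⁻¹) * x := by group
        _ = x⁻¹ * (x * z * x⁻¹) * x := by rw [e2, e1]
        _ = z := by group
    have hzc : zpowers z ≤ center G := by
      rw [zpowers_le, mem_center_iff]
      intro g
      have := zstar_of_abelian (abTwo_of_sylow P hab) hiso g
      rw [hO, mem_bot] at this
      have e := hiso.eq_of_isPElt (g := g) (this ▸ GT.isPElt_one)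
      calc g * z = g * z * g⁻¹ * g := by group
        _ = z * g := by rw [e]
    have : (zpowers z).Normal := ⟨fun n hn g => by
      rwa [mem_center_iff.1 (hzc hn) g, mul_inv_cancel_right]⟩
    have hf := QuotientGroup.mk'_surjective (zpowers z)
    have hzP' : zpowers z ≤ (P : Subgroup G) := zpowers_le.2 hzP
    have h1 := ih (pPrimeCore_quotient_eq_bot_of_le_center hO _ hzc)
      (P.mapSurjective hf) (by
        rintro _ ⟨x, hx, rfl⟩ _ ⟨y, hy, rfl⟩
        rw [← map_mul, ← map_mul, hab x hx y hy]) (t := QuotientGroup.mk' _ t) ⟨t, ht, rfl⟩ (by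
        intro n hn
        obtain ⟨n, rfl⟩ := hf n
        have hn' : n ∈ normalizer ((P : Subgroup G) : Set G) := by
          have e : ((P : Subgroup G).map (QuotientGroup.mk' (zpowers z))).comap
              (QuotientGroup.mk' (zpowers z)) = P :=
            comap_map_eq_self (by rwa [QuotientGroup.ker_mk'])
          rw [← e]
          exact le_normalizer_comap _ hn
        rw [← map_inv, ← map_mul, ← map_mul, hN n hn']) (by
        rw [← map_pow, QuotientGroup.mk'_apply, QuotientGroup.eq_one_iff]; exact mem_zpowers z)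
    rw [mem_center_iff]
    intro g
    have h2 : g * t * g⁻¹ * t⁻¹ ∈ zpowers z := by
      rw [← QuotientGroup.eq_one_iff, ← QuotientGroup.mk'_apply]
      simp only [map_mul, map_inv]
      rw [mem_center_iff.1 h1]; group
    have h3 : g * t * g⁻¹ ∈ (P : Subgroup G) := by
      simpa using mul_mem (hzP' h2) ht
    calc g * t = g * t * g⁻¹ * g := by group
      _ = t * g := by rw [wc G P hab t ht hN g h3]

end BT
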