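import Cfsg.Agent.Lib.Block.BSuzA
import Cfsg.Agent.Lib.Block.TameCent
import Cfsg.Agent.Lib.Block.ZStar

/-!
# The Brauer–Suzuki theorem and Glauberman's `Z*`-theorem
-/

set_option autoImplicit false
set_option linter.unusedSectionVars false

namespace BT

open Cfsg CT GT Subgroup
open scoped ComplexConjugate

theorem exists_maxP_principal_eq {p : ℕ} [Fact p.Prime] {M : Ideal AlgInt} (hM : IsPModular p M)
    {G : Type*} [Group G] [Finite G] {P : Subgroup G} (hP : IsSylowIn p P ⊤) :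
    ∃ m : SPair hM G, MaxP (principalBlock M G) m ∧ m.Q = P :=
  exists_maxP hM isPBlock_principalBlock
    ((isDefectGroup_principal_iff hM P).2 (isSylowIn_top_iff.1 hP))

theorem MaxP.fus_of_isConj {p : ℕ} [Fact p.Prime] {M : Ideal AlgInt} {hM : IsPModular p M}
    {G : Type*} [Group G] [Finite G] {m : SPair hM G} (hm : MaxP (principalBlock M G) m) {u v : G}
    (hu : u ∈ m.Q) (hv : v ∈ m.Q) (h : IsConj u v) : m.Fus u v := by
  obtain ⟨g, rfl⟩ := isConj_iff.1 h
  have key : ∀ c : SPair hM G, c.Of (principalBlock M G) →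
      c.e = sidem hM (centralizer (c.Q : Set G)) (principalBlock M _) := fun c hc => by
    rw [← (isInducedBlock_principal_iff_centralizer hM c.pgrp c.isPBlock_blk).1
      ((SPair.of_iff_isInducedBlock hm.block).1 hc), SPair.sidem_blk]
  have hQ : (g • m.at u).Q = (m.at (g * u * g⁻¹)).Q := by
    rw [SPair.smul_Q, SPair.at_Q hu, SPair.at_Q hv, MonoidHom.map_zpowers]; rfl
  exact ⟨hu, hv, g, rfl, SPair.ext' hQ (by
    rw [key _ ((SPair.smul_of_iff g).2 (hm.at_of u)), key _ (hm.at_of _), hQ])⟩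

namespace BS

variable {G : Type*} [Group G] [Finite G] {M : Ideal AlgInt}

theorem exists_int_of_four {θ : G → ℂ} (hθ : IsCharacter G θ) {u : G} (h4 : u ^ 4 = 1)
    (h : IsConj u (u ^ 3)) : ∃ n : ℤ, θ u = n := by
  obtain ⟨ε, h1, h2, -⟩ := hθ.exists_eigenvalues u
  have h3 : ∀ i, ∃ n : ℤ, ε i ^ 1 + ε i ^ 3 = 2 * n := fun i => by
    obtain ⟨k, hk⟩ := orderOf_dvd_of_pow_eq_one h4
    have h5 : ε i ^ 4 = 1 := by rw [hk, pow_mul, h1, one_pow]
    have h6 : (ε i ^ 2 + 1) * ((ε i - 1) * (ε i + 1)) = 0 := by linear_combination h5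
    rcases mul_eq_zero.1 h6 with h7 | h7
    · exact ⟨0, by push_cast; linear_combination ε i * h7⟩
    rcases mul_eq_zero.1 h7 with h7 | h7
    · exact ⟨1, by rw [sub_eq_zero.1 h7]; norm_num⟩
    · exact ⟨-1, by rw [eq_neg_of_add_eq_zero_left h7]; norm_num⟩
  choose n hn using h3
  refine ⟨∑ i, n i, mul_left_cancel₀ (two_ne_zero' ℂ) ?_⟩
  have h5 := h2 1
  rw [pow_one] at h5
  rw [two_mul, Int.cast_sum, Finset.mul_sum, ← Finset.sum_congr rfl fun i _ => hn i,
    Finset.sum_add_distrib, ← h2 3, ← h5, hθ.isClassFunction.of_isConj h]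

variable (hM : IsPModular 2 M) {z : G} (hz : Isol z)
include hM hz

theorem sum_q {g : G} (hg : 2 ∣ orderOf g) :
    ∑ χ ∈ bset (principalBlock M G), χ.1 g * (χ.1 z ^ 2 / χ.1 1) = 0 := by
  rw [← sum_mul_mul_div_eq_zero hM isPBlock_principalBlock (x := z) (y := z) (u := pPart 2 g)
    (fun a b ha hb h => ?_) (IsConj.refl _)]
  · exact Finset.sum_congr rfl fun χ _ => by rw [conj_irr_of_sq χ hz.1]; ring
  · obtain ⟨c, rfl⟩ := isConj_iff.1 ha
    obtain ⟨d, rfl⟩ := isConj_iff.1 hb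
    have h1 := (hz.conj c).2 (d * c⁻¹)
    rw [show d * c⁻¹ * (c * z * c⁻¹) * (d * c⁻¹)⁻¹ = d * z * d⁻¹ by group] at h1
    have h2 : IsPRegular 2 (c * z * c⁻¹ * (d * z * d⁻¹)) := by
      rw [isPRegular_iff]; exact h1.not_two_dvd_nat
    rw [h2.pPart_eq, isConj_one_left, pPart_eq_one_iff, isPRegular_iff] at h
    exact h hg

theorem exists_ker_of_col {ι : Type*} (t : Finset ι) (F : ι → G) (c : ι → ℂ)
    (hF : ∀ i ∈ t, c i ≠ 0 → IsPElt 2 (F i) ∧ F i * F i ≠ 1) (a : IrrCharacter G → ℤ)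
    (ha : ∀ χ : IrrCharacter G, (a χ : ℂ) = ∑ i ∈ t, c i * χ.1 (F i)) (h1 : a (irrOne G) = 1)
    (h3 : ∑ χ ∈ bset (principalBlock M G), a χ * a χ ≤ 3) :
    ∃ χ : IrrCharacter G, χ ≠ irrOne G ∧ z ∈ ker χ.1 := by
  have hB := isPBlock_principalBlock (M := M) (G := G)
  have gen : ∀ f : IrrCharacter G → ℂ, (∀ u, IsPElt 2 u → u * u ≠ 1 →
      ∑ χ ∈ bset (principalBlock M G), χ.1 u * f χ = 0) →
      ∑ χ ∈ bset (principalBlock M G), a χ * f χ = 0 := fun f hf => by
    simp only [ha, Finset.sum_mul, mul_assoc]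
    rw [Finset.sum_comm]
    refine Finset.sum_eq_zero fun i hi => ?_
    by_cases h0 : c i = 0
    · simp [h0]
    · rw [← Finset.mul_sum, hf _ (hF i hi h0).1 (hF i hi h0).2, mul_zero]
  have hne : ∀ u : G, u * u ≠ 1 → u ≠ 1 := fun u h e => h (by rw [e, mul_one])
  have e1 := gen (fun χ => χ.1 1) fun u hu h => by
    rw [← bker_eq_zero_of_regular' hM hB (hu.dvd_orderOf (hne u h)) (y := 1) not_dvd_orderOf_one,
      bker_def]
    exact Finset.sum_congr rfl fun χ _ => by rw [conj_irr_of_sq χ (one_mul 1)]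
  have e2 := gen (fun χ => χ.1 z) fun u hu h => by
    rw [← bker_eq_zero_of_not_isConj hM hB (x := u) (y := z) ?_, bker_def]
    · exact Finset.sum_congr rfl fun χ _ => by rw [conj_irr_of_sq χ hz.1]
    · rw [hu.pPart_eq, (isPElt_two_of_mul_self hz.1).pPart_eq]
      intro h'
      obtain ⟨g, rfl⟩ := isConj_iff.1 h'.symm
      exact h (hz.conj g).1
  have e3 := gen (fun χ => χ.1 z ^ 2 / χ.1 1) fun u hu h => sum_q hM hz (hu.dvd_orderOf (hne u h))
  simp only [← mul_div_assoc] at e3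
  have h0 : irrOne G ∈ bset (principalBlock M G) := mem_bset.2 (irrOne_mem_principalBlock hM)
  rcases one_sign h0 h1 h3 with ⟨j, hj⟩ | hj
  · obtain ⟨χ, -, h4, -, h5⟩ := exists_mem_ker_of_one_neg _ a hz.1 e1 e2 e3 h0 (by omega) j hj
    exact ⟨χ, h4, h5⟩
  · obtain ⟨χ, -, h4, -, h5⟩ := exists_mem_ker_of_one_pos _ a hz.1 e1 e2 e3 h0 (by omega) _ hj
    exact ⟨χ, h4, h5⟩

variable {D : Subgroup G} {n : ℕ} {x y : G} (hD : IsSylowIn 2 D ⊤)
include hD

omit hz in
theorem bker_self (h : MaxCl D (n + 1) x y z) (hy : y * x * y⁻¹ = x⁻¹) (hyy : y * y = z) {u : G}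
    (hu : IsPElt 2 u) (huu : u * u ≠ 1) {T : Subgroup G} (hT : T ≤ centralizer ({u} : Set G))
    (hc : Nat.card T = 2 ^ (n + 2)) : bker (principalBlock M G) u u = 2 ^ (n + 2) := by
  obtain ⟨h1, h2⟩ := cent_nilp hD h hy hyy hu huu hT hc
  rw [bker_principal_self_of_nilpotent hM rfl hu h1, h2]
  norm_num

/-- The case of a quaternion group of order at least `16`. -/
theorem exists_ker_big (h : MaxCl D (n + 2) x y z) (hy : y * x * y⁻¹ = x⁻¹) (hyy : y * y = z) :
    ∃ χ : IrrCharacter G, χ ≠ irrOne G ∧ z ∈ ker χ.1 := by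
  classical
  obtain ⟨m, hm, rfl⟩ := exists_maxP_principal_eq hM hD
  have := Fintype.ofFinite (zpowers x)
  have hx0 : orderOf x ≠ 0 := (orderOf_pos x).ne'
  obtain ⟨f, hf1, hf2, -⟩ := exists_units_hom_zpowers x (Complex.isPrimitiveRoot_exp _ hx0)
  set μ := f ^ 2 ^ (n + 1) with hμ
  have hμo : orderOf μ = 4 := by
    rw [hμ, orderOf_pow' _ (by positivity), hf2, h.ord,
      Nat.gcd_eq_right (pow_dvd_pow 2 (by omega)), Nat.pow_div (by omega) two_pos,
      show n + 2 + 1 - (n + 1) = 2 by omega]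
    norm_num
  have hμ1 : μ ≠ 1 := fun e => by rw [e, orderOf_one] at hμo; omega
  have hμ2 : μ⁻¹ ≠ μ := fun e => by
    have : orderOf μ ∣ 2 := orderOf_dvd_of_pow_eq_one (by rw [pow_two]; exact inv_eq_iff_mul_eq_one.1 e)
    rw [hμo] at this; omega
  have hμz : μ ⟨z, h.zX⟩ = 1 := by
    have : (⟨z, h.zX⟩ : zpowers x) = ⟨x, mem_zpowers x⟩ ^ 2 ^ (n + 2) := Subtype.ext h.zeq
    rw [this, map_pow, ← MonoidHom.pow_apply, orderOf_dvd_iff_pow_eq_one.1 (by
      rw [hμo]; exact pow_dvd_pow 2 (by omega : 2 ≤ n + 2)), MonoidHom.one_apply]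
  set θ : zpowers x → ℂ := (linChar 1).1 - (linChar μ).1 with hθ
  set θ' : zpowers x → ℂ := (linChar 1).1 - (linChar μ⁻¹).1 with hθ'
  have hθg : IsGeneralizedCharacter _ θ := (irr_isCharacter _).isGen.sub (irr_isCharacter _).isGen
  have hθ0 : ∀ u : zpowers x, θ u ≠ 0 → (u : G) * u ≠ 1 := fun u hu e => hu (by
    rcases h.eq_of_mul_self u.2 e with e | e
    · rw [show u = 1 from Subtype.ext e]; simp [hθ]
    · rw [show u = ⟨z, h.zX⟩ from Subtype.ext e]; simp [hθ, hμz])
  have hp : ∀ u : zpowers x, IsPElt 2 (u : G) := fun u => isPElt_of_mem h.pgroup (h.X_le u.2)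
  choose a ha using fun χ : IrrCharacter G =>
    ((irr_isCharacter χ).res (zpowers x)).isGen.exists_int_ip hθg
  have ha' : ∀ χ : IrrCharacter G, (a χ : ℂ) =
      ∑ u : zpowers x, (Nat.card (zpowers x) : ℂ)⁻¹ * conj (θ u) * χ.1 u := fun χ => by
    rw [← ha, ip_def, Finset.mul_sum]
    exact Finset.sum_congr rfl fun u _ => by rw [res_apply]; ring
  have l1 := linChar_injective.ne hμ1
  have l2 := linChar_injective.ne hμ2
  have l3 := linChar_injective.ne (inv_ne_one.2 hμ1)
  refine exists_ker_of_col hM hz Finset.univ (fun u : zpowers x => (u : G)) _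
    (fun u _ hu => ⟨hp u, hθ0 u (by simpa using right_ne_zero_of_mul hu)⟩) a ha' ?_ (le_of_eq ?_)
  · have := ha (irrOne G)
    rw [show res (zpowers x) (irrOne G).1 = (linChar 1).1 from by ext; simp, hθ, ip_sub_right,
      ip_irr_self, ip_irr_ne l1.symm, sub_zero] at this
    exact_mod_cast this.symm
  have hN : (Nat.card (zpowers x) : ℂ) = 2 ^ (n + 1 + 2) := by rw [h.card_X]; norm_num
  have hb : ∀ u : zpowers x, θ u ≠ 0 →
      ∑ v : zpowers x, θ v * bker (principalBlock M G) u v = Nat.card (zpowers x) * (θ u + θ' u) :=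
    fun u hu => by
      have h1 := hθ0 u hu
      have h2 : ∀ v : zpowers x, IsConj (u : G) v ↔ v = u ∨ v = u⁻¹ := fun v => by
        have e : y * u * y⁻¹ = (u : G)⁻¹ := by
          obtain ⟨k, hk⟩ := mem_zpowers_iff.1 u.2
          rw [← hk, ← conj_zpow, hy, inv_zpow]
        rw [Subtype.ext_iff, Subtype.ext_iff, coe_inv, ← e, ← hm.fus_in_iff h u.2 v.2]
        exact ⟨hm.fus_of_isConj (h.X_le u.2) (h.X_le v.2), SPair.Fus.isConj⟩
      have h3 : u ≠ u⁻¹ := fun e => h1 (by simpa using congrArg Subtype.val (eq_inv_iff_mul_eq_one.1 e))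
      have h4 : ∀ v : zpowers x, θ v * bker (principalBlock M G) u v =
          if v = u ∨ v = u⁻¹ then θ v * bker (principalBlock M G) u u else 0 := fun v => by
        rw [bker_of_isPElt hM isPBlock_principalBlock (hp u) (hp v)]
        simp only [h2, mul_ite, mul_zero]
      rw [Finset.sum_congr rfl fun v _ => h4 v, ← Finset.sum_filter, show Finset.univ.filter (fun v => v = u ∨ v = u⁻¹) = {u, u⁻¹} from by
        ext; simp, Finset.sum_pair h3, bker_self hM hD h hy hyy (hp u) h1 (T := zpowers x)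
          (fun g hg => mem_centralizer_singleton_iff.2 (eq_of_commute_zpowers hg u.2).eq) h.card_X, hN]
      simp [hθ, hθ']
      ring
  have hsum : ((∑ χ ∈ bset (principalBlock M G), a χ * a χ : ℤ) : ℂ) = ip (θ + θ') θ := by
    push_cast
    rw [Finset.sum_congr rfl (g := fun χ => ∑ u : zpowers x, ∑ v : zpowers x,
      (Nat.card (zpowers x) : ℂ)⁻¹ * conj (θ u) * ((Nat.card (zpowers x) : ℂ)⁻¹ *
        (θ v * (χ.1 u * conj (χ.1 v))))) fun χ _ => by
        nth_rewrite 2 [← map_intCast (starRingEnd ℂ) (a χ)]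
        rw [ha', map_sum, Finset.sum_mul_sum]
        refine Finset.sum_congr rfl fun u _ => Finset.sum_congr rfl fun v _ => ?_
        simp only [map_mul, map_inv₀, map_natCast, Complex.conj_conj]
        ring, Finset.sum_comm, ip_def, Finset.mul_sum]
    refine Finset.sum_congr rfl fun u _ => ?_
    rw [Finset.sum_comm]
    simp only [← Finset.mul_sum, ← bker_def]
    by_cases hu : θ u = 0
    · simp [hu]
    · rw [hb u hu, inv_mul_cancel_left₀ card_cast_ne_zero, Pi.add_apply]; ring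
  rw [hθ, hθ'] at hsum
  simp only [ip_add_left, ip_sub_left, ip_sub_right, ip_irr_self, ip_irr_ne l1, ip_irr_ne l1.symm,
    ip_irr_ne l2, ip_irr_ne l3] at hsum
  have : ((∑ χ ∈ bset (principalBlock M G), a χ * a χ : ℤ) : ℂ) = (3 : ℤ) := by rw [hsum]; norm_num
  exact_mod_cast this

omit hz in
theorem exists_col (h : MaxCl D (0 + 1) x y z) (hy : y * x * y⁻¹ = x⁻¹) (hyy : y * y = z) {u : G}
    (hu : u ∈ D) (huu : u * u = z) : ∃ w : IrrCharacter G → ℤ, (∀ χ : IrrCharacter G, χ.1 u = w χ) ∧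
      w (irrOne G) = 1 ∧ ∑ χ ∈ bset (principalBlock M G), w χ * w χ = 4 ∧
      ∀ χ : IrrCharacter G, w χ ≡ charDegree χ.1 [ZMOD 2] := by
  have h4 : u ^ 4 = 1 := by rw [show u ^ 4 = u * u * (u * u) by simp [pow_succ, mul_assoc], huu, h.zz]
  have h3 : IsConj u (u ^ 3) := by
    rw [show u ^ 3 = u * u * u by simp [pow_succ], huu]
    by_cases hx : u ∈ zpowers x
    · exact isConj_iff.2 ⟨y, (h.conj_y_eq_z_mul_iff hx).2 huu⟩
    · obtain ⟨a, -, ha⟩ := h.exists_conj_z_mul le_rfl hu hx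
      exact isConj_iff.2 ⟨a, ha⟩
  choose w hw using fun χ : IrrCharacter G => exists_int_of_four (irr_isCharacter χ) h4 h3
  have ho : orderOf u = 2 ^ (1 + 1) := orderOf_eq_prime_pow (by
    rw [pow_one, pow_two, huu]; exact h.z_ne) h4
  have hb := bker_self hM hD h hy hyy (isPElt_of_mem h.pgroup hu) (huu ▸ h.z_ne) (T := zpowers u)
    (zpowers_le.2 (mem_centralizer_singleton_iff.2 rfl)) (by rw [Nat.card_zpowers, ho])
  refine ⟨w, hw, by exact_mod_cast (hw (irrOne G)).symm.trans (irrOne_apply u), ?_, fun χ => ?_⟩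
  · simp only [bker_def, hw, map_intCast] at hb
    exact_mod_cast hb
  · exact (irr_isCharacter χ).isGen.int_modEq_of_commute Nat.prime_two (Commute.one_right u)
      (k := 2) h4 (by rw [mul_one, hw]) (by rw [irr_apply_one]; rfl)

/-- The case of a quaternion group of order `8` with two classes of elements of order `4`. -/
theorem exists_ker_unfused (h : MaxCl D (0 + 1) x y z) (hy : y * x * y⁻¹ = x⁻¹) (hyy : y * y = z)
    {u v : G} (hu : u ∈ D) (huu : u * u = z) (hv : v ∈ D) (hvv : v * v = z) (huv : ¬ IsConj u v) :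
    ∃ χ : IrrCharacter G, χ ≠ irrOne G ∧ z ∈ ker χ.1 := by
  obtain ⟨w, w1, w2, w3, w4⟩ := exists_col hM hD h hy hyy hu huu
  obtain ⟨w', w1', w2', w3', w4'⟩ := exists_col hM hD h hy hyy hv hvv
  have h1 : ∀ χ, ∃ a, w χ + w' χ = 2 * a := fun χ => by
    have := ((w4 χ).trans (w4' χ).symm).dvd
    exact ⟨(w χ + w' χ) / 2, by omega⟩
  choose a ha using h1
  have hu2 := isPElt_of_mem h.pgroup hu
  have hv2 := isPElt_of_mem h.pgroup hv
  have h2 := bker_eq_zero_of_not_isConj hM (isPBlock_principalBlock (G := G)) (x := u) (y := v)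
    (by rwa [hu2.pPart_eq, hv2.pPart_eq])
  simp only [bker_def, w1, w1', map_intCast] at h2
  have h3 : ∑ χ ∈ bset (principalBlock M G), w χ * w' χ = 0 := by exact_mod_cast h2
  refine exists_ker_of_col hM hz Finset.univ ![u, v] (fun _ => 2⁻¹) (fun i _ _ => ?_) a (fun χ => ?_)
    (by have := ha (irrOne G); omega) ?_
  · fin_cases i
    exacts [⟨hu2, huu ▸ h.z_ne⟩, ⟨hv2, hvv ▸ h.z_ne⟩]
  · have : (w χ : ℂ) + w' χ = 2 * a χ := by exact_mod_cast ha χ
    simp only [Fin.sum_univ_two, Matrix.cons_val_zero, Matrix.cons_val_one, w1, w1']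
    linear_combination (-2⁻¹ : ℂ) * this
  · have : 4 * ∑ χ ∈ bset (principalBlock M G), a χ * a χ = 8 := by
      rw [Finset.mul_sum, Finset.sum_congr rfl (g := fun χ => w χ * w χ + w' χ * w' χ + 2 * (w χ * w' χ))
        fun χ _ => by linear_combination (-(2 * a χ + w χ + w' χ)) * ha χ, Finset.sum_add_distrib,
        Finset.sum_add_distrib, w3, w3', ← Finset.mul_sum, h3]
      rfl
    omega

/-- The case of a quaternion group of order `8` with one class of elements of order `4`. -/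
theorem exists_ker_fused (h : MaxCl D (0 + 1) x y z) (hy : y * x * y⁻¹ = x⁻¹) (hyy : y * y = z)
    (h1 : IsConj y x) (h2 : IsConj (x * y) x) :
    ∃ χ : IrrCharacter G, χ ≠ irrOne G ∧ z ∈ ker χ.1 := by
  classical
  have hxx : x * x = z := by rw [h.zeq]; simp [pow_succ]
  obtain ⟨w, w1, w2, w3, w4⟩ := exists_col hM hD h hy hyy h.xm hxx
  obtain ⟨m, hm, rfl⟩ := exists_maxP_principal_eq hM hD
  have hB := isPBlock_principalBlock (M := M) (G := G)
  have h3 := hm.blockRank_at_z_of_quaternion h hy hyy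
  rw [SPair.outN, if_neg fun h4 => h4 x (mem_zpowers x) (hm.fus_of_isConj h.ym h.xm h1),
    if_neg fun h4 => h4.1 x (mem_zpowers x) (hm.fus_of_isConj h.xy_mem h.xm h2)] at h3
  obtain ⟨S, hS⟩ := ((hm.tameC_at_z h).resolve_left (by omega)).resolve_left (by omega)
  have hC := SPair.centralizer_at (hM := hM) h.zm
  have hz2 := isPElt_two_of_mul_self hz.1
  have hb := (m.at z).isPBlock_blk
  have hb' := (isInducedBlock_principal_iff_of_eq hM hC hz2 hb).1 (hm.isInducedBlock_at z)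
  choose g hg using fun (χ : IrrCharacter G) i => exists_int_of_forall_ringEquiv
    (S.isIntegral_gdec hC (irr_isCharacter χ).isGen i) fun σ => by
      have := S.map_gdec hC (irr_isCharacter χ).isGen i (n := 2) (j := 1) (by rw [pow_two, hz.1])
        (Nat.coprime_one_left _) σ.toRingHom (fun ζ hζ => by
          rcases sq_eq_one_iff.1 hζ with rfl | rfl <;> simp)
      rwa [pow_one] at this
  have gram : ∀ i j, ∑ χ ∈ bset (principalBlock M G), g χ i * g χ j = S.C i j := fun i j => by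
    have := S.sum_gdec_mul_conj hM hC hz2 (hm.isInducedBlock_at z) i j
    simp only [hg, map_intCast] at this
    exact_mod_cast this
  have orth : ∀ f : IrrCharacter G → ℂ, (∀ s : G, Commute z s → ¬ 2 ∣ orderOf s →
      ∑ χ ∈ bset (principalBlock M G), χ.1 (z * s) * f χ = 0) →
      ∀ i, ∑ χ ∈ bset (principalBlock M G), g χ i * f χ = 0 := fun f hf i => by
    have := Fintype.ofFinite (centralizer ((m.at z).Q : Set G))
    simp only [← hg, S.gdec_def, ip_def, shift_apply, mul_assoc, Finset.sum_mul]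
    rw [← Finset.mul_sum, Finset.sum_comm, Finset.sum_eq_zero, mul_zero]
    intro c _
    by_cases hc : 2 ∣ orderOf c
    · simp [S.Φ_apply_of_dvd hM hb i hc]
    · rw [Finset.sum_congr rfl (g := fun χ => conj (S.Φ i c) * (χ.1 (z * c) * f χ)) fun χ _ => by ring,
        ← Finset.mul_sum, hf c (commute_of_eq_centralizer hC c) (by rwa [orderOf_coe]), mul_zero]
  have hzs : ∀ s : G, Commute z s → ¬ 2 ∣ orderOf s → pPart 2 (z * s) = z := fun s hs hs' =>
    pPart_mul_coe (C := centralizer {z}) rfl hz2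
      (s := ⟨s, mem_centralizer_singleton_iff.2 hs.eq.symm⟩) (by rwa [orderOf_mk])
  have hzd : ∀ s : G, Commute z s → ¬ 2 ∣ orderOf s → 2 ∣ orderOf (z * s) := fun s hs hs' => by
    by_contra h4
    exact h.z_ne ((hzs s hs hs').symm.trans (isPRegular_iff.2 h4).pPart_eq)
  have o1 := orth (fun χ => χ.1 1) fun s hs hs' => by
    rw [← bker_eq_zero_of_regular' hM hB (hzd s hs hs') (y := 1) not_dvd_orderOf_one, bker_def]
    exact Finset.sum_congr rfl fun χ _ => by rw [conj_irr_of_sq χ (one_mul 1)]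
  have hx2 := isPElt_of_mem h.pgroup h.xm
  have hxz : ¬ IsConj x z := fun h4 => by
    have := orderOf_eq_of_isConj h4
    rw [h.ord, h.ord_z] at this
    omega
  have o2 := orth (fun χ => w χ) fun s hs hs' => by
    rw [← bker_eq_zero_of_not_isConj hM hB (x := z * s) (y := x) (by
      rw [hzs s hs hs', hx2.pPart_eq]; exact fun h4 => hxz h4.symm), bker_def]
    exact Finset.sum_congr rfl fun χ _ => by rw [w1, map_intCast]
  have o3 := orth (fun χ => χ.1 z ^ 2 / χ.1 1) fun s hs hs' => sum_q hM hz (hzd s hs hs')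
  choose v hv using fun χ : IrrCharacter G => exists_int_apply_of_sq (irr_isCharacter χ) hz.1
  choose r hr using fun i => S.exists_int_φ_one i
  have hvg : ∀ χ ∈ bset (principalBlock M G), v χ = ∑ i, g χ i * r i := fun χ hχ => by
    have h4 := principal_apply_mul hM hC hz2 (mem_bset.1 hχ) (s := 1) not_dvd_orderOf_one
    rw [← hb', S.blockPart_shift_apply _ not_dvd_orderOf_one, coe_one, mul_one, hv] at h4
    simp only [hg, hr] at h4
    exact_mod_cast h4
  have hΦ : ∀ i, (4 : ℤ) ∣ ∑ j, S.C i j * r j := fun i => by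
    refine (pow_dvd_pow (2 : ℤ) (m := 2) ?_).trans (S.pow_dvd_Φ_one hM hb i
      (n := ∑ j, S.C i j * r j) (by rw [S.Φ_eq_sum hM hb]; simp [hr]))
    rw [← Nat.prime_two.pow_dvd_iff_le_factorization Nat.card_pos.ne']
    exact h.ord ▸ Subgroup.orderOf_dvd_natCard _ (hm.le_centralizer_at_z h h.xm)
  have h0 : irrOne G ∈ bset (principalBlock M G) := mem_bset.2 (irrOne_mem_principalBlock hM)
  have hv1 : v (irrOne G) = 1 := by exact_mod_cast (hv (irrOne G)).symm.trans (irrOne_apply z)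
  have p0 := hΦ 0
  have p1 := hΦ 1
  simp only [hS, Fin.sum_univ_three] at p0 p1
  simp at p0 p1
  obtain ⟨k1, hk1⟩ : ∃ k, r 1 = 2 * k := ⟨r 1 / 2, by omega⟩
  obtain ⟨k2, hk2⟩ : ∃ k, r 2 = r 0 + 2 * k := ⟨(r 2 - r 0) / 2, by omega⟩
  obtain ⟨k0, hk0⟩ : ∃ k, r 0 = 2 * k + 1 := by
    have h4 := hvg _ h0
    rw [hv1, Fin.sum_univ_three, hk1, hk2] at h4
    rcases Int.even_or_odd' (r 0) with ⟨k, hk | hk⟩
    · rw [hk] at h4
      have : (2 : ℤ) ∣ 1 := ⟨g (irrOne G) 0 * k + g (irrOne G) 1 * k1 + g (irrOne G) 2 * (k + k2), by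
        rw [h4]; ring⟩
      omega
    · exact ⟨k, hk⟩
  have par : ∀ χ ∈ bset (principalBlock M G), ∃ k, w χ = g χ 0 + g χ 2 + 2 * k := fun χ hχ => by
    have h4 := (irr_isCharacter χ).isGen.int_modEq_of_commute Nat.prime_two (Commute.one_right z)
      (k := 1) (by rw [pow_one, pow_two, hz.1]) (a := v χ) (b := charDegree χ.1) (by rw [mul_one, hv])
      (by rw [irr_apply_one]; rfl)
    obtain ⟨k, hk⟩ := (h4.trans (w4 χ).symm).dvd
    rw [hvg χ hχ, Fin.sum_univ_three, hk1, hk2, hk0] at hk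
    exact ⟨k + g χ 0 * k0 + g χ 1 * k1 + g χ 2 * (k0 + k2), by push_cast at hk; linear_combination hk⟩
  let u : Fin 3 → IrrCharacter G → ℤ := ![fun χ => g χ 0 + 2 * g χ 1 + g χ 2, fun χ => g χ 0 + g χ 2,
    fun χ => g χ 0 - g χ 2]
  have lin : ∀ {R : Type} [CommRing R] (f : IrrCharacter G → R),
      (∀ i, ∑ χ ∈ bset (principalBlock M G), (g χ i : R) * f χ = 0) →
      ∀ k, ∑ χ ∈ bset (principalBlock M G), (u k χ : R) * f χ = 0 := fun f hf k => by
    fin_cases k <;>
      simp [u, add_mul, sub_mul, mul_assoc, Finset.sum_add_distrib, ← Finset.mul_sum, hf]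
  have hx1 : x ≠ 1 := fun e => h.z_ne (by rw [← hxx, e, mul_one])
  obtain ⟨χ, -, h4, h5⟩ := q8_lattice (s := bset (principalBlock M G)) (x := fun χ => charDegree χ.1)
    (v := v) (w := w) (u := u) (c := ![r 1, r 0 - r 1 + r 2, r 0 - r 2]) h0
    (fun χ => by exact_mod_cast irr_degree_pos χ) (by simp [charDegree_irrOne]) hv1 w2 w3
    (fun k => by
      fin_cases k <;>
        simp [u, add_mul, sub_mul, mul_add, mul_sub, mul_assoc, mul_left_comm (g _ _) 2,
          Finset.sum_add_distrib, ← Finset.mul_sum, gram, hS])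
    (fun k hk => by
      fin_cases k
      · exact absurd rfl hk
      all_goals
        simp [u, add_mul, mul_add, mul_sub, mul_assoc, Finset.sum_add_distrib, ← Finset.mul_sum,
          gram, hS])
    (by
      have := lin (fun χ => (w χ : ℂ)) o2 0
      simp only [mul_comm (w _)]
      exact_mod_cast this)
    (fun k χ hχ => by
      obtain ⟨a, ha⟩ := par χ hχ
      fin_cases k
      exacts [⟨a - g χ 1, by simp [u]; omega⟩, ⟨a, by simp [u]; omega⟩,
        ⟨a + g χ 2, by simp [u]; omega⟩])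
    (by
      have := bker_eq_zero_of_regular' hM hB (hx2.dvd_orderOf hx1) (y := 1) not_dvd_orderOf_one
      simp only [bker_def, w1, irr_apply_one, map_natCast] at this
      exact_mod_cast this)
    (fun k => by
      have := lin _ o1 k
      simp only [irr_apply_one] at this
      exact_mod_cast this)
    (by
      have := bker_eq_zero_of_not_isConj hM hB (x := x) (y := z) (by rwa [hx2.pPart_eq, hz2.pPart_eq])
      simp only [bker_def, w1, hv, map_intCast] at this
      exact_mod_cast this)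
    (by
      have := sum_q hM hz (hx2.dvd_orderOf hx1)
      simp only [w1, hv, irr_apply_one, ← mul_div_assoc] at this
      exact_mod_cast this)
    (by
      have := lin _ o3 0
      simp only [hv, irr_apply_one, ← mul_div_assoc] at this
      exact_mod_cast this)
    (fun χ hχ => by rw [hvg χ hχ]; simp [u, Fin.sum_univ_three]; ring)
  exact ⟨χ, h4, (irr_mem_ker_iff χ).2 (by rw [hv, h5, irr_apply_one]; rfl)⟩

end BS

universe u

/-- The Brauer–Suzuki theorem. -/
theorem brauer_suzuki (G : Type u) [Group G] [Finite G] {z : G} (hzz : z * z = 1) (hz1 : z ≠ 1)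
    (hu : ∀ v : G, v * v = 1 → Commute z v → v = 1 ∨ v = z) (g : G) :
    z * (g * z * g⁻¹) ∈ pPrimeCore 2 G := by
  induction hn : Nat.card G using Nat.strong_induction_on generalizing G with
  | _ n ih =>
  subst hn
  have hz : Isol z := isol_of_forall_commute hzz fun g hg =>
    (hu _ (by rw [conj_mul, hzz]; group) hg).resolve_left (by simpa using hz1)
  obtain ⟨M, hM⟩ := exists_isPModular (p := 2) Nat.prime_two
  obtain ⟨D, hD, hzD⟩ := exists_isSylowIn_ge (p := 2) (isPElt_two_of_mul_self hzz).isPGroup_zpowers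
    (H := ⊤) le_top
  have hzD' : z ∈ D := hzD (mem_zpowers z)
  by_cases hab : ∀ a ∈ D, ∀ b ∈ D, a * b = b * a
  · exact zstar_of_abelian (abTwo_of_sylow hD.toSylowTop hab) hz g
  have hc : ∀ a ∈ D, Commute z a := by
    obtain ⟨c, hc, hc1⟩ := (bot_or_exists_ne_one _).resolve_left (inf_centralizer_ne_bot_of_isPGroup
      hD.isPGroup hD.isPGroup (fun h => hz1 (by simpa [h] using hzD')) le_normalizer)
    obtain ⟨s, hs, hs1, hs2⟩ := exists_mul_self_mem_zpowers (isPElt_of_mem hD.isPGroup hc.1) hc1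
    have h1 : s ∈ centralizer (D : Set G) := zpowers_le.2 hc.2 hs
    obtain rfl := (hu s hs1 (h1 z hzD')).resolve_left hs2
    exact fun a ha => (h1 a ha).symm
  obtain ⟨n, x, y, h, hy, hyy⟩ := BS.exists_maxCl hD.isPGroup hzD' hz1 hzz
    (fun v hv hvv => hu v hvv (hc v hv)) hab
  obtain ⟨χ, hχ1, hχ2⟩ : ∃ χ : IrrCharacter G, χ ≠ irrOne G ∧ z ∈ ker χ.1 := by
    rcases n with _ | n
    · have hxx : x * x = z := by rw [h.zeq]; simp [pow_succ]
      by_cases h1 : IsConj y x
      · by_cases h2 : IsConj (x * y) x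
        · exact BS.exists_ker_fused hM hz hD h hy hyy h1 h2
        · exact BS.exists_ker_unfused hM hz hD h hy hyy h.xy_mem
            ((h.sq_out_eq hy h.xy_mem h.xy_not_mem).trans hyy) h.xm hxx h2
      · exact BS.exists_ker_unfused hM hz hD h hy hyy h.ym hyy h.xm hxx h1
    · exact BS.exists_ker_big hM hz hD h hy hyy
  have hk : g * z * g⁻¹ ∈ ker χ.1 := (irr_ker_normal χ).conj_mem _ hχ2 g
  obtain ⟨c, hc'⟩ := isConj_iff.1 (isConj_of_odd_orderOf_mul (s := (⟨_, hk⟩ : ker χ.1))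
    (t := ⟨z, hχ2⟩) (Subtype.ext (hz.conj g).1) (Subtype.ext hzz) (by
      rw [← Subgroup.orderOf_coe]
      have := (hz.conj g).2 g⁻¹
      rwa [show g⁻¹ * (g * z * g⁻¹) * g⁻¹⁻¹ = z by group] at this))
  have h1 := ih _ (card_lt_of_ne_top fun h => hχ1 ((ker_irr_eq_top_iff χ).1 h)) (ker χ.1)
    (z := ⟨z, hχ2⟩) (Subtype.ext hzz) (fun h => hz1 (congrArg Subtype.val h))
    (fun v hv hv' => (hu v (congrArg Subtype.val hv) (congrArg Subtype.val hv')).imp Subtype.ext
      Subtype.ext) c rfl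
  rw [hc'] at h1
  have h2 : z * (g * z * g⁻¹) ∈ pPrimeCore 2 G ⊓ ker χ.1 := by
    rw [← map_subtype_pPrimeCore]
    exact ⟨_, h1, rfl⟩
  exact h2.1

/-- Glauberman's `Z*`-theorem. -/
theorem zstar (G : Type u) [Group G] [Finite G] {z : G} (hz : Isol z) (g : G) :
    z * (g * z * g⁻¹) ∈ pPrimeCore 2 G :=
  zstar_of_class (𝒞 := fun _ _ _ => True) (fun _ _ _ _ _ => trivial) (fun _ _ _ _ _ _ => trivial)
    (fun G _ _ _ _ h1 h2 h3 => brauer_suzuki G h1 h2 h3) G trivial hz g

end BT
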