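import Cfsg.Agent.Lib.Block.PrincipalC
import Cfsg.Agent.Lib.Grp.CycIdx
import Cfsg.Agent.Lib.Grp.NoFour
import Cfsg.Agent.Lib.Grp.NormalCompl

/-!
# The Brauer–Suzuki theorem: numerical and group theoretic preliminaries
-/

set_option autoImplicit false
set_option linter.unusedSectionVars false

namespace BT.BS

open Cfsg CT GT Subgroup

section Num

variable {α : Type*} {s : Finset α}

theorem one_sign {a : α → ℤ} {i₀ : α} (hi₀ : i₀ ∈ s) (ha : a i₀ = 1) (h : ∑ i ∈ s, a i * a i ≤ 3) :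
    (∃ j, ∀ i ∈ s, i ≠ j → 0 ≤ a i) ∨ ∀ i ∈ s, i ≠ i₀ → a i ≤ 0 := by
  classical
  by_contra hc
  push Not at hc
  obtain ⟨h1, i₁, hi₁, hne, h2⟩ := hc
  obtain ⟨i₂, hi₂, -, h3⟩ := h1 i₀
  obtain ⟨i₃, hi₃, h4, h5⟩ := h1 i₂
  have e1 : i₀ ≠ i₂ := fun e => by rw [← e] at h3; omega
  have e2 : i₀ ≠ i₃ := fun e => by rw [← e] at h5; omega
  have e3 : i₁ ≠ i₂ := fun e => by rw [← e] at h3; omega
  have e4 : i₁ ≠ i₃ := fun e => by rw [← e] at h5; omega
  have h6 : ∑ i ∈ {i₀, i₁, i₂, i₃}, a i * a i ≤ ∑ i ∈ s, a i * a i :=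
    Finset.sum_le_sum_of_subset_of_nonneg (by simp [Finset.insert_subset_iff, *])
      fun _ _ _ => mul_self_nonneg _
  rw [Finset.sum_insert (by simp [hne.symm, e1, e2]), Finset.sum_insert (by simp [e3, e4]),
    Finset.sum_pair h4.symm, ha] at h6
  nlinarith

theorem ratio_eq {a x v : α → ℤ} {i₀ : α} (hi₀ : i₀ ∈ s) (ha : a i₀ = 1) (hx : ∀ i, 0 < x i)
    (hx₀ : x i₀ = 1) (hv₀ : v i₀ = 1) (h : ∑ i ∈ s, a i * a i ≤ 3) (h1 : ∑ i ∈ s, a i * x i = 0)
    (h2 : ∑ i ∈ s, a i * v i = 0) (h3 : ∑ i ∈ s, (a i : ℚ) * v i ^ 2 / x i = 0) {i : α}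
    (hi : i ∈ s) (hai : a i ≠ 0) : v i = x i := by
  have hx' : ∀ i, (0 : ℚ) < x i := fun i => by exact_mod_cast hx i
  have key : (v i : ℚ) / x i = v i₀ / x i₀ := by
    rcases one_sign hi₀ ha h with ⟨j, hj⟩ | hj
    · have k : ∀ i ∈ s, a i ≠ 0 → (v i : ℚ) / x i = v j / x j := fun i hi hai =>
        div_eq_div_of_one_pos s (fun i => -(a i : ℚ)) (fun i => x i) (fun i => v i) (fun i _ => hx' i)
          (by simp only [neg_mul, Finset.sum_neg_distrib, neg_eq_zero]; exact_mod_cast h1)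
          (by simp only [neg_mul, Finset.sum_neg_distrib, neg_eq_zero]; exact_mod_cast h2)
          (by simp only [neg_mul, neg_div, Finset.sum_neg_distrib, h3, neg_zero]) (hx' j)
          (fun i hi hne => by simpa using hj i hi hne) hi (by simpa using hai)
      rw [k i hi hai, k i₀ hi₀ (by omega)]
    · exact div_eq_div_of_one_pos s (fun i => (a i : ℚ)) (fun i => x i) (fun i => v i)
        (fun i _ => hx' i) (by exact_mod_cast h1) (by exact_mod_cast h2) h3 (hx' i₀)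
        (fun i hi hne => by exact_mod_cast hj i hi hne) hi (by exact_mod_cast hai)
  rw [hx₀, hv₀, div_eq_iff (hx' i).ne'] at key
  simpa using key

theorem exists_ne_of_sum {a x : α → ℤ} {i₀ : α} (hi₀ : i₀ ∈ s) (ha : a i₀ = 1) (hx₀ : x i₀ = 1)
    (h1 : ∑ i ∈ s, a i * x i = 0) : ∃ i ∈ s, i ≠ i₀ ∧ a i ≠ 0 := by
  by_contra hc
  push Not at hc
  rw [Finset.sum_eq_single_of_mem _ hi₀ fun i hi hne => by rw [hc i hi hne, zero_mul], ha, hx₀] at h1
  omega

theorem false_of_unit {e x : α → ℤ} (hx : ∀ i, 0 < x i) (h1 : ∑ i ∈ s, e i * e i = 1)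
    (h2 : ∑ i ∈ s, e i * x i = 0) : False := by
  classical
  obtain ⟨j, hj, h0⟩ := Finset.exists_ne_zero_of_sum_ne_zero (h1 ▸ one_ne_zero)
  have h3 : ∀ i ∈ s, i ≠ j → e i = 0 := fun i hi hne => by
    have h4 : ∑ i ∈ {i, j}, e i * e i ≤ ∑ i ∈ s, e i * e i :=
      Finset.sum_le_sum_of_subset_of_nonneg (by simp [Finset.insert_subset_iff, *])
        fun _ _ _ => mul_self_nonneg _
    rw [Finset.sum_pair hne, h1] at h4
    have := mul_self_nonneg (e j)
    have := mul_self_nonneg (e i)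
    exact mul_self_eq_zero.1 (by omega)
  rw [Finset.sum_eq_single_of_mem j hj fun i hi hne => by rw [h3 i hi hne, zero_mul]] at h2
  exact (mul_ne_zero (left_ne_zero_of_mul h0) (hx j).ne') h2

theorem sq_odd (u : ℤ) (h : Odd u) : u * u = 1 ∨ 9 ≤ u * u := by
  obtain ⟨k, rfl⟩ := h
  rcases lt_trichotomy k 0 with h | rfl | h
  · rcases eq_or_ne k (-1) with rfl | h'
    · left; norm_num
    · right; nlinarith [show k ≤ -2 by omega]
  · left; norm_num
  · right; nlinarith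

/-- The lattice argument for the quaternion group of order `8`. -/
theorem q8_lattice {x v w : α → ℤ} {u : Fin 3 → α → ℤ} {c : Fin 3 → ℤ} {i₀ : α} (hi₀ : i₀ ∈ s)
    (hx : ∀ i, 0 < x i) (hx₀ : x i₀ = 1) (hv₀ : v i₀ = 1) (hw₀ : w i₀ = 1)
    (hw : ∑ i ∈ s, w i * w i = 4) (hu : ∀ k, ∑ i ∈ s, u k i * u k i = 8)
    (hu' : ∀ k, k ≠ 0 → ∑ i ∈ s, u 0 i * u k i = 0) (hwu : ∑ i ∈ s, w i * u 0 i = 0)
    (par : ∀ k, ∀ i ∈ s, Even (w i - u k i)) (hwx : ∑ i ∈ s, w i * x i = 0)
    (hux : ∀ k, ∑ i ∈ s, u k i * x i = 0) (hwv : ∑ i ∈ s, w i * v i = 0)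
    (hwq : ∑ i ∈ s, (w i : ℚ) * v i ^ 2 / x i = 0) (huq : ∑ i ∈ s, (u 0 i : ℚ) * v i ^ 2 / x i = 0)
    (hc : ∀ i ∈ s, 2 * v i = ∑ k, c k * u k i) : ∃ i ∈ s, i ≠ i₀ ∧ v i = x i := by
  classical
  set O := s.filter fun i => Odd (w i) with hO
  set E := s.filter fun i => ¬ Odd (w i) with hE
  have split : ∀ f : α → ℤ, ∑ i ∈ s, f i = ∑ i ∈ O, f i + ∑ i ∈ E, f i := fun f =>
    (Finset.sum_filter_add_sum_filter_not s _ f).symm
  have hi₀' : i₀ ∈ O := Finset.mem_filter.2 ⟨hi₀, by rw [hw₀]; exact odd_one⟩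
  have w1 : ∀ i ∈ s, w i * w i ≤ 3 ∨ i = i₀ := fun i hi => or_iff_not_imp_right.2 fun hne => by
    have h4 : ∑ i ∈ {i, i₀}, w i * w i ≤ ∑ i ∈ s, w i * w i :=
      Finset.sum_le_sum_of_subset_of_nonneg (by simp [Finset.insert_subset_iff, *])
        fun _ _ _ => mul_self_nonneg _
    rw [Finset.sum_pair hne, hw, hw₀] at h4
    omega
  have wO : ∀ i ∈ O, w i * w i = 1 := fun i hi => by
    obtain ⟨h1, h2⟩ := Finset.mem_filter.1 hi
    rcases w1 i h1 with h3 | rfl
    · rcases sq_odd _ h2 with h | h <;> omega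
    · rw [hw₀, mul_one]
  have wE : ∀ i ∈ E, w i = 0 := fun i hi => by
    obtain ⟨h1, h2⟩ := Finset.mem_filter.1 hi
    obtain ⟨k, hk⟩ := Int.not_odd_iff_even.1 h2
    rcases w1 i h1 with h3 | rfl
    · by_contra h0
      have : 0 < k * k := mul_self_pos.2 (by omega)
      rw [hk] at h3
      nlinarith
    · omega
  have cO : (O.card : ℤ) = 4 := by
    rw [split, Finset.sum_congr rfl wO,
      Finset.sum_eq_zero (s := E) fun i hi => by rw [wE i hi, mul_zero]] at hw
    simpa using hw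
  have uodd : ∀ k, ∀ i ∈ O, Odd (u k i) := fun k i hi => by
    obtain ⟨h1, h2⟩ := Finset.mem_filter.1 hi
    obtain ⟨a, ha⟩ := par k i h1
    obtain ⟨b, hb⟩ := h2
    exact ⟨b - a, by omega⟩
  have uO : ∀ k, ∀ i ∈ O, u k i * u k i = 1 := fun k i hi => by
    refine (sq_odd _ (uodd k i hi)).resolve_right fun h9 => ?_
    have h1 := Finset.single_le_sum (f := fun i => u k i * u k i) (fun _ _ => mul_self_nonneg _)
      (Finset.mem_filter.1 hi).1
    rw [hu] at h1
    omega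
  have sO : ∀ k, ∑ i ∈ O, u k i * u k i = 4 := fun k => by
    rw [Finset.sum_congr rfl (uO k)]; simpa using cO
  have hev : ∀ k i, ∃ e, i ∈ E → u k i = 2 * e := fun k i => by
    by_cases hi : i ∈ E
    · obtain ⟨a, ha⟩ := par k i (Finset.mem_filter.1 hi).1
      exact ⟨-a, fun _ => by rw [wE i hi] at ha; omega⟩
    · exact ⟨0, fun h => absurd h hi⟩
  choose e he using hev
  have sE : ∀ k l, ∑ i ∈ E, u k i * u l i = 4 * ∑ i ∈ E, e k i * e l i := fun k l => by
    rw [Finset.mul_sum]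
    exact Finset.sum_congr rfl fun i hi => by rw [he k i hi, he l i hi]; ring
  have eE : ∀ k, ∑ i ∈ E, e k i * e k i = 1 := fun k => by
    have := hu k
    rw [split, sO, sE] at this
    omega
  have orth : ∀ k, k ≠ 0 → ∑ i ∈ E, e 0 i * e k i = 0 := fun k hk => by
    by_contra h0
    obtain ⟨ε, hε, h1⟩ : ∃ ε : ℤ, ε * ε = 1 ∧ ε * ∑ i ∈ E, e 0 i * e k i ≤ -1 := by
      rcases lt_or_gt_of_ne h0 with h | h
      · exact ⟨1, rfl, by omega⟩
      · exact ⟨-1, rfl, by omega⟩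
    have h2 := hu' k hk
    rw [split, sE] at h2
    have h3 : ∑ i ∈ O, (u 0 i - ε * u k i) * (u 0 i - ε * u k i) ≤ 0 := by
      rw [Finset.sum_congr rfl (g := fun i => u 0 i * u 0 i + u k i * u k i - 2 * ε * (u 0 i * u k i))
        fun i _ => by linear_combination (u k i * u k i) * hε, Finset.sum_sub_distrib,
        Finset.sum_add_distrib, sO, sO, ← Finset.mul_sum, eq_neg_of_add_eq_zero_left h2]
      nlinarith
    have h4 : ∑ i ∈ E, (e 0 i + ε * e k i) * (e 0 i + ε * e k i) ≤ 0 := by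
      rw [Finset.sum_congr rfl (g := fun i => e 0 i * e 0 i + e k i * e k i + 2 * ε * (e 0 i * e k i))
        fun i _ => by linear_combination (e k i * e k i) * hε, Finset.sum_add_distrib,
        Finset.sum_add_distrib, eE, eE, ← Finset.mul_sum]
      nlinarith
    have h5 := (Finset.sum_eq_zero_iff_of_nonneg fun _ _ => mul_self_nonneg _).1
      (le_antisymm h3 (Finset.sum_nonneg fun _ _ => mul_self_nonneg _))
    have h6 := (Finset.sum_eq_zero_iff_of_nonneg fun _ _ => mul_self_nonneg _).1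
      (le_antisymm h4 (Finset.sum_nonneg fun _ _ => mul_self_nonneg _))
    refine false_of_unit hx (eE 0) ?_
    have h7 : ∑ i ∈ s, (u 0 i - ε * u k i) * x i = 0 := by
      simp only [sub_mul, mul_assoc, Finset.sum_sub_distrib, ← Finset.mul_sum, hux, mul_zero, sub_zero]
    rw [split, Finset.sum_eq_zero fun i hi => by rw [mul_self_eq_zero.1 (h5 i hi), zero_mul],
      Finset.sum_congr rfl (g := fun i => 4 * (e 0 i * x i)) fun i hi => by
        rw [he 0 i hi, he k i hi]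
        linear_combination (-2 * x i) * mul_self_eq_zero.1 (h6 i hi), ← Finset.mul_sum] at h7
    omega
  set ε := u 0 i₀ with hε
  have hε2 : ε * ε = 1 := uO 0 i₀ hi₀'
  have hεo : Odd ε := uodd 0 i₀ hi₀'
  have hav : ∀ i, ∃ a, i ∈ s → w i + ε * u 0 i = 2 * a := fun i => by
    by_cases hi : i ∈ s
    · obtain ⟨a, ha⟩ := par 0 i hi
      obtain ⟨b, hb⟩ := hεo
      exact ⟨a + (b + 1) * u 0 i, fun _ => by rw [hb]; linear_combination ha⟩
    · exact ⟨0, fun h => absurd h hi⟩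
  choose a ha using hav
  have ha₀ : a i₀ = 1 := by have := ha i₀ hi₀; rw [hw₀, ← hε, hε2] at this; omega
  have two : ∀ (t : Finset α), t ⊆ s → ∀ f : α → ℤ, 2 * ∑ i ∈ t, a i * f i =
      ∑ i ∈ t, w i * f i + ε * ∑ i ∈ t, u 0 i * f i := fun t ht f => by
    rw [Finset.mul_sum, Finset.mul_sum, ← Finset.sum_add_distrib]
    exact Finset.sum_congr rfl fun i hi => by linear_combination (-f i) * ha i (ht hi)
  have wuO : ∑ i ∈ O, w i * u 0 i = 0 := by
    rw [split, Finset.sum_eq_zero (s := E) fun i hi => by rw [wE i hi, zero_mul], add_zero] at hwu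
    exact hwu
  have nrm : ∀ (t : Finset α), t ⊆ s → 4 * ∑ i ∈ t, a i * a i = ∑ i ∈ t, w i * w i +
      2 * ε * ∑ i ∈ t, w i * u 0 i + ∑ i ∈ t, u 0 i * u 0 i := fun t ht => by
    rw [Finset.mul_sum, Finset.mul_sum, ← Finset.sum_add_distrib, ← Finset.sum_add_distrib]
    exact Finset.sum_congr rfl fun i hi => by
      linear_combination (-(2 * a i + w i + ε * u 0 i)) * ha i (ht hi) + (u 0 i * u 0 i) * hε2
  have n1 := nrm s subset_rfl
  rw [hw, hwu, hu] at n1
  have n2 := nrm O (Finset.filter_subset _ _)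
  rw [Finset.sum_congr rfl wO, wuO, sO, Finset.sum_const, nsmul_eq_mul, cO] at n2
  obtain ⟨j, hj, hj₀, hja⟩ : ∃ j ∈ O, j ≠ i₀ ∧ a j ≠ 0 := by
    by_contra hcon
    push Not at hcon
    rw [Finset.sum_eq_single_of_mem _ hi₀' fun i hi hne => by rw [hcon i hi hne, zero_mul], ha₀] at n2
    omega
  let v' : α → ℤ := fun i => if Odd (w i) then v i else -v i
  have hj' := Finset.mem_filter.1 hj
  have key := ratio_eq (v := v') hi₀ ha₀ hx hx₀ (by simp [v', hw₀, hv₀]) (by omega)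
    (by have := two s subset_rfl x; rw [hwx, hux] at this; omega) ?_ ?_ hj'.1 hja
  · exact ⟨j, hj'.1, hj₀, by simpa [v', hj'.2] using key⟩
  · have e1 : ∑ i ∈ O, a i * v' i = ∑ i ∈ O, a i * v i :=
      Finset.sum_congr rfl fun i hi => by simp [v', (Finset.mem_filter.1 hi).2]
    have e2 : ∑ i ∈ E, a i * v' i = -∑ i ∈ E, a i * v i := by
      rw [← Finset.sum_neg_distrib]
      exact Finset.sum_congr rfl fun i hi => by simp [v', (Finset.mem_filter.1 hi).2]
    have e3 : ∀ t : Finset α, t ⊆ s → 2 * ∑ i ∈ t, u 0 i * v i =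
        ∑ k, c k * ∑ i ∈ t, u 0 i * u k i := fun t ht => by
      simp only [Finset.mul_sum]
      rw [Finset.sum_comm]
      exact Finset.sum_congr rfl fun i hi => by
        rw [mul_left_comm, hc i (ht hi), Finset.mul_sum]
        exact Finset.sum_congr rfl fun k _ => by ring
    have e4 := e3 O (Finset.filter_subset _ _)
    have e5 := e3 E (Finset.filter_subset _ _)
    have e6 : ∀ k, k ≠ 0 → ∑ i ∈ O, u 0 i * u k i = 0 := fun k hk => by
      have := hu' k hk
      rw [split, sE, orth k hk] at this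
      omega
    rw [Fin.sum_univ_three, sO, e6 1 (by decide), e6 2 (by decide)] at e4
    rw [Fin.sum_univ_three, sE, sE, sE, eE, orth 1 (by decide), orth 2 (by decide)] at e5
    have e7 := two O (Finset.filter_subset _ _) v
    have e8 := two E (Finset.filter_subset _ _) v
    have e9 : ∑ i ∈ E, w i * v i = 0 := Finset.sum_eq_zero fun i hi => by rw [wE i hi, zero_mul]
    rw [split, e9] at hwv
    rw [split, e1, e2]
    have e10 : ∑ i ∈ O, u 0 i * v i = ∑ i ∈ E, u 0 i * v i := by omega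
    rw [e10] at e7
    omega
  · have e1 : (2 : ℚ) * ∑ i ∈ s, (a i : ℚ) * v' i ^ 2 / x i = ∑ i ∈ s, (w i : ℚ) * v i ^ 2 / x i +
        ε * ∑ i ∈ s, (u 0 i : ℚ) * v i ^ 2 / x i := by
      rw [Finset.mul_sum, Finset.mul_sum, ← Finset.sum_add_distrib]
      refine Finset.sum_congr rfl fun i hi => ?_
      have h1 : (w i : ℚ) + ε * u 0 i = 2 * a i := by exact_mod_cast ha i hi
      have h2 : (v' i : ℚ) ^ 2 = v i ^ 2 := by simp only [v']; split_ifs <;> simp
      rw [h2]
      linear_combination (-(v i : ℚ) ^ 2 / x i) * h1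
    rw [hwq, huq] at e1
    linarith

end Num

variable {G : Type*} [Group G] [Finite G]

/-- A non-abelian `2`-group with a unique involution is generalized quaternion. -/
theorem exists_maxCl {D : Subgroup G} (hD : IsPGroup 2 D) {z : G} (hz : z ∈ D) (hz1 : z ≠ 1)
    (hzz : z * z = 1) (hu : ∀ v ∈ D, v * v = 1 → v = 1 ∨ v = z)
    (hna : ¬ ∀ a ∈ D, ∀ b ∈ D, a * b = b * a) :
    ∃ n x y, MaxCl D (n + 1) x y z ∧ y * x * y⁻¹ = x⁻¹ ∧ y * y = z := by
  have hc : ∀ g ∈ D, g * z = z * g := fun g hg => by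
    rcases hu (g * z * g⁻¹) (mul_mem (mul_mem hg hz) (inv_mem hg))
      (by rw [conj_mul, hzz]; group) with h | h
    · exact absurd (by simpa using h) hz1
    · exact mul_inv_eq_iff_eq_mul.1 h
  obtain ⟨x, hx, -, h2, h3⟩ := NoFour.exists_gen hD hz hc hz1 hzz fun t ht h _ => hu t ht h
  obtain ⟨y, hy, hy'⟩ : ∃ y ∈ D, y ∉ zpowers x := by
    by_contra h
    push Not at h
    exact hna fun a ha b hb => (eq_of_commute_zpowers (h a ha) (h b hb)).eq
  have hI : Idx D (zpowers x) y := fun g hg => or_iff_not_imp_left.2 fun hg' =>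
    h2 g hg hg' y⁻¹ (inv_mem hy) (mt inv_mem_iff.1 hy')
  obtain ⟨-, h4, h5⟩ := h3 y hy hy'
  have hzx : z ∈ zpowers x := zpowers_le.2 (mul_mem (mem_zpowers x) (mem_zpowers x)) h5
  obtain ⟨k, hk⟩ := isPElt_of_mem hD hx
  have hxx : x * x ≠ 1 := fun h => hz1 (by simpa [h] using h5)
  obtain ⟨n, rfl⟩ : ∃ n, k = n + 2 := by
    refine ⟨k - 2, ?_⟩
    by_contra h
    have : orderOf x ∣ 2 := by
      rw [hk]
      rcases (show k = 0 ∨ k = 1 by omega) with rfl | rfl <;> simp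
    exact hxx (by rw [← pow_two]; exact orderOf_dvd_iff_pow_eq_one.1 this)
  have hxo : x ^ 2 ^ (n + 2) = 1 := by rw [← hk, pow_orderOf_eq_one]
  have hz' : z = x ^ 2 ^ (n + 1) := by
    rcases hu (x ^ 2 ^ (n + 1)) (pow_mem hx _) (by rw [← pow_add, ← two_mul, ← pow_succ', hxo]) with h | h
    · have := Nat.le_of_dvd (by positivity) (hk ▸ orderOf_dvd_iff_pow_eq_one.2 h)
      exact absurd this (not_le.2 (Nat.pow_lt_pow_right one_lt_two (by omega)))
    · exact h.symm
  have hcard : Nat.card D = 2 ^ (n + 1 + 2) := by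
    rw [hI.card_eq (zpowers_le.2 hx) hy hy', Nat.card_zpowers, hk]; ring
  obtain ⟨r, hr⟩ := mem_zpowers_iff.1 h4
  have hout : ∀ j : ℤ, x ^ j * y * (x ^ j * y) ≠ 1 := fun j h => by
    have h6 : x ^ j * y ∉ zpowers x := fun h6 =>
      hy' ((mul_mem_cancel_left (zpow_mem (mem_zpowers x) j)).1 h6)
    rcases hu _ (mul_mem (zpow_mem hx j) hy) h with h7 | h7
    · exact h6 (h7 ▸ one_mem _)
    · exact h6 (h7 ▸ hzx)
  have hsq : ∀ j : ℤ, x ^ j * y * (x ^ j * y) = x ^ j * (y * x * y⁻¹) ^ j * (x * x) ^ r := fun j => by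
    rw [hr, conj_zpow]; group
  have hxz : Commute x z := hc x hx
  have hz2 : ∀ n : ℤ, z ^ (2 * n) = 1 := fun n => by rw [zpow_mul, zpow_two, hzz, one_zpow]
  have hinv : y * x * y⁻¹ = x⁻¹ → y * y = z := fun h => by
    refine (hu _ (mul_mem hy hy) ?_).resolve_left fun h' => hout 0 (by simpa using h')
    have h6 : y * (y * y) * y⁻¹ = (y * y)⁻¹ := by
      rw [← hr, ← conj_zpow, ← conj_mul, h, ← mul_inv_rev, inv_zpow]
    rw [show y * (y * y) * y⁻¹ = y * y by group] at h6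
    exact eq_inv_iff_mul_eq_one.1 h6
  have h1 := conj_cases_of_sq hk (hI.conj_mem (zpowers_le.2 hx) hy (mem_zpowers x)) (by
    calc y * (y * x * y⁻¹) * y⁻¹ = y * y * x * (y * y)⁻¹ := by group
      _ = x := by rw [(eq_of_commute_zpowers (hI.sq_mem hy) (mem_zpowers x)).eq, mul_inv_cancel_right])
  rw [← hz'] at h1
  have hmain : y * x * y⁻¹ = x⁻¹ := by
    have c1 : y * x * y⁻¹ ≠ x := fun h => hout (-r) (by rw [hsq, h, ← zpow_two x, ← zpow_mul]; group)
    rcases n with _ | n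
    · have e1 : x * z = x⁻¹ := by rw [hz']; exact eq_inv_of_mul_eq_one_left (by rw [← hxo]; group)
      have e2 : x⁻¹ * z = x := by rw [hz']; group
      rw [e1, e2] at h1
      tauto
    rcases h1 with h | h | h | h
    · exact absurd h c1
    · exfalso
      rcases Int.even_or_odd' r with ⟨t, rfl | rfl⟩
      · exact hout (2 * -t) (by rw [hsq, h, hxz.mul_zpow, hz2, ← zpow_two x, ← zpow_mul x 2]; group)
      · refine hout (2 * (-t - 1 + 2 ^ n) + 1) ?_
        rw [hsq, h, hxz.mul_zpow, zpow_add z, hz2, one_mul, zpow_one, ← zpow_two, mul_assoc,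
          mul_assoc, ← ((hxz.zpow_left 2).zpow_left _).eq, ← mul_assoc, ← mul_assoc, ← zpow_mul,
          ← zpow_add, ← zpow_add, ← hzz]
        congr 1
        rw [hz', ← zpow_natCast]
        congr 1
        push_cast
        ring
    · exact h
    · exfalso
      have e1 : y * (y * y) * y⁻¹ = (y * y)⁻¹ := by
        rw [← hr, ← conj_zpow, ← conj_mul, h, mul_assoc, ← mul_assoc z, ← hxz.inv_left.eq,
          mul_assoc, hzz, mul_one, ← mul_inv_rev, inv_zpow]
      rw [show y * (y * y) * y⁻¹ = y * y by group] at e1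
      rcases hu _ (mul_mem hy hy) (eq_inv_iff_mul_eq_one.1 e1) with e | e
      · exact hout 0 (by simpa using e)
      · refine hout 1 ?_
        rw [hsq, hr, h, e, zpow_one, zpow_one, mul_inv_cancel_left, hzz]
  exact ⟨n, x, y, ⟨hx, hy, hk, hcard, hz', hy', Or.inl hmain⟩, hmain, hinv hmain⟩

section Cent

variable {D : Subgroup G} {n : ℕ} {x y z : G} (hD : IsSylowIn 2 D ⊤) (h : MaxCl D (n + 1) x y z)
  (hy : y * x * y⁻¹ = x⁻¹) (hyy : y * y = z)
include h hy hyy

theorem exists_inf_cent_le {w : G} (hw : w ∈ D) (hww : w * w ≠ 1) :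
    ∃ a : G, D ⊓ centralizer ({w} : Set G) ≤ zpowers a ∧ orderOf a ≤ 2 ^ (n + 2) := by
  by_cases hx : w ∈ zpowers x
  · exact ⟨x, (h.inf_centralizer_in hx (fun e => hww (by rw [e, mul_one]))
      fun e => hww (by rw [e, h.zz])).le, h.ord.le⟩
  · have h1 : w * w = z := (h.sq_out_eq hy hw hx).trans hyy
    refine ⟨w, fun g hg => ?_, (Nat.le_of_dvd (by norm_num) (h.orderOf_dvd_four h1)).trans ?_⟩
    · rcases (h.mem_inf_centralizer_out hw hx).1 hg with rfl | rfl | rfl | rfl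
      · exact one_mem _
      · exact h1 ▸ mul_mem (mem_zpowers w) (mem_zpowers w)
      · exact mem_zpowers _
      · exact h1 ▸ mul_mem (mul_mem (mem_zpowers w) (mem_zpowers w)) (mem_zpowers w)
    · exact (Nat.pow_le_pow_right two_pos (by omega : 2 ≤ n + 2))

include hD

/-- The centralizer of an element of order at least four has a cyclic Sylow `2`-subgroup. -/
theorem cent_nilp {u : G} (hu : IsPElt 2 u) (huu : u * u ≠ 1) {T : Subgroup G}
    (hT : T ≤ centralizer ({u} : Set G)) (hc : Nat.card T = 2 ^ (n + 2)) :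
    HasNormalPComplement 2 (centralizer ({u} : Set G)) ∧
      (Nat.card (centralizer ({u} : Set G))).factorization 2 = n + 2 := by
  obtain ⟨S, hS, huS⟩ := exists_isSylowIn_ge (p := 2) hu.isPGroup_zpowers
    (H := centralizer ({u} : Set G)) (zpowers_le.2 (mem_centralizer_singleton_iff.2 rfl))
  obtain ⟨g, -, hg⟩ := hD.exists_conj_le hS.isPGroup le_top
  have hw : g * u * g⁻¹ ∈ D := hg (conj_mem_conj_smul.2 (huS (mem_zpowers u)))
  obtain ⟨a, ha, ho⟩ := exists_inf_cent_le h hy hyy hw (by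
    rw [conj_mul]; simpa using huu)
  have hle : S ≤ zpowers (g⁻¹ * a * g⁻¹⁻¹) := fun s hs => by
    have h1 : g * s * g⁻¹ ∈ zpowers a := ha (mem_inf.2 ⟨hg (conj_mem_conj_smul.2 hs), by
      rw [mem_centralizer_singleton_iff, conj_mul, conj_mul,
        mem_centralizer_singleton_iff.1 (hS.le hs)]⟩)
    obtain ⟨i, hi⟩ := mem_zpowers_iff.1 h1
    exact mem_zpowers_iff.2 ⟨i, by rw [conj_zpow, hi]; group⟩
  have hcyc : IsCyclic S := isCyclic_of_injective (inclusion hle) (inclusion_injective hle)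
  have h1 : Nat.card S ≤ 2 ^ (n + 2) := (card_le_of_le hle).trans (by
    rwa [Nat.card_zpowers, orderOf_conj'])
  have h2 := hS.card_le (IsPGroup.of_card hc) hT
  refine ⟨?_, ?_⟩
  · have : IsCyclic (hS.toSylow : Subgroup (centralizer ({u} : Set G))) := by
      rw [IsSylowIn.coe_toSylow]
      exact isCyclic_of_surjective _ (subgroupOfEquivOfLe hS.le).symm.surjective
    exact hasNormalPComplement_two_of_isCyclic hS.toSylow
  · have h3 := hS.card_eq
    exact Nat.pow_right_injective le_rfl (by simp only; omega)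

end Cent

end BT.BS
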