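import Cfsg.Agent.Lib.Block.BlockQuot
import Cfsg.Agent.Lib.Char.Prod

/-!
# Blocks of direct and central products
-/

set_option autoImplicit false
set_option linter.unusedSectionVars false

namespace BT
open Cfsg CT GT
open scoped MonoidAlgebra ComplexConjugate Pointwise

variable {G : Type*} [Group G] [Finite G] {H : Type*} [Group H] [Finite H]
variable {p : ℕ} {M : Ideal AlgInt} (hM : IsPModular p M)

omit [Finite G] [Finite H] in
theorem centralizer_singleton_prod (g : G) (h : H) :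
    Subgroup.centralizer ({(g, h)} : Set (G × H)) =
      (Subgroup.centralizer ({g} : Set G)).prod (Subgroup.centralizer ({h} : Set H)) := by
  ext ⟨a, b⟩
  simp [Subgroup.mem_prod, Subgroup.mem_centralizer_singleton_iff, Prod.ext_iff]

omit [Finite G] [Finite H] in
theorem centralChar_prodFun (φ : G → ℂ) (ψ : H → ℂ) (g : G) (h : H) :
    centralChar (prodFun φ ψ) (g, h) = centralChar φ g * centralChar ψ h := by
  unfold centralChar
  rw [centralizer_singleton_prod, Subgroup.index_prod]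
  simp only [prodFun_apply, Prod.fst_one, Prod.snd_one]
  push_cast
  rw [div_mul_div_comm]
  congr 1
  ring

theorem centralChar_irr_at_one (χ : IrrCharacter G) : centralChar χ.1 1 = 1 := by
  unfold centralChar
  have : Subgroup.centralizer ({1} : Set G) = ⊤ := by
    rw [eq_top_iff]; intro x _; simp [Subgroup.mem_centralizer_singleton_iff]
  rw [this, Subgroup.index_top, Nat.cast_one, one_mul, div_self (irr_apply_one_ne_zero χ)]

include hM in
theorem sameBlock_irrProd_iff (φ φ' : IrrCharacter G) (ψ ψ' : IrrCharacter H) :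
    SameBlock M (irrProd φ ψ).1 (irrProd φ' ψ').1 ↔
      SameBlock M φ.1 φ'.1 ∧ SameBlock M ψ.1 ψ'.1 := by
  constructor
  · intro h
    refine ⟨fun g => ?_, fun g => ?_⟩
    · have := h (g, 1)
      rwa [irrProd_val, irrProd_val, centralChar_prodFun, centralChar_prodFun,
        centralChar_irr_at_one, centralChar_irr_at_one, mul_one, mul_one] at this
    · have := h (1, g)
      rwa [irrProd_val, irrProd_val, centralChar_prodFun, centralChar_prodFun,
        centralChar_irr_at_one, centralChar_irr_at_one, one_mul, one_mul] at this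
  · rintro ⟨h1, h2⟩ ⟨g, h⟩
    rw [irrProd_val, irrProd_val, centralChar_prodFun, centralChar_prodFun, ← mem_locIdeal hM]
    have : centralChar φ.1 g * centralChar ψ.1 h - centralChar φ'.1 g * centralChar ψ'.1 h =
        (centralChar φ.1 g - centralChar φ'.1 g) * centralChar ψ.1 h +
          centralChar φ'.1 g * (centralChar ψ.1 h - centralChar ψ'.1 h) := by ring
    rw [this]
    exact add_mem (mul_mem_locIdeal_right hM (h1 g) (centralChar_mem_locRing hM ψ h))
      (mul_mem_locIdeal_left hM (centralChar_mem_locRing hM φ' g) (h2 h))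

theorem irrProd_irrOne : irrProd (irrOne G) (irrOne H) = irrOne (G × H) :=
  Subtype.ext (funext fun x => by simp)

include hM in
theorem irrProd_mem_principal_iff (φ : IrrCharacter G) (ψ : IrrCharacter H) :
    irrProd φ ψ ∈ principalBlock M (G × H) ↔
      φ ∈ principalBlock M G ∧ ψ ∈ principalBlock M H := by
  rw [principalBlock_eq, ← irrProd_irrOne, mem_blockOf, sameBlock_irrProd_iff hM]
  rfl

section Central
variable [Fact p.Prime] {U V : Subgroup G}

omit [Finite G] [Fact p.Prime] in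
theorem isPGroup_ker_mulHomOfCommute (hc : ∀ u ∈ U, ∀ v ∈ V, u * v = v * u)
    (hZ : IsPGroup p ↥(U ⊓ V)) : IsPGroup p (mulHomOfCommute hc).ker := by
  rintro ⟨⟨u, v⟩, huv⟩
  rw [MonoidHom.mem_ker, mulHomOfCommute_apply] at huv
  have h1 : (u : G) = (v : G)⁻¹ := eq_inv_of_mul_eq_one_left huv
  obtain ⟨k, hk⟩ := hZ ⟨u, Subgroup.mem_inf.2 ⟨u.2, by rw [h1]; exact inv_mem v.2⟩⟩
  have hk' : (u : G) ^ p ^ k = 1 := congrArg Subtype.val hk
  refine ⟨k, Subtype.ext (Prod.ext (Subtype.ext hk') (Subtype.ext ?_))⟩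
  rw [h1, inv_pow, inv_eq_one] at hk'
  exact hk'

omit [Finite G] [Fact p.Prime] in
theorem mem_centralizer_ker_mulHomOfCommute (hc : ∀ u ∈ U, ∀ v ∈ V, u * v = v * u) (x : U × V) :
    x ∈ Subgroup.centralizer ((mulHomOfCommute hc).ker : Set (U × V)) := by
  rintro ⟨u, v⟩ huv
  rw [SetLike.mem_coe, MonoidHom.mem_ker, mulHomOfCommute_apply] at huv
  have h1 : (u : G) = (v : G)⁻¹ := eq_inv_of_mul_eq_one_left huv
  have h2 : (v : G) = (u : G)⁻¹ := by rw [h1, inv_inv]
  refine Prod.ext (Subtype.ext ?_) (Subtype.ext ?_)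
  · show (u : G) * x.1 = x.1 * u
    rw [h1]; exact (hc _ x.1.2 _ (inv_mem v.2)).symm
  · show (v : G) * x.2 = x.2 * v
    rw [h2]; exact hc _ (inv_mem u.2) _ x.2.2

include hM in
/-- Blocks of a central product over a `p`-group. -/
theorem sameBlock_iff_of_commute (hc : ∀ u ∈ U, ∀ v ∈ V, u * v = v * u) (hs : U ⊔ V = ⊤)
    (hZ : IsPGroup p ↥(U ⊓ V)) {χ χ' : IrrCharacter G} {φ φ' : IrrCharacter U}
    {ψ ψ' : IrrCharacter V} (hφ : LiesOver U χ.1 φ.1) (hψ : LiesOver V χ.1 ψ.1)
    (hφ' : LiesOver U χ'.1 φ'.1) (hψ' : LiesOver V χ'.1 ψ'.1) :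
    SameBlock M χ.1 χ'.1 ↔ SameBlock M φ.1 φ'.1 ∧ SameBlock M ψ.1 ψ'.1 := by
  have hf := mulHomOfCommute_surjective hc hs
  rw [← sameBlock_irrComp_iff_of_regular hM hf (isPGroup_ker_mulHomOfCommute hc hZ)
    (fun x _ => mem_centralizer_ker_mulHomOfCommute hc x), ← sameBlock_irrProd_iff hM]
  have h1 : irrComp _ hf χ = irrProd φ ψ :=
    Subtype.ext (funext fun x => irr_mul_eq_of_liesOver hc hs χ φ ψ hφ hψ x.1 x.2)
  have h2 : irrComp _ hf χ' = irrProd φ' ψ' :=
    Subtype.ext (funext fun x => irr_mul_eq_of_liesOver hc hs χ' φ' ψ' hφ' hψ' x.1 x.2)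
  rw [h1, h2]

theorem liesOver_irrOne_irrOne (K : Subgroup G) : LiesOver K (irrOne G).1 (irrOne K).1 := by
  show ip (irrOne K).1 (irrOne K).1 ≠ 0
  rw [ip_irr_self]; exact one_ne_zero

include hM in
theorem mem_principal_iff_of_commute (hc : ∀ u ∈ U, ∀ v ∈ V, u * v = v * u) (hs : U ⊔ V = ⊤)
    (hZ : IsPGroup p ↥(U ⊓ V)) {χ : IrrCharacter G} {φ : IrrCharacter U}
    {ψ : IrrCharacter V} (hφ : LiesOver U χ.1 φ.1) (hψ : LiesOver V χ.1 ψ.1) :
    χ ∈ principalBlock M G ↔ φ ∈ principalBlock M U ∧ ψ ∈ principalBlock M V := by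
  rw [principalBlock_eq, principalBlock_eq, principalBlock_eq, mem_blockOf, mem_blockOf,
    mem_blockOf]
  exact sameBlock_iff_of_commute (χ := irrOne G) (φ := irrOne U) (ψ := irrOne V) hM hc hs hZ
    (liesOver_irrOne_irrOne U) (liesOver_irrOne_irrOne V) hφ hψ

end Central

end BT
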