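import Cfsg.Agent.Lib.Block.OneLin

/-!
# Faithful characters of degree `p - e` for groups with centre of odd order
-/

set_option autoImplicit false
set_option linter.unusedSectionVars false

namespace BT.Lat

open Cfsg CT
open scoped ComplexConjugate

variable {p : ℕ} [hp : Fact p.Prime]
variable {G : Type*} [Group G] [Finite G]

local notation "Zp" => Multiplicative (ZMod p)

variable {ι : Multiplicative (ZMod p) →* G}

local notation "N" => Subgroup.normalizer (MonoidHom.range ι : Set G)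
local notation "C" => Subgroup.centralizer (MonoidHom.range ι : Set G)
local notation "e" => Nat.card (autN ι)

variable {Z : HatNe (Multiplicative (ZMod p)) → IrrCharacter G} (F : Co p ι Z)
include F

theorem _root_.BT.Co.gal {σ : ℂ →+* ℂ} {τ : HatNe Zp → HatNe Zp} (h : ∀ m, (τ m).gal σ = m) :
    Co p ι fun m => irrGal σ (Z (τ m)) :=
  ⟨F.syl, F.lt, F.cen, fun m => by rw [charDegree_irrGal, F.deg], fun m m' g hg => by
    simp only [irrGal_val, gal_apply, F.reg (τ m) (τ m') g hg], fun m u hu => by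
    rw [irrGal_val, gal_apply, F.val _ u hu, map_neg, map_osum, h]⟩

theorem _root_.BT.Co.le_two [Fintype Zp] (hZ : Odd (Nat.card (cenReg p ι))) {t : ℕ}
    (ht : e * t + 1 = p) (h3 : e ≤ t) : e ≤ 2 := by
  have H := F.syl
  have he := H.card_autN_pos
  have hc : p.Coprime (Nat.card (cenReg p ι)) := (hp.out.coprime_iff_not_dvd).2 fun h => by
    obtain ⟨y, hy⟩ := exists_prime_orderOf_dvd_card' p h
    exact (H.mem_cenReg.1 y.2).2 (by rw [Subgroup.orderOf_coe, hy])
  obtain ⟨k, hk1, hk2⟩ := Nat.chineseRemainder hc 1 2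
  obtain ⟨σ, hσ⟩ := exists_ringEquiv_pow (k := k) (mul_ne_zero hp.out.ne_zero Nat.card_pos.ne')
    (Nat.Coprime.mul_right (by rw [Nat.Coprime, hk1.gcd_eq, Nat.gcd_one_left])
      (by rw [Nat.Coprime, hk2.gcd_eq]; exact Nat.coprime_two_left.2 hZ) :
      k.Coprime (p * Nat.card (cenReg p ι)))
  have F' := F.gal (σ := starRingEnd ℂ) (τ := HatNe.inv) fun m => Subtype.ext
    (MonoidHom.ext fun u => Units.ext (by
      refine (monoidHom_apply_inv ((Units.coeHom ℂ).comp m.1⁻¹) u).symm.trans ?_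
      simp))
  have Θ := F.gal (σ := σ) (τ := id) fun m => Subtype.ext
    (MonoidHom.ext fun u => Units.ext (by
      have h1 : (m.1 u : ℂ) ^ p = 1 := by
        rw [← Units.val_pow_eq_pow_val, ← map_pow, (congrArg _ H.card.symm).trans pow_card_eq_one',
          map_one, Units.val_one]
      rw [HatNe.gal_apply, RingHom.coe_coe, hσ _ (by rw [pow_mul, id, h1, one_pow]), id,
        pow_eq_pow_of_modEq hk1 h1, pow_one]))
  obtain ⟨h, s, Γ⟩ := exists_gen H F.cen
  obtain ⟨l⟩ := H.nonempty_hatNe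
  obtain ⟨m, hm⟩ := exists_not_orbit H.card (autN ι) F.lt l.1
  set α := Z l
  set β := irrGal (starRingEnd ℂ) (Z (HatNe.inv m))
  have hF := (irr_isCharacter α).mul (irr_isCharacter β).cbar
  have hf := F.sum_mul_cbar F' hm
  have h4 : ∀ (y : cenReg p ι) (g : G), (α.1 * cbar β.1) (g * y) =
      cw F.cen α y ^ 2 * (α.1 * cbar β.1) g := fun y g => by
    simp only [Pi.mul_apply, cbar_apply, β, irrGal_val, gal_apply, Complex.conj_conj,
      cw_spec F.cen, F.cw_eq (HatNe.inv m) l]
    ring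
  have h5 : ∀ l' (y : cenReg p ι) (g : G), (irrGal σ (Z l')).1 (g * y) =
      cw F.cen α y ^ 2 * (irrGal σ (Z l')).1 g := fun l' y g => by
    have h1 : cw F.cen α y ^ Nat.card (cenReg p ι) = 1 := by
      rw [← map_pow, pow_card_eq_one', map_one]
    rw [irrGal_val, gal_apply, cw_spec F.cen, F.cw_eq l' l, map_mul, RingHom.coe_coe,
      hσ _ (by rw [mul_comm, pow_mul, h1, one_pow]), pow_eq_pow_of_modEq hk2 h1]
    rfl
  have h6 : ∀ y, cw F.cen α y ^ 2 * conj (cw F.cen α y ^ 2) = 1 := fun y => by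
    rw [map_pow, ← mul_pow, hom_mul_conj, one_pow]
  have h7 := (Θ.fam.sum_ge Γ (F.deg l) (F'.deg m) hf fun l' y hy g => by
    rw [Subgroup.mem_center_iff.1 (F.cen hy) g |>.symm, Pi.mul_apply, cbar_apply,
      h4 ⟨y, hy⟩, id, h5 l' ⟨y, hy⟩, map_mul, mul_mul_mul_comm, h6, one_mul]
    rfl).1 rfl
  have hμ := H.isCharacter_fixPart (irr_isCharacter (irrGal σ (Z l)))
  set μ := fixPart ι (irrGal σ (Z l)).1
  have hd : charDegree μ = 1 := Θ.degree_fixPart l
  have h8 : ∀ u, subHom ι Subgroup.le_normalizer u ∈ ker μ := fun u g => fixPart_mul ι _ u g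
  have h1 : μ 1 = 1 := by rw [hμ.apply_one, hd, Nat.cast_one]
  have h9 := Γ.ip_res_mul hF.isClassFunction hf h8 h1 fun y hy g n => by
    have : μ (n * y) = cw F.cen α ⟨y, hy⟩ ^ 2 * μ n := by
      simp only [μ, fixPart, Subgroup.coe_mul, ← mul_assoc, h5 l ⟨y, hy⟩, ← Finset.mul_sum]
      ring
    rw [this, h4 ⟨y, hy⟩, map_mul, mul_mul_mul_comm, h6, one_mul]
  obtain ⟨b, hb⟩ : ∃ b : ℕ, _ = (b : ℂ) := ⟨_, (hF.res N).ip_eq_mult hμ⟩
  have h10 := Θ.fam.mul_sum_le hF hμ (m := 1) (fun l' => by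
    rw [Θ.fam.mult_res_eq Γ h8 l' l, Nat.one_le_iff_ne_zero, ← Nat.pos_iff_ne_zero,
      ((irr_isCharacter _).res _).mult_pos_iff hμ, ← ip_fixPart ι _ h8]
    exact (hμ.isIrr_iff_ip_self.1 (hμ.isIrr_of_degree_one hd)).trans_ne one_ne_zero) hb
  obtain ⟨e', he'⟩ := Nat.exists_eq_succ_of_ne_zero he.ne'
  rw [hb, he', Finset.sum_range_succ'] at h9
  simp only [pow_zero] at h9
  rw [show (⟨1, _⟩ : N) = 1 from rfl, h1, map_one, mul_one, ← add_assoc, add_left_inj,
    ← sub_eq_iff_eq_add'] at h9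
  have h11 := (congrArg norm h9).le.trans ((norm_sum_le _ _).trans (Finset.sum_le_card_nsmul _ _ 1
    fun i hi => by
      have h4 : h ^ (i + 1) ∉ C := fun h => absurd (Nat.le_of_dvd i.succ_pos
        ((Γ.pow_mem _).1 h)) (by simp at hi; omega)
      have h5 := Subgroup.pow_mem _ Γ.mem (i + 1)
      rw [norm_mul, Pi.mul_apply, norm_mul, cbar_apply, Complex.norm_conj, Complex.norm_conj,
        F.norm_apply l h5 h4, F'.norm_apply m h5 h4, hμ.norm_eq_one_of_degree_one hd]
      norm_num))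
  have h12 := (Complex.re_le_norm _).trans h11
  have h13 : b * (e' + 1) + 2 * (e' + 1) ≤ p + e' := by
    simp only [Finset.card_range, nsmul_eq_mul, mul_one] at h12
    norm_cast at h12
    rw [Int.subNatNat_eq_coe, Nat.succ_eq_add_one] at h12
    omega
  have h14 := h7.trans (Nat.add_le_add_right ((one_mul _).ge.trans h10) _)
  by_contra h15
  have h16 := Nat.mul_le_mul_left (p - 1) (show 2 ≤ e - e / 2 by omega)
  have h17 := Nat.mul_le_mul_left e h3
  have h18 : b + 1 ≤ t := by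
    by_contra h18
    have := Nat.mul_le_mul_left e (show t ≤ b by omega)
    rw [he'] at this ht
    nlinarith
  have := Nat.mul_le_mul_left e h18
  rw [sq] at h14
  rw [mul_add] at this
  omega

end BT.Lat
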