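import Cfsg.Agent.Lib.Block.CoP
import Cfsg.Agent.Lib.Lin.Rational
import Cfsg.Agent.Lib.Block.OneOdd

/-!
# No perfect linear group of degree 16 has a Sylow 19-subgroup with automizer of order 3
-/

set_option autoImplicit false
set_option linter.unusedSectionVars false

namespace BT

open Cfsg CT GT LG
open scoped ComplexConjugate

variable {p : ℕ} [hp : Fact p.Prime]
variable {G : Type*} [Group G] [Finite G]
variable {A : Type*} [CommGroup A] [Finite A] {ι : A →* G}

theorem PrimeSyl.flat (H : PrimeSyl p ι) {θ : G → ℂ} (hθ : IsCharacter G θ) {v : A}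
    (h : ∀ u ≠ 1, ∀ y ∈ cenReg p ι, θ (y * ι u) = θ (y * ι v)) :
    IsCharacter (cenReg p ι) (fun y => (p : ℂ)⁻¹ * (θ y - θ (y * ι v))) ∧
      IsCharacter (cenReg p ι) fun y => (p : ℂ)⁻¹ * (θ y + (p - 1) * θ (y * ι v)) := by
  classical
  have := Fintype.ofFinite A
  have h1 := fun m => hθ.isotypic (cenReg p ι).subtype ι m fun y => ⟨Equiv.refl A, fun u =>
    ⟨(Subgroup.mem_centralizer_iff.1 (H.mem_cenReg.1 y.2).1 _ ⟨u, rfl⟩).symm, rfl⟩⟩
  obtain ⟨m⟩ := H.nonempty_hatNe
  constructor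
  · convert h1 m.1 using 3 with y
    · rw [H.card]
    have h2 := sum_apply_mul_conj_hat 1 m.1
    rw [if_neg (Ne.symm m.2), Fintype.sum_eq_add_sum_subtype_ne _ 1] at h2
    rw [Fintype.sum_eq_add_sum_subtype_ne _ 1, Finset.sum_congr rfl
      fun (u : {v : A // v ≠ 1}) _ => by rw [Subgroup.coe_subtype, h u.1 u.2 y y.2],
      ← Finset.sum_mul]
    simp only [MonoidHom.one_apply, Units.val_one, one_mul, units_hom_conj, ← map_inv, inv_one,
      map_one] at h2 ⊢
    rw [eq_neg_of_add_eq_zero_right h2]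
    simp [sub_eq_add_neg]
  · convert h1 1 using 3 with y
    · rw [H.card]
    simp only [MonoidHom.one_apply, Units.val_one, one_mul, Subgroup.coe_subtype]
    rw [H.sum_eq fun u hu => h u hu y y.2, map_one, mul_one]

namespace CoP

variable {Z : HatNe A → IrrCharacter G} {l : HatNe A} (F : CoP (p := p) ι Z l)
include F

theorem factorization_le {q : ℕ} (hq : q.Prime) (h1 : q ≠ p) (h2 : ¬ q ∣ charDegree (Z l).1) :
    (Nat.card G).factorization q ≤
      ∑ i ∈ Finset.range (charDegree (Z l).1 + 1), charDegree (Z l).1 / ((q - 1) * q ^ i) :=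
  schur_bound_pRational hq (irr_isCharacter _) F.faith (F.pRational hq h1 h2)

theorem apply_pow_mul {q : ℕ} (hq : q.Prime) (h1 : q ≠ p) (h2 : ¬ q ∣ charDegree (Z l).1)
    {v y : G} (hv : IsPElt q v) (hy : ¬ q ∣ orderOf y) (hc : Commute y v) {a : ℕ}
    (ha : a.Coprime q) : (Z l).1 (y * v ^ a) = (Z l).1 (y * v) := by
  have := Fact.mk hq
  obtain ⟨k, h3, h4, h5⟩ := exists_coprime_card_modEq hq (Nat.card_pos (α := G)).ne' ha
  obtain ⟨n, hn⟩ := id hv
  rw [← F.pRational hq h1 h2 k h3 h5 (y * v), hc.mul_pow, (pow_eq_pow_iff_modEq (x := v)).2 (h4.of_dvd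
    (hn ▸ pow_dvd_pow q ((hq.pow_dvd_iff_le_factorization Nat.card_pos.ne').1
      (hn ▸ orderOf_dvd_natCard v)))), pow_eq_pow_iff_modEq.2
      (h5.of_dvd (Nat.dvd_ordCompl_of_dvd_not_dvd (orderOf_dvd_natCard y) hy)), pow_one]

theorem orderOf_dvd {g : G} (hg : p ∣ orderOf g) : orderOf g ∣ p * charDegree (Z l).1 := by
  obtain ⟨t, u, -, y, hy, h⟩ := F.syl.exists_conj_eq_mul hg
  rw [← orderOf_conj' g t, h, orderOf_dvd_iff_pow_eq_one,
    Commute.mul_pow (Subgroup.mem_center_iff.1 (F.cen hy) _), pow_mul, ← map_pow, ← F.syl.card,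
    pow_card_eq_one', map_one, one_pow, one_mul, pow_mul', F.pow_degree (F.cen hy), one_pow]

end CoP

theorem Co.le_card_mul {ι : Multiplicative (ZMod p) →* G} {Z : _} (F : Co p ι Z) :
    p - 1 ≤ Nat.card (autN ι) * (bset (Set.range Z)).card := by
  classical
  have := Fintype.ofFinite (autN ι)
  have h1 := card_hatNe (A := Multiplicative (ZMod p))
  rw [F.syl.card] at h1
  rw [← h1, Nat.card_eq_fintype_card, ← Finset.card_univ]
  refine Finset.card_le_mul_card_image_of_maps_to (f := Z) (fun l _ => mem_bset.2 (Set.mem_range_self l)) _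
    fun ψ hψ => ?_
  obtain ⟨l, rfl⟩ := mem_bset.1 hψ
  rw [Nat.card_eq_fintype_card, ← Finset.card_univ]
  refine Finset.card_le_card_of_surjOn (fun σ => σ.1⁻¹ • l) fun m hm => ?_
  obtain ⟨σ, hσ, h⟩ := F.fam.orbit_of_eq (Finset.mem_filter.1 hm).2.symm
  exact ⟨⟨σ, hσ⟩, Finset.mem_univ _, Subtype.ext h⟩

theorem CoP.not_nineteen {ι : Multiplicative (ZMod p) →* G} {Z : _} {l : _}
    (F : CoP (p := p) ι Z l) (h19 : p = 19) (he : Nat.card (autN ι) = 3) : False := by
  classical
  have := Fintype.ofFinite G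
  have hd : charDegree (Z l).1 = 16 := by have := F.deg l; omega
  have hχ := irr_isCharacter (Z l)
  obtain ⟨ψ, a, M, g, B, h1, h2, h3, h4, h5, h6⟩ := F.three he
  subst h19
  have hM : 2 ≤ M := by omega
  have h7 := Nat.mul_le_mul_right (charDegree ψ.1 + 19 - 2) (show 2 ≤ a by omega)
  have h8 := Nat.mul_le_mul_right (charDegree ψ.1) hM
  have h9 := irr_degree_dvd_card ψ
  obtain rfl | rfl | rfl : g = 0 ∨ g = 1 ∨ g = 2 := by omega
  · have := F.syl.le_two_mul_degree (F.syl.le_centralizer_of_faithful hχ F.faith F.small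
      (not_dvd_card_pPrimeCore _ G)) F.res F.nn (irr_isCharacter ψ) (h1 ▸ F.center_ne_top)
    omega
  swap
  · have h10 := F.factorization_le (q := 41) (by norm_num) (by norm_num) (by rw [hd]; norm_num)
    rw [hd, show ∑ i ∈ Finset.range (16 + 1), 16 / ((41 - 1) * 41 ^ i) = 0 by decide] at h10
    have := (Nat.Prime.pow_dvd_iff_le_factorization (k := 1) (by norm_num : Nat.Prime 41)
      (Nat.card_pos (α := G)).ne').1 (by simpa [h2] using h9)
    omega
  have h11 : Fact (Nat.Prime 11) := ⟨by norm_num⟩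
  have h10 := F.factorization_le h11.out (by norm_num) (by rw [hd]; norm_num)
  rw [hd, show ∑ i ∈ Finset.range (16 + 1), 16 / ((11 - 1) * 11 ^ i) = 1 by decide] at h10
  obtain ⟨P⟩ : Nonempty (Sylow 11 G) := inferInstance
  obtain ⟨κ, K, -⟩ := exists_primeSyl_zmod P (by
    have := (h11.out.pow_dvd_iff_le_factorization (k := 1) (Nat.card_pos (α := G)).ne').1
      (Dvd.dvd.trans (by simp [h2]) h9)
    rw [P.card_eq_multiplicity, show (Nat.card G).factorization 11 = 1 by omega, pow_one])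
  have := Fintype.ofFinite (cenReg 11 κ)
  obtain ⟨v, hv⟩ := @exists_ne _ K.nontrivial 1
  have hc : ∀ u ≠ 1, ∀ y ∈ cenReg 11 κ, (Z l).1 (y * κ u) = (Z l).1 (y * κ v) := fun u hu y hy => by
    obtain ⟨n, rfl⟩ := (Submonoid.mem_powers_iff _ _).1 (mem_powers_iff_mem_zpowers.2
      (mem_zpowers_of_prime_card K.card hv (g' := u)))
    rw [map_pow]
    refine F.apply_pow_mul h11.out (by norm_num) (by rw [hd]; norm_num) (K.isPElt v)
      (K.mem_cenReg.1 hy).2 (Subgroup.mem_centralizer_iff.1 (K.mem_cenReg.1 hy).1 _ ⟨v, rfl⟩).symm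
      (h11.out.coprime_iff_not_dvd.2 fun h => hu ?_).symm
    rwa [← orderOf_dvd_iff_pow_eq_one, K.orderOf_eq hv]
  obtain ⟨hβ, hα⟩ := K.flat hχ hc
  set β : cenReg 11 κ → ℂ := fun y => ((11 : ℕ) : ℂ)⁻¹ * ((Z l).1 y - (Z l).1 (y * κ v)) with hβd
  let θ : cenReg 11 κ → ℂ := fun y => (Z l).1 (y * κ v)
  have hθ : IsGeneralizedCharacter _ θ := by
    convert hα.isGen.sub hβ.isGen using 1
    ext y
    simp only [θ, hβd, Pi.sub_apply]
    push_cast
    ring
  have h12 := hβ.apply_one
  have h13 := hα.apply_one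
  simp only [hβd, OneMemClass.coe_one, one_mul, irr_apply_one, hd] at h12 h13
  have h14 : charDegree β = 1 := by
    set b := charDegree β
    set a := charDegree fun y : cenReg 11 κ =>
      ((11 : ℕ) : ℂ)⁻¹ * ((Z l).1 y + ((11 : ℕ) - 1) * (Z l).1 (y * κ v))
    have h14 : a + 10 * b = 16 := by
      exact_mod_cast (by push_cast at h12 h13; linear_combination -h13 - 10 * h12 :
        (a + 10 * b : ℂ) = 16)
    have : b ≠ 0 := fun h => by
      have : κ v ∈ ker (Z l).1 := by
        rw [irr_mem_ker_iff, irr_apply_one, hd]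
        rw [h] at h12
        push_cast at h12 ⊢
        linear_combination -11 * h12
      exact hv (K.inj (by rwa [F.faith, Subgroup.mem_bot, ← map_one κ] at this))
    omega
  have h15 : θ 1 = 5 := by
    rw [h14] at h12
    simp only [θ, OneMemClass.coe_one, one_mul]
    push_cast at h12
    linear_combination -11 * h12
  -- Bessel
  let E : G → ℂ := fun g => if 11 ∣ orderOf g then (Z l).1 g else 0
  have hE : IsClassFunction G E := fun g k =>
    if_congr (by rw [orderOf_conj']) (hχ.isClassFunction _ _) rfl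
  have h16 : ∀ m, ip E (Z m).1 = ip E E := fun m => by
    rw [ip_def, ip_def]
    refine congrArg _ (Finset.sum_congr rfl fun g _ => ?_)
    by_cases h : 11 ∣ orderOf g
    · rw [F.reg m l g fun h' => absurd (h.trans (F.orderOf_dvd h')) (by rw [hd]; norm_num)]
      simp [E, h]
    · simp [E, h]
  obtain ⟨n, hn⟩ := hθ.exists_int_ip hθ
  have h17 : (Nat.card (autN κ) * 11 : ℂ) * ip E E = 10 * n := by
    have h17 := K.sum_singular (F := fun g => (Z l).1 g * conj ((Z l).1 g))
      (hχ.isClassFunction.mul hχ.isClassFunction.cbar)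
    rw [Finset.sum_congr rfl (g := fun _ => ∑ y, θ y * conj (θ y)) fun u hu =>
      Finset.sum_congr rfl fun y _ => by
        rw [hχ.isClassFunction.mul_comm, hc u (by simpa using hu) y y.2], Finset.sum_const,
      Finset.filter_ne', Finset.card_erase_of_mem (Finset.mem_univ _), Finset.card_univ,
      ← Nat.card_eq_fintype_card, K.card, Finset.sum_filter] at h17
    have h18 := card_centralizer_mul_relIndex_mul_index κ.range
    rw [K.card_centralizer, ← card_autN K.inj] at h18
    rw [← hn, ip_def, ip_def, Finset.sum_congr rfl (g := fun g => if 11 ∣ orderOf g then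
      (Z l).1 g * conj ((Z l).1 g) else 0) fun g _ => by simp only [E]; split_ifs <;> simp, h17,
      ← h18]
    have := card_cast_ne_zero (G := autN κ)
    have := card_cast_ne_zero (G := cenReg 11 κ)
    have : ((Subgroup.normalizer (κ.range : Set G)).index : ℂ) ≠ 0 :=
      Nat.cast_ne_zero.2 Subgroup.index_ne_zero_of_finite
    push_cast
    field_simp
    simp
  have h18 := sum_norm_ip_sq_le hE (bset (Set.range Z))
  rw [Finset.sum_congr rfl (g := fun _ => ‖ip E E‖ ^ 2) fun ψ hψ => by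
    obtain ⟨m, rfl⟩ := mem_bset.1 hψ; rw [h16], Finset.sum_const, nsmul_eq_mul] at h18
  have h19 : (6 : ℝ) ≤ (bset (Set.range Z)).card := by
    have := F.le_card_mul
    rw [he] at this
    exact_mod_cast (by omega : 6 ≤ (bset (Set.range Z)).card)
  have h20 : (Nat.card (autN κ) : ℝ) ≤ 10 := by
    exact_mod_cast Nat.le_of_dvd (by norm_num) K.card_autN_dvd
  have h21 : 0 < n := by
    have h21 : n ≠ 0 := by
      rintro rfl
      rw [Int.cast_zero, ip_self_eq_zero] at hn
      simp [hn] at h15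
    rw [ip_self_eq, ← Complex.ofReal_intCast, Complex.ofReal_inj] at hn
    have : (0 : ℝ) ≤ n := by rw [← hn]; positivity
    exact lt_of_le_of_ne (by exact_mod_cast this) h21.symm
  obtain rfl : n = 1 := by
    rw [ip_self_eq] at h17 h18
    set N := (Nat.card G : ℝ)⁻¹ * ∑ g, ‖E g‖ ^ 2
    have hN : 0 ≤ N := by positivity
    rw [Complex.norm_real, Real.norm_of_nonneg hN, Complex.ofReal_re] at h18
    have h22 : (Nat.card (autN κ) * 11 : ℝ) * N = 10 * n := by exact_mod_cast h17
    have h23 : (1 : ℝ) ≤ n := by exact_mod_cast h21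
    have h24 : 0 < N := by nlinarith
    have h25 : 6 * N ≤ 1 := by nlinarith
    have : (n : ℝ) < 2 := by nlinarith
    have : n < 2 := by exact_mod_cast this
    omega
  obtain ⟨φ, h22⟩ : ∃ φ : IrrCharacter _, θ = φ.1 := by
    obtain ⟨φ, h | h⟩ := hθ.eq_irr_or_neg_of_ip_self (by simpa using hn)
    · exact ⟨φ, h⟩
    rw [h, Pi.neg_apply, irr_apply_one, neg_eq_iff_add_eq_zero] at h15
    exact absurd (by exact_mod_cast h15 : charDegree φ.1 + 5 = 0) (by omega)
  have h23 : charDegree φ.1 = 5 := charDegree_eq_of_apply_one (h22 ▸ h15)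
  let τ : IrrCharacter _ := ⟨φ.1 * cbar β, φ.2.mul_linear hβ.cbar (charDegree_eq_of_apply_one (by simp [hβ.apply_one, h14]))⟩
  have h24 : charDegree τ.1 = 5 := charDegree_eq_of_apply_one (by
    simp [τ, hβ.apply_one, h14, irr_apply_one, h23])
  have h0 : ∀ u ≠ 1, ∀ y ∈ cenReg 11 κ, ψ.1 (y * κ u) = 0 := fun u hu y hy =>
    K.apply_eq_zero (by simp [h2]) (K.dvd_orderOf_mul hu (K.mem_cenReg.1 hy).1 (K.mem_cenReg.1 hy).2)
  have h25 := (K.flat (irr_isCharacter ψ) fun u hu y hy => by rw [h0 u hu y hy, h0 v hv y hy]).1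
  have h26 := (K.flat ((hχ.mul hχ.cbar).sub_irr ψ (h6 (by omega))) (v := v) fun u hu y hy => by
    simp only [Pi.sub_apply, Pi.mul_apply, cbar_apply, h0 u hu y hy, h0 v hv y hy, hc u hu y hy]).1
  simp only [Pi.sub_apply, fun y : cenReg 11 κ => h0 v hv y y.2, sub_zero] at h25 h26
  set η : cenReg 11 κ → ℂ := fun y => ((11 : ℕ) : ℂ)⁻¹ * ψ.1 y with hη
  have h27 : charDegree η = 2 := charDegree_eq_of_apply_one (by
    simp only [hη, OneMemClass.coe_one, irr_apply_one, h2]; norm_num)
  obtain ⟨ξ, h28, h29⟩ : ∃ ξ : IrrCharacter _, ip η ξ.1 ≠ 0 ∧ ξ ≠ irrOne _ := by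
    by_contra! h
    have := irr_degree_eq_one_of_comm (fun a b => Subtype.ext ((Subgroup.mem_center_iff (z := (b : G))).1
      (h1 ▸ (irr_mem_ker_iff ψ).2 (mul_left_cancel₀ (by norm_num) (h25.mem_ker_iff.1
        ((h25.mem_ker_iff_forall_irr (g := b)).2 fun ξ hξ => by
          rw [h ξ hξ, irr_mem_ker_iff, irrOne_apply, irrOne_apply])))) a)) φ
    omega
  have h30 := h25.degree_le_of_ip_ne_zero ξ h28
  obtain ⟨k, hk⟩ := h25.exists_nat_ip (irr_isCharacter ξ)
  obtain ⟨k', hk'⟩ := h26.exists_nat_ip (irr_isCharacter ξ)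
  have h31 : ip (τ.1 + (irrBar τ).1 + (11 : ℂ) • (irrOne _).1) ξ.1 = (k' + k : ℕ) := by
    rw [Nat.cast_add, ← hk, ← hk', ← ip_add_left]
    congr 1
    ext y
    have h31 := congrFun (hβ.cbar_mul_self_of_degree_one h14) y
    have h32 : (Z l).1 y = φ.1 y + 11 * β y := by
      simp only [← h22, θ, hβd]; push_cast; ring
    simp only [Pi.add_apply, Pi.mul_apply, cbar_apply, Pi.smul_apply, irrOne_apply, irrBar_val, τ,
      hη, h32, show (Z l).1 (y * κ v) = φ.1 y from congrFun h22 y, map_add, map_mul, map_ofNat,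
      Complex.conj_conj, Pi.one_apply, smul_eq_mul] at h31 ⊢
    push_cast
    linear_combination -11 * h31
  rw [ip_add_left, ip_add_left, ip_smul_left, ip_irr_ne h29.symm, ip_irr_ne fun h => by
    rw [← h] at h30; omega, ip_irr_ne fun h => by
    rw [← h, show charDegree (irrBar τ).1 = 5 from charDegree_eq_of_apply_one
      (by rw [irrBar_val, cbar_apply, irr_apply_one, h24, map_natCast])] at h30; omega] at h31
  have : k' + k = 0 := by exact_mod_cast (by simpa using h31.symm : ((k' + k : ℕ) : ℂ) = 0)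
  exact h28 (by rw [hk, show k = 0 by omega, Nat.cast_zero])

theorem CoP.cases {ι : Multiplicative (ZMod p) →* G} {Z : _} {l : _} (F : CoP (p := p) ι Z l)
    (h7 : 7 < p) (hd : charDegree (Z l).1 < 27) : (2 * charDegree (Z l).1 = p + 1 ∧ Nonempty
      (G ⧸ Subgroup.center G ≃* Matrix.ProjectiveSpecialLinearGroup (Fin 2) (ZMod p))) ∨
    charDegree (Z l).1 + 2 = p := by
  obtain ⟨t, ht⟩ := F.syl.card_autN_dvd
  have h1 := F.deg l
  have h2 := F.small
  have h3 := F.syl.two_mul_card_autN_le F.lt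
  rcases F.syl.lin_cases h7 F.nn _ F.faith h2 (t := t) (by omega) with ⟨h, h4, -⟩ | ⟨h, -⟩
  · exact Or.inl ⟨by omega, h⟩
  have h4 := Nat.mul_le_mul_left (Nat.card (autN ι)) h
  have h5 : Nat.card (autN ι) ≤ 4 := by
    have : Nat.card (autN ι) * (Nat.card (autN ι) + 3) ≤ Nat.card (autN ι) + 25 := by omega
    nlinarith
  obtain h6 | h6 | h6 : Nat.card (autN ι) = 2 ∨ Nat.card (autN ι) = 3 ∨ Nat.card (autN ι) = 4 := by
    omega
  · exact Or.inr (by omega)
  · refine (F.not_nineteen ?_ h6).elim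
    have := hp.out
    rw [h6] at ht h
    obtain h | h | h | h : p = 19 ∨ p = 22 ∨ p = 25 ∨ p = 28 := by omega
    · exact h
    all_goals rw [h] at this; norm_num at this
  · have := F.le_two (t := t) (F.cenReg_eq ▸ Nat.not_even_iff_odd.1 fun h => by
      have := F.dvd_degree (even_iff_two_dvd.1 h)
      rw [h6] at ht
      omega) (by omega) (by omega)
    omega

end BT
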