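import Cfsg.Agent.Lib.Block.PBOne
import Cfsg.Agent.Lib.Char.ModRep
import Cfsg.Agent.Lib.Lin.Eig

/-!
# Realizing the reduction of a character over a small finite field
-/

set_option autoImplicit false
set_option linter.unusedSectionVars false

namespace BT

open Cfsg CT GT LG Module

universe u
variable {G : Type u} [Group G] [Finite G]

theorem finrank_span_le_of_det {K X Y : Type*} [Field K] [Finite X] (M : Y → X → K) {d : ℕ}
    (h : ∀ (a : Fin (d + 1) → X) (b : Fin (d + 1) → Y),
      (Matrix.of fun i j => M (b j) (a i)).det = 0) :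
    finrank K (Submodule.span K (Set.range M)) ≤ d := by
  classical
  have := Fintype.ofFinite X
  by_contra! h1
  obtain ⟨f, h2, -, h3⟩ := Submodule.exists_fun_fin_finrank_span_eq K (Set.range M)
  choose b hb using h2
  let N : Matrix X (Fin (d + 1)) K := Matrix.of fun x j => M (b (j.castLE h1)) x
  have h4 : finrank K (Submodule.span K (Set.range N.row)) = d + 1 := by
    rw [← Matrix.rank_eq_finrank_span_row, ← Matrix.rank_transpose, LinearIndependent.rank_matrix,
      Fintype.card_fin]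
    exact (funext fun j => (hb _).symm : f ∘ Fin.castLE h1 = N.transpose.row) ▸
      h3.comp _ (Fin.castLE_injective h1)
  obtain ⟨g, h5, -, h6⟩ := Submodule.exists_fun_fin_finrank_span_eq K (Set.range N.row)
  choose a ha using h5
  refine ((Matrix.isUnit_iff_isUnit_det _).1 (Matrix.linearIndependent_rows_iff_isUnit.1 ?_)).ne_zero
    (h (fun i => a (i.cast h4.symm)) fun j => b (j.castLE h1))
  have := h6.comp _ (Fin.cast_injective h4.symm)
  rwa [show g ∘ Fin.cast h4.symm = fun i => N.row (a (i.cast h4.symm)) from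
    funext fun i => (ha _).symm] at this

theorem exists_coeff {A : Type*} [Group A] [Fintype A] {χ : G → ℂ} (hχ : IsCharacter G χ)
    (ι : A →* G) (h : ∑ u, χ (ι u) = Nat.card A) : ∃ (n : ℕ) (ρ : Representation ℂ G (Fin n → ℂ))
      (v : Fin n → ℂ) (f : Dual ℂ (Fin n → ℂ)), charDegree χ = n ∧
      (∀ g, ∑ u, χ (g * ι u) = f (ρ g v)) ∧
      ∀ t ∈ Subgroup.normalizer (ι.range : Set G), ∃ c : ℂ, ρ t v = c • v := by
  obtain ⟨n, ρ, rfl⟩ := hχ
  have h0 : (Fintype.card A : ℂ) ≠ 0 := Nat.cast_ne_zero.2 Fintype.card_ne_zero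
  have := invertibleOfNonzero h0
  let σ : Representation ℂ A (Fin n → ℂ) := ρ.comp ι
  have h1 : ∑ u, ρ (ι u) = (Fintype.card A : ℂ) • σ.averageMap := by
    simp [GroupAlgebra.average, smul_smul, h0, σ]
  have h2 : finrank ℂ σ.invariants = 1 := by
    have := congrArg (LinearMap.trace ℂ _) h1
    rw [map_smul, σ.isProj_averageMap.trace, map_sum, smul_eq_mul] at this
    exact_mod_cast mul_left_cancel₀ h0 (c := 1) (this.symm.trans (h.trans (by simp)))
  let b := Module.basisUnique Unit h2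
  have h3 : ∀ w : σ.invariants, (w : Fin n → ℂ) = b.coord () w • (b () : Fin n → ℂ) := fun w => by
    simpa using congrArg Subtype.val (b.sum_repr w).symm
  refine ⟨n, ρ, b (), (Fintype.card A : ℂ) • b.coord () ∘ₗ σ.isProj_averageMap.codRestrict,
    by simp [charDegree_rep], fun g => ?_, fun t ht => ⟨_, h3 ⟨_, fun u => ?_⟩⟩⟩
  · rw [← LinearMap.trace_smulRight]
    simp only [Representation.character, map_mul]
    rw [← map_sum, ← Finset.mul_sum, h1]
    congr 1
    refine LinearMap.ext fun x => ?_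
    have := h3 (σ.isProj_averageMap.codRestrict x)
    rw [LinearMap.IsProj.codRestrict_apply] at this
    simp only [Module.End.mul_apply, LinearMap.smul_apply, LinearMap.smulRight_apply, map_smul]
    rw [this, map_smul, smul_smul]
    rfl
  · obtain ⟨w, hw⟩ := inv_conj_mem_of_mem_normalizer ht (⟨u, rfl⟩ : ι u ∈ ι.range)
    have : ρ (ι w) (b ()) = b () := (b ()).2 w
    change ρ (ι u) _ = _
    conv_rhs => rw [← this, hw]
    simp [← Module.End.mul_apply, ← map_mul, mul_assoc]

theorem red_pow_eq {M : Ideal AlgInt} {q : ℕ} [hq : Fact q.Prime] (hM : IsPModular q M)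
    {χ : G → ℂ} (hχ : IsCharacter G χ) {n k : ℕ} (hk : k ≡ q ^ n [MOD ordCompl[q] (Nat.card G)])
    (g : G) : red hM (χ g) ^ q ^ n = red hM (χ (g ^ k)) := by
  obtain ⟨ε, h1, h2, -⟩ := hχ.exists_eigenvalues g
  have h3 : ∀ i, ε i ∈ locRing hM := fun i =>
    mem_locRing_of_isIntegral hM (CT.isIntegral_of_pow_eq_one (orderOf_pos g).ne' (h1 i))
  have h4 := h2 1
  simp only [pow_one] at h4
  rw [h2, h4, red_sum hM _ _ fun i _ => h3 i, red_sum hM _ _ fun i _ => pow_mem (h3 i) _, sum_pow_char_pow]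
  refine Finset.sum_congr rfl fun i _ => ?_
  rw [red_pow hM (h3 i)]
  refine (pow_eq_pow_of_modEq hk ?_).symm
  refine sub_eq_zero.1 (eq_zero_of_pow_eq_zero (n := q ^ (Nat.card G).factorization q) ?_)
  rw [sub_pow_char_pow, ← pow_mul, mul_comm, Nat.ordProj_mul_ordCompl_eq_self, one_pow,
    ← red_pow hM (h3 i), pow_eq_one_of_pow_orderOf (h1 i) pow_card_eq_one', red_one, sub_self]

/-- Descent data: a representation over a small finite field. -/
structure Desc {A : Type*} [Group A] (ι : A →* G) (χ : G → ℂ) {K W : Type*} [Field K]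
    [AddCommGroup W] [Module K W] (ρ : G →* W ≃ₗ[K] W) (w : W) : Prop where
  ne : w ≠ 0
  fix : ∀ u, ρ (ι u) w = w
  line : ∀ t ∈ Subgroup.normalizer (ι.range : Set G), ∃ c : K, ρ t w = c • w
  cen : ∀ z ∈ center χ, ∃ c : K, ∀ x, ρ z x = c • x
  sum : ∀ (R : Subgroup G) [Fintype R], ∑ r : R, χ r = 0 → ∀ x, ∑ r : R, ρ r x = 0
  rank : finrank K W ≤ charDegree χ

theorem exists_desc {A : Type*} [Group A] [Fintype A] {χ : G → ℂ} (hχ : IsCharacter G χ)
    (ι : A →* G) (h : ∑ u, χ (ι u) = Nat.card A) {q n k : ℕ} [hq : Fact q.Prime] (hn : n ≠ 0)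
    (hA : ¬ q ∣ Nat.card A) (hk : k ≡ q ^ n [MOD ordCompl[q] (Nat.card G)])
    (hg : ∀ g, χ (g ^ k) = χ g) : ∃ (K : Type) (_ : Field K) (_ : Finite K) (_ : CharP K q)
      (W : Type u) (_ : AddCommGroup W) (_ : Module K W) (_ : Finite W) (ρ : G →* W ≃ₗ[K] W) (w : W),
      Nat.card K ≤ q ^ n ∧ Desc ι χ ρ w := by
  classical
  obtain ⟨M, hM⟩ := exists_isPModular hq.out
  let K := (iterateFrobenius (ResF hM) q n).eqLocusField (RingHom.id _)
  have hm : ∀ x, x ∈ K ↔ x ^ q ^ n = x := fun _ => Iff.rfl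
  have hK : (K : Set (ResF hM)) ⊆ (Polynomial.X ^ q ^ n - Polynomial.X : Polynomial (ResF hM)).roots.toFinset :=
    fun x hx => by
      rw [Finset.mem_coe, Multiset.mem_toFinset, Polynomial.mem_roots
        (FiniteField.X_pow_card_pow_sub_X_ne_zero _ hn hq.out.one_lt)]
      simpa [sub_eq_zero] using (hm x).1 hx
  have hfin : Finite K := (Finset.finite_toSet _).subset hK
  have hl := character_mem_locRing (hM := hM) hχ
  have hs : ∀ g, ∑ u, χ (g * ι u) ∈ locRing hM := fun g => sum_mem fun u _ => hl _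
  let φ : G → K := fun g => ⟨red hM (∑ u, χ (g * ι u)), by
    rw [hm, red_sum hM _ _ fun u _ => hl _, sum_pow_char_pow]
    simp only [red_pow_eq hM hχ hk, hg]⟩
  obtain ⟨d, σ, v, f, h1, h2, h3⟩ := exists_coeff hχ ι h
  have hφ : ∀ g, (φ g : ResF hM) = red hM (f (σ g v)) := fun g => congrArg (red hM) (h2 g)
  have hs' : ∀ g, f (σ g v) ∈ locRing hM := fun g => h2 g ▸ hs g
  have h4 : φ 1 ≠ 0 := fun h' => hA (by
    have := congrArg Subtype.val h'
    simp only [φ, one_mul, h, red_natCast] at this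
    exact (CharP.cast_eq_zero_iff _ q _).1 this)
  let W := Submodule.span K (Set.range fun h g => φ (g * h))
  let τ : G → (G → K) →ₗ[K] (G → K) := fun x => LinearMap.funLeft K K (· * x)
  have hτ : ∀ x, ∀ w ∈ W, τ x w ∈ W := fun x => (Submodule.span_le (p := W.comap (τ x))).2 (by
    rintro _ ⟨y, rfl⟩
    exact Submodule.subset_span ⟨x * y, by ext g; simp [τ, mul_assoc]⟩)
  let ρ₀ : G →* Module.End K W :=
    { toFun x := (τ x).restrict (hτ x)
      map_one' := by ext; simp [τ]
      map_mul' x y := by ext; simp [τ, mul_assoc] }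
  let ρ := (LinearMap.GeneralLinearGroup.generalLinearEquiv K W).toMonoidHom.comp ρ₀.toHomUnits
  have hρ : ∀ x (w : W) g, (ρ x w : G → K) g = w.1 (g * x) := fun _ _ _ => rfl
  have key : ∀ (L : (G → K) →ₗ[K] (G → K)), (∀ y, L (fun g => φ (g * y)) = 0) → ∀ w : W, L w = 0 :=
    fun L hL w => (Submodule.span_le (p := LinearMap.ker L)).2 (by
      rintro _ ⟨y, rfl⟩; exact hL y) w.2
  have hc : ∀ (t : G) (c : ℂ) (x : G), f (σ x v) = c * f (σ 1 v) → ∀ y y', f (σ y' v) = c * f (σ y v) →
      φ y' = φ x / φ 1 * φ y := fun t c x hx y y' hy => by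
    rw [div_mul_eq_mul_div, eq_div_iff h4]
    refine Subtype.ext ?_
    simp only [Subfield.coe_mul, hφ]
    rw [← red_mul hM (hs' _) (hs' _), ← red_mul hM (hs' _) (hs' _), hx, hy]
    congr 1
    ring
  refine ⟨K, inferInstance, hfin, inferInstance, W, inferInstance, inferInstance, inferInstance, ρ,
    ⟨φ, Submodule.subset_span ⟨1, by simp⟩⟩, ?_, fun h => h4 (congrFun (congrArg Subtype.val h) 1),
    fun u => Subtype.ext (funext fun g => Subtype.ext (congrArg (red hM) ?_)),
    fun t ht => ?_, fun z hz => ?_, fun R _ hR x => ?_, ?_⟩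
  · refine (Nat.card_coe_set_eq _ ▸ Set.ncard_le_ncard hK).trans ?_
    rw [Set.ncard_coe_finset]
    exact (Multiset.toFinset_card_le _).trans ((Polynomial.card_roots' _).trans
      (FiniteField.X_pow_card_pow_sub_X_natDegree_eq _ hn hq.out.one_lt).le)
  · simp only [mul_assoc, ← map_mul]
    exact Equiv.sum_comp (Equiv.mulLeft u) fun a => χ (g * ι a)
  · obtain ⟨c, h5⟩ := h3 t ht
    exact ⟨φ t / φ 1, Subtype.ext (funext fun g => hc t c t (by simp [h5]) g _ (by simp [h5]))⟩
  · obtain ⟨c, -, h5, -⟩ := exists_scalar hχ hz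
    have h6 : ∀ g y, f (σ (g * z * y) v) = c * f (σ (g * y) v) := fun g y => by
      rw [← h2, ← h2, Finset.mul_sum]
      refine Finset.sum_congr rfl fun u _ => ?_
      rw [mul_assoc, mul_assoc, hχ.isClassFunction.mul_comm, mul_assoc, ← pow_one z, h5, pow_one,
        hχ.isClassFunction.mul_comm, mul_assoc]
    refine ⟨φ z / φ 1, fun x => Subtype.ext (sub_eq_zero.1 (key (τ z - (φ z / φ 1) • LinearMap.id)
      (fun y => sub_eq_zero.2 (funext fun g => hc z c z ?_ _ _ (h6 g y))) x))⟩
    simpa using h6 1 1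
  · refine Subtype.ext ?_
    rw [Submodule.coe_sum]
    refine (LinearMap.sum_apply _ (fun r : R => τ r) x.1).symm.trans (key _ (fun y => ?_) x)
    ext g
    simp only [LinearMap.sum_apply, Finset.sum_apply, τ, LinearMap.funLeft_apply,
      AddSubmonoidClass.coe_finsetSum, φ, Pi.zero_apply, ZeroMemClass.coe_zero]
    rw [← red_sum hM _ _ fun r _ => hs _, Finset.sum_comm, Finset.sum_eq_zero fun u _ => ?_, red_zero]
    simpa [mul_assoc, hχ.isClassFunction.mul_comm g] using
      hχ.sum_coset_eq_zero R.subtype hR (y * ι u * g)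
  · refine h1 ▸ finrank_span_le_of_det _ fun a b => Subtype.ext ?_
    let N : Matrix (Fin (d + 1)) (Fin (d + 1)) (locRing hM) :=
      Matrix.of fun i j => ⟨_, hs' (a i * b j)⟩
    have h5 : N.det = 0 := Subtype.ext (by
      have := (locRing hM).subtype.map_det N
      rw [Subring.coe_subtype] at this
      rw [this, ZeroMemClass.coe_zero, ← Matrix.exists_mulVec_eq_zero_iff]
      obtain ⟨c, h5, i, h6⟩ := Fintype.not_linearIndependent_iff.1
        (mt (LinearIndependent.fintype_card_le_finrank (R := ℂ) (b := fun j => σ (b j) v)) (by simp))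
      refine ⟨c, fun h => h6 (congrFun h i), funext fun j => ?_⟩
      simpa [N, Matrix.mulVec, dotProduct, mul_comm] using congrArg (fun x => f (σ (a j) x)) h5)
    have h6 := (redHom hM).map_det N
    rw [h5, map_zero] at h6
    refine (K.subtype.map_det _).trans (Eq.trans ?_ h6.symm)
    congr 1
    ext i j
    simp [N, hφ]

end BT
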