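import Cfsg.Agent.Lib.Block.OneAux
import Cfsg.Agent.Lib.Char.Mackey
import Cfsg.Agent.Lib.Lin.Rational
import Cfsg.Agent.Lib.Grp.Zass3

/-!
# Groups with `C(P) = P`, `|N(P)| = 2p` and a character of degree `p - 1`
-/

set_option autoImplicit false
set_option linter.unusedSectionVars false

namespace GT

open Subgroup

variable {G : Type*} [Group G] [Finite G]

section
variable (h : ∀ j g : G, orderOf j = 2 → Commute j g → g * g = 1)
include h

theorem mul_self_eq_one_of_isPElt_two {t : G} (ht : IsPElt 2 t) : t * t = 1 := by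
  by_cases h1 : t = 1
  · simp [h1]
  exact h (t ^ (orderOf t / 2)) t (orderOf_pow_orderOf_div (orderOf_pos t).ne' (ht.dvd_orderOf h1))
    ((Commute.refl t).pow_left _)

theorem centralizer_eq_sylow_of_mem (T : Sylow 2 G) {j : G} (hj : j ∈ (T : Subgroup G))
    (h1 : j ≠ 1) : centralizer ({j} : Set G) = T := by
  have h2 : ∀ t ∈ (T : Subgroup G), t⁻¹ = t := fun t ht => inv_eq_of_mul_eq_one_right
    (mul_self_eq_one_of_isPElt_two h (isPElt_of_mem_sylow T ht))
  refine T.is_maximal' (isPGroup_iff_forall_isPElt.2 fun g hg => isPElt_of_pow_eq_one (k := 1) ?_)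
    fun t ht => mem_centralizer_singleton_iff.2 ?_
  · rw [pow_one, sq]
    exact h j g (orderOf_eq_prime (by rw [sq]; nth_rw 1 [← h2 j hj]; simp) h1)
      (mem_centralizer_singleton_iff.1 hg).symm
  · rw [← h2 _ (mul_mem ht hj), mul_inv_rev, h2 t ht, h2 j hj]

theorem card_invol_eq_card_sylow_mul (T : Sylow 2 G) :
    Nat.card {j : G // orderOf j = 2} = Nat.card (Sylow 2 G) * (Nat.card T - 1) := by
  classical
  have := Fintype.ofFinite G
  have := Fintype.ofFinite (Sylow 2 G)
  choose f hf using fun j : {j : G // orderOf j = 2} =>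
    IsPElt.exists_mem_sylow (p := 2) (g := j.1) ⟨1, j.2⟩
  rw [Nat.card_eq_fintype_card, ← Finset.card_univ, Finset.card_eq_sum_card_fiberwise
    (f := f) (t := Finset.univ) (fun _ _ => Finset.mem_coe.2 (Finset.mem_univ _)),
    Nat.card_eq_fintype_card, ← Finset.card_univ, ← smul_eq_mul, ← Finset.sum_const]
  refine Finset.sum_congr rfl fun S _ => ?_
  rw [T.card_eq_multiplicity, ← S.card_eq_multiplicity, Nat.card_eq_fintype_card,
    ← Finset.card_univ, ← Finset.card_erase_of_mem (Finset.mem_univ 1)]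
  refine Finset.card_bij (fun j hj => ⟨j.1, (Finset.mem_filter.1 hj).2 ▸ hf j⟩) (fun j _ => ?_)
    (fun j _ j' _ h => Subtype.ext (Subtype.mk.inj h)) fun s hs => ?_
  · refine Finset.mem_erase.2 ⟨fun h => ?_, Finset.mem_univ _⟩
    have := j.2
    rw [show j.1 = 1 from congrArg Subtype.val h, orderOf_one] at this
    omega
  · have h1 : s.1 ≠ 1 := fun h => Finset.ne_of_mem_erase hs (Subtype.ext h)
    have h2 : orderOf s.1 = 2 := orderOf_eq_prime (by
      rw [sq]; exact mul_self_eq_one_of_isPElt_two h (isPElt_of_mem_sylow S s.2)) h1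
    refine ⟨⟨s.1, h2⟩, Finset.mem_filter.2 ⟨Finset.mem_univ _, Sylow.ext ?_⟩, rfl⟩
    rw [← centralizer_eq_sylow_of_mem h _ (hf ⟨s.1, h2⟩) h1, centralizer_eq_sylow_of_mem h S s.2 h1]

end

/-- A group acting freely on ordered triples, of the right order, is `3`-transitive. -/
theorem isMultiplyPretransitive_of_free {Ω : Type*} [MulAction G Ω] [Finite Ω] {n : ℕ}
    (h : ∀ (g : G) (x : Fin n ↪ Ω), (∀ i, g • x i = x i) → g = 1)
    (hc : Nat.card G = (Nat.card Ω).descFactorial n) : MulAction.IsMultiplyPretransitive G Ω n := by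
  classical
  have := Fintype.ofFinite Ω
  refine ⟨fun x y => ?_⟩
  exact ((Nat.bijective_iff_injective_and_card (fun g : G => g • x)).2 ⟨fun g g' hg => by
    rw [← inv_mul_eq_one]
    refine h _ x fun i => ?_
    rw [mul_smul, inv_smul_eq_iff]
    exact (DFunLike.congr_fun hg i).symm, by
      rw [hc, Nat.card_eq_fintype_card, Nat.card_eq_fintype_card, Fintype.card_embedding_eq,
        Fintype.card_fin]⟩).2 y

end GT

namespace BT

open Cfsg CT GT
open scoped ComplexConjugate Pointwise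

variable {p : ℕ} [Fact p.Prime] {G : Type*} [Group G] [Finite G]
variable {A : Type*} [CommGroup A] [Finite A]

theorem PrimeSyl.exists_inverting {ι : A →* G} (H : PrimeSyl p ι)
    (h : (Subgroup.centralizer (ι.range : Set G)).relIndex
      (Subgroup.normalizer (ι.range : Set G)) = 2) : ∃ j : G, (∀ u, j * ι u * j⁻¹ = ι u⁻¹) ∧
        ∀ n ∈ Subgroup.normalizer (ι.range : Set G), n ∈ Subgroup.centralizer (ι.range : Set G) ∨
          n * j⁻¹ ∈ Subgroup.centralizer (ι.range : Set G) := by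
  obtain ⟨j, hj⟩ : ∃ j : Subgroup.normalizer (ι.range : Set G),
      j ∉ (Subgroup.centralizer (ι.range : Set G)).subgroupOf _ := by
    by_contra! h'
    rw [Subgroup.relIndex, Subgroup.index_eq_one.2 ((Subgroup.eq_top_iff' _).2 h')] at h
    omega
  obtain ⟨σ, hσ⟩ := exists_mulAut_of_mem_normalizer H.inj j.2
  have h1 : ∀ u, σ (σ u) = u := fun u => H.inj (by
    have := Subgroup.mem_centralizer_iff.1 (Subgroup.mul_self_mem_of_index_two h j) _ ⟨u, rfl⟩
    rw [hσ, hσ, show (j : G) * (j * ι u * (j : G)⁻¹) * (j : G)⁻¹ = (j * j) * ι u * (j * j : G)⁻¹ by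
      group, mul_inv_eq_iff_eq_mul]
    exact this.symm)
  refine ⟨j, fun u => ?_, fun n hn => ?_⟩
  · rw [← hσ, eq_inv_of_mul_eq_one_left (a := σ u) (b := u)]
    by_contra h2
    refine hj (Subgroup.mem_subgroupOf.2 ?_)
    rw [← H.centralizer_eq h2, Subgroup.mem_centralizer_singleton_iff, ← mul_inv_eq_iff_eq_mul,
      ← hσ, map_mul, h1, mul_comm]
  · by_cases h2 : n ∈ Subgroup.centralizer (ι.range : Set G)
    · exact Or.inl h2
    · exact Or.inr ((Subgroup.mul_mem_iff_of_index_two h (a := ⟨n, hn⟩) (b := j⁻¹)).2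
        (iff_of_false h2 (by rwa [inv_mem_iff])))

/-- The principal block when `C(P) = P`, `|N(P)| = 2p`, and there is a character of degree
`p - 1`. -/
structure PM2 (p : ℕ) (ι : A →* G) (χ : IrrCharacter G) (Z : Finset (IrrCharacter G)) : Prop where
  syl : PrimeSyl p ι
  lt : 3 < p
  cent : Subgroup.centralizer (ι.range : Set G) ≤ ι.range
  rel : (Subgroup.centralizer (ι.range : Set G)).relIndex
    (Subgroup.normalizer (ι.range : Set G)) = 2
  core : pPrimeCore p G = ⊥
  deg : charDegree χ.1 + 1 = p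
  sing : ∀ x, p ∣ orderOf x → χ.1 x = -1
  card_Z : Z.card * 2 + 1 = p
  degZ : ∀ ψ ∈ Z, charDegree ψ.1 + 2 = p
  reg : ∀ ψ ∈ Z, ∀ g, ¬ p ∣ orderOf g → ψ.1 g = χ.1 g - 1
  sumZ : ∀ x, p ∣ orderOf x → ∑ ψ ∈ Z, ψ.1 x = 1
  all : ∀ θ : IrrCharacter G, ¬ p ∣ charDegree θ.1 → θ = irrOne G ∨ θ = χ ∨ θ ∈ Z

theorem PrinOne.exists_pair {ι : A →* G} {E : Subgroup (MulAut A)} {X Z : Finset (IrrCharacter G)}
    {Y : HatNe A → IrrCharacter G} {δ : IrrCharacter G → ℤ} {δ₀ : ℤ}
    (O : PrinOne p ι E X Z Y δ δ₀) (hp : 3 < p) (he : Nat.card E = 2) :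
    ∃ χ, χ ∈ X ∧ χ ≠ irrOne G ∧ (∀ θ ∈ X, θ = irrOne G ∨ θ = χ) ∧
      ∀ F : IrrCharacter G → ℂ, ∑ θ ∈ X, δ θ * F θ = F (irrOne G) + δ χ * F χ := by
  classical
  have hX := O.one_mem.resolve_right fun h => by omega
  obtain ⟨χ, hχ⟩ := Finset.card_eq_one.1 (show (X.erase (irrOne G)).card = 1 by
    rw [Finset.card_erase_of_mem hX, O.card_X, he])
  have hχ' := Finset.mem_erase.1 (hχ ▸ Finset.mem_singleton_self χ : χ ∈ X.erase (irrOne G))
  refine ⟨χ, hχ'.2, hχ'.1, fun θ hθ => or_iff_not_imp_left.2 fun h => Finset.mem_singleton.1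
    (hχ ▸ Finset.mem_erase.2 ⟨h, hθ⟩), fun F => ?_⟩
  rw [← Finset.add_sum_erase _ _ hX, hχ, Finset.sum_singleton, O.delta_one hX, Int.cast_one,
    one_mul]

theorem PrimeSyl.exists_pm2 {ι : A →* G} (H : PrimeSyl p ι) (hp : 3 < p)
    (hC : Subgroup.centralizer (ι.range : Set G) ≤ ι.range)
    (he : (Subgroup.centralizer (ι.range : Set G)).relIndex
      (Subgroup.normalizer (ι.range : Set G)) = 2) (hO : pPrimeCore p G = ⊥)
    {θ : IrrCharacter G} (hθ : charDegree θ.1 + 1 = p ∨ charDegree θ.1 + 2 = p) :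
    ∃ χ Z, PM2 p ι χ Z := by
  obtain ⟨E, X, Z, Y, δ, δ₀, O⟩ := H.exists_prinOne
  have hE := O.card_E.trans he
  obtain ⟨χ, h1, h2, h3, h4⟩ := O.exists_pair hp hE
  obtain ⟨ψ, hψ⟩ := O.nonempty_Z
  have h5 : δ₀ * charDegree ψ.1 + (1 + δ χ * charDegree χ.1) = 0 := by
    have := O.reg ψ hψ 1 not_dvd_orderOf_one
    rw [h4 fun θ => θ.1 1] at this
    simp only [irr_apply_one, charDegree_irrOne] at this
    exact_mod_cast this
  have h6 : ∀ d : ℤ, d ≠ 0 → |d| < p → ¬ (p : ℤ) ∣ d := fun d h h' h'' =>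
    h (Int.eq_zero_of_abs_lt_dvd h'' h')
  have h7 : δ₀ = 1 ∧ δ χ = -1 ∧ charDegree χ.1 + 1 = p := by
    have hp5 : 5 ≤ p := (Fact.out : p.Prime).five_le_of_ne_two_of_ne_three (by omega) (by omega)
    rcases O.all hC θ (fun h => by have := Nat.le_of_dvd (irr_degree_pos θ) h; omega) with h | h
    · have h8 := (O.degX θ h).dvd
      rcases h3 θ h with rfl | rfl
      · rw [charDegree_irrOne] at hθ; omega
      · rcases O.sign θ h with h9 | h9 <;> rw [h9] at h8 h5
        · exact absurd h8 (h6 _ (by omega) (abs_lt.2 (by omega)))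
        · rcases hθ with h10 | h10
          · rcases O.sign₀ with h11 | h11 <;> rw [h11] at h5 <;> omega
          · exact absurd h8 (h6 _ (by omega) (abs_lt.2 (by omega)))
    · have h8 := (O.degZ θ h).dvd
      rw [← O.degree_eq h hψ] at h5
      rw [hE] at h8
      rcases O.sign₀ with h9 | h9 <;> rw [h9] at h8 h5
      · rcases hθ with h10 | h10
        · exact absurd ((Int.dvd_add_right (dvd_refl _)).2 h8) (h6 _ (by omega) (abs_lt.2 (by omega)))
        · rcases O.sign χ h1 with h11 | h11 <;> rw [h11] at h5 <;> omega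
      · exact absurd h8 (h6 _ (by omega) (abs_lt.2 (by omega)))
  obtain ⟨rfl, h8, h9⟩ := h7
  refine ⟨χ, Z, H, hp, hC, he, hO, h9, fun x hx => by simp [O.valX χ h1 x hx, h8], ?_,
    fun ψ' h => ?_, fun ψ' h g hg => ?_, fun x hx => by simp [O.sumZ x hx], fun θ' h => ?_⟩
  · have := O.card_Z
    rw [hE] at this
    omega
  · rw [O.degree_eq h hψ]
    rw [h8] at h5
    omega
  · have := O.reg ψ' h g hg
    rw [h4 fun θ => θ.1 g, h8, irrOne_apply] at this
    push_cast at this
    linear_combination this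
  · exact (O.all hC θ' h).elim (fun h => (h3 θ' h).imp_right Or.inl) fun h => Or.inr (Or.inr h)

namespace PM2
variable {ι : A →* G} {χ : IrrCharacter G} {Z : Finset (IrrCharacter G)} (O : PM2 p ι χ Z)
include O

theorem five_le : 5 ≤ p :=
  (Fact.out : p.Prime).five_le_of_ne_two_of_ne_three (by have := O.lt; omega)
    (by have := O.lt; omega)

theorem odd : Odd p := (Fact.out : p.Prime).odd_of_ne_two (by have := O.lt; omega)

theorem apply_one : χ.1 1 = p - 1 := by rw [irr_apply_one, ← O.deg]; simp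

theorem ne_one : χ ≠ irrOne G := fun h => by
  have := O.deg
  have := O.lt
  rw [h, charDegree_irrOne] at *
  omega

theorem not_mem : χ ∉ Z := fun h => by
  have := O.deg
  have := O.degZ χ h
  omega

theorem one_not_mem : irrOne G ∉ Z := fun h => by
  have := O.degZ _ h
  have := O.lt
  rw [charDegree_irrOne] at *
  omega

theorem nonempty_Z : Z.Nonempty :=
  Finset.card_pos.1 (by have := O.card_Z; have := O.lt; omega)

theorem eq_of_degree {θ : IrrCharacter G} (h : charDegree θ.1 + 1 = p) : θ = χ := by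
  rcases O.all θ (fun h' => by have := Nat.le_of_dvd (irr_degree_pos θ) h'; omega) with
    rfl | h' | h'
  · have := O.lt
    rw [charDegree_irrOne] at h
    omega
  · exact h'
  · have := O.degZ θ h'
    omega

theorem eq_one_of_degree {θ : IrrCharacter G} (h : charDegree θ.1 = 1) : θ = irrOne G := by
  have := O.lt
  rcases O.all θ (h ▸ (Fact.out : p.Prime).not_dvd_one) with h' | rfl | h'
  · exact h'
  · have := O.deg
    omega
  · have := O.degZ θ h'
    omega

theorem commutator_eq_top : commutator G = ⊤ :=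
  commutator_eq_top_iff_forall_linear.2 fun _ => O.eq_one_of_degree

theorem exists_int (g : G) : ∃ a : ℤ, χ.1 g = a := by
  refine ((irr_isCharacter χ).isGen.exists_int_iff g).2 fun k hk => ?_
  obtain ⟨σ, hσ⟩ := exists_ringEquiv_apply_pow g hk
  rw [← hσ _ (irr_isCharacter χ).isGen]
  exact congrFun (congrArg Subtype.val (O.eq_of_degree (θ := irrGal σ χ)
    (by rw [charDegree_irrGal, O.deg]))) g

theorem isReal : IsReal χ.1 := fun g => by
  obtain ⟨a, ha⟩ := O.exists_int g
  rw [ha, map_intCast]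

theorem eq_one_of_apply {g : G} (h : χ.1 g = p - 1) : g = 1 := by
  have := O.syl.nontrivial
  obtain ⟨u, hu⟩ := exists_ne (1 : A)
  refine Subgroup.mem_bot.1 (O.core ▸ le_pPrimeCore' (fun h' => ?_)
    ((irr_mem_ker_iff χ).2 (h.trans O.apply_one.symm)))
  have h1 := (irr_mem_ker_iff χ).1 (O.syl.range_le_of_dvd _ h' ⟨u, rfl⟩)
  rw [O.sing _ (O.syl.dvd_orderOf hu), O.apply_one] at h1
  exact (Fact.out : p.Prime).ne_zero (by exact_mod_cast (by linear_combination -h1 : (p : ℂ) = 0))

theorem ip_rel {F : G → ℂ} (hF : ∀ x, p ∣ orderOf x → F x = 0) {ψ : IrrCharacter G} (hψ : ψ ∈ Z) :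
    ip F (irrOne G).1 - ip F χ.1 + ip F ψ.1 = 0 := by
  have := Fintype.ofFinite G
  rw [← ip_sub_right, ← ip_add_right, ip_def, Finset.sum_eq_zero fun g _ => ?_, mul_zero]
  by_cases h : p ∣ orderOf g
  · rw [hF g h, zero_mul]
  · simp [O.reg ψ hψ g h]

theorem exists_invol : ∃ j : G, orderOf j = 2 ∧ ∀ u, j * ι u * j⁻¹ = ι u⁻¹ := by
  obtain ⟨j, hj, h⟩ := O.syl.exists_inverting O.rel
  have h1 : ∀ u, ι u⁻¹ = ι u → u = 1 := fun u h => by
    have h2 := orderOf_dvd_of_pow_eq_one (show u ^ 2 = 1 by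
      rw [sq]; nth_rw 1 [← O.syl.inj h]; simp)
    by_contra h3
    rw [O.syl.orderOf_eq h3] at h2
    have := Nat.le_of_dvd two_pos h2
    have := O.lt
    omega
  refine ⟨j, orderOf_eq_prime ?_ ?_, hj⟩
  · obtain ⟨v, hv⟩ := O.cent (show j ^ 2 ∈ Subgroup.centralizer (ι.range : Set G) by
      rintro _ ⟨u, rfl⟩
      have := hj u⁻¹
      rw [inv_inv, ← hj] at this
      nth_rw 1 [← this]
      simp [sq, mul_assoc])
    rw [← hv, h1 v (by rw [← hj, hv]; group), map_one]
  · rintro rfl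
    have := O.syl.nontrivial
    obtain ⟨u, hu⟩ := exists_ne (1 : A)
    exact hu (h1 u (by simpa using (hj u).symm))

theorem alt2_sing {x : G} (hx : p ∣ orderOf x) : alt2 χ.1 x = 1 ∧ sym2 χ.1 x = 0 := by
  have : p ∣ orderOf (x * x) := by
    rw [← sq, (show (orderOf x).Coprime 2 by
      rw [O.syl.orderOf_eq_of_dvd O.cent hx]; exact O.odd.coprime_two_right).orderOf_pow]
    exact hx
  simp [alt2, sym2, O.sing x hx, O.sing _ this]

theorem ip_alt2_one : ip (alt2 χ.1) (irrOne G).1 = 0 := by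
  by_contra h
  have := Fintype.ofFinite A
  obtain ⟨j, h1, hj⟩ := O.exists_invol
  have hA : Odd (Nat.card A) := O.syl.card ▸ O.odd
  have h0 : (p : ℂ) ≠ 0 := Nat.cast_ne_zero.2 (Fact.out : p.Prime).ne_zero
  obtain ⟨w, h2, h3, -⟩ := (irr_isCharacter χ).exists_fixed_bound ι hA hj
  rw [O.syl.sum_eq (c := -1) fun u hu => O.sing _ (O.syl.dvd_orderOf hu), map_one, O.apply_one,
    O.syl.card] at h2
  obtain rfl : w = 0 := by
    exact_mod_cast (mul_eq_zero.1 (by linear_combination -h2 : (p : ℂ) * w = 0)).resolve_left h0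
  have h4 : χ.1 j = 0 := by simpa using h3
  obtain ⟨w, h5, h6, -⟩ := ((irr_isCharacter χ).alt2.sub_irr _ h).exists_fixed_bound ι hA hj
  rw [O.syl.sum_eq (c := 0) fun u hu => by
    simp [(O.alt2_sing (O.syl.dvd_orderOf hu)).1], map_one, O.syl.card] at h5
  have h7 : j * j = 1 := by rw [← sq, ← h1, pow_orderOf_eq_one]
  simp only [Pi.sub_apply, alt2, irrOne_apply, mul_one, h7, h4, O.apply_one] at h5 h6
  rw [show ((0 : ℂ) ^ 2 - (p - 1)) / 2 - 1 = -((p + 1 : ℕ) / 2) by push_cast; ring, norm_neg,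
    norm_div, Complex.norm_natCast, Complex.norm_ofNat] at h6
  have h8 : (p : ℝ) * (p - 3) = p * (2 * w) := by
    exact_mod_cast (by linear_combination 2 * h5 : (p : ℂ) * (p - 3) = p * (2 * w))
  have := mul_left_cancel₀ (Nat.cast_ne_zero.2 (Fact.out : p.Prime).ne_zero) h8
  push_cast at h6
  linarith

theorem ip_sum (θ : IrrCharacter G) [Decidable (θ ∈ Z)] :
    ip (∑ ψ ∈ Z, ψ.1) θ.1 = if θ ∈ Z then 1 else 0 := by
  classical
  simp only [ip_sum_left, ip_irr, Finset.sum_ite_eq']
  congr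

theorem sum_apply_one : (∑ ψ ∈ Z, ψ.1) 1 * 2 = (p - 1) * (p - 2) := by
  rw [Finset.sum_apply, Finset.sum_congr rfl fun ψ hψ => O.reg ψ hψ 1 not_dvd_orderOf_one,
    Finset.sum_const, O.apply_one, nsmul_eq_mul, ← O.card_Z]
  push_cast
  ring

theorem alt2_eq : alt2 χ.1 = ∑ ψ ∈ Z, ψ.1 := by
  classical
  have hL := (irr_isCharacter χ).alt2
  have h1 : IsCharacter G (alt2 χ.1 - ∑ ψ ∈ Z, ψ.1) := by
    refine (isCharacter_iff_ip_nat (hL.isClassFunction.sub
      (isClassFunction_sum _ _ fun ψ _ => irr_isClassFunction ψ))).2 fun θ => ?_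
    rw [ip_sub_left, O.ip_sum]
    split_ifs with h
    · have := O.ip_rel (F := alt2 χ.1 - (irrOne G).1) (fun x hx => by simp [(O.alt2_sing hx).1]) h
      rw [ip_sub_left, ip_sub_left, ip_sub_left, O.ip_alt2_one, ip_irr_self,
        ip_irr_ne O.ne_one.symm, ip_irr_ne fun h' : irrOne G = θ => O.one_not_mem (h' ▸ h),
        hL.ip_eq_mult (irr_isCharacter χ)] at this
      exact ⟨_, by linear_combination this⟩
    · exact ⟨_, by rw [sub_zero, hL.ip_eq_mult (irr_isCharacter θ)]⟩
  refine sub_eq_zero.1 (h1.eq_zero_of_degree_eq_zero (charDegree_eq_of_apply_one ?_))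
  have := O.sum_apply_one
  simp only [Pi.sub_apply, alt2, mul_one, O.apply_one]
  linear_combination -this / 2

theorem apply_mul_self {g : G} (hg : ¬ p ∣ orderOf g) :
    χ.1 (g * g) = χ.1 g ^ 2 - (p - 1) * χ.1 g + (p - 1) := by
  have := congrFun O.alt2_eq g
  rw [Finset.sum_apply, Finset.sum_congr rfl fun ψ hψ => O.reg ψ hψ g hg, Finset.sum_const,
    nsmul_eq_mul, alt2] at this
  rw [← O.card_Z]
  push_cast
  linear_combination -2 * this

theorem ip_mul_self : ip (χ.1 * χ.1) χ.1 = 1 := by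
  classical
  have hS := (irr_isCharacter χ).sym2
  have h1 : ip (sym2 χ.1) (irrOne G).1 = 1 := by
    have := ip_sym2_add_ip_alt2 χ.1
    rwa [irr_ip_cbar, if_pos O.isReal, ← irrOne_val, O.ip_alt2_one, add_zero] at this
  have h2 : ∀ ψ ∈ Z, mult (sym2 χ.1) χ.1 = mult (sym2 χ.1) ψ.1 + 1 := fun ψ hψ => by
    have := O.ip_rel (F := sym2 χ.1) (fun x hx => (O.alt2_sing hx).2) hψ
    rw [h1, hS.ip_eq_mult (irr_isCharacter χ), hS.ip_eq_mult (irr_isCharacter ψ)] at this
    exact_mod_cast (by linear_combination -this :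
      (mult (sym2 χ.1) χ.1 : ℂ) = mult (sym2 χ.1) ψ.1 + 1)
  rw [← sym2_add_alt2, ip_add_left, O.alt2_eq, O.ip_sum, if_neg O.not_mem, add_zero,
    hS.ip_eq_mult (irr_isCharacter χ)]
  obtain ⟨ψ, hψ⟩ := O.nonempty_Z
  have h3 := hS.degree_eq_sum_mult
  have h4 := Finset.sum_le_sum_of_subset (f := fun θ => mult (sym2 χ.1) θ.1 * charDegree θ.1)
    (Finset.subset_univ (insert χ Z))
  rw [← h3, Finset.sum_insert O.not_mem, Finset.sum_congr rfl
    (g := fun _ => mult (sym2 χ.1) ψ.1 * charDegree ψ.1) fun θ hθ => by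
      rw [show mult (sym2 χ.1) θ.1 = mult (sym2 χ.1) ψ.1 by have := h2 θ hθ; have := h2 ψ hψ; omega,
        show charDegree θ.1 = charDegree ψ.1 by have := O.degZ θ hθ; have := O.degZ ψ hψ; omega],
    Finset.sum_const, smul_eq_mul, h2 ψ hψ] at h4
  have h5 : charDegree (sym2 χ.1) * 2 = charDegree χ.1 * (charDegree χ.1 + 1) := by
    have := hS.apply_one
    rw [sym2, mul_one, irr_apply_one] at this
    exact_mod_cast (by linear_combination -2 * this :
      (charDegree (sym2 χ.1) : ℂ) * 2 = charDegree χ.1 * (charDegree χ.1 + 1))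
  have h6 : Z.card * 2 = charDegree χ.1 := by have := O.card_Z; have := O.deg; omega
  have h7 : charDegree χ.1 = charDegree ψ.1 + 1 := by have := O.degZ ψ hψ; have := O.deg; omega
  rw [h2 ψ hψ, show mult (sym2 χ.1) ψ.1 = 0 from by_contra fun h => ?_]
  · simp
  obtain ⟨k, hk⟩ := Nat.exists_eq_succ_of_ne_zero h
  rw [hk, h7] at h4
  rw [h7] at h5 h6
  nlinarith [Nat.zero_le (k * charDegree ψ.1), Nat.zero_le (Z.card * (k * charDegree ψ.1))]

theorem apply_of_regular {g : G} (hg : ¬ p ∣ orderOf g) (h1 : g ≠ 1) {a : ℤ} (ha : χ.1 g = a) :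
    0 ≤ a ∧ (a = 0 ∨ a = 1 ∨ a = p - 2 ∨ a = p - 3) := by
  have h2 : ∀ g : G, ¬ p ∣ orderOf g → ∀ a : ℤ, χ.1 g = a → 0 ≤ a ∧ a ≤ p - 1 := fun g hg a ha => by
    have h3 := (irr_isCharacter χ).norm_le (g * g)
    rw [O.apply_mul_self hg, ha, show (a : ℂ) ^ 2 - (p - 1) * a + (p - 1) =
      (a ^ 2 - (p - 1) * a + (p - 1) : ℤ) by push_cast; rfl, Complex.norm_intCast] at h3
    have h4 : |a ^ 2 - (p - 1) * a + (p - 1)| ≤ (charDegree χ.1 : ℤ) := by exact_mod_cast h3
    have h5 := (abs_le.1 h4).2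
    have := O.deg
    have := O.lt
    constructor <;> nlinarith
  obtain ⟨b, hb⟩ := O.exists_int (g * g)
  have h3 := (h2 _ (IsPRegular.mul_of_commute hg hg rfl) b hb).1
  have h4 : b = a ^ 2 - (p - 1) * a + (p - 1) := by
    rw [O.apply_mul_self hg, ha] at hb
    exact_mod_cast hb.symm
  have h5 : a ≠ p - 1 := fun h => h1 (O.eq_one_of_apply (by rw [ha, h]; simp))
  obtain ⟨h6, h7⟩ := h2 g hg a ha
  refine ⟨h6, ?_⟩
  by_contra! h
  have h8 : 0 ≤ a - 2 := by omega
  have h9 : 0 ≤ p - 4 - a := by omega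
  nlinarith [mul_nonneg h8 h9]

theorem card_eq : Nat.card G = p * (p - 1) * (p - 2) := by
  have hp : p.Prime := Fact.out
  have hlt := O.lt
  have h1 : ∀ n : ℕ, IsGeneralizedCharacter G (χ.1 - (n : ℂ) • fun _ => 1) := fun n =>
    (irr_isCharacter χ).isGen.sub (isCharacter_one.nsmul n).isGen
  have h2 := LG.card_dvd_of_isGen_of_vanish (m := p * (p - 1) * (p - 2) * 2)
    ((((((irr_isCharacter χ).add isCharacter_one).isGen.mul (h1 0)).mul (h1 1)).mul
      (h1 (p - 2))).mul (h1 (p - 3))) (by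
      simp only [Pi.mul_apply, Pi.add_apply, Pi.sub_apply, Pi.smul_apply, O.apply_one]
      push_cast [Nat.cast_sub hp.one_le, Nat.cast_sub hp.two_le, Nat.cast_sub hlt.le]
      simp only [smul_eq_mul]
      ring) fun g hg => by
    simp only [Pi.mul_apply, Pi.add_apply, Pi.sub_apply, Pi.smul_apply, smul_eq_mul,
      Nat.cast_sub hp.two_le, Nat.cast_sub hlt.le]
    by_cases h : p ∣ orderOf g
    · simp [O.sing g h]
    · obtain ⟨a, ha⟩ := O.exists_int g
      rcases (O.apply_of_regular h hg ha).2 with rfl | rfl | rfl | rfl <;> simp [ha]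
  obtain ⟨ψ, hψ⟩ := O.nonempty_Z
  have h3 : p * (p - 1) * (p - 2) ∣ Nat.card G := by
    obtain ⟨d, rfl⟩ : ∃ d, p = d + 2 := ⟨p - 2, by omega⟩
    refine Nat.Coprime.mul_dvd_of_dvd_of_dvd (Nat.Coprime.mul_left ?_ (by simp))
      (Nat.Coprime.mul_dvd_of_dvd_of_dvd ((Nat.coprime_self_add_left (m := d + 1) (n := 1)).2 (by simp)) (Nat.dvd_of_factorization_pos
        (by rw [O.syl.factorization_card]; simp)) ?_) ?_
    · exact (Nat.Prime.coprime_iff_not_dvd hp).2 fun h => by
        have := Nat.le_of_dvd (by omega) h; omega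
    · have := O.deg
      exact (show charDegree χ.1 = d + 2 - 1 by omega) ▸ irr_degree_dvd_card χ
    · have := O.degZ ψ hψ
      exact (show charDegree ψ.1 = d + 2 - 2 by omega) ▸ irr_degree_dvd_card ψ
  obtain ⟨k, hk⟩ := h3
  have h0 : 0 < p * (p - 1) * (p - 2) := Nat.mul_pos (Nat.mul_pos hp.pos (by omega)) (by omega)
  rcases (Nat.dvd_prime Nat.prime_two).1 (Nat.dvd_of_mul_dvd_mul_left h0 (hk ▸ h2)) with rfl | rfl
  · rw [hk, mul_one]
  · have h4 := card_centralizer_mul_relIndex_mul_index ι.range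
    have h5 := O.syl.index_normalizer_modEq
    rw [O.syl.centralizer_le_iff.1 O.cent, O.rel, hk] at h4
    rw [show (Subgroup.normalizer (ι.range : Set G)).index = p * (p - 3) + 2 from
      Nat.eq_of_mul_eq_mul_left (show 0 < p * 2 by omega) (by
        rw [h4]
        obtain ⟨d, rfl⟩ : ∃ d, p = d + 3 := ⟨p - 3, by omega⟩
        simp only [Nat.add_sub_cancel, show d + 3 - 1 = d + 2 from rfl,
          show d + 3 - 2 = d + 1 from rfl]
        ring), Nat.ModEq, Nat.mul_add_mod, Nat.mod_eq_of_lt (by omega),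
      Nat.mod_eq_of_lt (by omega)] at h5
    omega

theorem card_cast : (Nat.card G : ℂ) = p * (p - 1) * (p - 2) := by
  have hp : p.Prime := Fact.out
  rw [O.card_eq]
  push_cast [Nat.cast_sub hp.one_le, Nat.cast_sub hp.two_le]
  rfl

theorem apply_eq {g : G} (hg : ¬ p ∣ orderOf g) (h1 : g ≠ 1) : χ.1 g = 0 ∨ χ.1 g = 1 := by
  classical
  have := Fintype.ofFinite G
  choose a ha using O.exists_int
  have h2 : ∑ g, (a g ^ 3 - a g) = Nat.card G := by
    have h3 := O.ip_mul_self
    have h4 := ip_irr_ne O.ne_one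
    rw [ip_def, inv_mul_eq_iff_eq_mul₀ card_cast_ne_zero] at h3 h4
    simp only [Pi.mul_apply, ha, map_intCast, irrOne_apply, map_one, mul_one, mul_zero] at h3 h4
    refine Int.cast_injective (α := ℂ) ?_
    push_cast
    rw [Finset.sum_sub_distrib, h4, ← h3, sub_zero]
    exact Finset.sum_congr rfl fun g _ => by ring
  have h3 : a 1 ^ 3 - a 1 = Nat.card G := Int.cast_injective (α := ℂ) (by
    push_cast
    rw [← ha, O.apply_one, O.card_cast]
    ring)
  rw [← Finset.add_sum_erase _ _ (Finset.mem_univ 1), h3, add_eq_left,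
    Finset.sum_eq_zero_iff_of_nonneg fun x hx => ?_] at h2
  · have h4 := h2 g (by simp [h1])
    have h5 := (O.apply_of_regular hg h1 (ha g)).1
    rw [ha]
    by_contra! h
    have h6 : 2 ≤ a g := by
      have : a g ≠ 0 := fun h' => h.1 (by simp [h'])
      have : a g ≠ 1 := fun h' => h.2 (by simp [h'])
      omega
    nlinarith [mul_nonneg (show 0 ≤ a g - 2 by omega) (sq_nonneg (a g))]
  · by_cases h : p ∣ orderOf x
    · rw [show a x = -1 by exact_mod_cast (ha x).symm.trans (O.sing x h)]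
      norm_num
    · have h5 := (O.apply_of_regular h (Finset.ne_of_mem_erase hx) (ha x)).1
      rcases h5.eq_or_lt with h6 | h6
      · simp [← h6]
      · nlinarith [mul_nonneg (show 0 ≤ a x - 1 by omega) (sq_nonneg (a x))]

theorem not_dvd_of_orderOf_eq {g : G} {n : ℕ} (hg : orderOf g = n) (hn : Even n) :
    ¬ p ∣ orderOf g := fun h => by
  rw [O.syl.orderOf_eq_of_dvd O.cent h] at hg
  exact Nat.not_even_iff_odd.2 O.odd (hg ▸ hn)

theorem apply_invol {j : G} (hj : orderOf j = 2) : χ.1 j = 0 := by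
  have h := O.not_dvd_of_orderOf_eq hj even_two
  refine (O.apply_eq h fun h => by simp [h] at hj).resolve_right fun h1 => ?_
  have := O.apply_mul_self h
  rw [← sq, ← hj, pow_orderOf_eq_one, O.apply_one, h1] at this
  have h2 : p = 2 := by exact_mod_cast (by linear_combination this : (p : ℂ) = 2)
  have := O.lt
  omega

theorem apply_of_ne {g : G} (hg : ¬ p ∣ orderOf g) (h1 : g * g ≠ 1) :
    χ.1 g = 1 ∧ χ.1 (g * g) = 1 := by
  have := O.apply_mul_self hg
  rcases O.apply_eq hg (fun h => h1 (by simp [h])) with h | h <;> rw [h] at this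
  · exact absurd (O.eq_one_of_apply (by linear_combination this)) h1
  · exact ⟨h, by linear_combination this⟩

theorem mul_self_eq_one (j g : G) (hj : orderOf j = 2) (hc : Commute j g) : g * g = 1 := by
  by_contra h
  have h0 := (orderOf_pos g).ne'
  have h1 : 2 < orderOf g := by
    by_contra h1
    exact h (by rw [← sq]; exact orderOf_dvd_iff_pow_eq_one.1 (by interval_cases orderOf g <;> simp_all))
  rcases Nat.four_dvd_or_exists_odd_prime_and_dvd_of_two_lt h1 with h2 | ⟨r, hr, h2, h3⟩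
  · have h4 := orderOf_pow_orderOf_div h0 h2
    generalize g ^ (orderOf g / 4) = s at h4
    have h5 : orderOf (s * s) = 2 := by rw [← sq, orderOf_pow, h4]; rfl
    have := (O.apply_of_ne (O.not_dvd_of_orderOf_eq h4 (by decide)) fun h => by
      simp [h] at h5).2
    rw [O.apply_invol h5] at this
    exact zero_ne_one this
  · have h4 := orderOf_pow_orderOf_div h0 h2
    replace hc : Commute (g ^ (orderOf g / r)) j := hc.symm.pow_left _
    generalize g ^ (orderOf g / r) = y at h4 hc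
    have h5 : orderOf (y * j) = r * 2 := by
      rw [hc.orderOf_mul_eq_mul_orderOf_of_coprime (by rw [h4, hj]; exact h3.coprime_two_right),
        h4, hj]
    have h6 := (O.apply_of_ne (O.not_dvd_of_orderOf_eq h5 (by simp)) fun h => by
      have := Nat.le_of_dvd two_pos (h5 ▸ orderOf_dvd_of_pow_eq_one (by rwa [sq]))
      have := hr.two_le
      omega).1
    have := ((irr_isCharacter χ).isGen.int_modEq_of_commute hr hc (k := 1)
      (by rw [pow_one, ← h4, pow_orderOf_eq_one]) (a := 1) (b := 0) (by simp [h6])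
      (by simp [O.apply_invol hj])).dvd
    exact hr.not_dvd_one (Int.natCast_dvd_natCast.1 (by simpa using this))

theorem card_invol : Nat.card {j : G // orderOf j = 2} = p * (p - 2) := by
  classical
  have := Fintype.ofFinite G
  have hp : p.Prime := Fact.out
  have h1 := ip_irr_self χ
  rw [ip_def, inv_mul_eq_iff_eq_mul₀ card_cast_ne_zero, mul_one, Nat.card_eq_fintype_card,
    ← Finset.card_univ, Finset.card_eq_sum_ones, Nat.cast_sum, ← sub_eq_zero,
    ← Finset.sum_sub_distrib, ← Finset.add_sum_erase _ _ (Finset.mem_univ 1),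
    Finset.sum_congr rfl (g := fun g => -if orderOf g = 2 then 1 else 0) fun g hg => ?_,
    Finset.sum_erase _ (by simp), Finset.sum_neg_distrib, Finset.sum_boole, O.isReal,
    O.apply_one] at h1
  · rw [Nat.card_eq_fintype_card, Fintype.card_subtype]
    refine Nat.cast_injective (R := ℂ) ?_
    push_cast [Nat.cast_sub hp.two_le] at h1 ⊢
    linear_combination -h1
  · rw [O.isReal]
    split_ifs with h
    · simp [O.apply_invol h]
    by_cases h' : p ∣ orderOf g
    · simp [O.sing g h']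
    · simp [(O.apply_of_ne h' fun h2 => h (orderOf_eq_prime (by rwa [sq])
        (Finset.ne_of_mem_erase hg))).1]

theorem card_sylow_two (T : Sylow 2 G) : Nat.card T = p - 1 ∧ Nat.card (Sylow 2 G) = p := by
  have hlt := O.lt
  obtain ⟨j, hj, -⟩ := O.exists_invol
  obtain ⟨S, hS⟩ := IsPElt.exists_mem_sylow (p := 2) (g := j) ⟨1, hj⟩
  have h1 : Nat.card T = p - 1 := by
    rw [T.card_eq_multiplicity, ← S.card_eq_multiplicity]
    have h2 := mult_res_one_mul_card (irr_isCharacter χ) S fun s hs h1 => O.apply_invol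
      (orderOf_eq_prime (by
        rw [sq]; exact mul_self_eq_one_of_isPElt_two O.mul_self_eq_one (isPElt_of_mem_sylow S hs)) h1)
    have h3 := Nat.le_of_dvd (irr_degree_pos χ) (Dvd.intro_left _ h2)
    have h4 := centralizer_eq_sylow_of_mem O.mul_self_eq_one S hS fun h => by simp [h] at hj
    have h5 : (S : Subgroup G).index ≤ p * (p - 2) := by
      rw [← O.card_invol, ← h4, ← card_conj_eq_index]
      exact Nat.card_le_card_of_injective (fun g => ⟨g.1, by rw [← orderOf_eq_of_isConj g.2, hj]⟩)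
        fun g g' h => Subtype.ext (Subtype.mk.inj h)
    have h6 := (S : Subgroup G).card_mul_index
    rw [O.card_eq] at h6
    have := O.deg
    refine le_antisymm (by omega) (Nat.le_of_mul_le_mul_right ?_
      (show 0 < p * (p - 2) from Nat.mul_pos (by omega) (by omega)))
    calc (p - 1) * (p * (p - 2)) = _ := by rw [h6.symm.symm]; ring
      _ ≤ _ := Nat.mul_le_mul_left _ h5
  refine ⟨h1, Nat.eq_of_mul_eq_mul_right (show 0 < p - 2 by omega) ?_⟩
  rw [← O.card_invol, card_invol_eq_card_sylow_mul O.mul_self_eq_one T, h1]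
  rfl

theorem permChar_sylow : permChar G (Sylow 2 G) = (irrOne G).1 + χ.1 := by
  classical
  have := Fintype.ofFinite G
  obtain ⟨T⟩ : Nonempty (Sylow 2 G) := inferInstance
  have hθ := isCharacter_permChar (G := G) (Sylow 2 G)
  have h1 : ip (permChar G (Sylow 2 G)) (irrOne G).1 = 1 := by
    rw [permChar_eq_ind_stabilizer T]; exact ip_ind_one_one _
  have h0 : permChar G (Sylow 2 G) 1 = p := by rw [permChar_apply_one, (O.card_sylow_two T).2]
  have h2 : ip (permChar G (Sylow 2 G) - ((irrOne G).1 + χ.1)) (χ.1 - (irrOne G).1) = 0 := by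
    rw [ip_def, Finset.sum_eq_zero fun g _ => ?_, mul_zero]
    simp only [Pi.sub_apply, Pi.add_apply, irrOne_apply]
    by_cases hg : g = 1
    · simp [hg, h0, O.apply_one]
    by_cases h : p ∣ orderOf g
    · have : IsEmpty {S : Sylow 2 G // g • S = S} := ⟨fun ⟨S, hS⟩ => by
        have h3 := h.trans (Subgroup.orderOf_dvd_natCard _ (Sylow.smul_eq_iff_mem_normalizer.1 hS))
        have h4 := (Subgroup.normalizer (S : Set G)).card_mul_index
        rw [← S.card_eq_index_normalizer, (O.card_sylow_two T).2] at h4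
        have := (Fact.out : p.Prime).pow_dvd_iff_le_factorization (Nat.card_pos (α := G)).ne' |>.1
          (show p ^ 2 ∣ Nat.card G by rw [← h4, sq]; exact Nat.mul_dvd_mul_right h3 _)
        rw [O.syl.factorization_card] at this
        omega⟩
      simp [permChar_apply', O.sing g h]
    by_cases h' : g * g = 1
    · have hg2 : orderOf g = 2 := orderOf_eq_prime (by rwa [sq]) hg
      obtain ⟨S, hS⟩ := IsPElt.exists_mem_sylow (p := 2) (g := g) ⟨1, hg2⟩
      suffices h3 : ∀ S' : Sylow 2 G, g • S' = S' → (S' : Subgroup G) = S by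
        rw [permChar_apply', (Nat.card_eq_one_iff_exists (α := {S : Sylow 2 G // g • S = S})).2
          ⟨⟨S, Sylow.smul_eq_iff_mem_normalizer.2 (Subgroup.le_normalizer hS)⟩,
            fun S' => Subtype.ext (Sylow.ext (h3 _ S'.2))⟩, O.apply_invol hg2]
        simp
      intro S' hS'
      rw [← centralizer_eq_sylow_of_mem O.mul_self_eq_one S hS hg,
        centralizer_eq_sylow_of_mem O.mul_self_eq_one S' ((isSylowIn_sylow S').mem_of_mem_normalizer
          ⟨1, hg2⟩ trivial (Sylow.smul_eq_iff_mem_normalizer.1 hS')) hg]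
    · simp [(O.apply_of_ne h h').1]
  simp only [ip_sub_left, ip_sub_right, ip_add_left, ip_irr_self, ip_irr_ne O.ne_one,
    ip_irr_ne O.ne_one.symm, h1] at h2
  have h3 := hθ.sub_irr (irrOne G) (by rw [h1]; exact one_ne_zero)
  rw [← h3.eq_irr_of_ip_ne_zero_of_degree_le χ (by
    rw [ip_sub_left, ip_irr_ne O.ne_one.symm, show ip (permChar G (Sylow 2 G)) χ.1 = 1 by
      linear_combination h2]; simp) (le_of_eq (charDegree_eq_of_apply_one (by
        rw [Pi.sub_apply, h0, ← irr_apply_one, O.apply_one, irrOne_apply])))]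
  simp

theorem eq_one_of_three_le {g : G} (h : 3 ≤ Nat.card {S : Sylow 2 G // g • S = S}) : g = 1 := by
  by_contra hg
  have := congrFun O.permChar_sylow g
  rw [permChar_apply', Pi.add_apply, irrOne_apply] at this
  by_cases h' : p ∣ orderOf g
  · rw [O.sing g h', add_neg_cancel, Nat.cast_eq_zero] at this
    omega
  · rcases O.apply_eq h' hg with h1 | h1 <;> rw [h1] at this <;> norm_cast at this <;> omega

theorem eq_one_of_fix (g : G) (x : Fin 3 ↪ Sylow 2 G) (h : ∀ i, g • x i = x i) : g = 1 :=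
  O.eq_one_of_three_le (by
    simpa using Nat.card_le_card_of_injective (fun i => (⟨x i, h i⟩ : {S : Sylow 2 G // g • S = S}))
      fun i j h => x.injective (Subtype.mk.inj h))

theorem three_transitive : MulAction.IsMultiplyPretransitive G (Sylow 2 G) 3 := by
  obtain ⟨T⟩ : Nonempty (Sylow 2 G) := inferInstance
  refine isMultiplyPretransitive_of_free O.eq_one_of_fix ?_
  rw [(O.card_sylow_two T).2, O.card_eq]
  simp [Nat.descFactorial_succ, mul_comm]

theorem exists_SL2 : ∃ (a : ℕ) (F : Type) (_ : Field F) (_ : Fintype F), p = 2 ^ a + 1 ∧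
    Fintype.card F = 2 ^ a ∧ Nonempty (G ≃* Matrix.SpecialLinearGroup (Fin 2) F) := by
  obtain ⟨T⟩ : Nonempty (Sylow 2 G) := inferInstance
  have h := (O.card_sylow_two T).2
  obtain ⟨a, -, h1, F, _, _, h2⟩ := exists_SL2_of_sharply_three_transitive O.three_transitive
    (fun g a b c h1 h2 h3 h4 h5 h6 => O.eq_one_of_fix g ⟨![a, b, c], by
      simp [h1, h2, h3, h1.symm, h2.symm, h3.symm, Function.Injective, Fin.forall_fin_succ]⟩
      fun i => by fin_cases i <;> assumption) (h ▸ O.lt.le) (h ▸ O.odd)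
  exact ⟨a, F, _, _, h ▸ h1, h2⟩

end PM2

end BT
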