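import Cfsg.Agent.Lib.Block.Co19
import Cfsg.Agent.Lib.Block.Descent
import Cfsg.Agent.Lib.Block.PMinusTwo
import Cfsg.Agent.Lib.Grp.TwoCover
import Mathlib.LinearAlgebra.Projectivization.Action
import Mathlib.LinearAlgebra.Projectivization.Cardinality

/-!
# Perfect linear groups of degree 3 (for `p = 5`) and of degree 4 (for `p = 7`)
-/

set_option autoImplicit false
set_option linter.unusedSectionVars false

namespace BT

open Cfsg CT GT LG Module

variable {p : ℕ} [hp : Fact p.Prime]
universe u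
variable {G : Type u} [Group G] [Finite G]

namespace CoP

variable {ι : Multiplicative (ZMod p) →* G} {Z : _} {l : _} (F : CoP (p := p) ι Z l)
include F

local notation "e" => Nat.card (autN ι)
local notation "N" => Subgroup.normalizer (ι.range : Set G)

theorem index_center : ∃ t ≠ 0, (Subgroup.center G).index = p * e * (p * t + 1) := by
  have h := card_centralizer_mul_relIndex_mul_index ι.range
  obtain ⟨t, ht⟩ : ∃ t, (N).index = p * t + 1 := ⟨_, by
    rw [← Nat.mod_eq_of_lt hp.out.one_lt, ← F.syl.index_normalizer_modEq, Nat.div_add_mod]⟩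
  rw [F.syl.card_centralizer, ← card_autN F.syl.inj, F.cenReg_eq,
    ← (Subgroup.center G).card_mul_index, ht] at h
  exact ⟨t, fun h => F.nn (Subgroup.normalizer_eq_top_iff.1 (Subgroup.index_eq_one.1 (by rw [ht, h, mul_zero]))),
    Nat.eq_of_mul_eq_mul_left Nat.card_pos (h.symm.trans (by ring))⟩

theorem alt {X : Type*} [MulAction G X] (hZ : ∀ z ∈ Subgroup.center G, ∀ x : X, z • x = x) {x : X}
    (h : ∃ g : G, g • x ≠ x) {m : ℕ} (hm : (MulAction.orbit G x).ncard ≤ m) :
    2 * (Subgroup.center G).index ∣ m.factorial ∧ (2 * (Subgroup.center G).index = m.factorial →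
      Nonempty (G ⧸ Subgroup.center G ≃* alternatingGroup (Fin m))) := by
  classical
  have : Fintype (MulAction.orbit G x) := (Set.finite_range _).fintype
  obtain ⟨f⟩ : Nonempty (MulAction.orbit G x ↪ Fin m) := Function.Embedding.nonempty_of_card_le (by
    rwa [Fintype.card_fin, ← Nat.card_eq_fintype_card])
  obtain ⟨g, hg⟩ := h
  have : Nontrivial (MulAction.orbit G x) :=
    ⟨⟨_, MulAction.mem_orbit x g⟩, ⟨_, MulAction.mem_orbit_self x⟩, by simpa⟩
  have := f.injective.nontrivial
  let φ := (Equiv.Perm.viaEmbeddingHom f).comp (MulAction.toPermHom G (MulAction.orbit G x))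
  have h0 : ∀ a, a ∈ φ.ker ↔ ∀ y : MulAction.orbit G x, a • y = y := fun a =>
    (map_eq_one_iff _ (Equiv.Perm.viaEmbeddingHom_injective f)).trans Equiv.ext_iff
  have h1 : Subgroup.center G = φ.ker := le_antisymm (fun z hz => (h0 z).2 fun y => Subtype.ext (hZ z hz y))
    (F.le_center fun h => hg (congrArg Subtype.val ((h0 g).1 (h.ge (Subgroup.mem_top g)) ⟨_, MulAction.mem_orbit_self x⟩)))
  have h2 : φ.range ≤ alternatingGroup (Fin m) := by
    rintro _ ⟨a, rfl⟩
    exact Abelianization.commutator_subset_ker (Equiv.Perm.sign.comp φ) (F.perfect.ge (Subgroup.mem_top a))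
  have h3 := two_mul_nat_card_alternatingGroup (α := Fin m)
  rw [Nat.card_perm, Nat.card_eq_fintype_card (α := Fin m), Fintype.card_fin] at h3
  rw [congrArg Subgroup.index h1, Subgroup.index_ker, ← h3]
  exact ⟨mul_dvd_mul_left 2 (Subgroup.card_dvd_of_le h2), fun h =>
    ⟨((QuotientGroup.quotientMulEquivOfEq h1).trans (QuotientGroup.quotientKerEquivRange φ)).trans
    (MulEquiv.subgroupCongr (Subgroup.eq_of_le_of_card_ge h2 (by omega)))⟩⟩

theorem exists_desc_two {n : ℕ} (hn : n ≠ 0) (h1 : 2 ^ (n * e) ≡ 1 [MOD p])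
    (h2 : ∀ z ∈ Subgroup.center G, IsPElt 2 z ∨ (¬ 2 ∣ orderOf z ∧ z ^ 2 ^ n = z)) :
    ∃ (K : Type) (_ : Field K) (_ : Finite K) (_ : CharP K 2)
      (W : Type u) (_ : AddCommGroup W) (_ : Module K W) (_ : Finite W) (ρ : G →* W ≃ₗ[K] W) (w : W),
      Nat.card K ≤ 2 ^ n ∧ Desc ι (Z l).1 ρ w := by
  classical
  have h3 := F.small
  have h4 := irr_degree_pos (Z l)
  have h5 : ¬ 2 ∣ p := fun h => by
    have := (Nat.prime_dvd_prime_iff_eq Nat.prime_two hp.out).1 h
    omega
  have hG := (Nat.card_pos (α := G)).ne'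
  have h6 := (Nat.coprime_ordCompl Nat.prime_two hG).pow_left ((Nat.card G).factorization 2)
  obtain ⟨k, hk1, hk2⟩ := Nat.chineseRemainder h6 1 (2 ^ n)
  have hk : k.Coprime (Nat.card G) := by
    rw [← Nat.ordProj_mul_ordCompl_eq_self (Nat.card G) 2, Nat.coprime_mul_iff_right]
    exact ⟨by rw [Nat.Coprime, hk1.gcd_eq, Nat.gcd_one_left], by
      rw [Nat.Coprime, hk2.gcd_eq]
      exact (Nat.coprime_ordCompl Nat.prime_two hG).pow_left n⟩
  have h7 : ∀ g : G, ¬ 2 ∣ orderOf g → g ^ k = g ^ 2 ^ n := fun g hg => pow_eq_pow_iff_modEq.2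
    (hk2.of_dvd (Nat.dvd_ordCompl_of_dvd_not_dvd (orderOf_dvd_natCard g) hg))
  have hc := F.syl.card
  let σ : MulAut (Multiplicative (ZMod p)) := MulEquiv.ofBijective (powMonoidHom k)
    (powCoprime (hk.of_dvd_right (Subgroup.card_dvd_of_injective ι F.syl.inj)).symm).bijective
  have hσ : ∀ j u, (σ ^ j) u = u ^ k ^ j := fun j u => by
    induction j with
    | zero => simp
    | succ j ih => rw [pow_succ', MulAut.mul_apply, ih, pow_succ, pow_mul]; rfl
  refine exists_desc (irr_isCharacter _) ι ?_ hn (by rwa [hc]) hk2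
    (F.apply_pow hk (fun z hz => ?_) (σ := σ) ?_ fun _ => rfl)
  · have h8 := sum_osum_eq_zero hc (autN ι) l.2
    rw [Fintype.sum_eq_add_sum_subtype_ne _ 1] at h8 ⊢
    rw [Finset.sum_congr rfl fun (u : {v // v ≠ 1}) _ => F.val l u.1 u.2, Finset.sum_neg_distrib,
      neg_eq_of_add_eq_zero_left h8, osum_one, map_one, irr_apply_one, hc, ← Nat.cast_add, F.deg]
  · rcases h2 z hz with ⟨j, h⟩ | ⟨h, h'⟩
    · conv_rhs => rw [← pow_one z]
      exact pow_eq_pow_iff_modEq.2 (hk1.of_dvd (h ▸ pow_dvd_pow 2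
        ((Nat.prime_two.pow_dvd_iff_le_factorization hG).1 (h ▸ orderOf_dvd_natCard z))))
    · rw [h7 z h, h']
  · have := isCyclic_mulAut_of_prime hc
    rw [eq_powKer_of_isCyclic (le_top (a := autN ι))]
    refine ⟨trivial, MulEquiv.ext fun u => ?_⟩
    rw [hσ, MulAut.one_apply]
    conv_rhs => rw [← pow_one u]
    refine pow_eq_pow_iff_modEq.2 (Nat.ModEq.of_dvd ((orderOf_dvd_natCard u).trans hc.dvd) (.trans ?_ h1))
    rw [pow_mul]
    exact (hk2.of_dvd (Nat.dvd_ordCompl_of_dvd_not_dvd
      (hc ▸ Subgroup.card_dvd_of_injective ι F.syl.inj) h5)).pow _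

omit F in
theorem _root_.BT.PrimeSyl.index_modEq (H : PrimeSyl p ι) {S : Subgroup G} (h : N ≤ S) :
    S.index ≡ 1 [MOD p] := by
  have hD := Subgroup.le_normalizer.trans h
  have h1 := (H.sub hD).index_normalizer_modEq
  rw [range_subHom, ← Subgroup.subgroupOf_normalizer_eq hD] at h1
  have h2 := H.index_normalizer_modEq
  rw [← Subgroup.relIndex_mul_index h] at h2
  exact .trans (.symm ((h1.mul_right _).trans (by rw [one_mul]))) h2

theorem not_dvd_card {q : ℕ} (hq : q.Prime) (h1 : q ≠ p) (h2 : charDegree (Z l).1 + 1 < q) :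
    ¬ q ∣ Nat.card G := fun h => by
  have h3 := F.factorization_le hq h1 (Nat.not_dvd_of_pos_of_lt (irr_degree_pos _) (by omega))
  rw [Finset.sum_eq_zero fun i _ => Nat.div_eq_of_lt (lt_of_lt_of_le (by omega)
    (Nat.le_mul_of_pos_right _ (pow_pos hq.pos i)))] at h3
  have := (hq.dvd_iff_one_le_factorization Nat.card_pos.ne').1 h
  omega

theorem of_five (h5 : p = 5) : Nonempty (G ⧸ Subgroup.center G ≃*
      Matrix.ProjectiveSpecialLinearGroup (Fin 2) (ZMod p)) ∨
    Nonempty (G ⧸ Subgroup.center G ≃* alternatingGroup (Fin 6)) := by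
  classical
  have hd := F.deg l
  have hlt := F.syl.two_mul_card_autN_le F.lt
  have hs := F.small
  have he : e = 2 := by omega
  replace hd : charDegree (Z l).1 = 3 := by omega
  have := F.simple
  subst h5
  refine Or.imp_left (fun h : (Subgroup.center G).index = 60 => nonempty_mulEquiv_PSL2_five h) ?_
  by_cases hZ : Subgroup.center G = ⊥
  · obtain ⟨χ, Y, O⟩ := F.syl.exists_pm2 (by norm_num) (F.syl.centralizer_le_of_forall fun y h h' =>
      hZ.le (F.cen (F.syl.mem_cenReg.2 ⟨h, h'⟩))) ((card_autN F.syl.inj).symm.trans he)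
      (le_bot_iff.1 (hZ ▸ F.le_center fun h => not_dvd_card_pPrimeCore 5 G
        (F.syl.card_range.symm.dvd.trans (Subgroup.card_dvd_of_le (h ▸ le_top))))) (θ := Z l)
      (Or.inr (by omega))
    exact Or.inl (by rw [hZ, Subgroup.index_bot, O.card_eq])
  have h3 : ∀ z ∈ Subgroup.center G, z ^ 3 = 1 := fun z hz => hd ▸ F.pow_degree hz
  obtain ⟨K, _, _, _, W, _, _, _, ρ, w, hK, D⟩ := F.exists_desc_two two_ne_zero (by rw [he]; decide)
    fun z hz => Or.inr ⟨fun h => absurd (h.trans (orderOf_dvd_of_pow_eq_one (h3 z hz))) (by decide),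
      by rw [show 2 ^ 2 = 3 + 1 from rfl, pow_succ, h3 z hz, one_mul]⟩
  let _ : MulAction G (Projectivization K W) := .compHom _ ρ
  have h4 : ∀ (g : G) (x : W) (hx : x ≠ 0), g • Projectivization.mk K x hx = .mk K x hx ↔
      ∃ c : K, ρ g x = c • x := fun g x hx =>
    (Projectivization.mk_eq_mk_iff' K _ _ (by simpa) hx).trans (exists_congr fun _ => eq_comm)
  have h5 : ∀ x : Projectivization K W, ∃ g : G, g • x ≠ x := fun x => by
    induction x using Projectivization.ind with | h x hx => ?_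
    by_contra! h
    choose c hc using fun g => (h4 g x hx).1 (h g)
    have h5 : ∀ g, ρ g x = x := fun g => (Subgroup.commutator_le
      (H₃ := (MulAction.stabilizer _ x).comap ρ)).2 (fun a _ b _ => by
        change ρ _ x = x
        rw [commutatorElement_def, mul_assoc, map_mul, LinearEquiv.mul_apply, ← LinearEquiv.eq_symm_apply,
          ← LinearEquiv.coe_inv, ← map_inv, mul_inv_rev]
        simp only [map_mul, LinearEquiv.mul_apply, hc, map_smul, smul_smul, mul_comm])
      (F.perfect.ge (Subgroup.mem_top g))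
    have := Fintype.ofFinite (Subgroup.center G)
    have h6 := D.sum (Subgroup.center G) (by
      simpa using sum_normal_irr_eq_zero _ (χ := Z l) (fun h => hZ (le_bot_iff.1 (F.faith ▸ h))) 1) x
    simp only [h5, Finset.sum_const, Finset.card_univ, ← Nat.cast_smul_eq_nsmul K, smul_eq_zero, hx,
      or_false, CharP.cast_eq_zero_iff K 2, ← Nat.card_eq_fintype_card] at h6
    exact absurd (hd ▸ F.dvd_degree h6) (by decide)
  have h6 : Nat.card (Projectivization K W) ≤ 21 ∧ Nat.card (Projectivization K W) ≠ 16 := by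
    have h6 := hd ▸ D.rank
    rw [Projectivization.card_of_finrank K W rfl]
    have := Finite.one_lt_card (α := K)
    generalize finrank K W = r at h6
    generalize Nat.card K = q at hK this
    interval_cases r <;> interval_cases q <;> decide
  obtain ⟨x, hx⟩ : ∃ x : Projectivization K W, (MulAction.orbit G x).ncard ≤ 6 := by
    let x := Projectivization.mk K w D.ne
    have h7 := F.syl.index_modEq (S := MulAction.stabilizer G x) fun t ht => (h4 t w D.ne).2 (D.line t ht)
    have h8 := (MulAction.stabilizer G x).index_dvd_card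
    rw [MulAction.index_stabilizer] at h7 h8
    have h9 := Set.ncard_add_ncard_compl (MulAction.orbit G x)
    by_cases h : (MulAction.orbit G x).ncard = 16
    · obtain ⟨y, hy⟩ := Set.nonempty_of_ncard_ne_zero (show (MulAction.orbit G x)ᶜ.ncard ≠ 0 by omega)
      refine ⟨y, (Set.ncard_le_ncard (t := (MulAction.orbit G x)ᶜ) ?_).trans (by omega)⟩
      rintro _ ⟨g, rfl⟩ h
      exact hy (by simpa using MulAction.mem_orbit_of_mem_orbit g⁻¹ h)
    refine ⟨x, by_contra fun h' => ?_⟩
    obtain h | h : (MulAction.orbit G x).ncard = 11 ∨ (MulAction.orbit G x).ncard = 21 := by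
      rw [Nat.ModEq] at h7
      omega
    · exact F.not_dvd_card (q := 11) (by norm_num) (by norm_num) (by omega) (h ▸ h8)
    · exact F.not_dvd_card (q := 7) (by norm_num) (by norm_num) (by omega) (Dvd.dvd.trans (by simp [h]) h8)
  obtain ⟨h7, h8⟩ := F.alt (fun z hz y => by
    induction y using Projectivization.ind with | h y hy => ?_
    exact (h4 z y hy).2 ((D.cen z (center_le_irr_center _ hz)).imp fun _ h => h y)) (h5 x) hx
  obtain ⟨t, h9, h10⟩ := F.index_center
  rw [h10, he] at h7 h8 ⊢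
  have : t ≤ 7 := by have := Nat.le_of_dvd (by decide) h7; simp [Nat.factorial] at this; omega
  interval_cases t <;> first | exact Or.inr (h8 rfl) | exact Or.inl rfl | contradiction

theorem of_seven (h7 : p = 7) (he : e = 3) : Nonempty (G ⧸ Subgroup.center G ≃*
      Matrix.ProjectiveSpecialLinearGroup (Fin 2) (ZMod p)) ∨
    Nonempty (G ⧸ Subgroup.center G ≃* alternatingGroup (Fin 7)) := by
  classical
  have hd : charDegree (Z l).1 = 4 := by have := F.deg l; omega
  have hχ := irr_isCharacter (Z l)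
  obtain ⟨ψ, a, M, g, B, h1, h2, h3, h4, h5, -⟩ := F.three he
  obtain ⟨t, h9, h10⟩ := F.index_center
  subst h7
  have h6 := Nat.mul_le_mul_right (charDegree ψ.1 + 7 - 2) (show 1 ≤ a by omega)
  obtain rfl | rfl : g = 0 ∨ g = 1 := by omega
  · have := F.simple
    obtain ⟨θ, rfl⟩ := (exists_inflate_eq_iff (Subgroup.center G) ψ).2 h1.ge
    have hπ := QuotientGroup.mk'_surjective (Subgroup.center G)
    rw [charDegree_inflate] at h2
    have H : PrimeSyl 7 ((QuotientGroup.mk' (Subgroup.center G)).comp ι) :=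
      ⟨(injective_iff_map_eq_one _).2 fun u hu => by_contra fun h => F.not_le_center
        (F.syl.range_le_of_mem h ((QuotientGroup.eq_one_iff _).1 hu)), F.syl.card, by
        rw [MonoidHom.range_comp]; exact F.syl.syl.map_top_of_surjective hπ⟩
    obtain ⟨f⟩ := H.nonempty_psl2_of_small (irr_isCharacter θ) (Subgroup.comap_injective hπ (by
      rw [← ker_inflate, h1, MonoidHom.comap_bot, QuotientGroup.ker_mk'])) (by omega) fun h => by
      have h7 := H.card_range
      have h8 := irr_degree_dvd_card θ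
      rcases h.eq_bot_or_eq_top with h | h <;> simp_all
    refine Or.inl ⟨(QuotientGroup.quotientBot.symm.trans (QuotientGroup.quotientMulEquivOfEq
      (((Subgroup.instNormalCenter).eq_bot_or_eq_top).resolve_right fun h => ?_).symm)).trans f⟩
    have := irr_degree_eq_one_of_comm (fun a b => Subgroup.mem_center_iff.1 (h.ge (Subgroup.mem_top b)) a) θ
    omega
  have h7 := irr_degree_dvd_index_center ψ
  rw [h2, h10, he] at h7
  obtain ⟨K, _, _, _, W, _, _, _, ρ, w, hK, D⟩ := F.exists_desc_two one_ne_zero (by rw [he]; decide)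
    fun z hz => Or.inl (((Nat.dvd_prime_pow Nat.prime_two (m := 2)).1
      (orderOf_dvd_of_pow_eq_one (by simpa [hd] using F.pow_degree hz))).imp fun _ h => h.2)
  replace hK : Nat.card K = 2 := hK.antisymm Finite.one_lt_card
  have hZ : ∀ z ∈ Subgroup.center G, ρ z = 1 := fun z hz => by
    obtain ⟨c, hc⟩ := D.cen z (center_le_irr_center _ hz)
    obtain rfl : c = 1 := ((Nat.card_eq_two_iff' 0).1 hK).unique
      (fun h => D.ne ((ρ z).map_eq_zero_iff.1 (by rw [hc, h, zero_smul]))) one_ne_zero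
    exact LinearEquiv.ext fun x => (hc x).trans (one_smul K x)
  have hk : ρ.ker = Subgroup.center G := (F.le_center fun h => by
    have : Fact (Nat.Prime 5) := ⟨by norm_num⟩
    obtain ⟨v, hv⟩ := exists_prime_orderOf_dvd_card' (G := G) 5
      ((Dvd.dvd.trans (by simp [h2]) (irr_degree_dvd_card ψ)))
    have := Fintype.ofFinite (Subgroup.zpowers v)
    have h11 : Fintype.card (Subgroup.zpowers v) = 5 := by
      rw [← Nat.card_eq_fintype_card, Nat.card_zpowers, hv]
    obtain ⟨m, hm⟩ := hχ.exists_nat_sum (Subgroup.zpowers v).subtype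
    have h12 : ∑ r : Subgroup.zpowers v, (Z l).1 r = 4 + 4 * (Z l).1 v := by
      rw [Fintype.sum_eq_add_sum_subtype_ne _ 1, Finset.sum_congr rfl (g := fun _ => (Z l).1 v)
        fun r _ => ?_]
      · simp [irr_apply_one, hd, h11]
      obtain ⟨⟨_, hr⟩, h⟩ := r
      obtain ⟨n, rfl⟩ := (Submonoid.mem_powers_iff _ _).1 (mem_powers_iff_mem_zpowers.2 hr)
      simpa using F.apply_pow_mul (q := 5) (y := 1) (a := n) (by norm_num) (by norm_num) (by simp [hd])
        ⟨1, hv⟩ (by simp) (.one_left v) (Nat.Prime.coprime_iff_not_dvd (by norm_num) |>.2 fun h' =>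
          h (Subtype.ext (orderOf_dvd_iff_pow_eq_one.1 (hv ▸ h')))).symm
    simp only [Subgroup.coe_subtype, h12, Nat.card_eq_fintype_card, h11] at hm
    have h13 := int_dvd_of_isIntegral (hχ.isIntegral v) (a := 5 * m - 4) (b := 4) (by
      push_cast at hm ⊢; linear_combination hm)
    have h14 : ((5 * m : ℕ) : ℝ) ≤ (20 : ℕ) := by
      have := hχ.norm_le v
      rw [← Complex.norm_natCast, Nat.cast_mul, ← hm]
      refine (norm_add_le _ _).trans ?_
      simp only [hd, norm_mul, Complex.norm_ofNat, Nat.cast_ofNat] at this ⊢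
      linarith
    obtain rfl | rfl : m = 0 ∨ m = 4 := by have := Nat.cast_le.1 h14; omega
    · have := D.sum _ (h12.trans (by simpa using hm)) w
      simp only [fun g => show ρ g = 1 from h.ge (Subgroup.mem_top g), LinearEquiv.coe_one, id,
        Finset.sum_const, Finset.card_univ, h11, ← Nat.cast_smul_eq_nsmul K, smul_eq_zero, D.ne,
        or_false, CharP.cast_eq_zero_iff K 2] at this
      omega
    · have : v ∈ ker (Z l).1 := by
        rw [irr_mem_ker_iff, irr_apply_one, hd]
        push_cast at hm ⊢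
        linear_combination hm / 4
      rw [F.faith, Subgroup.mem_bot] at this
      simp [this] at hv).antisymm hZ
  let Q : Subgroup G :=
    { carrier := {g | ρ g w = w ∧ ∀ x, ∃ c : K, ρ g x = x + c • w}
      one_mem' := ⟨by simp, fun x => ⟨0, by simp⟩⟩
      mul_mem' := fun {a b} ha hb => ⟨by simp [ha.1, hb.1], fun x => by
        obtain ⟨c, hc⟩ := hb.2 x
        obtain ⟨c', hc'⟩ := ha.2 x
        exact ⟨c' + c, by simp [hc, hc', ha.1, add_smul, add_assoc]⟩⟩
      inv_mem' := fun {a} ha => ⟨by simp [LinearEquiv.symm_apply_eq, ha.1], fun x => by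
        obtain ⟨c, hc⟩ := ha.2 (ρ a⁻¹ x)
        exact ⟨-c, by rw [neg_smul, ← sub_eq_add_neg, eq_sub_iff_add_eq, ← hc]; simp⟩⟩ }
  have hQ : Q ≤ Subgroup.center G := by
    have h11 : ¬ 7 ∣ Nat.card Q := fun h => by
      obtain ⟨⟨y, hy⟩, h⟩ := exists_prime_orderOf_dvd_card' 7 h
      have h12 : y ^ 2 ∈ ρ.ker := LinearEquiv.ext fun x => by
        obtain ⟨c, hc⟩ := hy.2 x
        simp [sq, hc, hy.1, add_assoc, ← add_smul, CharTwo.add_self_eq_zero]
      have := orderOf_dvd_of_pow_eq_one ((pow_mul y 2 _).trans (F.pow_degree (hk ▸ h12)))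
      rw [Subgroup.orderOf_mk] at h
      simp [h, hd] at this
    have hD : ι.range ≤ Subgroup.normalizer (Q : Set G) := by
      rintro _ ⟨u, rfl⟩
      refine mem_normalizer_of_conj_mem fun y hy => ⟨by
        rw [← map_inv]; simp only [map_mul, LinearEquiv.mul_apply, D.fix, hy.1], fun x => ?_⟩
      exact (hy.2 (ρ (ι u)⁻¹ x)).imp fun c hc => by
        rw [map_mul, map_mul, LinearEquiv.mul_apply, LinearEquiv.mul_apply, hc]; simp [D.fix]
    intro y hy
    refine F.cen (F.syl.mem_cenReg.2 ⟨?_, fun h => h11 (h.trans (Q.orderOf_dvd_natCard hy))⟩)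
    rintro _ ⟨u, rfl⟩
    exact congrArg Subtype.val ((F.syl.sub hD).le_centralizer_of_faithful (hχ.res _)
      (by rw [hχ.ker_res, F.faith]; simp) F.small (K := Q.subgroupOf _)
      (by rwa [Nat.card_congr (Subgroup.subgroupOfEquivOfLe Subgroup.le_normalizer).toEquiv])
      (x := ⟨y, Subgroup.le_normalizer hy⟩) hy _ ⟨u, rfl⟩)
  obtain ⟨u, x, hx⟩ : ∃ u x, ρ (ι u) x - x ∉ K ∙ w := by
    by_contra! h
    refine F.not_le_center ?_
    rintro _ ⟨u, rfl⟩
    exact hQ ⟨D.fix u, fun x => (Submodule.mem_span_singleton.1 (h u x)).imp fun c hc => by simp [hc]⟩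
  obtain ⟨f, h11, h12⟩ := Submodule.exists_dual_map_eq_bot_of_notMem hx inferInstance
  have hf : f w = 0 := h12.le (Submodule.mem_map_of_mem (Submodule.mem_span_singleton_self w))
  let _ : MulAction G ((W ≃ₗ[K] W) ⧸ ρ.range) := .compHom _ ρ
  let y : (W ≃ₗ[K] W) ⧸ ρ.range := LinearEquiv.transvection hf
  have h13 : ι u • y ≠ y := fun h => by
    obtain ⟨g, hg⟩ := QuotientGroup.eq.1 h.symm
    have h14 : ∀ x, ρ ((ι u)⁻¹ * g) x = x + (f x - f (ρ (ι u) x)) • w := fun x => by
      rw [map_mul, hg, LinearEquiv.transvection.inv_eq (hv' := by simp [hf]), map_inv,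
        LinearEquiv.mul_apply, LinearEquiv.coe_inv, LinearEquiv.symm_apply_eq]
      simp [LinearMap.transvection.apply, D.fix, hf, add_smul, sub_eq_add_neg, add_assoc]
    have h15 := h14 x
    rw [hZ _ (hQ ⟨by rw [h14, D.fix, sub_self, zero_smul, add_zero], fun x => ⟨_, h14 x⟩⟩)] at h15
    exact h11 (by simpa [D.ne, sub_eq_zero, eq_comm (a := f x)] using h15)
  have h14 : Nat.card (W ≃ₗ[K] W) ∣ 20160 := by
    have := Fintype.ofFinite K
    have h14 := hd ▸ D.rank
    rw [← Nat.card_congr ((Matrix.GeneralLinearGroup.toLin' (finBasis K W)).trans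
      (LinearMap.GeneralLinearGroup.generalLinearEquiv K W)).toEquiv, Matrix.card_GL_field,
      ← Nat.card_eq_fintype_card, hK]
    generalize finrank K W = r at h14
    interval_cases r <;> decide
  rw [← ρ.range.card_mul_index, ← Subgroup.index_ker, hk, h10, he] at h14
  have h15 : 17 ≤ t := by
    by_contra h
    obtain rfl : t = 7 := by omega
    exact absurd ((dvd_mul_right _ _).trans h14) (by decide)
  have h16 : ρ.range.index ≤ 8 := by
    have := Nat.le_of_dvd (by decide) h14
    nlinarith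
  have : Finite (W ≃ₗ[K] W) := DFunLike.finite _
  obtain ⟨h17, h18⟩ := F.alt (fun z hz y => show ρ z • y = y by rw [hZ z hz, one_smul]) ⟨_, h13⟩
    (m := 7) (by
      let o : (W ≃ₗ[K] W) ⧸ ρ.range := (1 : W ≃ₗ[K] W)
      have h17 := Set.ncard_add_ncard_compl {o}
      have h18 : ∀ g : G, g • o = o := fun g => Eq.symm (QuotientGroup.eq.2 ⟨g, by simp⟩)
      rw [Set.ncard_singleton, ← Subgroup.index] at h17
      refine (Set.ncard_le_ncard (t := {o}ᶜ) ?_).trans (by omega)
      rintro _ ⟨g, rfl⟩ h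
      exact h13 (by rw [← inv_smul_smul g y, show g • y = o from h, h18, h18]))
  rw [h10, he] at h17 h18
  refine Or.inr (h18 ((Nat.le_of_dvd (by decide) h17).antisymm ?_))
  simp only [Nat.factorial]
  omega

end CoP
end BT
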