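import Cfsg.Agent.Lib.Block.CoRed
import Cfsg.Agent.Lib.Block.PrincipalB

/-!
# Perfect groups with a faithful exceptional character of degree `p - e`
-/

set_option autoImplicit false
set_option linter.unusedSectionVars false

namespace BT

open Cfsg CT GT LG
open scoped ComplexConjugate

variable {p : ℕ} [hp : Fact p.Prime]
variable {G : Type*} [Group G] [Finite G]
variable {A : Type*} [CommGroup A] [Finite A] {ι : A →* G} {Z : HatNe A → IrrCharacter G}

local notation "e" => Nat.card (autN ι)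

theorem Co.eq_of_singular (F : Co p ι Z) {l : HatNe A} {ψ : IrrCharacter G}
    (h : ∀ g, p ∣ orderOf g → ψ.1 g = (Z l).1 g) : Z l = ψ := by
  classical
  have := Fintype.ofFinite G
  have := Fintype.ofFinite A
  obtain ⟨m, hm⟩ := exists_not_orbit F.syl.card (autN ι) F.lt l.1
  have h1 : Z m ≠ Z l := fun h1 => by
    have h2 : ∀ u, osum (autN ι) m.1 u = osum (autN ι) l.1 u := fun u => by
      by_cases hu : u = 1
      · rw [hu, osum_one, osum_one]
      · rw [← neg_inj, ← F.val m u hu, h1, F.val l u hu]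
    have h3 := sum_osum_mul_conj_osum F.syl.card (autN ι) l.2 m.1
    have h4 := sum_osum_mul_conj_osum F.syl.card (autN ι) l.2 l.1
    simp only [h2, h4, if_neg hm, if_pos (⟨1, one_mem _, rfl⟩ :
      ∃ σ ∈ autN ι, l.1.comp σ.toMonoidHom = l.1)] at h3
    exact mul_ne_zero (Nat.cast_ne_zero.2 hp.out.ne_zero) card_cast_ne_zero h3
  have h2 : ip ((Z l).1 - (Z m).1) ψ.1 = ip ((Z l).1 - (Z m).1) (Z l).1 := by
    rw [ip_def, ip_def]
    refine congrArg _ (Finset.sum_congr rfl fun g _ => ?_)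
    by_cases hg : p ∣ orderOf g
    · rw [h g hg]
    · rw [Pi.sub_apply, F.reg l m g hg, sub_self, zero_mul, zero_mul]
  by_contra h3
  rw [ip_sub_left, ip_sub_left, ip_irr_self, ip_irr_ne h1, ip_irr_ne h3, ip_irr] at h2
  split_ifs at h2 <;> norm_num at h2

theorem titu_three {a c : ℂ} {x y : ℝ} (hx : 0 < x) (hy : 0 < y)
    (h : 1 + ‖a‖ ^ 2 / x + ‖c‖ ^ 2 / y = ‖1 + a + c‖ ^ 2 / (1 + x + y)) : a = x ∧ c = y := by
  have h1 : ‖a - x‖ ^ 2 / x + ‖c - y‖ ^ 2 / y + ‖a * y - c * x‖ ^ 2 / (x * y) = 0 := by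
    simp only [Complex.sq_norm, Complex.normSq_apply, Complex.add_re, Complex.add_im,
      Complex.sub_re, Complex.sub_im, Complex.mul_re, Complex.mul_im, Complex.ofReal_re,
      Complex.ofReal_im, Complex.one_re, Complex.one_im] at h ⊢
    field_simp at h ⊢
    linear_combination h
  have h2 : 0 ≤ ‖a - x‖ ^ 2 / x := by positivity
  have h3 : 0 ≤ ‖c - y‖ ^ 2 / y := by positivity
  have h4 : 0 ≤ ‖a * y - c * x‖ ^ 2 / (x * y) := by positivity
  have h5 : ‖a - x‖ ^ 2 / x = 0 := by linarith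
  have h6 : ‖c - y‖ ^ 2 / y = 0 := by linarith
  simpa [hx.ne', hy.ne', sub_eq_zero] using And.intro h5 h6

namespace CoP

variable {l : HatNe A} (F : CoP (p := p) ι Z l)
include F

theorem perfect : commutator G = ⊤ :=
  F.syl.perfect (irr_isCharacter _) F.faith F.small F.res F.nn

theorem eq_top {K : Subgroup G} [K.Normal] (h : ι.range ≤ K) : K = ⊤ :=
  pPrimeResidual_eq_top_iff.1 F.res K inferInstance (by simpa using F.syl.syl.not_dvd_relIndex_of_le h)

theorem le_center {K : Subgroup G} [K.Normal] (h : K ≠ ⊤) : K ≤ Subgroup.center G := fun _ hx =>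
  have h1 := F.syl.not_dvd_card_of_normal fun h' => h (F.eq_top h')
  F.cen (F.syl.mem_cenReg.2 ⟨F.syl.le_centralizer_of_faithful (irr_isCharacter _) F.faith F.small
    h1 hx, fun h => h1 (h.trans (K.orderOf_dvd_natCard hx))⟩)

theorem not_le_center : ¬ ι.range ≤ Subgroup.center G := fun h =>
  F.nn ⟨fun x hx g => by rwa [Subgroup.mem_center_iff.1 (h hx) g, mul_inv_cancel_right]⟩

theorem center_ne_top : Subgroup.center G ≠ ⊤ := fun h => F.not_le_center (h ▸ le_top)

theorem not_dvd_center : ¬ p ∣ Nat.card (Subgroup.center G) :=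
  F.syl.not_dvd_card_of_normal F.not_le_center

theorem cenReg_eq : cenReg p ι = Subgroup.center G :=
  F.cen.antisymm fun _ hx => F.syl.mem_cenReg.2 ⟨Subgroup.center_le_centralizer _ hx,
    fun h => F.not_dvd_center (h.trans (Subgroup.orderOf_dvd_natCard _ hx))⟩

theorem simple : IsSimpleGroup (G ⧸ Subgroup.center G) := by
  have := QuotientGroup.nontrivial_iff.2 F.center_ne_top
  refine ⟨fun K _ => ?_⟩
  have hπ := QuotientGroup.mk'_surjective (Subgroup.center G)
  rw [← Subgroup.map_comap_eq_self_of_surjective hπ K]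
  by_cases h : K.comap (QuotientGroup.mk' _) = ⊤
  · exact Or.inr (h ▸ Subgroup.map_top_of_surjective _ hπ)
  · exact Or.inl ((Subgroup.map_eq_bot_iff _).2 (by simpa using F.le_center h))

theorem pow_degree {z : G} (hz : z ∈ Subgroup.center G) : z ^ charDegree (Z l).1 = 1 := by
  have hχ := irr_isCharacter (Z l)
  obtain ⟨c, -, h1, h2⟩ := exists_scalar hχ (center_le_irr_center _ hz)
  have h3 := h2.detChar_eq hχ
  rw [(mem_ker_detChar_iff _).1 (commutator_le_ker_detChar _ (F.perfect ▸ Subgroup.mem_top z)),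
    Multiset.prod_replicate] at h3
  rw [← Subgroup.mem_bot, ← F.faith, irr_mem_ker_iff, ← mul_one (z ^ _), h1, ← h3, one_mul]

theorem dvd_degree {q : ℕ} [Fact q.Prime] (h : q ∣ Nat.card (Subgroup.center G)) :
    q ∣ charDegree (Z l).1 := by
  obtain ⟨z, rfl⟩ := exists_prime_orderOf_dvd_card' q h
  exact orderOf_dvd_of_pow_eq_one (Subtype.ext (F.pow_degree z.2))

theorem apply_pow {k : ℕ} (hk : k.Coprime (Nat.card G))
    (h1 : ∀ z ∈ Subgroup.center G, z ^ k = z) {σ : MulAut A} (hσ : σ ∈ autN ι)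
    (h2 : ∀ u, σ u = u ^ k) (g : G) : (Z l).1 (g ^ k) = (Z l).1 g := by
  refine (congrFun (congrArg Subtype.val (F.eq_of_singular (ψ := irrPow hk (Z l))
    fun x hx => ?_)) g).symm
  obtain ⟨t, u, -, y, hy, h⟩ := F.syl.exists_conj_eq_mul hx
  obtain ⟨n, -, hn⟩ := hσ
  have h3 := Subgroup.mem_center_iff.1 (F.cen hy)
  rw [← irr_isClassFunction _ x t, ← irr_isClassFunction (Z l) x t, h, irrPow_val, powFun_apply,
    Commute.mul_pow (h3 _), h1 y (F.cen hy), ← map_pow, ← h2, hn, mul_assoc, h3, ← mul_assoc,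
    mul_assoc n, irr_isClassFunction]

theorem pRational {q : ℕ} (hq : q.Prime) (h1 : q ≠ p) (h2 : ¬ q ∣ charDegree (Z l).1) (k : ℕ)
    (hk : k.Coprime (Nat.card G))
    (h : k ≡ 1 [MOD Nat.card G / q ^ (Nat.card G).factorization q]) (g : G) :
    (Z l).1 (g ^ k) = (Z l).1 g := by
  have := Fact.mk hq
  have h3 : ∀ x : G, ¬ q ∣ orderOf x → x ^ k = x := fun x hx => by
    conv_rhs => rw [← pow_one x]
    exact pow_eq_pow_iff_modEq.2 (h.of_dvd ((Nat.dvd_ordCompl_of_dvd_not_dvd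
      (orderOf_dvd_natCard x) hx)))
  refine F.apply_pow hk (fun z hz => h3 z fun h => h2 (F.dvd_degree
    (h.trans (Subgroup.orderOf_dvd_natCard _ hz)))) (one_mem _) (fun u => F.syl.inj ?_) g
  rw [map_pow, h3]
  · rfl
  · rw [orderOf_injective ι F.syl.inj]
    exact fun h => h1 ((Nat.prime_dvd_prime_iff_eq hq hp.out).1
      (h.trans (F.syl.card ▸ orderOf_dvd_natCard u)))

variable {X : Finset (IrrCharacter G)} {Y : HatNe A → IrrCharacter G} {δ : IrrCharacter G → ℤ}
  {δ₀ : ℤ} (T : PB p ι X Y δ δ₀)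
include T

theorem ker_Y (m : HatNe A) : ker (Y m).1 = Subgroup.center G :=
  (F.le_center fun h => F.lt.ne (T.card_eq_of_const (l := m) fun _ _ =>
    (irr_mem_ker_iff _).1 (h.ge (Subgroup.mem_top _)))).antisymm
    ((le_pPrimeCore' F.not_dvd_center).trans (T.core _ (Or.inr ⟨m, rfl⟩)))

theorem exists_mult : ∃ (a : IrrCharacter G → ℕ) (M : ℕ), a (irrOne G) = 1 ∧
    (p : ℤ) * e - e ^ 2 = (p - 1) * ∑ ψ ∈ X, a ψ * δ ψ + δ₀ * (e * M) ∧
    (∀ m, ∑ ψ ∈ X, a ψ * charDegree ψ.1 + M * charDegree (Y m).1 ≤ charDegree (Z l).1 ^ 2) ∧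
    (M ≠ 0 → ∃ m, ip ((Z l).1 * cbar (Z l).1) (Y m).1 ≠ 0) := by
  classical
  have := Fintype.ofFinite A
  have := Fintype.ofFinite (cenReg p ι)
  have hχ := irr_isCharacter (Z l)
  have hΘ := hχ.mul hχ.cbar
  set Θ := (Z l).1 * cbar (Z l).1 with hΘd
  refine ⟨fun ψ => mult Θ ψ.1, ∑ ψ ∈ bset (Set.range Y), mult Θ ψ.1, mult_eq_of_ip_eq ?_, ?_,
    fun m => ?_, fun h => ?_⟩
  · rw [hΘd, ip_mul_left]
    convert ip_irr_self (Z l) using 2
    · ext g; simp
    · simp
  · have h1 : ∀ u ≠ 1, osum (autN ι) l.1 u * conj (osum (autN ι) l.1 u) =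
        ∑ ψ ∈ X, mult Θ ψ.1 * (δ ψ : ℂ) - δ₀ * ∑ m, mult Θ (Y m).1 * (m.1 u : ℂ) := fun u hu => by
      have := T.sum_cenReg hΘ.isClassFunction hu
      rw [Finset.sum_congr rfl (g := fun _ => osum (autN ι) l.1 u * conj (osum (autN ι) l.1 u))
        fun y _ => ?_, Finset.sum_const, Finset.card_univ, nsmul_eq_mul,
        ← Nat.card_eq_fintype_card] at this
      · simpa only [hΘ.ip_eq_mult (irr_isCharacter _)] using mul_left_cancel₀ card_cast_ne_zero this
      obtain ⟨c, h2, h3, -⟩ := exists_scalar hχ (center_le_irr_center _ (F.cen y.2))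
      have h4 := h3 1 (ι u)
      rw [pow_one, pow_one, F.val l u hu] at h4
      rw [hΘd, Pi.mul_apply, cbar_apply, hχ.isClassFunction.mul_comm, h4, map_mul,
        mul_mul_mul_comm, Complex.mul_conj', norm_eq_one_of_pow_eq_one' (orderOf_pos _).ne' h2]
      simp
    have h2 := sum_osum_mul_conj_osum F.syl.card (autN ι) l.2 l.1
    rw [if_pos ⟨1, one_mem _, rfl⟩, Fintype.sum_eq_add_sum_subtype_ne _ 1, osum_one,
      Finset.sum_congr rfl fun (u : {v : A // v ≠ 1}) _ => h1 u.1 u.2, Finset.sum_sub_distrib,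
      ← Finset.mul_sum, Finset.sum_comm (s := Finset.univ) (t := Finset.univ), Finset.sum_const,
      Finset.card_univ, Fintype.card_subtype_compl, ← Nat.card_eq_fintype_card, F.syl.card,
      Fintype.card_unique, Finset.sum_congr rfl (g := fun m => -(mult Θ (Y m).1 : ℂ)) fun m _ => ?_,
      Finset.sum_neg_distrib, T.sum_comp fun ψ => (mult Θ ψ.1 : ℂ)] at h2
    · refine Int.cast_injective (α := ℂ) ?_
      rw [nsmul_eq_mul, nsmul_eq_mul, Nat.cast_sub hp.out.one_le, map_natCast] at h2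
      push_cast at h2 ⊢
      linear_combination -h2
    have h3 := sum_apply_mul_conj_hat m.1 1
    rw [if_neg m.2, Fintype.sum_eq_add_sum_subtype_ne _ 1] at h3
    simp only [map_one, Units.val_one, MonoidHom.one_apply, mul_one] at h3
    rw [← Finset.mul_sum, eq_neg_of_add_eq_zero_right h3, mul_neg, mul_one]
  · rw [sq, show charDegree (Z l).1 * charDegree (Z l).1 = charDegree Θ from
      (charDegree_eq_of_apply_one (by simp [hΘd, irr_apply_one])).symm, hΘ.degree_eq_sum_mult,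
      Finset.sum_mul, Finset.sum_congr rfl (s₂ := bset (Set.range Y))
        (g := fun ψ => mult Θ ψ.1 * charDegree ψ.1) fun ψ hψ => ?_, ← Finset.sum_union T.disjoint]
    · exact Finset.sum_le_sum_of_subset (Finset.subset_univ _)
    obtain ⟨m', rfl⟩ := mem_bset.1 hψ
    rw [T.degree_eq m m']
  · obtain ⟨ψ, hψ, h1⟩ := Finset.exists_ne_zero_of_sum_ne_zero h
    obtain ⟨m, rfl⟩ := mem_bset.1 hψ
    exact ⟨m, by rwa [hΘ.ip_eq_mult (irr_isCharacter _), Nat.cast_ne_zero]⟩

theorem invol_eq (he : Odd e) {j : G} (h1 : j ∉ Subgroup.center G) (h2 : j * j ∈ Subgroup.center G)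
    (m : HatNe A) : ¬ p ∣ orderOf j ∧ δ₀ * (‖(Y m).1 j‖ ^ 2 / charDegree (Y m).1 : ℝ) +
      ∑ ψ ∈ X, δ ψ * (‖ψ.1 j‖ ^ 2 / charDegree ψ.1 : ℝ) = 0 := by
  classical
  have := Fintype.ofFinite (cenReg p ι)
  have h3 : ∀ a : G, a * a ∈ Subgroup.center G → ¬ p ∣ orderOf a := fun a ha h => by
    have h4 : a ^ (2 * Nat.card (Subgroup.center G)) = 1 := by
      rw [pow_mul, sq]
      exact congrArg Subtype.val (pow_card_eq_one' (x := (⟨_, ha⟩ : Subgroup.center G)))
    rcases (Nat.Prime.dvd_mul hp.out).1 (h.trans (orderOf_dvd_of_pow_eq_one h4)) with h | h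
    · have := Nat.le_of_dvd two_pos h
      have := F.small
      have := irr_degree_pos (Z l)
      omega
    · exact F.not_dvd_center h
  refine ⟨h3 j h2, ?_⟩
  obtain ⟨u, hu⟩ := @exists_ne A F.syl.nontrivial 1
  have h4 := T.sum_cenReg (isClassFunction_clMul j j⁻¹) hu
  rw [Finset.sum_eq_zero fun y _ => clMul_eq_zero fun a b ha hb hab => ?_] at h4
  · simp only [clMul_eq_sum, ip_sum_irr_left, (irr_isCharacter _).apply_inv, Complex.conj_conj,
      Complex.conj_mul', irr_apply_one, fun m' => T.reg_eq m' m (h3 j h2),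
      fun m' => T.degree_eq m' m] at h4
    rw [← Finset.mul_sum, sum_hatNe_apply, if_neg hu, eq_comm, mul_eq_zero,
      or_iff_right card_cast_ne_zero] at h4
    simp only [mul_assoc, ← Finset.mul_sum] at h4
    refine Complex.ofReal_injective (mul_left_cancel₀ (div_ne_zero (mul_ne_zero
      (Nat.cast_ne_zero.2 (Subgroup.centralizer {j}).index_ne_zero_of_finite)
      (Nat.cast_ne_zero.2 (Subgroup.centralizer {j⁻¹}).index_ne_zero_of_finite))
      (card_cast_ne_zero (G := G))) ?_)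
    push_cast
    simp only [mul_comm (δ _ : ℂ)]
    linear_combination h4
  obtain ⟨c, rfl⟩ := isConj_iff.1 ha
  obtain ⟨d, rfl⟩ := isConj_iff.1 hb
  have hj := Subgroup.mem_center_iff.1 h2
  set a := c * j * c⁻¹ with had
  have h5 : a * a = j * j := by
    rw [show a * a = c * (j * j) * c⁻¹ by rw [had]; group, hj, mul_inv_cancel_right]
  have h6 : a * (ι u * y) * a⁻¹ = (ι u * y)⁻¹ := by
    rw [← hab, ← mul_assoc, h5, mul_inv_rev a, mul_left_inj,
      show (d * j⁻¹ * d⁻¹)⁻¹ = d * (j * j) * (j⁻¹ * d⁻¹) by group, hj]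
    group
  have h7 : ι u * y ∈ Subgroup.normalizer (ι.range : Set G) :=
    mul_mem (Subgroup.le_normalizer ⟨u, rfl⟩) (Subgroup.center_le_normalizer _ (F.cen y.2))
  have h8 := F.syl.mem_normalizer_of_conj (F.syl.dvd_orderOf_mul' hu y.2) h7 (h6 ▸ inv_mem h7)
  have h9 : conjA F.syl.inj ⟨a, h8⟩ = 1 := by
    refine orderOf_eq_one_iff.1 (Nat.Coprime.eq_one_of_dvd (he.of_dvd_nat
      ((autN ι).orderOf_dvd_natCard (conjA_mem _ _))).coprime_two_right
      (orderOf_dvd_of_pow_eq_one ?_))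
    rw [sq, ← map_mul, conjA_eq_one_iff]
    exact Subgroup.center_le_centralizer _ (h5 ▸ h2 : a * a ∈ _)
  exact h1 (by simpa [had, mul_assoc] using Subgroup.Normal.conj_mem' inferInstance _ (F.cen
    (F.syl.mem_cenReg.2 ⟨(conjA_eq_one_iff _ _).1 h9, h3 a (h5 ▸ h2)⟩)) c)

omit T in
theorem eq_one_of_degree {ψ : IrrCharacter G} (h : charDegree ψ.1 = 1) : ψ = irrOne G :=
  (irr_ker_eq_top_iff ψ).1 (eq_top_iff.2 (F.perfect ▸ (irr_commutator_le_ker_iff ψ).2 h))

omit T in
theorem three (he : e = 3) : ∃ (ψ : IrrCharacter G) (a M g : ℕ) (B : ℤ),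
    ker ψ.1 = Subgroup.center G ∧ charDegree ψ.1 = 3 + p * g ∧
    (3 * M + 3 * p : ℤ) = 9 + (p - 1) * B ∧ B ≤ 1 + a ∧
    a * (charDegree ψ.1 + p - 2) + M * charDegree ψ.1 < (p - 3) ^ 2 ∧
    (M ≠ 0 → ip ((Z l).1 * cbar (Z l).1) ψ.1 ≠ 0) := by
  classical
  obtain ⟨X, Y, δ, δ₀, T, h1⟩ := F.syl.exists_pb
  have hd := F.deg l
  have hlt := F.syl.two_mul_card_autN_le F.lt
  obtain ⟨j, hj⟩ := exists_prime_orderOf_dvd_card' (G := G ⧸ Subgroup.center G) 2
    ((even_iff_two_dvd.1 (by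
      have := hp.out.odd_of_ne_two (by omega)
      grind)).trans (irr_degree_dvd_index_center (Z l)))
  obtain ⟨j, rfl⟩ := QuotientGroup.mk'_surjective _ j
  have h2 : j ∉ Subgroup.center G := fun h => by
    rw [QuotientGroup.mk'_apply, (QuotientGroup.eq_one_iff j).2 h, orderOf_one] at hj
    omega
  have h3 : j * j ∈ Subgroup.center G := by
    rw [← QuotientGroup.eq_one_iff, ← QuotientGroup.mk'_apply, map_mul, ← sq, ← hj, pow_orderOf_eq_one]
  obtain ⟨a, M, h4, h5, h6, h7⟩ := F.exists_mult T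
  obtain ⟨m, hm⟩ : ∃ m, M ≠ 0 → ip ((Z l).1 * cbar (Z l).1) (Y m).1 ≠ 0 := by
    by_cases h : M = 0
    · exact ⟨l, fun h' => (h' h).elim⟩
    · exact (h7 h).imp fun _ h _ => h
  obtain ⟨α, β, h8, h9⟩ := Finset.card_eq_two.1
    (show (X.erase (irrOne G)).card = 2 by rw [Finset.card_erase_of_mem h1, T.card_X, he])
  have hα : α ∈ X.erase (irrOne G) := by simp [h9]
  have hβ : β ∈ X.erase (irrOne G) := by simp [h9]
  have h10 : ∀ {R : Type} [AddCommMonoid R] (f : IrrCharacter G → R),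
      ∑ ψ ∈ X, f ψ = f (irrOne G) + (f α + f β) := fun f => by
    rw [← Finset.add_sum_erase _ _ h1, h9, Finset.sum_pair h8]
  obtain ⟨h11, h12⟩ := F.invol_eq T (he ▸ by decide) h2 h3 m
  have h13 := T.reg m j h11
  have h14 := T.degree_rel m
  have h15 := h6 m
  obtain ⟨f₀, h16⟩ := T.exists_fix_Y m
  obtain ⟨f₁, h17⟩ := T.exists_fix_X (Finset.mem_of_mem_erase hα)
  obtain ⟨f₂, h18⟩ := T.exists_fix_X (Finset.mem_of_mem_erase hβ)
  have h19 : (Y m).1 j ≠ charDegree (Y m).1 := fun h => h2 (F.ker_Y T m ▸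
    (irr_mem_ker_iff _).2 (h.trans (irr_apply_one _).symm))
  have hpos : ∀ θ : IrrCharacter G, (0 : ℝ) < charDegree θ.1 := fun θ =>
    Nat.cast_pos.2 (irr_degree_pos θ)
  simp only [h10, T.sign_one h1, h4, he, irrOne_apply, charDegree_irrOne] at h5 h12 h13 h14 h15 h16
  rw [show charDegree (Z l).1 = p - 3 by omega] at h15
  have h20 := irr_degree_pos α
  have h21 := irr_degree_pos β
  have h22 := irr_degree_pos (Y m)
  have key : ∀ {x₁ x₂ a₁ a₂ f : ℕ}, δ₀ = -1 → 0 < x₂ → (x₂ : ℤ) + (p - 1) * (-1) = p * f →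
      (-1 : ℤ) * charDegree (Y m).1 + (1 + (x₁ - x₂)) = 0 →
      (p : ℤ) * 3 - 3 ^ 2 = (p - 1) * (1 + (a₁ - a₂)) + -1 * (3 * M) →
      1 + a₁ * x₁ + M * charDegree (Y m).1 ≤ (p - 3) ^ 2 →
      ∃ (ψ : IrrCharacter G) (a M g : ℕ) (B : ℤ),
        ker ψ.1 = Subgroup.center G ∧ charDegree ψ.1 = 3 + p * g ∧
        (3 * M + 3 * p : ℤ) = 9 + (p - 1) * B ∧ B ≤ 1 + a ∧
        a * (charDegree ψ.1 + p - 2) + M * charDegree ψ.1 < (p - 3) ^ 2 ∧
        (M ≠ 0 → ip ((Z l).1 * cbar (Z l).1) ψ.1 ≠ 0) := by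
    intro x₁ x₂ a₁ a₂ f e0 e1 e2 e3 e4 e5
    refine ⟨Y m, a₁, M, f₀, 1 + (a₁ - a₂), F.ker_Y T m,
      by subst e0; zify; push_cast at h16; linarith, by linarith, by linarith, ?_, hm⟩
    have : (0 : ℤ) ≤ p * f := by positivity
    have := Nat.mul_le_mul_left a₁ (show charDegree (Y m).1 + p - 2 ≤ x₁ by omega)
    omega
  have hp0 : (0 : ℤ) ≤ p * f₁ := by positivity
  have hp1 : (0 : ℤ) ≤ p * f₂ := by positivity
  rcases T.sign₀ with e0 | e0 <;> rcases T.sign α (Finset.mem_of_mem_erase hα) with e1 | e1 <;>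
    rcases T.sign β (Finset.mem_of_mem_erase hβ) with e2 | e2 <;>
    simp only [e0, e1, e2] at h5 h12 h13 h14 h17 h18 <;> push_cast at h5 h12 h13 h14
  · omega
  · refine absurd (titu_three (a := α.1 j) (hpos α) (hpos _) ?_).2 h19
    rw [show 1 + α.1 j + (Y m).1 j = β.1 j by linear_combination h13,
      show (1 + charDegree α.1 + charDegree (Y m).1 : ℝ) = charDegree β.1 by
        exact_mod_cast (by omega : 1 + charDegree α.1 + charDegree (Y m).1 = charDegree β.1)]
    simp at h12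
    linarith
  · refine absurd (titu_three (a := β.1 j) (hpos β) (hpos _) ?_).2 h19
    rw [show 1 + β.1 j + (Y m).1 j = α.1 j by linear_combination h13,
      show (1 + charDegree β.1 + charDegree (Y m).1 : ℝ) = charDegree α.1 by
        exact_mod_cast (by omega : 1 + charDegree β.1 + charDegree (Y m).1 = charDegree α.1)]
    simp at h12
    linarith
  · exfalso
    obtain ⟨q, rfl⟩ : ∃ q, p = q + 7 := ⟨p - 7, by omega⟩
    have h23 : 2 * q + 11 ≤ charDegree (Y m).1 := by omega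
    have h24 : 2 * q + 6 ≤ 3 * M := by
      push_cast at h5
      zify
      nlinarith [(by positivity : (0 : ℤ) ≤ q * a α), (by positivity : (0 : ℤ) ≤ q * a β)]
    have := Nat.mul_le_mul h23 h24
    rw [show q + 7 - 3 = q + 4 by omega] at h15
    nlinarith
  · have h23 : (1 + charDegree α.1 + charDegree β.1 : ℝ) = charDegree (Y m).1 := by
      exact_mod_cast (by omega : 1 + charDegree α.1 + charDegree β.1 = charDegree (Y m).1)
    have h24 : 1 + α.1 j + β.1 j = (Y m).1 j := by linear_combination h13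
    obtain ⟨h25, h26⟩ := titu_three (a := α.1 j) (c := β.1 j) (hpos α) (hpos β) (by
      rw [h23, h24]
      simp at h12
      linarith)
    refine absurd ?_ h19
    rw [← h24, h25, h26]
    exact_mod_cast h23
  · exact key (x₁ := charDegree α.1) (a₁ := a α) (a₂ := a β) e0 h21 h18 (by linarith) (by linarith)
      (by omega)
  · exact key (x₁ := charDegree β.1) (a₁ := a β) (a₂ := a α) e0 h20 h17 (by linarith) (by linarith)
      (by omega)
  · omega

omit T in
theorem five (h5 : p = 5) : (∃ ψ : IrrCharacter G, ker ψ.1 = Subgroup.center G ∧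
    charDegree ψ.1 = 3) ∨ 72 ∣ (Subgroup.center G).index := by
  classical
  obtain ⟨X, Y, δ, δ₀, T, h1⟩ := F.syl.exists_pb
  have hd := F.deg l
  have hlt := F.syl.two_mul_card_autN_le F.lt
  have hs := F.small
  have he : e = 2 := by omega
  obtain ⟨a, M, h4, h5', h6, -⟩ := F.exists_mult T
  obtain ⟨α, h9⟩ := Finset.card_eq_one.1
    (show (X.erase (irrOne G)).card = 1 by rw [Finset.card_erase_of_mem h1, T.card_X, he])
  have hα : α ∈ X.erase (irrOne G) := by simp [h9]
  have h10 : ∀ {R : Type} [AddCommMonoid R] (f : IrrCharacter G → R),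
      ∑ ψ ∈ X, f ψ = f (irrOne G) + f α := fun f => by
    rw [← Finset.add_sum_erase _ _ h1, h9, Finset.sum_singleton]
  have h14 := T.degree_rel l
  have h15 := h6 l
  obtain ⟨f₀, h16⟩ := T.exists_fix_Y l
  obtain ⟨f₁, h17⟩ := T.exists_fix_X (Finset.mem_of_mem_erase hα)
  simp only [h10, T.sign_one h1, h4, he, charDegree_irrOne] at h5' h14 h15 h16
  rw [show charDegree (Z l).1 = 3 by omega] at h15
  have h20 := irr_degree_pos α
  have h21 : charDegree α.1 ≠ 1 := fun h => Finset.ne_of_mem_erase hα (F.eq_one_of_degree h)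
  have h22 := irr_degree_pos (Y l)
  subst h5
  rcases T.sign₀ with e0 | e0 <;> rcases T.sign α (Finset.mem_of_mem_erase hα) with e1 | e1 <;>
    simp only [e0, e1] at h5' h14 h16 h17 <;> push_cast at h5' h14 h16 h17
  · omega
  · have := Nat.le_mul_of_pos_left (charDegree (Y l).1) (show 0 < M by omega)
    by_cases h : charDegree (Y l).1 = 3
    · exact Or.inl ⟨Y l, F.ker_Y T l, h⟩
    have h23 := irr_degree_dvd_index_center (Y l)
    have h24 := irr_degree_dvd_index_center α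
    rw [show charDegree (Y l).1 = 8 by omega] at h23
    rw [show charDegree α.1 = 9 by omega] at h24
    exact Or.inr (Nat.Coprime.mul_dvd_of_dvd_of_dvd (by norm_num) h23 h24)
  · have := Nat.le_mul_of_pos_left (charDegree (Y l).1) (show 0 < M by omega)
    have := Nat.le_mul_of_pos_left (charDegree α.1) (show 0 < a α by omega)
    omega
  · omega

end CoP

end BT
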