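import Cfsg.Agent.Lib.Block.OneTuan

/-!
# Faithful characters of degree less than `p - 1`
-/

set_option autoImplicit false
set_option linter.unusedSectionVars false

namespace BT

open Cfsg CT GT

variable {p : ℕ} [hp : Fact p.Prime]
variable {G : Type*} [Group G] [Finite G]

theorem PrimeSyl.card_classes {A : Type*} [CommGroup A] [Finite A] {ι : A →* G}
    (H : PrimeSyl p ι) : Nat.card (autN ι) *
      Nat.card {c : ConjClasses G // ∃ g : G, ConjClasses.mk g = c ∧ orderOf g = p} + 1 = p := by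
  classical
  have := Fintype.ofFinite A
  have := Fintype.ofFinite {c : ConjClasses G // ∃ g : G, ConjClasses.mk g = c ∧ orderOf g = p}
  let f : {u : A // u ≠ 1} → {c : ConjClasses G // ∃ g : G, ConjClasses.mk g = c ∧ orderOf g = p} :=
    fun u => ⟨_, ι u, rfl, by rw [orderOf_injective ι H.inj, H.orderOf_eq u.2]⟩
  have h1 := Nat.card_congr (Equiv.sigmaFiberEquiv f)
  rw [Nat.card_sigma, Finset.sum_congr rfl (g := fun _ => Nat.card (autN ι)), Finset.sum_const,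
    Finset.card_univ, smul_eq_mul, Nat.card_eq_fintype_card (α := {u : A // u ≠ 1}),
    Fintype.card_subtype_compl, ← Nat.card_eq_fintype_card, ← Nat.card_eq_fintype_card, H.card,
    Fintype.card_unique] at h1
  · have := hp.out.pos
    rw [mul_comm, h1]
    omega
  rintro ⟨_, g, rfl, hg⟩ -
  obtain ⟨x, hx⟩ := H.exists_conj_mem hg.symm.dvd
  obtain ⟨u, hu⟩ := H.mem_range (IsPElt.conj ⟨1, by rw [hg, pow_one]⟩ x)
    (Subgroup.centralizer_le_normalizer _ hx)
  have h2 : u ≠ 1 := by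
    rintro rfl
    rw [← orderOf_conj' g x, ← hu, map_one, orderOf_one] at hg
    exact hp.out.one_lt.ne hg
  have h3 : IsConj g (ι u) := isConj_iff.2 ⟨x, hu.symm⟩
  refine (Nat.card_eq_of_bijective (fun σ : autN ι => ⟨⟨σ.1 u, by simpa using h2⟩, Subtype.ext
    (ConjClasses.mk_eq_mk_iff_isConj.2 (σ.2.elim fun t ht =>
      (h3.trans (isConj_iff.2 ⟨t, (ht.2 u).symm⟩)).symm))⟩)
      ⟨fun σ τ h => ?_, fun ⟨v, hv⟩ => ?_⟩).symm
  · have h4 : σ.1 u = τ.1 u := congrArg (fun a => a.1.1) h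
    exact Subtype.ext (inv_mul_eq_one.1 (mulAut_eq_one_of_prime H.card h2 (by simp [h4]))).symm
  · obtain ⟨t, ht⟩ := isConj_iff.1 (h3.symm.trans
      (ConjClasses.mk_eq_mk_iff_isConj.1 (congrArg Subtype.val hv)).symm)
    have h4 := H.mem_normalizer_of_conj (H.dvd_orderOf h2) (Subgroup.le_normalizer ⟨u, rfl⟩)
      (g := t) (Subgroup.le_normalizer ⟨v.1, ht.symm⟩)
    exact ⟨⟨_, conjA_mem H.inj ⟨t, h4⟩⟩, Subtype.ext (Subtype.ext
      (H.inj ((conjA_spec H.inj ⟨t, h4⟩ u).trans ht)))⟩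

theorem exists_primeSyl_zmod (P : Sylow p G) (hP : Nat.card P = p) :
    ∃ ι : Multiplicative (ZMod p) →* G, PrimeSyl p ι ∧ ι.range = P := by
  obtain ⟨ι, h1, h2⟩ := exists_param_of_card_eq (A := Multiplicative (ZMod p))
    (isCyclic_of_prime_card hP) (by rw [hP]; simp)
  exact ⟨ι, ⟨h1, by simp, h2 ▸ isSylowIn_sylow P⟩, h2⟩

theorem PrimeSyl.lin_cases {ι : Multiplicative (ZMod p) →* G} (H : PrimeSyl p ι) (h7 : 7 < p)
    (hnn : ¬ ι.range.Normal) (ζ : IrrCharacter G) (hk : ker ζ.1 = ⊥)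
    (hd : charDegree ζ.1 + 1 < p) {t : ℕ} (ht : Nat.card (autN ι) * t + 1 = p) :
    (Nonempty (G ⧸ Subgroup.center G ≃* Matrix.ProjectiveSpecialLinearGroup (Fin 2) (ZMod p)) ∧
      (2 * charDegree ζ.1 = p + 1 ∨ 2 * charDegree ζ.1 = p - 1) ∧ t = 2) ∨
    (Nat.card (autN ι) + 3 ≤ t ∧ ∃ Z l, Co p ι Z ∧ Z l = ζ) := by
  rcases H.exists_co ζ hk hd hnn with h | ⟨Z, l, F, rfl⟩
  · obtain ⟨h1, h2, h3, -⟩ := H.faithful_small (irr_isCharacter ζ) hk h hnn
    exact Or.inl ⟨H.nonempty_psl2_of_small (irr_isCharacter ζ) hk h hnn, Or.inr (by omega),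
      Nat.eq_of_mul_eq_mul_left H.card_autN_pos (by omega)⟩
  have hc := H.le_centralizer_of_faithful (irr_isCharacter _) hk hd (not_dvd_card_pPrimeCore p G)
  have h1 := F.lt
  have h2 := F.deg l
  obtain rfl | rfl | rfl | h3 : t = 0 ∨ t = 1 ∨ t = 2 ∨ 3 ≤ t := by omega
  · omega
  · omega
  · refine Or.inl ⟨F.nonempty_psl2 hc hnn (by omega) ?_, Or.inl (by omega), rfl⟩
    by_contra h
    exact absurd hp.out (by rw [show p = 9 by omega]; norm_num)
  · exact Or.inr ⟨F.add_three_le hc hnn ht h3 h7, Z, l, F, rfl⟩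

end BT
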