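import Cfsg.Agent.Lib.Block.FeitTI
import Cfsg.Agent.Lib.Block.OneLin

/-!
# Reduction of linear groups of degree at most `p - 2` to perfect groups
-/

set_option autoImplicit false
set_option linter.unusedSectionVars false

namespace BT

open Cfsg CT GT LG

variable {p : ℕ} [hp : Fact p.Prime]
variable {G : Type*} [Group G] [Finite G]

theorem mem_center_of_sup_center {S : Subgroup G} (h : S ⊔ Subgroup.center G = ⊤) {z : S}
    (hz : z ∈ Subgroup.center S) : (z : G) ∈ Subgroup.center G :=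
  Subgroup.centralizer_eq_top_iff_subset.1 (eq_top_iff.2 (h ▸ sup_le
    (fun g hg => Subgroup.mem_centralizer_singleton_iff.2
      (congrArg Subtype.val (Subgroup.mem_center_iff.1 hz ⟨g, hg⟩)))
    (Subgroup.center_le_centralizer _))) (Set.mem_singleton _)

theorem nonempty_quot_center_equiv {S : Subgroup G} (h : S ⊔ Subgroup.center G = ⊤) :
    Nonempty (G ⧸ Subgroup.center G ≃* S ⧸ Subgroup.center S) := by
  let f := (QuotientGroup.mk' (Subgroup.center G)).comp S.subtype
  have h1 : Subgroup.center S = f.ker := Subgroup.ext fun z =>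
    ⟨fun hz => (QuotientGroup.eq_one_iff _).2 (mem_center_of_sup_center h hz), fun hz =>
      Subgroup.mem_center_iff.2 fun g => Subtype.ext
        (Subgroup.mem_center_iff.1 ((QuotientGroup.eq_one_iff _).1 hz) g)⟩
  refine ⟨((QuotientGroup.quotientMulEquivOfEq h1).trans
    (QuotientGroup.quotientKerEquivOfSurjective f fun x => ?_)).symm⟩
  obtain ⟨g, rfl⟩ := QuotientGroup.mk'_surjective _ x
  obtain ⟨s, hs, z, hz, rfl⟩ :=
    (mem_sup_of_le_normalizer_right Subgroup.le_normalizer_of_normal).1 (h.ge (Subgroup.mem_top g))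
  exact ⟨⟨s, hs⟩, by simp [f, (QuotientGroup.eq_one_iff _).2 hz]⟩

section
variable {A : Type*} [CommGroup A] [Finite A] {S : Type*} [Group S] [Finite S] {ι : A →* S}
  {f : S →* G}

theorem PrimeSyl.comp_inj (H : PrimeSyl p ι) (hf : Function.Injective f) (h : ¬ p ∣ f.range.index) :
    PrimeSyl p (f.comp ι) :=
  ⟨hf.comp H.inj, H.card, by
    rw [MonoidHom.range_comp]
    exact (H.syl.map_of_injective hf).trans le_top
      (by rwa [← MonoidHom.range_eq_map, Subgroup.relIndex_top_right])⟩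

theorem autN_le_comp : autN ι ≤ autN (f.comp ι) := by
  rintro σ ⟨t, ht, h⟩
  refine ⟨f t, ?_, fun u => by simp [h]⟩
  rw [MonoidHom.range_comp]
  exact Subgroup.le_normalizer_map f ⟨t, ht, rfl⟩

theorem PrimeSyl.range_sup_center [f.range.Normal] (H : PrimeSyl p (f.comp ι))
    (h : autN (f.comp ι) ≤ autN ι) (hc : cenReg p (f.comp ι) ≤ Subgroup.center G) :
    f.range ⊔ Subgroup.center G = ⊤ := by
  have h1 : (f.comp ι).range ≤ f.range := by rintro _ ⟨u, rfl⟩; exact ⟨_, rfl⟩
  rw [eq_top_iff, ← (H.syl.of_le h1 le_top).frattini_top]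
  refine sup_le le_sup_left fun y hy => ?_
  obtain ⟨t, -, ht⟩ := h (conjA_mem H.inj ⟨y, hy⟩)
  obtain ⟨u, z, hz, h2⟩ := H.exists_eq_mul (w := (f t)⁻¹ * y) (by
    rintro _ ⟨v, rfl⟩
    have := conjA_spec H.inj ⟨y, hy⟩ v
    rw [MonoidHom.comp_apply, ht, map_mul, map_mul, map_inv] at this
    rw [mul_assoc, eq_inv_mul_iff_mul_eq, ← mul_assoc, ← mul_assoc, MonoidHom.comp_apply, this]
    simp)
  rw [eq_mul_of_inv_mul_eq h2]
  exact mul_mem (Subgroup.mem_sup_left ⟨t, rfl⟩)
    (mul_mem (Subgroup.mem_sup_left (h1 ⟨u, rfl⟩)) (Subgroup.mem_sup_right (hc hz)))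

end

/-- A perfect group with a faithful exceptional character of degree `p - e`. -/
structure CoP {A : Type*} [CommGroup A] [Finite A] (ι : A →* G) (Z : HatNe A → IrrCharacter G)
    (l : HatNe A) : Prop extends Co p ι Z where
  faith : ker (Z l).1 = ⊥
  small : charDegree (Z l).1 + 1 < p
  res : pPrimeResidual p G = ⊤
  nn : ¬ ι.range.Normal

theorem lin_red (χ : IrrCharacter G) (hk : ker χ.1 = ⊥) (hd : charDegree χ.1 + 1 < p)
    (h : p ∣ (pCore p G).index) : (2 * charDegree χ.1 + 1 = p ∧ Nonempty (G ⧸ Subgroup.center G ≃*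
      Matrix.ProjectiveSpecialLinearGroup (Fin 2) (ZMod p))) ∨
    ∃ (S : Subgroup G) (ι : Multiplicative (ZMod p) →* S) (Z : _) (l : _), CoP (p := p) ι Z l ∧
      charDegree (Z l).1 = charDegree χ.1 ∧ S ⊔ Subgroup.center G = ⊤ := by
  have hχ := irr_isCharacter χ
  obtain ⟨S, ι, ψ, W⟩ := exists_linCore hχ hk hd h (feit_not_sq_dvd hχ hk hd)
  obtain rfl : χ = ψ := irr_eq_of_ip_ne_zero W.mem
  have := W.normal
  have hD : pCore p G ≤ Subgroup.center G := irr_center_eq_of_faithful _ hk ▸ W.pCore_le_center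
  let π := QuotientGroup.mk' S
  have hπ : Function.Surjective π := QuotientGroup.mk'_surjective S
  have h1 : IsSylowIn p ((pCore p G).map π) ⊤ := isSylowIn_top_iff'.2
    ⟨(isPGroup_pCore p G).map π, by
      rw [Subgroup.index_map, π.range_eq_top_of_surjective hπ, Subgroup.index_top, mul_one,
        QuotientGroup.ker_mk', sup_comm, ← W.sup]
      exact not_dvd_index_pPrimeResidual p G⟩
  have h2 := isComplement'_pPrimeCore_sylow (hasNormalPComplement_of_sylow_le_center h1.toSylowTop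
    (by
      rintro _ ⟨z, hz, rfl⟩
      refine Subgroup.mem_center_iff.2 fun x => ?_
      obtain ⟨g, rfl⟩ := hπ x
      rw [← map_mul, ← map_mul, Subgroup.mem_center_iff.1 (hD hz)])) h1.toSylowTop
  set T := (pPrimeCore p (G ⧸ S)).comap π with hT
  have hST : S ≤ T := fun g hg => by
    rw [hT, Subgroup.mem_comap, show π g = 1 from (QuotientGroup.eq_one_iff g).2 hg]; exact one_mem _
  have h3 : T ⊔ Subgroup.center G = ⊤ := by
    have := congrArg (Subgroup.comap π) h2.sup_eq_top
    rw [IsSylowIn.coe_toSylowTop, ← Subgroup.comap_sup_eq _ _ _ hπ, Subgroup.comap_map_eq,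
      QuotientGroup.ker_mk', Subgroup.comap_top] at this
    exact eq_top_iff.2 (this ▸ sup_le le_sup_left
      (sup_le (hD.trans le_sup_right) (hST.trans le_sup_left)))
  have hr := Subgroup.inclusion_range hST
  have H := W.syl.comp_inj (Subgroup.inclusion_injective hST) (by
    rw [hr, ← Subgroup.relIndex, ← QuotientGroup.ker_mk' S, Subgroup.relIndex_ker,
      Subgroup.map_comap_eq_self_of_surjective hπ]
    exact not_dvd_card_pPrimeCore p _)
  have hnn : ¬ ((Subgroup.inclusion hST).comp ι).range.Normal := fun h => W.nn (by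
    have := h.comap (Subgroup.inclusion hST)
    rwa [MonoidHom.range_comp, Subgroup.comap_map_eq_self_of_injective
      (Subgroup.inclusion_injective hST)] at this)
  let ζ : IrrCharacter T := ⟨res T χ.1, isIrr_of_isIrr_res (K := S.subgroupOf T) (hχ.res T)
    (W.irr.comp_of_surjective (Subgroup.subgroupOfEquivOfLe hST).toMonoidHom
      (Subgroup.subgroupOfEquivOfLe hST).surjective)⟩
  have hk' : ker ζ.1 = ⊥ := by rw [hχ.ker_res, hk]; simp
  by_cases h4 : 2 * charDegree χ.1 + 1 ≤ p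
  · obtain ⟨e⟩ := nonempty_quot_center_equiv h3
    obtain ⟨e'⟩ := H.nonempty_psl2_of_small (hχ.res T) hk' h4 hnn
    exact Or.inl ⟨h4.antisymm W.big, ⟨e.trans e'⟩⟩
  obtain ⟨Z, l, F, h5⟩ := (H.exists_co ζ hk' hd hnn).resolve_left h4
  obtain ⟨Z', l', F', h6⟩ := (W.syl.exists_co ⟨_, W.irr⟩ W.faith hd W.nn).resolve_left h4
  have h7 := F.deg l
  have h8 := F'.deg l'
  rw [h5] at h7
  rw [h6] at h8
  have : (Subgroup.inclusion hST).range.Normal := hr ▸ inferInstance
  have h9 := H.range_sup_center (Subgroup.eq_of_le_of_card_ge autN_le_comp (by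
    change charDegree χ.1 + _ = p at h7 h8
    omega)).ge F.cen
  refine Or.inr ⟨S, ι, Z', l', ⟨F', h6 ▸ W.faith, h6 ▸ hd, W.res, W.nn⟩, h6 ▸ rfl,
    eq_top_iff.2 (h3 ▸ sup_le (fun g hg => ?_) le_sup_right)⟩
  obtain ⟨_, ⟨s, rfl⟩, z, hz, h10⟩ := (mem_sup_of_le_normalizer_right
    Subgroup.le_normalizer_of_normal).1 (h9.ge (Subgroup.mem_top ⟨g, hg⟩))
  rw [show g = s * z from (congrArg Subtype.val h10).symm]
  exact mul_mem (Subgroup.mem_sup_left s.2) (Subgroup.mem_sup_right (mem_center_of_sup_center h3 hz))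

end BT
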