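import Cfsg.Agent.Lib.Block.MultFree
import Cfsg.Agent.Lib.Block.Alperin
import Cfsg.Agent.Lib.Block.HZCount
import Cfsg.Agent.Lib.Block.PrincipalC
import Cfsg.Agent.Lib.Block.PMinusTwo
import Cfsg.Agent.Lib.Block.Fong
import Cfsg.Agent.Lib.Char.Extend

/-!
# Principal `2`-blocks with `χ(1) - χ(u)` constant
-/

set_option autoImplicit false
set_option linter.unusedSectionVars false

namespace BT

open Cfsg CT GT Subgroup
open scoped ComplexConjugate Pointwise commutatorElement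

variable {G : Type*} [Group G] [Finite G]

/-- `χ(1) - χ(u) = k` on the nonprincipal characters of the principal block. -/
structure CDiff (M : Ideal AlgInt) (u : G) (k : ℂ) : Prop where
  core : pPrimeCore 2 G = ⊥
  ne : u ≠ 1
  diff : ∀ χ ∈ principalBlock M G, χ ≠ irrOne G → χ.1 1 - χ.1 u = k

/-- The situation after the first reductions. -/
structure CDiff2 (M : Ideal AlgInt) (P : Subgroup G) : Prop where
  core : pPrimeCore 2 G = ⊥
  syl : IsSylowIn 2 P ⊤
  sq : ∀ r ∈ P, r * r = 1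
  fus : ∀ s t : G, IsPElt 2 s → s ≠ 1 → IsPElt 2 t → t ≠ 1 → IsConj s t
  val : ∀ χ ∈ principalBlock M G, χ ≠ irrOne G → ∀ t ∈ P, t ≠ 1 → χ.1 t = χ.1 1 - Nat.card P

/-- The nonprincipal characters in the principal block. -/
noncomputable def prinNe (M : Ideal AlgInt) (G : Type*) [Group G] [Finite G] :
    Finset (IrrCharacter G) := by
  classical exact (bset (principalBlock M G)).erase (irrOne G)

theorem mem_prinNe {M : Ideal AlgInt} {χ : IrrCharacter G} :
    χ ∈ prinNe M G ↔ χ ∈ principalBlock M G ∧ χ ≠ irrOne G := by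
  classical
  rw [prinNe, Finset.mem_erase, mem_bset, and_comm]

theorem sum_bset_principal {p : ℕ} [Fact p.Prime] {M : Ideal AlgInt} (hM : IsPModular p M)
    {A : Type*} [AddCommMonoid A] (F : IrrCharacter G → A) :
    ∑ χ ∈ bset (principalBlock M G), F χ = F (irrOne G) + ∑ χ ∈ prinNe M G, F χ := by
  classical
  rw [← Finset.add_sum_erase _ _ (mem_bset.2 (irrOne_mem_principalBlock hM))]
  congr!

variable {M : Ideal AlgInt} (hM : IsPModular 2 M)

namespace CDiff

variable {u : G} {k : ℂ} (H : CDiff M u k)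
include hM H

theorem k_ne : k ≠ 0 := by
  rintro rfl
  refine H.ne (mem_bot.1 ?_)
  rw [← H.core, ← iInf_ker_principal hM]
  refine mem_iInf.2 fun χ => ?_
  by_cases h : χ.1 = irrOne G
  · rw [h, ker_irrOne]; trivial
  · exact (irr_mem_ker_iff _).2 (sub_eq_zero.1 (H.diff _ χ.2 h)).symm

theorem sum_eq (F : IrrCharacter G → ℂ) :
    ∑ χ ∈ bset (principalBlock M G), χ.1 1 * F χ - ∑ χ ∈ bset (principalBlock M G), χ.1 u * F χ =
      k * ∑ χ ∈ prinNe M G, F χ := by
  rw [← Finset.sum_sub_distrib, sum_bset_principal hM, irrOne_apply, irrOne_apply, sub_self,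
    zero_add, Finset.mul_sum]
  refine Finset.sum_congr rfl fun χ hχ => ?_
  rw [← sub_mul, H.diff χ (mem_prinNe.1 hχ).1 (mem_prinNe.1 hχ).2]

theorem isConj {y : G} (hy : IsPElt 2 y) (h1 : y ≠ 1) : IsConj (pPart 2 u) y := by
  by_contra h
  have h2 := bker_eq_zero_of_regular hM (isPBlock_principalBlock (M := M) (G := G))
    not_dvd_orderOf_one (hy.dvd_orderOf h1)
  have h3 := bker_eq_zero_of_not_isConj hM (isPBlock_principalBlock (M := M) (G := G))
    (x := u) (y := y) (by rwa [hy.pPart_eq])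
  have h4 := H.sum_eq hM fun χ => conj (χ.1 y)
  rw [← bker_def, ← bker_def, h2, h3, sub_zero, eq_comm, mul_eq_zero,
    or_iff_right (H.k_ne hM)] at h4
  have h5 : ∑ χ ∈ bset (principalBlock M G), (χ.1 1 - 1) * conj (χ.1 y) = -1 := by
    simp only [sub_mul, one_mul, Finset.sum_sub_distrib]
    rw [← bker_def, h2, sum_bset_principal hM, h4, irrOne_apply, map_one]; ring
  refine one_not_mem_locIdeal hM (neg_mem_iff.1 (h5 ▸ sum_mem fun χ _ => ?_))
  rw [← (irr_isCharacter χ).apply_inv, show (χ.1 1 - 1) * χ.1 y⁻¹ = (χ.1 1 - 1) *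
    (χ.1 y⁻¹ - χ.1 1) + ((charDegree χ.1 * (charDegree χ.1 - 1) : ℤ) : ℂ) by
      rw [irr_apply_one]; push_cast; ring]
  refine add_mem (mul_mem_locIdeal_left hM ?_
    (char_sub_one_mem_locIdeal hM (irr_isCharacter χ).isGen hy.inv))
    ((intCast_mem_locIdeal_iff hM _).2 (even_iff_two_dvd.1 (Int.even_mul_pred_self _)))
  rw [irr_apply_one]
  exact sub_mem (natCast_mem _ _) (one_mem _)

omit hM in
theorem exists_invol : ∃ j : G, orderOf j = 2 := by
  refine exists_prime_orderOf_dvd_card' 2 (by_contra fun h => H.ne (mem_bot.1 ?_))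
  rw [← H.core, pPrimeCore_eq_top_iff.2 h]; trivial

theorem orderOf_pPart : orderOf (pPart 2 u) = 2 := by
  obtain ⟨j, hj⟩ := H.exists_invol
  rw [orderOf_eq_of_isConj (H.isConj hM (y := j) ⟨1, hj⟩ (by rintro rfl; simp at hj)), hj]

theorem sing : 2 ∣ orderOf u := pPart_ne_one_iff.1 fun h => by
  have := H.orderOf_pPart hM
  simp [h] at this

theorem mul_self {y : G} (hy : IsPElt 2 y) : y * y = 1 := by
  by_cases h1 : y = 1
  · simp [h1]
  · rw [← sq, ← H.orderOf_pPart hM, orderOf_eq_of_isConj (H.isConj hM hy h1), pow_orderOf_eq_one]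

theorem exists_int : ∃ N : ℤ, k * N = (2 ^ (Nat.card G).factorization 2 : ℕ) := by
  have h := pow_smul_pRegularPart_eq_sum hM (isPBlock_principalBlock (M := M) (G := G))
    (irrOne_mem_principalBlock hM)
  have h1 := congrFun h 1
  have h2 := congrFun h u
  simp only [Finset.sum_apply, Pi.smul_apply, smul_eq_mul] at h1 h2
  rw [pRegularPart_apply_one, irrOne_apply, mul_one, blockDefect_principal hM] at h1
  rw [pRegularPart_of_dvd _ (H.sing hM), mul_zero] at h2
  refine ⟨∑ χ ∈ prinNe M G, cm 2 (principalBlock M G) (irrOne G).1 χ.1, ?_⟩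
  rw [Int.cast_sum, ← H.sum_eq hM, Nat.cast_pow, h1]
  simp only [mul_comm (_ : ℂ) (cm _ _ _ _ : ℂ)]
  rw [← h2, sub_zero]

theorem eq_irrOne {P : Subgroup G} (hP : IsSylowIn 2 P ⊤) {χ : IrrCharacter G}
    (hχ : χ ∈ principalBlock M G) (hk : P ≤ ker χ.1) : χ = irrOne G := by
  have hK : P ≤ pPrimeResidual 2 G := le_pPrimeResidual_of_isPGroup hP.isPGroup
  refine eq_irrOne_of_mem_principal_of_le_ker hM hP ?_ (not_dvd_index_pPrimeResidual 2 G) hχ
    (pPrimeResidual_le (hP.not_dvd_relIndex_of_le hk ∘ fun h => by rwa [relIndex_top_right]))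
  set L := pPrimeResidual 2 G ⊔ centralizer (P : Set G)
  have : L.Normal := normal_of_le_normalizer_of_sup_eq_top (hP.of_le hK le_top).frattini_top
    (le_sup_left.trans le_normalizer) (le_normalizer_sup (le_normalizer_of_normal)
      (normalizer_le_normalizer_centralizer P))
  have hL : ¬ 2 ∣ Nat.card (G ⧸ L) := fun h =>
    not_dvd_index_pPrimeResidual 2 G (h.trans (index_dvd_of_le le_sup_left))
  have h1 : ∀ ψ : IrrCharacter (G ⧸ L), ψ ≠ irrOne _ → ψ.1 1 - ψ.1 u = k := fun ψ hψ =>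
    H.diff (inflate L ψ) (mem_principal_of_liesOver_of_centralizer_le hM hP.isPGroup
      (hK.trans le_sup_left) le_sup_right (irrOne_mem_principalBlock hM)
      ((liesOver_one_iff L _).2 (le_ker_inflate L ψ)))
      fun h => hψ (inflate_injective L (h.trans (inflate_irrOne L).symm))
  have h2 : IsConj (u : G ⧸ L) (u : G ⧸ L)⁻¹ := isConj_iff_forall_irr.2 fun ψ => by
    by_cases hψ : ψ = irrOne _
    · rw [hψ, irrOne_apply, irrOne_apply]
    have h3 := h1 (irrBar ψ) fun h => hψ (Subtype.ext (funext fun g => by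
      simpa using congrArg conj (congrFun (congrArg Subtype.val h) g)))
    rw [irrBar_val, cbar_apply, cbar_apply, irr_apply_one, Complex.conj_natCast, ← irr_apply_one,
      ← h1 ψ hψ, sub_right_inj] at h3
    rw [(irr_isCharacter ψ).apply_inv, h3]
  have h0 : ∀ x : G ⧸ L, IsPElt 2 x → x = 1 := fun x hx => by_contra fun h =>
    hL ((hx.dvd_orderOf h).trans (orderOf_dvd_natCard x))
  obtain ⟨t, ht, h3⟩ := exists_isPElt_two_conj_eq_inv h2
  rw [h0 t ht, one_mul, inv_one, mul_one] at h3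
  have h4 := h0 u (isPElt_of_pow_eq_one (k := 1) (by
    rw [pow_one, sq]; nth_rw 1 [h3]; exact inv_mul_cancel _))
  by_contra h5
  obtain ⟨g, hg⟩ := not_forall.1 (mt (eq_top_iff' _).2 h5)
  obtain ⟨ψ, hψ⟩ := exists_irr_apply_ne (g := (g : G ⧸ L)) (mt (QuotientGroup.eq_one_iff g).1 hg)
  have := h1 ψ fun h => hψ (by rw [h]; rfl)
  rw [h4, sub_self] at this
  exact H.k_ne hM this.symm

theorem cDiff2 {P : Subgroup G} (hP : IsSylowIn 2 P ⊤) : k = Nat.card P ∧ CDiff2 M P := by
  classical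
  have hR : ∀ r ∈ P, r * r = 1 := fun r hr => H.mul_self hM
    (isPGroup_iff_forall_isPElt.1 hP.isPGroup r hr)
  have := mf_isMulCommutative hR
  have hc : ∀ s t : G, IsPElt 2 s → s ≠ 1 → IsPElt 2 t → t ≠ 1 → IsConj s t :=
    fun s t hs hs1 ht ht1 => (H.isConj hM hs hs1).symm.trans (H.isConj hM ht ht1)
  obtain ⟨⟨t, ht⟩, ht1⟩ := ne_bot_iff_exists_ne_one.1 (hP.ne_bot (by
    rw [card_top]; exact (H.sing hM).trans (orderOf_dvd_natCard u)))
  obtain ⟨l, hl⟩ := exists_units_hom_ne_one_of_comm ht1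
  have hl1 : l ≠ 1 := fun h => hl (by rw [h]; rfl)
  replace ht1 : t ≠ 1 := fun h => ht1 (Subtype.ext h)
  have h1 : ∀ χ : IrrCharacter G, ∀ r ∈ P, r ≠ 1 → χ.1 r = χ.1 t := fun χ r hr hr1 =>
    (irr_isClassFunction χ).of_isConj (hc _ _ (mf_isPElt hR hr) hr1 (mf_isPElt hR ht) ht1)
  set a := fun χ : IrrCharacter G => mult (res P χ.1) (linChar l).1
  have h2 : ∀ χ : IrrCharacter G, (Nat.card P : ℂ) * a χ = χ.1 1 - χ.1 t := fun χ => by
    rw [mf_mult_of_const (irr_isCharacter χ) (h1 χ) l, if_neg hl1, add_zero]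
  have h3 : ∀ χ ∈ prinNe M G, 1 ≤ a χ := fun χ hχ => Nat.pos_of_ne_zero fun h => by
    refine (mem_prinNe.1 hχ).2 (H.eq_irrOne hM hP (mem_prinNe.1 hχ).1 fun r hr =>
      (irr_mem_ker_iff χ).2 ?_)
    by_cases hr1 : r = 1
    · rw [hr1]
    · have := h2 χ
      rw [h] at this
      rw [h1 χ r hr hr1]; linear_combination this
  obtain ⟨N, hN⟩ := H.exists_int hM
  rw [← card_top (G := G), ← hP.card_eq] at hN
  have h4 := H.sum_eq hM fun χ => conj (χ.1 1)
  rw [← bker_def, ← bker_def, bker_eq_zero_of_regular' hM isPBlock_principalBlock (H.sing hM)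
    not_dvd_orderOf_one, sub_zero] at h4
  have h5 : bker (principalBlock M G) 1 1 =
      Nat.card P * ∑ χ ∈ prinNe M G, a χ * conj (χ.1 1) := by
    rw [← sub_zero (bker _ _ _), ← bker_eq_zero_of_regular' hM isPBlock_principalBlock
      ((mf_isPElt hR ht).dvd_orderOf ht1) not_dvd_orderOf_one, bker_def, bker_def,
      ← Finset.sum_sub_distrib, sum_bset_principal hM, irrOne_apply, irrOne_apply, sub_self,
      zero_add, Finset.mul_sum]
    refine Finset.sum_congr rfl fun χ _ => ?_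
    rw [← sub_mul, ← h2, mul_assoc]
  simp only [irr_apply_one, Complex.conj_natCast] at h4 h5
  have h6 : ((∑ χ ∈ prinNe M G, charDegree χ.1 : ℕ) : ℤ) =
      N * (∑ χ ∈ prinNe M G, a χ * charDegree χ.1 : ℕ) := by
    refine Int.cast_injective (α := ℂ) (mul_left_cancel₀ (H.k_ne hM) ?_)
    push_cast
    rw [← h4, h5, ← hN, mul_assoc]
  have h7 : ∀ χ ∈ prinNe M G, charDegree χ.1 ≤ a χ * charDegree χ.1 := fun χ hχ =>
    Nat.le_mul_of_pos_left _ (h3 χ hχ)
  have h8 := Finset.sum_le_sum h7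
  have h9 : 0 < ∑ χ ∈ prinNe M G, charDegree χ.1 := Nat.pos_of_ne_zero fun h => by
    rw [← Nat.cast_sum, h, bker_one_one, Nat.cast_zero, mul_zero, Nat.cast_eq_zero,
      sum_bset_principal hM, charDegree_irrOne] at h4
    omega
  have h10 : N = 1 := by
    generalize ∑ χ ∈ prinNe M G, charDegree χ.1 = x at *
    generalize ∑ χ ∈ prinNe M G, a χ * charDegree χ.1 = y at *
    have : 0 < N := by_contra fun h => by nlinarith
    nlinarith
  rw [h10, one_mul, Nat.cast_inj] at h6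
  refine ⟨by simpa [h10] using hN, H.core, hP, hR, hc, fun χ hχ hχ1 r hr hr1 => ?_⟩
  have h11 := (Finset.sum_eq_sum_iff_of_le h7).1 h6 χ (mem_prinNe.2 ⟨hχ, hχ1⟩)
  have h12 := h2 χ
  rw [show a χ = 1 from Nat.eq_of_mul_eq_mul_right (irr_degree_pos χ)
    (h11.symm.trans (one_mul _).symm)] at h12
  rw [h1 χ r hr hr1]; linear_combination h12

end CDiff

include hM in
/-- Variant of `isPSolvable_of_multFree` for a group with a central involution. -/
theorem isPSolvable_of_multFree' {R : Subgroup G} (hR : ∀ r ∈ R, r * r = 1) (hi : ¬ 2 ∣ R.index)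
    {t : G} (ht : t ∈ R) (ht1 : t ≠ 1) (hZ : t ∈ Subgroup.center G)
    (hmf : ∀ ζ ∈ principalBlock M G, ∀ l : R →* ℂˣ, l ≠ 1 →
      mult (res R ζ.1) (linChar l).1 ≤ 1) : IsPSolvable 2 G := by
  have := mf_isMulCommutative hR
  refine isPSolvable_of_multFree hM (A := R) (fun a => Subtype.ext (hR a a.2)) G R.subtype
    (by rwa [range_subtype]) fun ζ hζ l => ?_
  by_cases hl : l = 1
  swap
  · exact hmf ζ hζ l hl
  obtain ⟨φ, hφ⟩ := exists_units_hom_ne_one_of_comm (G := R) (g := ⟨t, ht⟩)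
    fun h => ht1 (congrArg Subtype.val h)
  have h2 : ∀ x, φ x ^ 2 = 1 := fun x => by
    rw [← map_pow, sq, show x * x = 1 from Subtype.ext (hR x x.2), map_one]
  have h3 := transfer_pow_eq_one φ h2
  have h4 := transfer_eq_pow_of_forall φ t (φ ⟨t, ht⟩) fun k g hk => by
    rw [← map_pow]
    refine congrArg φ (Subtype.ext ?_)
    rw [coe_pow, coe_mk, coe_mk, mul_assoc, ← mem_center_iff.1 (pow_mem hZ k) g,
      inv_mul_cancel_left]
  obtain ⟨m, hm⟩ := Nat.not_even_iff_odd.1 (mt even_iff_two_dvd.1 hi)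
  rw [hm, pow_succ, pow_mul, h2, one_pow, one_mul] at h4
  generalize MonoidHom.transfer φ = s at h3 h4
  have h5 : s • ζ ∈ principalBlock M G := mem_block_of_forall_regular hM isPBlock_principalBlock hζ
    fun g hg => by
      obtain ⟨m, hm⟩ := Nat.not_even_iff_odd.1 (mt even_iff_two_dvd.1 hg)
      have : s g = 1 := by
        rw [← map_one s, ← pow_orderOf_eq_one g, hm, map_pow, pow_succ, pow_mul, h3, one_pow,
          one_mul]
      rw [centralChar, centralChar, lin_smul_apply, lin_smul_apply, this, map_one, Units.val_one,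
        one_mul, one_mul, sub_self]
      exact zero_mem _
  refine le_of_eq_of_le (mult_eq_of_ip_eq ?_) (hmf _ h5 (s.comp R.subtype) fun h => hφ ?_)
  · rw [← ((irr_isCharacter _).res R).ip_eq_mult (irr_isCharacter _), hl]
    have := Fintype.ofFinite R
    rw [ip_def, ip_def]
    refine congrArg _ (Finset.sum_congr rfl fun r _ => ?_)
    rw [res_apply, lin_smul_apply, linChar_apply, linChar_apply, units_hom_conj, units_hom_conj]
    simp [mul_right_comm _ (ζ.1 r)]
  · rw [← h4]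
    exact DFunLike.congr_fun h ⟨t, ht⟩

/-- The combinatorial core of the determination of the character values. -/
theorem cdiff_comb {X F : Type*} (S : Finset X) (T : Finset F) [DecidableEq F] (e : F)
    (d : F → ℕ) (g : X → ℤ) (h : X → F → ℕ) (he : d e = 1) (hd : ∀ η ∈ T, Odd (d η))
    (h1 : ∀ η ∈ T, (d η : ℤ) = (if η = e then 1 else 0) + ∑ χ ∈ S, h χ η * g χ)
    (h2 : ∀ χ ∈ S, ((∑ η ∈ T, h χ η * d η : ℕ) : ℤ) = g χ + 1) (h3 : ∀ χ ∈ S, g χ ≠ 0) :
    (∀ η ∈ T, d η = 1) ∧ ∀ χ ∈ S, g χ = 1 ∨ g χ = -1 := by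
  classical
  have h4 : ∀ χ ∈ S, ∀ η ∈ T, (h χ η * d η : ℤ) ≤ g χ + 1 := fun χ hχ η hη => by
    rw [← h2 χ hχ]
    exact_mod_cast Finset.single_le_sum (f := fun η => h χ η * d η) (fun _ _ => Nat.zero_le _) hη
  have h5 : ∀ χ ∈ S, ∀ η ∈ T, h χ η ≠ 0 → (d η : ℤ) ≤ g χ + 1 ∧ 1 ≤ g χ := fun χ hχ η hη h0 => by
    have := h4 χ hχ η hη
    have h6 : (1 : ℤ) ≤ h χ η := by omega
    have h7 : (d η : ℤ) ≤ g χ + 1 := by nlinarith
    have := (hd η hη).pos
    have := h3 χ hχ
    omega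
  have h6 : ∀ χ ∈ S, ∀ η ∈ T, (0 : ℤ) ≤ h χ η * g χ := fun χ hχ η hη => by
    by_cases h0 : h χ η = 0
    · simp [h0]
    · have := (h5 χ hχ η hη h0).2
      positivity
  have h7 : ∀ χ ∈ S, ∀ η ∈ T, (h χ η * g χ : ℤ) ≤ d η := fun χ hχ η hη => by
    rw [h1 η hη]
    exact le_add_of_nonneg_of_le (by positivity)
      (Finset.single_le_sum (f := fun χ => (h χ η * g χ : ℤ)) (fun χ hχ => h6 χ hχ η hη) hχ)
  have h8 : ∀ χ ∈ S, ∀ η ∈ T, h χ η ≠ 0 → g χ ≤ d η := fun χ hχ η hη h0 => by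
    have := h7 χ hχ η hη
    have := (h5 χ hχ η hη h0).2
    have h6 : (1 : ℤ) ≤ h χ η := by omega
    nlinarith
  have h9 : ∀ η ∈ T, d η = 1 := fun η hη => by
    by_contra h0
    have h10 : 3 ≤ d η := by obtain ⟨m, hm⟩ := hd η hη; omega
    have h11 := h1 η hη
    rw [if_neg (by rintro rfl; exact h0 he), zero_add] at h11
    obtain ⟨χ, hχ, h12⟩ := Finset.exists_ne_zero_of_sum_ne_zero
      (show ∑ χ ∈ S, (h χ η * g χ : ℤ) ≠ 0 by omega)
    have h13 : h χ η ≠ 0 := by rintro h; simp [h] at h12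
    have h14 := h5 χ hχ η hη h13
    have h15 := h8 χ hχ η hη h13
    have h16 : h χ η = 1 := by
      have := h7 χ hχ η hη
      by_contra h17
      have : (2 : ℤ) ≤ h χ η := by omega
      nlinarith
    rcases (show (d η : ℤ) = g χ + 1 ∨ (d η : ℤ) = g χ by omega) with h17 | h17
    · rw [← Finset.add_sum_erase _ _ hχ, h16] at h11
      obtain ⟨χ', hχ', h18⟩ := Finset.exists_ne_zero_of_sum_ne_zero
        (show ∑ χ' ∈ S.erase χ, (h χ' η * g χ' : ℤ) ≠ 0 by omega)
      have h19 := Finset.single_le_sum (f := fun χ => (h χ η * g χ : ℤ))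
        (fun χ hχ => h6 χ (Finset.mem_of_mem_erase hχ) η hη) hχ'
      have h20 : h χ' η ≠ 0 := by rintro h; simp [h] at h18
      have h21 := h5 χ' (Finset.mem_of_mem_erase hχ') η hη h20
      have := le_mul_of_one_le_left (zero_le_one.trans h21.2) (show (1 : ℤ) ≤ h χ' η by omega)
      omega
    · have h18 := h2 χ hχ
      rw [← Finset.add_sum_erase _ _ hη, h16] at h18
      obtain ⟨η', hη', h19⟩ := Finset.exists_ne_zero_of_sum_ne_zero
        (show ∑ η' ∈ T.erase η, h χ η' * d η' ≠ 0 by omega)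
      have h20 := Finset.single_le_sum (f := fun η => h χ η * d η) (fun _ _ => Nat.zero_le _) hη'
      have h21 := h8 χ hχ η' (Finset.mem_of_mem_erase hη') (left_ne_zero_of_mul h19)
      have := Nat.le_mul_of_pos_left (d η') (Nat.pos_of_ne_zero (left_ne_zero_of_mul h19))
      omega
  refine ⟨h9, fun χ hχ => ?_⟩
  have h10 := h2 χ hχ
  by_cases h11 : ∑ η ∈ T, h χ η * d η = 0
  · omega
  · obtain ⟨η, hη, h12⟩ := Finset.exists_ne_zero_of_sum_ne_zero h11
    have := h8 χ hχ η hη (left_ne_zero_of_mul h12)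
    have := h5 χ hχ η hη (left_ne_zero_of_mul h12)
    have := h9 η hη
    omega

namespace CDiff2

variable {P : Subgroup G} (H : CDiff2 M P)
include hM H

theorem mult_eq {χ : IrrCharacter G} (hχ : χ ∈ prinNe M G) (l : P →* ℂˣ) [Decidable (l = 1)] :
    (mult (res P χ.1) (linChar l).1 : ℤ) =
      1 + if l = 1 then (charDegree χ.1 - Nat.card P : ℤ) else 0 := by
  have h := mf_mult_of_const (irr_isCharacter χ)
    (H.val χ (mem_prinNe.1 hχ).1 (mem_prinNe.1 hχ).2) l
  refine Int.cast_injective (α := ℂ) (mul_left_cancel₀ (card_cast_ne_zero (G := P)) ?_)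
  rw [Int.cast_natCast, h, irr_apply_one]
  split_ifs <;> push_cast <;> ring

theorem solv {t : G} (ht : t ∈ P) (ht1 : t ≠ 1) : IsPSolvable 2 (centralizer ({t} : Set G)) := by
  classical
  have hle : P ≤ centralizer ({t} : Set G) := fun r hr =>
    mem_centralizer_singleton_iff.2 (mf_comm H.sq hr ht)
  refine isPSolvable_of_multFree' hM (R := P.subgroupOf _) (fun r hr => Subtype.ext (H.sq r hr))
    (H.syl.of_le hle le_top).not_dvd (t := ⟨t, hle ht⟩) ht (fun h => ht1 (congrArg Subtype.val h))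
    (mem_center_iff.2 fun g => Subtype.ext (mem_centralizer_singleton_iff.1 g.2))
    fun ξ hξ l hl => ?_
  obtain ⟨χ, hχ, h⟩ := exists_liesOver_of_isInducedBlock hM
    (isInducedBlock_principal_of_eq hM rfl (mf_isPElt H.sq ht)) hξ
  refine (mf_mult_le (P.subgroupOf (centralizer {t})).subtype ((irr_isCharacter χ).res _) h
    (irr_isCharacter _)).trans ?_
  have h1 := mf_mult_of_const (R := P.subgroupOf (centralizer {t})) ((irr_isCharacter χ).res _)
    (c := χ.1 t) (fun r hr hr1 => (irr_isClassFunction χ).of_isConj (H.fus _ _ (mf_isPElt H.sq hr)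
      (fun h => hr1 (Subtype.ext h)) (mf_isPElt H.sq ht) ht1)) l
  rw [if_neg hl, add_zero, card_subgroupOf_of_le hle, res_apply, coe_one] at h1
  by_cases h2 : χ = irrOne G
  · rw [h2, irrOne_apply, irrOne_apply, sub_self, mul_eq_zero, or_iff_right card_cast_ne_zero,
      Nat.cast_eq_zero] at h1
    exact h2 ▸ h1.trans_le zero_le_one
  · rw [H.val χ hχ h2 t ht ht1, sub_sub_cancel, mul_right_eq_self₀, or_iff_left card_cast_ne_zero,
      Nat.cast_eq_one] at h1
    exact h1.le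

theorem sum_degree (h1 : P ≠ ⊥) :
    1 + ∑ χ ∈ prinNe M G, (charDegree χ.1 : ℤ) * (charDegree χ.1 - Nat.card P) = 0 := by
  obtain ⟨⟨t, ht⟩, ht1⟩ := ne_bot_iff_exists_ne_one.1 h1
  replace ht1 : t ≠ 1 := fun h => ht1 (Subtype.ext h)
  have h := bker_eq_zero_of_regular' hM (isPBlock_principalBlock (M := M) (G := G))
    ((mf_isPElt H.sq ht).dvd_orderOf ht1) not_dvd_orderOf_one
  rw [bker_def, sum_bset_principal hM, irrOne_apply, irrOne_apply, map_one, mul_one] at h
  refine Int.cast_injective (α := ℂ) ?_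
  push_cast
  rw [← h]
  refine congrArg _ (Finset.sum_congr rfl fun χ hχ => ?_)
  rw [H.val χ (mem_prinNe.1 hχ).1 (mem_prinNe.1 hχ).2 t ht ht1, irr_apply_one,
    Complex.conj_natCast, mul_comm]

theorem core_centralizer {t : G} (ht : t ∈ P) (ht1 : t ≠ 1) :
    (pPrimeCore 2 (centralizer ({t} : Set G))).map (centralizer ({t} : Set G)).subtype = ⊥ := by
  classical
  obtain ⟨χ, hχ, h⟩ : ∃ χ ∈ prinNe M G, charDegree χ.1 < Nat.card P := by
    by_contra! h
    have := H.sum_degree hM fun h => ht1 (mem_bot.1 (h ▸ ht))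
    have := Finset.sum_nonneg fun χ hχ => mul_nonneg (Int.natCast_nonneg (charDegree χ.1))
      (sub_nonneg.2 (Int.ofNat_le.2 (h χ hχ)))
    omega
  have h1 := H.mult_eq hM hχ 1
  rw [if_pos rfl] at h1
  refine eq_bot_iff.2 ((mf_core_le_ker hM H.sq (fun r => H.solv hM) (mem_prinNe.1 hχ).1
    (fun l => ?_) (l₀ := 1) (by omega) ht).trans ?_)
  · have := H.mult_eq hM hχ l
    split_ifs at this <;> omega
  · rw [← H.core]
    refine le_pPrimeCore' fun h2 => ?_
    obtain ⟨⟨j, hj⟩, hj2⟩ := exists_prime_orderOf_dvd_card' 2 h2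
    rw [orderOf_mk] at hj2
    have h3 := (irr_isClassFunction χ).of_isConj (H.fus j t ⟨1, hj2⟩ (by rintro rfl; simp at hj2)
      (mf_isPElt H.sq ht) ht1)
    rw [H.val χ (mem_prinNe.1 hχ).1 (mem_prinNe.1 hχ).2 t ht ht1, (irr_mem_ker_iff χ).1 hj,
      eq_comm, sub_eq_self] at h3
    exact card_cast_ne_zero h3

theorem cent_le {t : G} (ht : t ∈ P) (ht1 : t ≠ 1) :
    centralizer ({t} : Set G) ≤ normalizer (P : Set G) ∧ centralizer (P : Set G) ≤ P :=
  mf_centralizer_le H.sq H.syl ht (H.solv hM ht ht1) (H.core_centralizer hM ht ht1)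

theorem blockPart_apply {t : G} (ht : t ∈ P) (ht1 : t ≠ 1) {θ : G → ℂ}
    (hθ : IsClassFunction G θ) : blockPart (principalBlock M G) θ t = θ t := by
  have h := blockPart_principal_apply_mul hM rfl (mf_isPElt H.sq ht) hθ (s := 1)
    not_dvd_orderOf_one
  rw [coe_one, mul_one] at h
  rw [h, blockPart_apply_eq_sum_bset, sum_bset_eq_sum_univ,
    ← (isClassFunction_shift rfl hθ).apply_eq_sum_irr, shift_apply, coe_one, mul_one]
  refine fun ξ hξ => absurd ((mem_principal_iff_of_isPSolvable hM (H.solv hM ht ht1) ξ).2 ?_) hξ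
  rw [(map_eq_bot_iff_of_injective _ (subtype_injective _)).1 (H.core_centralizer hM ht ht1)]
  exact bot_le

theorem comb {t : G} (ht : t ∈ P) (ht1 : t ≠ 1) :
    _root_.commutator (normalizer (P : Set G)) ≤ P.subgroupOf _ ∧ ∀ χ ∈ prinNe M G,
      (charDegree χ.1 - Nat.card P : ℤ) = 1 ∨ (charDegree χ.1 - Nat.card P : ℤ) = -1 := by
  classical
  set N := normalizer (P : Set G)
  have hPN : P ≤ N := le_normalizer
  have := Fintype.ofFinite (P.subgroupOf N)
  obtain ⟨h1, h2⟩ := cdiff_comb (prinNe M G) (bset (kerSet (P.subgroupOf N))) (irrOne N)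
    (fun η => charDegree η.1) (fun χ => charDegree χ.1 - Nat.card P)
    (fun χ η => mult (res N χ.1) η.1) charDegree_irrOne
    (fun η _ => Odd.of_dvd_nat (Nat.not_even_iff_odd.1 (mt even_iff_two_dvd.1
      (H.syl.of_le hPN le_top).not_dvd)) (irr_degree_dvd_index_of_normal_comm η _
        fun a ha b hb => Subtype.ext (mf_comm H.sq ha hb)))
    (fun η hη => by
      have h3 := ind_apply_of_TI_aux (irr_isClassFunction η) ⟨t, hPN ht⟩ fun g hg =>
        extendByZero_of_notMem _ _ fun h => mf_conj_not_mem H.sq H.syl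
          (fun t ht ht1 => (H.cent_le hM ht ht1).1) (mt inv_mem_iff.1 hg) ht ht1 (by
            rw [inv_inv]
            exact H.syl.mem_of_mem_normalizer 
              (by simpa using (mf_isPElt H.sq ht).conj g⁻¹) (mem_top _) h)
      rw [← H.blockPart_apply hM ht ht1 (isClassFunction_ind _ _), blockPart_apply_eq_sum_bset,
        sum_bset_principal hM, ker_apply_eq (mem_bset.1 hη (show _ ∈ P.subgroupOf N from ht)),
        irr_apply_one, ip_ind_left _ _ (irr_isClassFunction _), irrOne_apply, mul_one,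
        show res N (irrOne G).1 = (irrOne N).1 from rfl, ip_irr] at h3
      refine Int.cast_injective (α := ℂ) ?_
      push_cast
      rw [← h3]
      congr 1
      refine Finset.sum_congr rfl fun χ hχ => ?_
      rw [(irr_isCharacter η).ind.ip_eq_mult (irr_isCharacter χ),
        mult_ind _ (irr_isCharacter η) (irr_isCharacter χ),
        H.val χ (mem_prinNe.1 hχ).1 (mem_prinNe.1 hχ).2 t ht ht1, irr_apply_one])
    (fun χ hχ => by
      have h3 := blockPart_kerSet (P.subgroupOf N) ((irr_isClassFunction χ).res N) 1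
      have := Fintype.ofFinite P
      have h4 := sum_res_eq_card_mul_mult (irr_isCharacter χ) P
      rw [degree_blockPart_eq_sum _ ((irr_isCharacter χ).res N), card_subgroupOf_of_le hPN,
        Fintype.sum_equiv (subgroupOfEquivOfLe hPN).toEquiv _ (fun s => χ.1 s) (by simp), h4,
        inv_mul_cancel_left₀ card_cast_ne_zero, Nat.cast_inj] at h3
      have h5 := H.mult_eq hM hχ 1
      rw [if_pos rfl, linChar_one, irrOne_val] at h5
      rw [h3, h5, add_comm])
    fun χ hχ => sub_ne_zero.2 (Int.natCast_inj.not.2 (degree_ne_card_of_principal hM H.syl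
      (fun h => ht1 (mem_bot.1 (h ▸ ht))) (mem_prinNe.1 hχ).1))
  exact ⟨fun g hg => (mem_normal_iff_forall_irr _).2 fun η hη =>
    (irr_degree_eq_one_iff_commutator_le_ker η).1 (h1 η (mem_bset.2 hη)) hg, h2⟩

theorem cent_eq {t : G} (ht : t ∈ P) (ht1 : t ≠ 1) : centralizer ({t} : Set G) = P := by
  have hPC : P ≤ centralizer (P : Set G) := fun r hr => mem_centralizer_iff.2 fun s hs =>
    mf_comm H.sq hs hr
  refine le_antisymm (fun c hc => (H.cent_le hM ht ht1).2 (mem_centralizer_iff.2 fun s hs => ?_))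
    fun r hr => mem_centralizer_singleton_iff.2 (mf_comm H.sq hr ht)
  by_cases hs1 : s = 1
  · simp [hs1]
  obtain ⟨g, rfl⟩ := isConj_iff.1 (H.fus t s (mf_isPElt H.sq ht) ht1 (mf_isPElt H.sq hs) hs1)
  obtain ⟨n, hn, h⟩ := exists_mem_normalizer_conj_eq_of_mem_centralizer H.syl.toSylowTop
    (hPC ht) (hPC hs)
  have h1 : ⁅n⁻¹, c⁆ ∈ P := (H.comb hM ht ht1).1 (commutator_mem_commutator
    (mem_top (⟨n⁻¹, inv_mem hn⟩ : normalizer (P : Set G)))
    (mem_top ⟨c, (H.cent_le hM ht ht1).1 hc⟩))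
  have h2 := mf_comm H.sq h1 ht
  have h3 := mem_centralizer_singleton_iff.1 hc
  rw [← h]
  calc n * t * n⁻¹ * c = n * (t * ⁅n⁻¹, c⁆) * c * n⁻¹ := by group
    _ = n * ⁅n⁻¹, c⁆ * (t * c) * n⁻¹ := by rw [← h2]; group
    _ = c * (n * t * n⁻¹) := by rw [← h3]; group

theorem mul_self (j g : G) (hj : orderOf j = 2) (hc : Commute j g) : g * g = 1 := by
  obtain ⟨x, -, hx⟩ := H.syl.exists_conj_mem (x := j) ⟨1, hj⟩ (mem_top _)
  have h := H.cent_eq hM hx (by rw [Ne, conj_eq_one_iff]; rintro rfl; simp at hj)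
  have h1 := H.sq (x * g * x⁻¹) (h ▸ mem_centralizer_singleton_iff.2 (by
    rw [conj_mul, conj_mul, hc.eq]))
  rwa [conj_mul, conj_eq_one_iff] at h1

omit hM in
theorem isConj_iff_orderOf {t : G} (ht : t ∈ P) (ht1 : t ≠ 1) {a : G} :
    IsConj t a ↔ orderOf a = 2 := by
  have h : orderOf t = 2 := orderOf_eq_prime (by rw [pow_two, H.sq t ht]) ht1
  exact ⟨fun h' => orderOf_eq_of_isConj h' ▸ h, fun h' => H.fus _ _ (mf_isPElt H.sq ht) ht1 ⟨1, h'⟩
    (by rintro rfl; simp at h')⟩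

theorem clMul_eq {t : G} (ht : t ∈ P) (ht1 : t ≠ 1) : clMul t t t = Nat.card P - 2 := by
  classical
  have := Fintype.ofFinite P
  have := Fintype.ofFinite G
  have h1 : (⟨t, ht⟩ : P) ∈ Finset.univ.erase 1 :=
    Finset.mem_erase.2 ⟨fun h => ht1 (congrArg Subtype.val h), Finset.mem_univ _⟩
  have h2 := Finset.card_erase_add_one h1
  have h3 := Finset.card_erase_add_one (Finset.mem_univ (1 : P))
  rw [clMul_apply, Nat.card_eq_fintype_card, Fintype.card_subtype, Nat.card_eq_fintype_card,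
    ← Finset.card_univ, ← h3, ← h2, eq_sub_iff_add_eq]
  norm_cast
  rw [add_assoc, Nat.add_right_cancel_iff, eq_comm]
  refine Finset.card_bij (fun a _ => ((a : G), a * t)) (fun a ha => ?_)
    (fun a _ b _ h => Subtype.ext (congrArg Prod.fst h)) fun ⟨a, b⟩ hab => ?_
  · obtain ⟨h4, h5⟩ := Finset.mem_erase.1 ha
    refine Finset.mem_filter.2 ⟨Finset.mem_univ _, H.fus _ _ (mf_isPElt H.sq ht) ht1
      (mf_isPElt H.sq a.2) fun h => Finset.ne_of_mem_erase h5 (Subtype.ext h),
      H.fus _ _ (mf_isPElt H.sq ht) ht1 (mf_isPElt H.sq (mul_mem a.2 ht)) fun h => h4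
        (Subtype.ext (mul_right_cancel (h.trans (H.sq t ht).symm))), ?_⟩
    rw [← mul_assoc, H.sq a a.2, one_mul]
  · obtain ⟨-, h4, h5, h6⟩ := Finset.mem_filter.1 hab
    rw [H.isConj_iff_orderOf ht ht1] at h4 h5
    simp only at h4 h5 h6
    have ha : a * a = 1 := by rw [← pow_two, ← h4, pow_orderOf_eq_one]
    have hb : b * b = 1 := by rw [← pow_two, ← h5, pow_orderOf_eq_one]
    have h7 : a * t = b := by rw [← h6, ← mul_assoc, ha, one_mul]
    have h8 : a ∈ P := H.cent_eq hM ht ht1 ▸ mem_centralizer_singleton_iff.2 (by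
      rw [← inv_eq_of_mul_eq_one_right (h7 ▸ hb : a * t * (a * t) = 1), mul_inv_rev,
        inv_eq_of_mul_eq_one_right ha, inv_eq_of_mul_eq_one_right (H.sq t ht)])
    refine ⟨⟨a, h8⟩, Finset.mem_erase.2 ⟨fun h => ?_, Finset.mem_erase.2
      ⟨fun h => ?_, Finset.mem_univ _⟩⟩, by rw [h7]⟩
    · rw [← h7, show a = t from congrArg Subtype.val h, H.sq t ht] at h5
      simp at h5
    · rw [show a = 1 from congrArg Subtype.val h] at h4
      simp at h4

theorem index_eq (h1 : P ≠ ⊥) (h2 : Nat.card P ≠ 2) : P.index + 1 = Nat.card P ^ 2 := by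
  classical
  obtain ⟨⟨t, ht⟩, ht1⟩ := ne_bot_iff_exists_ne_one.1 h1
  replace ht1 : t ≠ 1 := fun h => ht1 (Subtype.ext h)
  have hq0 : (Nat.card P : ℂ) ≠ 0 := card_cast_ne_zero
  have hq2 : (Nat.card P : ℂ) - 2 ≠ 0 := sub_ne_zero.2 (by exact_mod_cast h2)
  have hq1 : (Nat.card P : ℂ) ^ 2 - 1 ≠ 0 := sub_ne_zero.2 (by
    have := (one_lt_card_iff_ne_bot P).2 h1
    exact_mod_cast (Nat.one_lt_pow two_ne_zero this).ne')
  have hv : ∀ χ ∈ prinNe M G, χ.1 1 = χ.1 t + Nat.card P ∧ χ.1 t * χ.1 t = 1 := fun χ hχ => by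
    have h3 := H.val χ (mem_prinNe.1 hχ).1 (mem_prinNe.1 hχ).2 t ht ht1
    refine ⟨by rw [h3, sub_add_cancel], ?_⟩
    rw [h3, irr_apply_one]
    rcases (H.comb hM ht ht1).2 χ hχ with h | h <;>
      have := congrArg (Int.cast (R := ℂ)) h <;> push_cast at this <;> rw [this] <;> norm_num
  have h3 := H.blockPart_apply hM ht ht1 (isClassFunction_deltaFun t)
  have h4 : deltaFun t t = Nat.card P := by
    have := sum_irr_mul_conj t t
    rw [if_pos (IsConj.refl t), H.cent_eq hM ht ht1] at this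
    rw [← this, deltaFun, Finset.sum_apply]
    exact Finset.sum_congr rfl fun χ _ => mul_comm _ _
  rw [blockPart_deltaFun, h4, bker_def, sum_bset_principal hM, Finset.sum_congr rfl fun χ hχ => by
    rw [conj_irr_of_sq χ (H.sq t ht), (hv χ hχ).2], irrOne_apply, map_one, mul_one] at h3
  have h5 := bker_eq_zero_of_regular hM (isPBlock_principalBlock (M := M) (G := G))
    not_dvd_orderOf_one ((mf_isPElt H.sq ht).dvd_orderOf ht1)
  rw [bker_def, sum_bset_principal hM, Finset.sum_congr rfl fun χ hχ => by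
    rw [conj_irr_of_sq χ (H.sq t ht), (hv χ hχ).1, add_mul, (hv χ hχ).2], irrOne_apply,
    irrOne_apply, map_one, mul_one, Finset.sum_add_distrib, ← add_assoc, h3, ← Finset.mul_sum] at h5
  have h6 := H.blockPart_apply hM ht ht1 (isClassFunction_clMul t t)
  rw [blockPart_clMul, H.clMul_eq hM ht ht1, H.cent_eq hM ht ht1, sum_bset_principal hM,
    Finset.sum_congr rfl (g := fun χ : IrrCharacter G =>
      ((Nat.card P : ℂ) ^ 2 - 1)⁻¹ * ((Nat.card P : ℂ) * χ.1 t - 1)) fun χ hχ => ?_, ← Finset.mul_sum, Finset.sum_sub_distrib, ← Finset.mul_sum,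
    eq_neg_of_add_eq_zero_right h5, eq_sub_of_add_eq' h3, ← P.card_mul_index] at h6
  · have h7 : (P.index : ℂ) ≠ 0 := Nat.cast_ne_zero.2 P.index_ne_zero_of_finite
    simp only [irrOne_apply, map_one] at h6
    refine Nat.cast_injective (R := ℂ) (mul_left_cancel₀ hq2 ?_)
    push_cast at h6 ⊢
    field_simp at h6
    linear_combination (Nat.card P : ℂ)⁻¹ * h6 +
      (Nat.card P - 2) * (Nat.card P ^ 2 - P.index - 1) * mul_inv_cancel₀ hq0
  · have h7 := irr_apply_one_ne_zero χ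
    rw [conj_irr_of_sq χ (H.sq t ht), (hv χ hχ).2, div_eq_iff h7, (hv χ hχ).1]
    field_simp
    linear_combination (-Nat.card P) * (hv χ hχ).2

theorem exists_SL2 (h1 : P ≠ ⊥) (h2 : Nat.card P ≠ 2) :
    ∃ (n : ℕ) (F : Type) (_ : Field F) (_ : Fintype F), 2 ≤ n ∧ Nat.card P = 2 ^ n ∧
      Fintype.card F = 2 ^ n ∧ Nonempty (G ≃* Matrix.SpecialLinearGroup (Fin 2) F) := by
  classical
  obtain ⟨⟨t, ht⟩, ht1⟩ := ne_bot_iff_exists_ne_one.1 h1
  replace ht1 : t ≠ 1 := fun h => ht1 (Subtype.ext h)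
  have h3 := H.index_eq hM h1 h2
  have h4 := card_invol_eq_card_sylow_mul (H.mul_self hM) H.syl.toSylowTop
  have hq := (one_lt_card_iff_ne_bot P).2 h1
  rw [Nat.card_congr (Equiv.subtypeEquivRight fun _ => (H.isConj_iff_orderOf ht ht1).symm),
    card_conj_eq_index, H.cent_eq hM ht ht1, H.syl.coe_toSylowTop] at h4
  have h5 : Nat.card (Sylow 2 G) = Nat.card P + 1 := by
    obtain ⟨r, hr⟩ := Nat.exists_eq_add_of_lt hq
    refine Nat.eq_of_mul_eq_mul_right (m := Nat.card P - 1) (by omega) ?_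
    rw [← h4]
    rw [hr] at h3 ⊢
    simp only [show 1 + r + 1 - 1 = r + 1 by omega]
    nlinarith
  have hc : ∀ S : Sylow 2 G, Nat.card S = Nat.card P := fun S =>
    (isSylowIn_sylow S).card_eq_card H.syl
  have hfree : ∀ (a b : Sylow 2 G), a ≠ b → ∀ s ∈ (a : Subgroup G), s • b = b → s = 1 := by
    intro a b hab s hs h
    by_contra hs1
    have := (isSylowIn_sylow b).mem_of_mem_normalizer (isPElt_of_mem_sylow a hs) (mem_top _)
      (Sylow.smul_eq_iff_mem_normalizer.1 h)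
    exact hab (Sylow.ext ((centralizer_eq_sylow_of_mem (H.mul_self hM) a hs hs1).symm.trans
      (centralizer_eq_sylow_of_mem (H.mul_self hM) b this hs1)))
  have hfix : ∀ (g : G) (a b c : Sylow 2 G), a ≠ b → a ≠ c → b ≠ c → g • a = a → g • b = b →
      g • c = c → g = 1 := by
    intro g a b c hab hac hbc ha hb hc'
    have h6 : ∀ s : (a : Subgroup G), (s : G) • b ≠ a := fun s h => hab (by
      rw [smul_eq_iff_eq_inv_smul] at h
      rw [h, Sylow.smul_eq_iff_mem_normalizer.2 (le_normalizer (inv_mem s.2))])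
    have := Fintype.ofFinite (Sylow 2 G)
    obtain ⟨s, hs⟩ := ((Nat.bijective_iff_injective_and_card
      (fun s : (a : Subgroup G) => (⟨s.1 • b, h6 s⟩ : {x // x ≠ a}))).2 ⟨fun s s' h => by
        rw [← inv_mul_eq_one]
        refine Subtype.ext (hfree a b hab _ (s⁻¹ * s').2 ?_)
        rw [coe_mul, mul_smul, coe_inv, inv_smul_eq_iff]
        exact (congrArg Subtype.val h).symm, by
          rw [hc, Nat.card_eq_fintype_card (α := {x // x ≠ a}), Fintype.card_subtype_compl,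
            Fintype.card_subtype_eq, ← Nat.card_eq_fintype_card (α := Sylow 2 G), h5,
            Nat.add_sub_cancel]⟩).2 ⟨c, hac.symm⟩
    replace hs : s.1 • b = c := congrArg Subtype.val hs
    have h7 := hfree a b hab ((s : G)⁻¹ * (g * s * g⁻¹)) (mul_mem (inv_mem s.2)
      (conj_mem_of_mem_normalizer (Sylow.smul_eq_iff_mem_normalizer.1 ha) s.2)) (by
        rw [mul_smul, inv_smul_eq_iff, mul_smul, mul_smul, inv_smul_eq_iff.2 hb.symm, hs, hc'])
    rw [inv_mul_eq_one, eq_mul_inv_iff_mul_eq] at h7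
    refine hfree a b hab g ?_ hb
    rw [← centralizer_eq_sylow_of_mem (H.mul_self hM) a s.2 fun h => hbc (by rw [← hs, h, one_smul])]
    exact mem_centralizer_singleton_iff.2 h7.symm
  obtain ⟨n, hn⟩ := H.syl.isPGroup.exists_card_eq
  have hn2 : 2 ≤ n := by
    rcases n with _ | _ | n
    · omega
    · omega
    · omega
  obtain ⟨a, -, h6, F, _, _, h7⟩ := exists_SL2_of_sharply_three_transitive
    (isMultiplyPretransitive_of_free (fun g x h => hfix g (x 0) (x 1) (x 2)
      (x.injective.ne (by decide)) (x.injective.ne (by decide)) (x.injective.ne (by decide))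
      (h 0) (h 1) (h 2)) (by
        rw [h5, ← P.card_mul_index, h4, h5]
        simp [Nat.descFactorial_succ, mul_comm, mul_assoc])) hfix (by omega)
    (by rw [h5, hn]; exact (Nat.even_pow.2 ⟨even_two, by omega⟩).add_one)
  rw [h5, Nat.add_right_cancel_iff] at h6
  exact ⟨a, F, _, _, Nat.pow_right_injective le_rfl (hn.symm.trans h6) ▸ hn2, h6, h7⟩

end CDiff2

include hM in
/-- **Principal `2`-blocks with constant `χ(1) - χ(u)`.** -/
theorem CDiff.main {u : G} {k : ℂ} (H : CDiff M u k) : Nat.card G = 2 ∧ k = 2 ∨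
    ∃ (n : ℕ) (F : Type) (_ : Field F) (_ : Fintype F), 2 ≤ n ∧ k = 2 ^ n ∧ u * u = 1 ∧
      Fintype.card F = 2 ^ n ∧ Nonempty (G ≃* Matrix.SpecialLinearGroup (Fin 2) F) := by
  obtain ⟨P, hP⟩ := exists_isSylowIn (p := 2) (⊤ : Subgroup G)
  obtain ⟨h1, h2⟩ := H.cDiff2 hM hP
  by_cases h3 : Nat.card P = 2
  · have : IsCyclic (hP.toSylowTop : Subgroup G) := isCyclic_of_prime_card h3
    have h4 := (hasNormalPComplement_iff_sup_eq_top hP.toSylowTop).1
      (hasNormalPComplement_two_of_isCyclic hP.toSylowTop)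
    rw [H.core, bot_sup_eq, hP.coe_toSylowTop] at h4
    exact Or.inl ⟨by rw [← card_top, ← h4, h3], by rw [h1, h3, Nat.cast_ofNat]⟩
  obtain ⟨n, F, _, _, h4, h5, h6⟩ := h2.exists_SL2 hM (hP.ne_bot (by
    rw [card_top]; exact (H.sing hM).trans (orderOf_dvd_natCard u))) h3
  exact Or.inr ⟨n, F, _, _, h4, by rw [h1, h5]; simp, h2.mul_self hM _ _ (H.orderOf_pPart hM)
    (mem_centralizer_singleton_iff.1 (self_mem_centralizer_pPart 2 u)).symm, h6⟩

end BT
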