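import Cfsg.Agent.Lib.Block.AbFour
import Cfsg.Agent.Lib.Block.Klein
import Cfsg.Agent.Lib.Grp.DihSyl

/-!
# The principal `2`-block of a group with dihedral Sylow `2`-subgroups (Brauer)
-/

set_option autoImplicit false
set_option linter.unusedSectionVars false

namespace BT

open Cfsg CT GT Subgroup
open scoped ComplexConjugate IsMulCommutative

/-! ### Integer vectors of small norm -/

section Comb
variable {X : Type*} [Fintype X] [DecidableEq X]

theorem exists_support_of_norm {v : X → ℤ} {q : ℕ} (hq : q < 3) (h : ∑ x, v x * v x = q) :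
    ∃ s : Finset X, s.card = q ∧ (∀ x ∈ s, v x = 1 ∨ v x = -1) ∧ ∀ x ∉ s, v x = 0 := by
  obtain ⟨h1, h2⟩ := sign_of_sum_mul_self (s := Finset.univ.filter (v · ≠ 0)) (f := v) (q := q)
    (by simp) (by rw [← h]; exact Finset.sum_filter_of_ne fun x _ hx h => hx (by simp [h]))
    (by omega)
  exact ⟨_, h1, h2, by simp⟩

theorem exists_eq_dl_of_norm_one {v : X → ℤ} (h : ∑ x, v x * v x = 1) :
    ∃ a ε, (ε = 1 ∨ ε = -1) ∧ ∀ x, v x = ε * dl a x := by
  obtain ⟨s, h1, h2, h3⟩ := exists_support_of_norm (q := 1) (by norm_num) h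
  obtain ⟨a, rfl⟩ := Finset.card_eq_one.1 h1
  refine ⟨a, v a, h2 a (by simp), fun x => ?_⟩
  by_cases hx : x = a
  · rw [hx, dl_self, mul_one]
  · rw [dl_of_ne hx, mul_zero, h3 x (by simpa using hx)]

theorem exists_eq_dl_of_norm_two {v : X → ℤ} (h : ∑ x, v x * v x = 2) :
    ∃ a b ε ε', a ≠ b ∧ (ε = 1 ∨ ε = -1) ∧ (ε' = 1 ∨ ε' = -1) ∧
      ∀ x, v x = ε * dl a x + ε' * dl b x := by
  obtain ⟨s, h1, h2, h3⟩ := exists_support_of_norm (q := 2) (by norm_num) h
  obtain ⟨a, b, hab, rfl⟩ := Finset.card_eq_two.1 h1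
  refine ⟨a, b, v a, v b, hab, h2 a (by simp), h2 b (by simp), fun x => ?_⟩
  by_cases hx : x = a
  · rw [hx, dl_self, dl_of_ne hab]; ring
  by_cases hx' : x = b
  · rw [hx', dl_self, dl_of_ne hab.symm]; ring
  · rw [dl_of_ne hx, dl_of_ne hx', h3 x (by simp [hx, hx'])]; ring

theorem sum_sub_dl_sq (v : X → ℤ) (a : X) :
    ∑ x, (v x - v a * dl a x) * (v x - v a * dl a x) = ∑ x, v x * v x - v a * v a := by
  rw [eq_sub_iff_add_eq, ← sum_mul_dl a fun x => v x * v x, ← Finset.sum_add_distrib]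
  refine Finset.sum_congr rfl fun x _ => ?_
  by_cases h : x = a
  · rw [h, dl_self]; ring
  · rw [dl_of_ne h]; ring

theorem dih_struct {ι : Type*} [Fintype ι] [DecidableEq ι] [Nonempty ι] (h2 : Fintype.card ι ≠ 2)
    (deg : X → ℤ) (hdeg : ∀ x, 0 < deg x) (v : ι → X → ℤ) (y : X → ℤ)
    (hv : ∀ i j, ∑ x, v i x * v j x = 1 + if i = j then 1 else 0)
    (hy : ∀ i, ∑ x, v i x * y x = 1) (hyy : ∑ x, y x * y x = 3)
    (dv : ∀ i, ∑ x, deg x * v i x = -1) (dy : ∑ x, deg x * y x = -1) :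
    ∃ (x₁ x₂ x₃ : X) (θ : ι → X) (δ₁ δ₂ δ₃ : ℤ), (δ₁ = 1 ∨ δ₁ = -1) ∧ (δ₂ = 1 ∨ δ₂ = -1) ∧
      (δ₃ = 1 ∨ δ₃ = -1) ∧ Function.Injective θ ∧ x₁ ≠ x₂ ∧ x₁ ≠ x₃ ∧ x₂ ≠ x₃ ∧
      (∀ i, θ i ≠ x₁ ∧ θ i ≠ x₂ ∧ θ i ≠ x₃) ∧ (∀ i x, v i x = δ₁ * (dl x₁ x - dl (θ i) x)) ∧
      ∀ x, y x = δ₁ * dl x₁ x + δ₂ * dl x₂ x + δ₃ * dl x₃ x := by
  have hb : ∀ x, -2 < y x ∧ y x < 2 := fun x => by
    have := Finset.single_le_sum (fun x _ => mul_self_nonneg (y x)) (Finset.mem_univ x)
    constructor <;> nlinarith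
  have hs : ∀ (δ : ℤ) (a b : X) (f : X → ℤ), ∑ x, δ * (dl a x - dl b x) * f x = δ * (f a - f b) :=
    fun δ a b f => by
    simp only [mul_assoc, ← Finset.mul_sum, sub_mul, Finset.sum_sub_distrib, sum_dl_mul]
  have h1 : ∀ i, ∃ (a b : X) (δ : ℤ), (δ = 1 ∨ δ = -1) ∧ y a = δ ∧ y b = 0 ∧
      ∀ x, v i x = δ * (dl a x - dl b x) := fun i => by
    have h3 : ∀ a b, (∀ x, v i x = dl a x - dl b x) → ∃ (a b : X) (δ : ℤ), (δ = 1 ∨ δ = -1) ∧
        y a = δ ∧ y b = 0 ∧ ∀ x, v i x = δ * (dl a x - dl b x) := fun a b h => by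
      have h4 := hy i
      simp only [h, sub_mul, Finset.sum_sub_distrib, sum_dl_mul] at h4
      have := hb a
      have := hb b
      by_cases h5 : y b = 0
      · exact ⟨a, b, 1, Or.inl rfl, by omega, h5, fun x => by rw [h, one_mul]⟩
      · exact ⟨b, a, -1, Or.inr rfl, by omega, by omega, fun x => by rw [h]; ring⟩
    obtain ⟨a, b, ε, ε', -, hε, hε', h⟩ := exists_eq_dl_of_norm_two (v := v i) (by simp [hv])
    have h4 := dv i
    simp only [h, mul_add, Finset.sum_add_distrib, ← mul_assoc, sum_mul_dl] at h4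
    have := hdeg a
    have := hdeg b
    rcases hε with rfl | rfl <;> rcases hε' with rfl | rfl
    · omega
    · exact h3 a b fun x => by rw [h]; ring
    · exact h3 b a fun x => by rw [h]; ring
    · omega
  choose a b δ hδ ha hb' h using h1
  have hab : ∀ i j, a i ≠ b j := fun i j h => by
    have := ha i
    rw [h, hb'] at this
    rcases hδ i with h | h <;> omega
  have h3 : ∀ i j, i ≠ j → δ i = δ j ∧ (a i = a j ↔ b i ≠ b j) := fun i j hij => by
    have h4 := hv i j
    simp only [h i, hs, if_neg hij] at h4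
    rw [h j, h j, dl_of_ne (hab i j), dl_of_ne (hab j i).symm, dl, dl] at h4
    rcases hδ i with h | h <;> rcases hδ j with h' | h' <;> rw [h, h'] at h4 ⊢ <;>
      split_ifs at h4 with h5 h6 h6 <;> first | omega | simp [h5, h6]
  have h4 : ∀ i j, a i = a j := fun i j => by
    by_contra hne
    have hij : i ≠ j := fun h => hne (h ▸ rfl)
    obtain ⟨l, hl⟩ : ∃ l, l ∉ ({i, j} : Finset ι) := by
      by_contra h
      push Not at h
      exact h2 (by rw [← Finset.card_univ, ← Finset.eq_univ_of_forall h, Finset.card_pair hij])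
    simp only [Finset.mem_insert, Finset.mem_singleton, not_or] at hl
    have h5 : b i = b j := not_not.1 (mt (h3 i j hij).2.2 hne)
    have h6 : b l = b i := by_contra fun h =>
      hne (((h3 l i hl.1).2.2 h).symm.trans ((h3 l j hl.2).2.2 (h5 ▸ h)))
    have h7 : a l ≠ a i := fun h => (h3 l i hl.1).2.1 h h6
    have h8 : a l ≠ a j := fun h => (h3 l j hl.2).2.1 h (h6.trans h5)
    have hsum : ∀ f : X → ℤ, ∑ x ∈ ({a l, a i, a j} : Finset X), f x = f (a l) + (f (a i) + f (a j)) :=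
      fun f => by rw [Finset.sum_insert (by simp [h7, h8]), Finset.sum_pair hne]
    have e1 : y (a l) = δ i := (ha l).trans (h3 l i hl.1).1
    have e2 : y (a j) = δ i := (ha j).trans (h3 i j hij).1.symm
    have h9 : ∑ x ∈ ({a l, a i, a j} : Finset X)ᶜ, y x * y x = 0 := by
      rw [← Finset.sum_add_sum_compl {a l, a i, a j}, hsum, e1, e2, ha] at hyy
      rcases hδ i with h | h <;> rw [h] at hyy <;> omega
    rw [← Finset.sum_add_sum_compl {a l, a i, a j}, hsum, e1, e2, ha, Finset.sum_eq_zero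
      fun x hx => by rw [mul_self_eq_zero.1 ((Finset.sum_eq_zero_iff_of_nonneg
        fun x _ => mul_self_nonneg _).1 h9 x hx), mul_zero]] at dy
    have := hdeg (a l)
    have := hdeg (a i)
    have := hdeg (a j)
    rcases hδ i with h | h <;> rw [h] at dy <;> omega
  obtain ⟨i₀⟩ := ‹Nonempty ι›
  have h5 : ∀ i, δ i = δ i₀ := fun i => by rw [← ha, ← ha, h4 i i₀]
  obtain ⟨x₂, x₃, δ₂, δ₃, h23, hδ₂, hδ₃, h6⟩ := exists_eq_dl_of_norm_two
    (v := fun x => y x - y (a i₀) * dl (a i₀) x) (by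
      rw [sum_sub_dl_sq, hyy, ha]; rcases hδ i₀ with h | h <;> simp [h])
  have h7 : ∀ x, y x - y (a i₀) * dl (a i₀) x = 0 → x ≠ x₂ ∧ x ≠ x₃ := fun x hx => by
    rw [h6] at hx
    constructor <;> rintro rfl
    · rw [dl_self, dl_of_ne h23] at hx
      rcases hδ₂ with h | h <;> omega
    · rw [dl_self, dl_of_ne h23.symm] at hx
      rcases hδ₃ with h | h <;> omega
  have h8 := h7 (a i₀) (by rw [dl_self]; ring)
  refine ⟨a i₀, x₂, x₃, b, δ i₀, δ₂, δ₃, hδ i₀, hδ₂, hδ₃,
    fun i j hij => by_contra fun h => (h3 i j h).2.1 (h4 i j) hij, h8.1, h8.2, h23,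
    fun i => ⟨(hab i₀ i).symm, h7 _ (by rw [hb', dl_of_ne (hab i₀ i).symm]; ring)⟩,
    fun i x => by rw [h, h5, h4 i i₀], fun x => ?_⟩
  have := h6 x
  rw [ha] at this
  linear_combination this

end Comb

variable {G : Type*} [Group G] [Finite G]

section Avg
variable {p : ℕ} [Fact p.Prime] {M : Ideal AlgInt} (hM : IsPModular p M)
include hM

/-- The principal block part at a `p`-element, computed in a `p`-nilpotent subgroup containing
its centralizer. -/
theorem blockPart_principal_eq_avg {H : Subgroup G} (hH : HasNormalPComplement p H) {u : H}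
    (hu : IsPElt p (u : G)) (hC : centralizer {(u : G)} ≤ H) [Fintype (pPrimeCore p H)]
    {θ : G → ℂ} (hθ : IsClassFunction G θ) : blockPart (principalBlock M G) θ u =
      (Nat.card (pPrimeCore p H) : ℂ)⁻¹ * ∑ n : pPrimeCore p H, θ (u * (n : H)) := by
  have hN := hasNormalPComplement_of_le hH hC
  have hN' := hasNormalPComplement_subgroup hH (centralizer {u})
  have := Fintype.ofFinite (pPrimeCore p (centralizer ({(u : G)} : Set G)))
  have := Fintype.ofFinite (pPrimeCore p (centralizer ({u} : Set H)))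
  let e : pPrimeCore p (centralizer ({u} : Set H)) ≃ pPrimeCore p (centralizer ({(u : G)} : Set G)) :=
    { toFun := fun n => ⟨⟨n.1.1.1, mem_centralizer_singleton_iff.2 (congrArg Subtype.val
          (mem_centralizer_singleton_iff.1 n.1.2))⟩, hasNormalPComplement_iff_forall_mem.1 hN _
          ((isPRegular_mk _).2 (isPRegular_coe.2 (isPRegular_coe.2
            (isPRegular_of_mem_pPrimeCore n.2))))⟩
      invFun := fun n => ⟨⟨⟨n.1.1, hC n.1.2⟩, mem_centralizer_singleton_iff.2 (Subtype.ext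
          (mem_centralizer_singleton_iff.1 n.1.2))⟩, hasNormalPComplement_iff_forall_mem.1 hN' _
          ((isPRegular_mk _).2 ((isPRegular_mk _).2 (isPRegular_coe.2
            (isPRegular_of_mem_pPrimeCore n.2))))⟩
      left_inv := fun _ => rfl
      right_inv := fun _ => rfl }
  have h1 := blockPart_principal_of_nilpotent hM rfl (isPElt_coe.1 hu) hN' (hθ.res H)
  rw [principalBlock_eq_kerSet hM hH, blockPart_kerSet _ (hθ.res H)] at h1
  rw [blockPart_principal_of_nilpotent hM rfl hu hN hθ, ← Nat.card_congr e, ← e.sum_comp]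
  exact h1.symm

end Avg

variable {M : Ideal AlgInt} (hM : IsPModular 2 M)
variable {P : Subgroup G} {σ τ J : G} {k : ℕ} (D : DihSyl P σ τ J k)
include D

theorem _root_.GT.DihSyl.ne_one {u : zpowers σ} (hu : u ≠ 1) : (u : G) ≠ 1 :=
  fun h => hu (Subtype.ext h)

theorem _root_.GT.DihSyl.dvd_orderOf :
    ∀ u : zpowers σ, u ≠ 1 → 2 ∣ orderOf ((zpowers σ).subtype u) := fun u hu =>
  (D.isPElt (D.le u.2)).dvd_orderOf (D.ne_one hu)

theorem _root_.GT.DihSyl.fw_inv (B : Set (IrrCharacter G)) (l : zpowers σ →* ℂˣ)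
    (χ : IrrCharacter G) : fw B (zpowers σ).subtype l⁻¹ χ = fw B (zpowers σ).subtype l χ := by
  rw [← fw_comp (zpowers σ).subtype (σ := MulEquiv.inv _)
    (fun u => isConj_iff.2 ⟨τ, D.τ_conj u.2⟩) l]
  exact congrArg (fw B _ · χ) (MonoidHom.ext fun x => by simp)

include hM

theorem _root_.GT.DihSyl.bker_eq [DecidableEq G] {u v : G} (hu : u ∈ zpowers σ) (hu1 : u ≠ 1)
    (hv : v ∈ zpowers σ) : bker (principalBlock M G) u v =
      Nat.card (zpowers σ) * ((if u = v then 1 else 0) + if u⁻¹ = v then 1 else 0) := by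
  classical
  have hp := D.isPElt (D.le hu)
  rw [bker_of_isPElt hM isPBlock_principalBlock hp (D.isPElt (D.le hv)),
    bker_principal_self_of_nilpotent hM rfl hp (D.nilp' hu hu1), ← Nat.cast_pow]
  have hc : IsConj u u⁻¹ := isConj_iff.2 ⟨τ, D.τ_conj hu⟩
  by_cases hJ : u = J
  · rw [hJ, ← D.isSylowIn_C.card_eq, D.card_P, D.card_S, D.J_inv]
    by_cases h : J = v
    · rw [if_pos (h ▸ IsConj.refl _), if_pos h]; push_cast; ring
    · rw [if_neg h, if_neg fun h' => h (by
        rcases D.eq_or_eq_inv_of_isConj D.J_mem D.J_ne_one hv h' with h | h <;> simp [h, D.J_inv])]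
      simp
  have hne : u⁻¹ ≠ u := fun h => hJ (D.eq_J_of_sq hu hu1 (inv_eq_iff_mul_eq_one.1 h))
  rw [← (D.isSylowIn_S hu hu1 hJ).card_eq]
  by_cases h : IsConj u v
  · rw [if_pos h]
    rcases D.eq_or_eq_inv_of_isConj hu hu1 hv h with rfl | rfl
    · simp [hne]
    · simp [hne.symm]
  · rw [if_neg h, if_neg fun h' : u = v => h (h' ▸ IsConj.refl _),
      if_neg fun h' : u⁻¹ = v => h (h' ▸ hc)]
    simp

theorem _root_.GT.DihSyl.gram [DecidableEq (zpowers σ →* ℂˣ)] {l m : zpowers σ →* ℂˣ} (hl : l ≠ 1)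
    (hm : m ≠ 1) : ∑ χ, fw (principalBlock M G) (zpowers σ).subtype l χ *
      fw (principalBlock M G) (zpowers σ).subtype m χ =
      2 + ((if l = m then 1 else 0) + if l = m⁻¹ then 1 else 0) := by
  classical
  rw [gram_fw (zpowers σ).subtype (![1, MulEquiv.inv _] : Fin 2 → MulAut (zpowers σ))
    (fun u hu v _ => ?_) hl hm, Fin.sum_univ_two]
  · congr 3
    exact congrArg (l = ·) (MonoidHom.ext fun x => by simp)
  · rw [Subgroup.coe_subtype, D.bker_eq hM u.2 (D.ne_one hu) v.2, Fin.sum_univ_two]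
    simp only [Subtype.ext_iff]
    rfl

theorem _root_.GT.DihSyl.apply_J_ne_zero {χ : IrrCharacter G} (hχ : χ ∈ principalBlock M G) :
    χ.1 J ≠ 0 :=
  principal_apply_ne_zero_of_nilpotent hM rfl (D.isPElt (D.le D.J_mem)) D.nilp
    (by simpa using D.syl.not_dvd_relIndex_of_le D.le_C) hχ

theorem _root_.GT.DihSyl.sum_fw_J {l : zpowers σ →* ℂˣ} (hl : l ⟨J, D.J_mem⟩ = -1) :
    ∑ χ, fw (principalBlock M G) (zpowers σ).subtype l χ * χ.1 J = -4 := by
  classical
  have := Fintype.ofFinite (zpowers σ)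
  refine mul_left_cancel₀ (card_cast_ne_zero (G := zpowers σ)) ?_
  rw [card_mul_sum_fw, Finset.sum_eq_single ⟨J, D.J_mem⟩ (fun u _ hu => ?_) (by simp)]
  · simp only [← fun χ : IrrCharacter G => congrArg (χ.1 J * ·) (conj_irr_of_sq χ D.J_sq),
      Subgroup.coe_subtype, ← bker_def, D.bker_eq hM D.J_mem D.J_ne_one D.J_mem, D.J_inv, hl]
    simp
    ring
  · by_cases h1 : u = 1
    · simp [h1]
    have h2 : (u : G) ≠ J := fun h => hu (Subtype.ext h)
    simp only [← fun χ : IrrCharacter G => congrArg (χ.1 u * ·) (conj_irr_of_sq χ D.J_sq),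
      Subgroup.coe_subtype, ← bker_def, D.bker_eq hM u.2 (D.ne_one h1) D.J_mem]
    rw [if_neg h2, if_neg fun h => h2 (by rw [← D.J_inv, ← h, inv_inv])]
    simp

omit hM in
theorem _root_.GT.DihSyl.mem_C_of_mul {φ} (R : Retr 2 (centralizer {J}) P φ)
    {z : centralizer ({J} : Set G)} (hz : φ z ∈ zpowers σ) (h1 : φ z ≠ 1) {a b : G}
    (ha : a * a = 1) (hb : b * b = 1) (h : a * b = z) :
    a ∈ centralizer {J} ∧ b ∈ centralizer {J} := by
  obtain ⟨g, hg, h2⟩ := R.exists_conj_pPart z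
  obtain ⟨n, hn⟩ := mem_zpowers_iff.1 (D.J_mem_zpowers hz h1)
  rw [← h2, conj_zpow, mul_inv_eq_iff_eq_mul, ← mem_centralizer_singleton_iff.1 hg,
    mul_right_inj] at hn
  have h3 : a ∈ centralizer {J} := mem_centralizer_singleton_iff.2 (mul_inv_eq_iff_eq_mul.1 (by
    rw [← hn, ← conj_zpow, ← h, conj_pPart_mul_of_sq ha hb, inv_zpow, h, hn, D.J_inv]))
  exact ⟨h3, (mul_mem_cancel_left h3).1 (h ▸ z.2)⟩

omit hM in
theorem _root_.GT.DihSyl.sq_of_isConj {a : G} (h : IsConj J a) : a * a = 1 := by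
  obtain ⟨g, rfl⟩ := isConj_iff.1 h
  rw [conj_mul, D.J_sq, mul_one, mul_inv_cancel]

open Classical in
theorem _root_.GT.DihSyl.blockPart_clMul_eq {φ} (R : Retr 2 (centralizer {J}) P φ)
    [Fintype (centralizer ({J} : Set G))] {u : G} (hu : u ∈ zpowers σ) (hu1 : u ≠ 1) :
    blockPart (principalBlock M G) (clMul J J) u =
      (Nat.card (pPrimeCore 2 (centralizer ({J} : Set G))) : ℂ)⁻¹ *
      ∑ a : centralizer ({J} : Set G) with IsConj J a.1, ∑ b : centralizer ({J} : Set G) with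
        IsConj J b.1, if φ a * φ b = u then 1 else 0 := by
  have hφ : φ ⟨u, D.le_C (D.le hu)⟩ = u := R.id _ (D.le hu)
  have hφ' : ∀ n : pPrimeCore 2 (centralizer ({J} : Set G)), φ (⟨u, D.le_C (D.le hu)⟩ * n) = u :=
    fun n => by rw [map_mul, hφ, show φ n = 1 from R.ker.ge n.2, mul_one]
  have h1 : ∀ z : centralizer ({J} : Set G), φ z = u → clMul J J z =
      ∑ a : centralizer ({J} : Set G) with IsConj J a.1, ∑ b : centralizer ({J} : Set G) with
        IsConj J b.1, if a * b = z then 1 else 0 := fun z hz => by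
    rw [← Finset.sum_product', Finset.sum_boole, clMul_apply, ← Finset.card_map
      ((Function.Embedding.subtype _).prodMap (Function.Embedding.subtype _)), Nat.subtype_card]
    rintro ⟨a, b⟩
    simp only [Finset.mem_map, Finset.mem_filter, Finset.mem_product, Finset.mem_univ, true_and]
    constructor
    · rintro ⟨⟨a, b⟩, ⟨⟨ha, hb⟩, h⟩, h'⟩
      cases h'
      exact ⟨ha, hb, congrArg Subtype.val h⟩
    · rintro ⟨ha, hb, h⟩
      have := D.mem_C_of_mul R (hz ▸ hu) (hz ▸ hu1) (D.sq_of_isConj ha) (D.sq_of_isConj hb) h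
      exact ⟨(⟨a, this.1⟩, ⟨b, this.2⟩), ⟨⟨ha, hb⟩, Subtype.ext h⟩, rfl⟩
  rw [blockPart_principal_eq_avg hM D.nilp (u := ⟨u, D.le_C (D.le hu)⟩) (D.isPElt (D.le hu))
    (D.centralizer_le hu hu1) (isClassFunction_clMul J J)]
  congr 1
  refine (Finset.sum_congr rfl fun n _ => h1 _ (hφ' n)).trans ?_
  rw [Finset.sum_comm]
  refine Finset.sum_congr rfl fun a _ => ?_
  rw [Finset.sum_comm]
  refine Finset.sum_congr rfl fun b _ => ?_
  split_ifs with h
  · rw [Finset.sum_eq_single ⟨⟨u, D.le_C (D.le hu)⟩⁻¹ * (a * b), R.ker.le (by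
      rw [MonoidHom.mem_ker, map_mul, map_inv, hφ, map_mul, h, inv_mul_cancel])⟩
      (fun n _ hn => if_neg fun h' => hn (Subtype.ext (eq_inv_mul_iff_mul_eq.2 h'.symm)))
      (by simp), if_pos (by simp)]
  · exact Finset.sum_eq_zero fun n _ => if_neg fun h' => h (by rw [← map_mul, h', hφ'])

omit hM D in
theorem card_centralizer_pair {J t : G} (h : t ∈ centralizer {J}) :
    Nat.card (centralizer ({⟨t, h⟩} : Set (centralizer ({J} : Set G)))) =
      Nat.card (centralizer ({J, t} : Set G)) :=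
  Nat.card_congr
    { toFun := fun x => ⟨x.1.1, by
        rintro _ (rfl | rfl)
        exacts [x.1.2 _ rfl, congrArg Subtype.val (x.2 _ rfl)]⟩
      invFun := fun x => ⟨⟨x.1, by rintro _ rfl; exact x.2 _ (by simp)⟩, by
        rintro _ rfl; exact Subtype.ext (x.2 _ (by simp))⟩
      left_inv := fun _ => rfl
      right_inv := fun _ => rfl }

/-- Brauer's class multiplication formula. -/
theorem _root_.GT.DihSyl.card_mul_sum_fw (hτ : IsConj J τ) (hστ : IsConj J (σ * τ))
    {l : zpowers σ →* ℂˣ} (hl : l ⟨σ, mem_zpowers σ⟩ ^ 2 ≠ 1 ∨ (k = 0 ∧ l ⟨σ, mem_zpowers σ⟩ = -1)) :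
    (Nat.card G : ℂ) * ∑ χ, fw (principalBlock M G) (zpowers σ).subtype l χ * (χ.1 J ^ 2 / χ.1 1) =
      -2 * (Nat.card (centralizer ({J} : Set G)) : ℂ) ^ 3 *
        (1 / Nat.card (centralizer ({J, τ} : Set G)) +
          1 / Nat.card (centralizer ({J, σ * τ} : Set G))) ^ 2 := by
  classical
  have := Fintype.ofFinite G
  obtain ⟨φ, R⟩ := D.exists_retr
  have hτC := D.le_C D.τ_mem
  have hστP := mul_mem D.σ_mem D.τ_mem
  have hσC := D.le_C D.σ_mem
  let T : Finset (centralizer ({J} : Set G)) := {a | IsConj J a.1}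
  let T' := T.filter (φ · ∉ zpowers σ)
  let T₀ : Finset (centralizer ({J} : Set G)) := {a | IsConj ⟨τ, hτC⟩ a}
  let T₁ : Finset (centralizer ({J} : Set G)) := {a | IsConj ⟨σ * τ, D.le_C hστP⟩ a}
  have hT : ∀ a ∈ T, IsConj a.1 (φ a) ∧ ∃ g ∈ centralizer {J}, g * a * g⁻¹ = φ a := fun a ha => by
    have hp : IsPElt 2 a.1 := isPElt_of_pow_eq_one (k := 1)
      (by rw [pow_one, sq, D.sq_of_isConj (Finset.mem_filter.1 ha).2])
    exact ⟨R.isConj hp, R.conj a hp⟩
  have hJ : ∀ a ∈ T, φ a ∈ zpowers σ → φ a = J := fun a ha h => by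
    have h1 := (Finset.mem_filter.1 ha).2.trans (hT a ha).1
    exact D.eq_J_of_sq h (fun h => D.J_ne_one (isConj_one_left.1 (h ▸ h1))) (D.sq_of_isConj h1)
  have hφc : ∀ (t : G) (ht : t ∈ P) a, IsConj (⟨t, D.le_C ht⟩ : centralizer ({J} : Set G)) a →
      ∃ g ∈ P, φ a = g * t * g⁻¹ := fun t ht a h => by
    obtain ⟨g, rfl⟩ := isConj_iff.1 h
    exact ⟨φ g, R.mem g, by rw [map_mul, map_mul, map_inv, R.id ⟨t, _⟩ ht]⟩
  have hnS : ∀ t ∈ P, t ∉ zpowers σ → ∀ g ∈ P, g * t * g⁻¹ ∉ zpowers σ := fun t _ ht g hg h => by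
    by_cases hs : g ∈ zpowers σ
    · exact ht ((mul_mem_cancel_left hs).1 ((mul_mem_cancel_right (inv_mem hs)).1 h))
    · have := D.conj_of_not_mem (inv_mem hg) (mt inv_mem_iff.1 hs) h
      have h2 := inv_mem h
      rw [← this] at h2
      exact ht (by simpa [mul_assoc] using h2)
  have hcj : ∀ a b : centralizer ({J} : Set G), IsConj a b → IsConj a.1 b.1 := fun a b h =>
    (centralizer {J}).subtype.map_isConj h
  have hT' : T' = T₀ ∪ T₁ := by
    ext a
    simp only [T', T₀, T₁, Finset.mem_union, Finset.mem_filter, Finset.mem_univ, true_and]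
    constructor
    · rintro ⟨ha, h⟩
      obtain ⟨g, hg, h1⟩ := (hT a ha).2
      obtain ⟨s, hs, h2⟩ := D.exists_conj_of_not_mem (R.mem a) h
      have hsC := D.le_C (D.le hs)
      refine h2.imp (fun h2 => isConj_iff.2 ⟨⟨g⁻¹ * s, mul_mem (inv_mem hg) hsC⟩, Subtype.ext ?_⟩)
        fun h2 => isConj_iff.2 ⟨⟨g⁻¹ * s, mul_mem (inv_mem hg) hsC⟩, Subtype.ext ?_⟩
      · have := D.conj_mul_τ hs (one_mem _)
        rw [one_mul, mul_one, ← h2, ← h1] at this
        calc _ = g⁻¹ * (s * τ * s⁻¹) * g := by simp only [coe_mul, coe_inv]; group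
          _ = _ := by rw [this]; group
      · have := D.conj_mul_τ hs (mem_zpowers σ)
        rw [← h2, ← h1] at this
        calc _ = g⁻¹ * (s * (σ * τ) * s⁻¹) * g := by simp only [coe_mul, coe_inv]; group
          _ = _ := by rw [this]; group
    · rintro (h | h)
      · obtain ⟨g, hg, h1⟩ := hφc τ D.τ_mem a h
        exact ⟨Finset.mem_filter.2 ⟨Finset.mem_univ _, hτ.trans (hcj _ _ h)⟩,
          h1 ▸ hnS τ D.τ_mem D.not_mem g hg⟩
      · obtain ⟨g, hg, h1⟩ := hφc _ hστP a h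
        exact ⟨Finset.mem_filter.2 ⟨Finset.mem_univ _, hστ.trans (hcj _ _ h)⟩,
          h1 ▸ hnS _ hστP (D.mul_τ_not_mem (mem_zpowers σ)) g hg⟩
  have hdisj : Disjoint T₀ T₁ := Finset.disjoint_filter.2 fun a _ h0 h1 => by
    obtain ⟨g, hg, h⟩ := hφc τ D.τ_mem _ (h0.trans h1.symm)
    rw [R.id _ hστP] at h
    obtain ⟨s, hs, h2⟩ : ∃ s ∈ zpowers σ, g * τ * g⁻¹ = s * τ * s⁻¹ := by
      by_cases hs : g ∈ zpowers σ
      · exact ⟨g, hs, rfl⟩
      · obtain ⟨s, hs', rfl⟩ := D.exists_eq_mul hg hs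
        exact ⟨s, hs', by group⟩
    have := D.conj_mul_τ hs (one_mem _)
    rw [one_mul, mul_one, ← h2, ← h] at this
    exact D.σ_ne_mul_self hs (mul_right_cancel this).symm
  have hc : ∀ (t : G) (ht : t ∈ centralizer {J}),
      ((Finset.univ.filter (IsConj (⟨t, ht⟩ : centralizer ({J} : Set G)))).card : ℂ) =
        Nat.card (centralizer ({J} : Set G)) / Nat.card (centralizer ({J, t} : Set G)) :=
    fun t ht => by
    rw [← Nat.subtype_card _ (p := IsConj (⟨t, ht⟩ : centralizer ({J} : Set G)))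
      fun _ => by rw [Finset.mem_filter_univ], card_conj_eq_index,
      ← card_centralizer_pair ht, eq_div_iff card_cast_ne_zero, ← Nat.cast_mul, index_mul_card]
  let f : centralizer ({J} : Set G) → zpowers σ := fun a =>
    if h : φ a * τ ∈ zpowers σ then ⟨_, h⟩ else 1
  have hf : ∀ a ∈ T', (f a : G) = φ a * τ := fun a ha => by
    simp only [f, dif_pos ((D.cases _ (R.mem a)).resolve_left (Finset.mem_filter.1 ha).2)]
  have hX : ∑ a ∈ T', (l (f a) : ℂ) = 0 := by
    rcases hl with hl | ⟨hk, hl⟩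
    · have hmem : ∀ a, a ∈ T' ↔ MulAut.conj (⟨σ, hσC⟩ : centralizer ({J} : Set G)) a ∈ T' :=
        fun a => by
        simp only [hT', T₀, T₁, Finset.mem_union, Finset.mem_filter, Finset.mem_univ, true_and]
        have h1 : IsConj a (MulAut.conj (⟨σ, hσC⟩ : centralizer ({J} : Set G)) a) :=
          isConj_iff.2 ⟨_, rfl⟩
        exact or_congr ⟨fun h => h.trans h1, fun h => h.trans h1.symm⟩
          ⟨fun h => h.trans h1, fun h => h.trans h1.symm⟩
      have h1 := Finset.sum_equiv (MulAut.conj (⟨σ, hσC⟩ : centralizer ({J} : Set G))).toEquiv hmem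
        (f := fun a => (l ⟨σ, mem_zpowers σ⟩ : ℂ) ^ 2 * l (f a)) (g := fun a => (l (f a) : ℂ))
        fun a ha => by
          rw [← Units.val_pow_eq_pow_val, ← Units.val_mul, ← map_pow, ← map_mul]
          refine congrArg (fun x => (l x : ℂ)) (Subtype.ext ?_)
          have h2 := D.conj_mul_τ (mem_zpowers σ) (f a).2
          rw [hf a ha, mul_assoc (φ a), D.τ_sq, mul_one] at h2
          refine Eq.trans ?_ (hf _ ((hmem a).1 ha)).symm
          rw [MulAut.conj_apply, map_mul, map_mul, map_inv, R.id ⟨σ, hσC⟩ D.σ_mem, h2, mul_assoc _ τ, D.τ_sq,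
            mul_one, coe_mul, hf a ha, sq]
          rfl
      rw [← Finset.mul_sum] at h1
      refine (mul_eq_zero.1 (by linear_combination h1 :
        ((l ⟨σ, mem_zpowers σ⟩ : ℂ) ^ 2 - 1) * _ = 0)).resolve_left fun h => hl (Units.ext ?_)
      rw [Units.val_pow_eq_pow_val, Units.val_one, sub_eq_zero.1 h]
    · have hσ : σ = J := by rw [D.J_eq, hk, pow_zero, pow_one]
      have hsq : ∀ x ∈ P, x * x = 1 := fun x hx => by
        by_cases h : x ∈ zpowers σ
        · rw [← sq, ← orderOf_dvd_iff_pow_eq_one, ← D.ord_J, ← hσ]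
          exact orderOf_dvd_of_mem_zpowers h
        · exact D.sq_of_not_mem hx h
      have hcm : ∀ g ∈ P, ∀ t ∈ P, g * t * g⁻¹ = t := fun g hg t ht => by
        rw [inv_eq_of_mul_eq_one_right (hsq g hg), ← inv_eq_of_mul_eq_one_right (hsq t ht),
          eq_inv_iff_mul_eq_one, inv_eq_of_mul_eq_one_right (hsq t ht), mul_assoc]
        exact hsq _ (mul_mem hg ht)
      have h0 : ∀ a ∈ T₀, (l (f a) : ℂ) = 1 := fun a ha => by
        obtain ⟨g, hg, h1⟩ := hφc τ D.τ_mem a (Finset.mem_filter.1 ha).2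
        rw [show f a = 1 from Subtype.ext (by
          rw [hf a (hT' ▸ Finset.mem_union_left _ ha), h1, hcm g hg τ D.τ_mem, D.τ_sq]; rfl),
          map_one, Units.val_one]
      have h1 : ∀ a ∈ T₁, (l (f a) : ℂ) = -1 := fun a ha => by
        obtain ⟨g, hg, h1⟩ := hφc _ hστP a (Finset.mem_filter.1 ha).2
        rw [show f a = ⟨σ, mem_zpowers σ⟩ from Subtype.ext (by
          rw [hf a (hT' ▸ Finset.mem_union_right _ ha), h1, hcm g hg _ hστP, mul_assoc, D.τ_sq,
            mul_one]), hl]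
        rfl
      have h2 : centralizer ({J, σ * τ} : Set G) = centralizer {J, τ} := by
        ext x
        simp only [mem_centralizer_iff, Set.mem_insert_iff, Set.mem_singleton_iff, forall_eq_or_imp,
          forall_eq, hσ]
        refine and_congr_right fun h => ?_
        rw [← mul_assoc, ← h, mul_assoc, mul_assoc, mul_right_inj]
      rw [hT', Finset.sum_union hdisj, Finset.sum_congr rfl h0, Finset.sum_congr rfl h1]
      simp only [Finset.sum_const, nsmul_eq_mul, T₀, T₁, hc, h2]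
      ring
  have h1 := BT.card_mul_sum_fw (B := principalBlock M G) (zpowers σ).subtype l
    fun χ => χ.1 J ^ 2 / χ.1 1
  have h2 : ∀ u : zpowers σ, ((centralizer {J}).index * (centralizer {J}).index / Nat.card G : ℂ) *
      ((conj (l u : ℂ) - 1) * ∑ χ ∈ bset (principalBlock M G), χ.1 ((zpowers σ).subtype u) *
      (χ.1 J ^ 2 / χ.1 1)) = (Nat.card (pPrimeCore 2 (centralizer ({J} : Set G))) : ℂ)⁻¹ *
      ∑ a ∈ T, ∑ b ∈ T, if φ a * φ b = u then conj (l u : ℂ) - 1 else 0 := fun u => by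
    by_cases hu : u = 1
    · simp [hu]
    have h3 := D.blockPart_clMul_eq hM R u.2 (D.ne_one hu)
    rw [blockPart_clMul, Finset.sum_congr rfl (g := fun χ => χ.1 ((zpowers σ).subtype u) *
      (χ.1 J ^ 2 / χ.1 1)) fun χ _ => by rw [conj_irr_of_sq χ D.J_sq, coe_subtype]; ring] at h3
    rw [mul_left_comm, h3, mul_left_comm]
    simp only [Finset.mul_sum, mul_ite, mul_one, mul_zero, T]
    congr!
  have h3 : ∑ u : zpowers σ, ∑ a ∈ T, ∑ b ∈ T, (if φ a * φ b = u then conj (l u : ℂ) - 1 else 0) =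
      ∑ a ∈ T', ∑ b ∈ T', (conj (l (f a) : ℂ) * l (f b) - 1) := by
    simp only [← Finset.sum_product' T T, ← Finset.sum_product' T' T']
    rw [Finset.sum_comm, show T' ×ˢ T' = _ from (Finset.filter_product _ _).symm,
      Finset.sum_filter (s := T ×ˢ T)]
    refine Finset.sum_congr rfl fun ⟨a, b⟩ hab => ?_
    obtain ⟨ha, hb⟩ := Finset.mem_product.1 hab
    dsimp only at ha hb ⊢
    by_cases h : φ a ∈ zpowers σ <;> by_cases h' : φ b ∈ zpowers σ
    · rw [if_neg fun h1 => h1.1 h, hJ a ha h, hJ b hb h', D.J_sq]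
      exact Finset.sum_eq_zero fun u _ => by
        split_ifs with h
        · rw [show u = 1 from Subtype.ext h.symm]; simp
        · rfl
    · rw [if_neg fun h1 => h1.1 h]
      exact Finset.sum_eq_zero fun u _ => if_neg fun h1 : φ a * φ b = u =>
        h' ((mul_mem_cancel_left h).1 (h1 ▸ u.2))
    · rw [if_neg fun h1 => h1.2 h']
      exact Finset.sum_eq_zero fun u _ => if_neg fun h1 : φ a * φ b = u =>
        h ((mul_mem_cancel_right h').1 (h1 ▸ u.2))
    · have h4 : φ a * φ b = (f a * (f b)⁻¹ : zpowers σ) := by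
        rw [coe_mul, coe_inv, hf a (Finset.mem_filter.2 ⟨ha, h⟩), hf b (Finset.mem_filter.2 ⟨hb, h'⟩),
          mul_inv_rev, inv_eq_of_mul_eq_one_right (D.sq_of_not_mem (R.mem b) h')]
        group
      rw [if_pos ⟨h, h'⟩, h4]
      simp only [Subtype.coe_inj, Finset.sum_ite_eq, Finset.mem_univ, if_true]
      rw [← hat_mul_conj, map_mul, Complex.conj_conj]
  have h4 := congrArg (((centralizer {J}).index * (centralizer {J}).index / Nat.card G : ℂ) * ·) h1
  rw [Finset.mul_sum (Finset.univ : Finset (zpowers σ)), Finset.sum_congr rfl fun u _ => h2 u,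
    ← Finset.mul_sum, h3] at h4
  simp only [Finset.sum_sub_distrib, ← Finset.mul_sum, hX, mul_zero, Finset.sum_const_zero,
    Finset.sum_const, nsmul_eq_mul, mul_one] at h4
  rw [hT', Finset.card_union_of_disjoint hdisj, Nat.cast_add, hc, hc] at h4
  have h5 : (Nat.card (centralizer ({J} : Set G)) : ℂ) =
      Nat.card (pPrimeCore 2 (centralizer ({J} : Set G))) * (Nat.card (zpowers σ) * 2) := by
    rw [← R.card, D.card_P, D.card_S]; push_cast; ring
  have h6 : (Nat.card G : ℂ) = (centralizer {J}).index * Nat.card (centralizer ({J} : Set G)) := by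
    rw [← Nat.cast_mul, index_mul_card]
  have h7 : ((centralizer {J}).index : ℂ) ≠ 0 := Nat.cast_ne_zero.2 index_ne_zero_of_finite
  have h8 := card_cast_ne_zero (G := zpowers σ)
  have h9 := card_cast_ne_zero (G := pPrimeCore 2 (centralizer ({J} : Set G)))
  have h10 := card_cast_ne_zero (G := centralizer ({J, τ} : Set G))
  have h11 := card_cast_ne_zero (G := centralizer ({J, σ * τ} : Set G))
  rw [h6, h5] at h4 ⊢
  field_simp at h4 ⊢
  linear_combination h4

end BT
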