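import Cfsg.Agent.Lib.Block.Dihedral
import Cfsg.Agent.Lib.Block.GalBlock
import Cfsg.Agent.Lib.Char.FrobSchur

/-!
# The principal `2`-block for dihedral Sylow `2`-subgroups: structure and order formulas
-/

set_option autoImplicit false
set_option linter.unusedSectionVars false

namespace BT

open Cfsg CT GT Subgroup
open scoped ComplexConjugate IsMulCommutative

variable {G : Type*} [Group G] [Finite G]

theorem exists_hat_zpowers {σ : G} {N : ℕ} (ho : orderOf σ = N) {ζ : ℂ} (hζ : IsPrimitiveRoot ζ N) :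
    ∃ l : zpowers σ →* ℂˣ, (∀ n : ℕ, (l ⟨σ ^ n, npow_mem_zpowers σ n⟩ : ℂ) = ζ ^ n) ∧
      ∀ F : (zpowers σ →* ℂˣ) → ℂ, ∑ m, F m = ∑ j ∈ Finset.range N, F (l ^ j) := by
  have hN : N ≠ 0 := ho ▸ (orderOf_pos σ).ne'
  have hg : ∀ x : zpowers σ, x ∈ zpowers (⟨σ, mem_zpowers σ⟩ : zpowers σ) := fun x => by
    obtain ⟨n, hn⟩ := mem_zpowers_iff.1 x.2
    exact ⟨n, Subtype.ext hn⟩
  have ho' : orderOf (hζ.isUnit hN).unit ∣ orderOf (⟨σ, mem_zpowers σ⟩ : zpowers σ) := by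
    rw [← Subgroup.orderOf_coe, ho]
    exact orderOf_dvd_of_pow_eq_one (Units.ext (by simpa using hζ.pow_eq_one))
  have h1 : ∀ n : ℕ, (monoidHomOfForallMemZpowers hg ho' ⟨σ ^ n, npow_mem_zpowers σ n⟩ : ℂ) =
      ζ ^ n := fun n => by
    rw [show (⟨σ ^ n, npow_mem_zpowers σ n⟩ : zpowers σ) = ⟨σ, mem_zpowers σ⟩ ^ n from rfl,
      map_pow, monoidHomOfForallMemZpowers_apply_gen]
    simp
  refine ⟨_, h1, fun F => ?_⟩
  have := Fintype.ofFinite (zpowers σ)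
  have h2 : Set.InjOn (monoidHomOfForallMemZpowers hg ho' ^ ·) (Finset.range N) :=
    fun i hi j hj h => hζ.pow_inj (Finset.mem_range.1 hi) (Finset.mem_range.1 hj) (by
      have := congrArg Units.val (DFunLike.congr_fun h ⟨σ ^ 1, npow_mem_zpowers σ 1⟩)
      simp only [MonoidHom.pow_apply, Units.val_pow_eq_pow_val, h1] at this
      simpa only [pow_one] using this)
  exact (Finset.sum_nbij _ (fun _ _ => Finset.mem_univ _) h2 (Finset.surjOn_of_injOn_of_card_le _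
    (fun _ _ => Finset.mem_univ _) h2 (by
      rw [Finset.card_univ, card_hat, Nat.card_zpowers, ho, Finset.card_range])) fun _ _ => rfl).symm

theorem sum_range_two_mul (h : ℕ) (f : ℕ → ℂ) : ∑ j ∈ Finset.range (2 * (h + 1)), f j =
    f 0 + f (h + 1) + ∑ j : Fin h, (f (j + 1) + f (2 * (h + 1) - (j + 1))) := by
  rw [two_mul, Finset.sum_range_add, Finset.sum_range_succ', Finset.sum_range_succ',
    ← Finset.sum_range_reflect (fun i => f (h + 1 + (i + 1))), Finset.sum_add_distrib,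
    Finset.sum_range, Finset.sum_range, Finset.sum_congr rfl
      (f := fun j : Fin h => f (h + 1 + (h - 1 - j + 1))) (g := fun j : Fin h =>
      f (h + 1 + (h + 1) - (j + 1))) fun j _ => congrArg f (by omega)]
  ring

variable {M : Ideal AlgInt} (hM : IsPModular 2 M)

section Dih
variable {P : Subgroup G} {σ τ J : G} {k : ℕ} (D : DihSyl P σ τ J k)
include D hM

/-- **Brauer.** The principal block for a dihedral Sylow `2`-subgroup of order at least `8`. -/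
theorem _root_.GT.DihSyl.exists_struct (hk : 1 ≤ k) {ζ : ℂ} (hζ : IsPrimitiveRoot ζ (2 ^ (k + 1))) :
    ∃ (χ₁ χ₂ χ₃ : IrrCharacter G) (θ : Fin (2 ^ k - 1) → IrrCharacter G) (δ₁ δ₂ δ₃ : ℤ),
    (δ₁ = 1 ∨ δ₁ = -1) ∧ (δ₂ = 1 ∨ δ₂ = -1) ∧ (δ₃ = 1 ∨ δ₃ = -1) ∧ Function.Injective θ ∧
    χ₁ ≠ irrOne G ∧ χ₂ ≠ irrOne G ∧ χ₃ ≠ irrOne G ∧ χ₁ ≠ χ₂ ∧ χ₁ ≠ χ₃ ∧ χ₂ ≠ χ₃ ∧
    (∀ j, θ j ≠ χ₁ ∧ θ j ≠ χ₂ ∧ θ j ≠ χ₃ ∧ θ j ≠ irrOne G) ∧
    (∀ χ, χ ∈ principalBlock M G ↔ χ = irrOne G ∨ χ = χ₁ ∨ χ = χ₂ ∨ χ = χ₃ ∨ ∃ j, χ = θ j) ∧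
    (∀ l : ℕ, 0 < l → l < 2 ^ (k + 1) → χ₁.1 (σ ^ l) = δ₁ ∧ χ₂.1 (σ ^ l) = δ₂ * (-1) ^ (l + 1) ∧
      χ₃.1 (σ ^ l) = δ₃ * (-1) ^ (l + 1) ∧ ∀ j : Fin (2 ^ k - 1),
        (θ j).1 (σ ^ l) = δ₁ * (ζ ^ (((j : ℕ) + 1) * l) + (ζ ^ (((j : ℕ) + 1) * l))⁻¹)) ∧
    ∀ ρ : G, ¬ 2 ∣ orderOf ρ → ∀ j, 1 + δ₁ * χ₁.1 ρ = -δ₂ * χ₂.1 ρ - δ₃ * χ₃.1 ρ ∧
      1 + δ₁ * χ₁.1 ρ = δ₁ * (θ j).1 ρ := by
  classical
  obtain ⟨lam, hlam, hsum⟩ := exists_hat_zpowers D.ord hζ
  have h2k : 2 ≤ 2 ^ k := by simpa using Nat.pow_le_pow_right two_pos hk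
  have hpar : 2 ∣ 2 ^ k := dvd_pow_self 2 (by omega)
  have hζh : ζ ^ 2 ^ k = -1 := (hζ.pow (by positivity) (pow_succ 2 k)).eq_neg_one_of_two_right
  rw [pow_succ'] at hζ hsum ⊢
  obtain ⟨h, hh⟩ : ∃ h, 2 ^ k = h + 1 := ⟨2 ^ k - 1, by omega⟩
  have hord := D.ord
  rw [pow_succ'] at hord
  rw [hh] at hζ hsum hζh hord h2k hpar ⊢
  rw [Nat.add_sub_cancel]
  have hval : ∀ j n : ℕ, ((lam ^ j) ⟨σ ^ n, npow_mem_zpowers σ n⟩ : ℂ) = ζ ^ (j * n) := fun j n => by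
    rw [MonoidHom.pow_apply, Units.val_pow_eq_pow_val, hlam, ← pow_mul, mul_comm]
  have hinj : ∀ i j, i < 2 * (h + 1) → j < 2 * (h + 1) → (lam ^ i = lam ^ j ↔ i = j) :=
    fun i j hi hj => ⟨fun h => hζ.pow_inj hi hj (by rw [← mul_one i, ← hval, h, hval, mul_one]),
      fun h => h ▸ rfl⟩
  have hN : lam ^ (2 * (h + 1)) = 1 := MonoidHom.ext fun x => by
    rw [MonoidHom.pow_apply, ← map_pow, ← hord, ← Nat.card_zpowers, pow_card_eq_one', map_one,
      MonoidHom.one_apply]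
  have hinv : ∀ j ≤ 2 * (h + 1), (lam ^ j)⁻¹ = lam ^ (2 * (h + 1) - j) := fun j hj =>
    MonoidHom.ext fun x => by
      rw [MonoidHom.inv_apply, inv_eq_iff_mul_eq_one, MonoidHom.pow_apply, MonoidHom.pow_apply,
        ← pow_add, Nat.add_sub_cancel' hj, ← MonoidHom.pow_apply, hN, MonoidHom.one_apply]
  have hne : ∀ j, 0 < j → j < 2 * (h + 1) → lam ^ j ≠ 1 := fun j h0 hj h =>
    h0.ne' ((hinj j 0 hj (by omega)).1 (h.trans (pow_zero lam).symm))
  have h1B := irrOne_mem_principalBlock (G := G) hM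
  let V : ℕ → IrrCharacter G → ℤ := fun j χ =>
    -fw (principalBlock M G) (zpowers σ).subtype (lam ^ j) χ - dl (irrOne G) χ
  have hV : ∀ i j, 0 < i → i ≤ h + 1 → 0 < j → j ≤ h + 1 → ∑ χ, V i χ * V j χ =
      1 + ((if i = j then 1 else 0) + if i = h + 1 ∧ j = h + 1 then 1 else 0) :=
    fun i j hi hi' hj hj' => by
    have h1 := D.gram hM (hne i hi (by omega)) (hne j hj (by omega))
    rw [hinv j (by omega), if_congr (hinj _ _ (by omega) (by omega)) rfl rfl,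
      if_congr ((hinj _ _ (by omega) (by omega)).trans
        (show _ ↔ i = h + 1 ∧ j = h + 1 by omega)) rfl rfl] at h1
    simp only [V, sub_mul, mul_sub, neg_mul, mul_neg, neg_neg, Finset.sum_sub_distrib,
      Finset.sum_neg_distrib, sum_dl_mul, sum_mul_dl, h1, dl_self,
      fw_irrOne _ (hne i hi (by omega)) h1B, fw_irrOne _ (hne j hj (by omega)) h1B]
    ring
  have hreg : ∀ j (ρ : G), ¬ 2 ∣ orderOf ρ → ∑ χ, (V j χ : ℂ) * χ.1 ρ = -1 := fun j ρ hρ => by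
    simp only [V, dl, Int.cast_sub, Int.cast_neg, sub_mul, neg_mul, Finset.sum_sub_distrib,
      Finset.sum_neg_distrib, sum_fw_mul_eq_zero hM _ isPBlock_principalBlock D.dvd_orderOf _ hρ]
    simp
  have hdeg : ∀ j, ∑ χ : IrrCharacter G, (charDegree χ.1 : ℤ) * V j χ = -1 := fun j => by
    have := hreg j 1 not_dvd_orderOf_one
    simp only [irr_apply_one, mul_comm (((_ : ℤ)) : ℂ)] at this
    exact_mod_cast this
  have : Nonempty (Fin h) := ⟨⟨0, by omega⟩⟩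
  obtain ⟨χ₁, χ₂, χ₃, θ, δ₁, δ₂, δ₃, hδ₁, hδ₂, hδ₃, hθ, h12, h13, h23, hθ', hv, hy⟩ := dih_struct
    (ι := Fin h) (by rw [Fintype.card_fin]; omega) (fun χ : IrrCharacter G => (charDegree χ.1 : ℤ))
    (fun χ => by exact_mod_cast irr_degree_pos χ) (fun j => V (j + 1)) (V (h + 1))
    (fun i j => by
      rw [hV _ _ (by omega) (by omega) (by omega) (by omega),
        if_neg (show ¬ ((i : ℕ) + 1 = h + 1 ∧ _) by omega), add_zero]
      simp [Fin.val_inj])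
    (fun i => by
      rw [hV _ _ (by omega) (by omega) (by omega) (by omega), if_neg (by omega), if_neg (by omega)]
      rfl)
    (by rw [hV _ _ (by omega) (by omega) (by omega) (by omega)]; simp) (fun _ => hdeg _) (hdeg _)
  have hmem : ∀ j χ, 0 < j → j ≤ h + 1 → V j χ ≠ 0 → χ ∈ principalBlock M G ∧ χ ≠ irrOne G :=
    fun j χ hj hj' h => by
    have h1 : χ ≠ irrOne G := fun h' => h (by
      simp only [V, h', dl_self, fw_irrOne _ (hne j hj (by omega)) h1B]; rfl)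
    exact ⟨by_contra fun h' => h (by simp only [V, fw_of_not_mem _ _ h', dl_of_ne h1]; rfl), h1⟩
  have hs : ∀ {δ : ℤ}, δ = 1 ∨ δ = -1 → δ ≠ 0 := by rintro _ (rfl | rfl) <;> simp
  have y1 : V (h + 1) χ₁ = δ₁ := by rw [hy, dl_self, dl_of_ne h12, dl_of_ne h13]; ring
  have y2 : V (h + 1) χ₂ = δ₂ := by rw [hy, dl_self, dl_of_ne h12.symm, dl_of_ne h23]; ring
  have y3 : V (h + 1) χ₃ = δ₃ := by rw [hy, dl_self, dl_of_ne h13.symm, dl_of_ne h23.symm]; ring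
  have y4 : ∀ j, V (h + 1) (θ j) = 0 := fun j => by
    rw [hy, dl_of_ne (hθ' j).1, dl_of_ne (hθ' j).2.1, dl_of_ne (hθ' j).2.2]; ring
  have m1 := hmem _ χ₁ (by omega) le_rfl (y1 ▸ hs hδ₁)
  have m2 := hmem _ χ₂ (by omega) le_rfl (y2 ▸ hs hδ₂)
  have m3 := hmem _ χ₃ (by omega) le_rfl (y3 ▸ hs hδ₃)
  have m4 : ∀ j, _ := fun j : Fin h => hmem (j + 1) (θ j) (by omega) (by omega) (by
    rw [show V (j + 1) (θ j) = _ from hv j _, dl_self, dl_of_ne (hθ' j).1]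
    simpa using hs hδ₁)
  have hform : ∀ l, 0 < l → l < 2 * (h + 1) → ∀ χ ∈ principalBlock M G, χ.1 (σ ^ l) =
      -((V (h + 1) χ + dl (irrOne G) χ) * (-1) ^ l + ∑ j : Fin h,
        (V (j + 1) χ + dl (irrOne G) χ) * (ζ ^ ((j + 1) * l) + (ζ ^ ((j + 1) * l))⁻¹)) :=
    fun l hl hl' χ hχ => by
    have hu : (⟨σ ^ l, npow_mem_zpowers σ l⟩ : zpowers σ) ≠ 1 := fun h =>
      pow_ne_one_of_lt_orderOf hl.ne' (hord ▸ hl') (congrArg Subtype.val h)
    rw [show χ.1 (σ ^ l) = _ from (sum_fw_mul (zpowers σ).subtype hχ hu).symm, hsum,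
      sum_range_two_mul, show lam ^ 0 = 1 from pow_zero lam, fw_one, hval, pow_mul, hζh, neg_add, ← Finset.sum_neg_distrib]
    simp only [V]
    congr 1
    · push_cast; ring
    refine Finset.sum_congr rfl fun j _ => ?_
    rw [← hinv _ (by omega), D.fw_inv, MonoidHom.inv_apply, Units.val_inv_eq_inv_val, hval]
    push_cast
    ring
  refine ⟨χ₁, χ₂, χ₃, θ, δ₁, δ₂, δ₃, hδ₁, hδ₂, hδ₃, hθ, m1.2, m2.2, m3.2, h12, h13, h23,
    fun j => ⟨(hθ' j).1, (hθ' j).2.1, (hθ' j).2.2, (m4 j).2⟩, fun χ => ⟨fun hχ => ?_, ?_⟩,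
    fun l hl hl' => ?_, fun ρ hρ j => ?_⟩
  · by_contra hc
    push Not at hc
    obtain ⟨c0, c1, c2, c3, c4⟩ := hc
    refine D.apply_J_ne_zero hM hχ ?_
    rw [D.J_eq, hh, hform _ (by omega) (by omega) χ hχ]
    simp [hy, hv, dl_of_ne, c0, c1, c2, c3, c4]
  · rintro (rfl | rfl | rfl | rfl | ⟨j, rfl⟩)
    exacts [h1B, m1.1, m2.1, m3.1, (m4 j).1]
  · have h0 := hform l hl hl' _ h1B
    simp only [hv, hy, dl_of_ne m1.2.symm, dl_of_ne m2.2.symm, dl_of_ne m3.2.symm, dl_self,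
      fun j => dl_of_ne (m4 j).2.symm, irrOne_apply] at h0
    simp only [hform l hl hl' _ m1.1, hform l hl hl' _ m2.1, hform l hl hl' _ m3.1,
      fun j => hform l hl hl' _ (m4 j).1, y1, y2, y3, y4, hv, dl_of_ne m1.2, dl_of_ne m2.2,
      dl_of_ne m3.2, fun j => dl_of_ne (m4 j).2, dl_self, dl_of_ne h12.symm, dl_of_ne h13.symm,
      fun j => dl_of_ne (hθ' j).1, fun j => dl_of_ne (hθ' j).1.symm,
      fun j => dl_of_ne (hθ' j).2.1.symm, fun j => dl_of_ne (hθ' j).2.2.symm]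
    simp only [sub_self, mul_zero, add_zero, Int.cast_zero, Int.cast_one, zero_add, one_mul,
      sub_zero, mul_one, zero_mul, Finset.sum_const_zero, ← Finset.mul_sum, pow_succ] at h0 ⊢
    refine ⟨by linear_combination -(δ₁ : ℂ) * h0, by ring, by ring, fun j => ?_⟩
    rw [Finset.sum_eq_single j (fun i _ hi => by rw [dl_of_ne (hθ.ne hi.symm)]; simp) (by simp),
      dl_self]
    push_cast
    ring
  · have e1 := hreg (h + 1) ρ hρ
    have e2 := hreg (j + 1) ρ hρ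
    simp only [hy, hv, dl, Int.cast_add, Int.cast_sub, Int.cast_ite,
      Int.cast_zero, add_mul, sub_mul, mul_sub, mul_ite, ite_mul, mul_one, mul_zero, zero_mul,
      Finset.sum_add_distrib, Finset.sum_sub_distrib, Finset.sum_ite_eq', Finset.mem_univ,
      if_true] at e1 e2
    exact ⟨by linear_combination e1, by linear_combination e2⟩

/-- **Brauer.** The order formula for one class of involutions. -/
theorem _root_.GT.DihSyl.order_formula (hk : 1 ≤ k) (hτ : IsConj J τ) (hστ : IsConj J (σ * τ))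
    {χ₁ : IrrCharacter G} (hχ₁ : χ₁ ∈ principalBlock M G) (h1 : χ₁ ≠ irrOne G) {δ₁ : ℤ}
    (hδ₁ : δ₁ = 1 ∨ δ₁ = -1) (hval : ∀ u ∈ zpowers σ, u ≠ 1 → χ₁.1 u = δ₁) :
    (Nat.card G : ℚ) * ((charDegree χ₁.1 : ℚ) - δ₁) ^ 2 =
      2 * (charDegree χ₁.1 : ℚ) * ((charDegree χ₁.1 : ℚ) + δ₁) *
      (Nat.card (centralizer ({J} : Set G)) : ℚ) ^ 3 *
      (1 / (Nat.card (centralizer ({J, τ} : Set G)) : ℚ) +
        1 / (Nat.card (centralizer ({J, σ * τ} : Set G)) : ℚ)) ^ 2 ∧ charDegree χ₁.1 + δ₁ ≠ 0 := by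
  classical
  have hζ := Complex.isPrimitiveRoot_exp (2 ^ (k + 1)) (by positivity)
  generalize Complex.exp _ = ζ at hζ
  obtain ⟨l, hl, -⟩ := exists_hat_zpowers D.ord hζ
  have hσ : (l ⟨σ, mem_zpowers σ⟩ : ℂ) = ζ := by simpa using hl 1
  have hl2 : l ⟨σ, mem_zpowers σ⟩ ^ 2 ≠ 1 := fun h => hζ.pow_ne_one_of_pos_of_lt two_ne_zero
    (by have := Nat.pow_le_pow_right two_pos hk; rw [pow_succ]; omega)
    (by rw [← hσ, ← Units.val_pow_eq_pow_val, h, Units.val_one])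
  have hl1 : l ≠ 1 := fun h => hl2 (by simp [h])
  have hJ : l ⟨J, D.J_mem⟩ = -1 := Units.ext (by
    rw [show (⟨J, D.J_mem⟩ : zpowers σ) = ⟨_, npow_mem_zpowers σ _⟩ from Subtype.ext D.J_eq, hl]
    exact (hζ.pow (by positivity) (pow_succ 2 k)).eq_neg_one_of_two_right)
  have h1B := irrOne_mem_principalBlock (G := G) hM
  have g := D.gram hM hl1 hl1
  rw [if_pos rfl, if_neg fun h => hl2 (by
    rw [sq, ← eq_inv_iff_mul_eq_one]; exact DFunLike.congr_fun h _)] at g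
  have e1 := fw_irrOne (zpowers σ).subtype hl1 h1B
  have e2 := fw_of_const (zpowers σ).subtype hl1 hχ₁ fun u hu => hval u u.2 (D.ne_one hu)
  have e3 := D.card_mul_sum_fw hM hτ hστ (Or.inl hl2)
  have e4 := D.sum_fw_J hM hJ
  have e5 := sum_fw_mul_eq_zero hM _ isPBlock_principalBlock D.dvd_orderOf l not_dvd_orderOf_one
  generalize fw (principalBlock M G) (zpowers σ).subtype l = w at g e1 e2 e3 e4 e5
  have g1 := sum_sub_dl_sq w (irrOne G)
  have g2 := sum_sub_dl_sq (fun χ => w χ - w (irrOne G) * dl (irrOne G) χ) χ₁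
  simp only [g, e1, e2, dl_of_ne h1, mul_zero, sub_zero] at g1 g2
  obtain ⟨ψ, ε, hε, hψ⟩ := exists_eq_dl_of_norm_one (g2.trans (by
    rw [g1]; rcases hδ₁ with h | h <;> simp [h]))
  have hF : ∀ F : IrrCharacter G → ℂ, ∑ χ, w χ * F χ = ε * F ψ - F (irrOne G) - δ₁ * F χ₁ :=
    fun F => by
    rw [Finset.sum_congr rfl (g := fun χ => ((ε * dl ψ χ - dl (irrOne G) χ - δ₁ * dl χ₁ χ : ℤ) : ℂ)
      * F χ) fun χ _ => by rw [← hψ]; push_cast; ring]
    simp [dl, sub_mul]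
  rw [hF] at e3 e4 e5
  rw [hval J D.J_mem D.J_ne_one] at e3 e4
  simp only [irrOne_apply, irr_apply_one] at e3 e4 e5
  have hx : (charDegree χ₁.1 : ℂ) ≠ 0 := Nat.cast_ne_zero.2 (irr_degree_pos _).ne'
  have hy : (charDegree ψ.1 : ℂ) ≠ 0 := Nat.cast_ne_zero.2 (irr_degree_pos _).ne'
  have hδ : (δ₁ : ℂ) ^ 2 = 1 := by rcases hδ₁ with h | h <;> simp [h]
  have hε' : (ε : ℂ) ^ 2 = 1 := by rcases hε with h | h <;> simp [h]
  have h2 : (charDegree χ₁.1 : ℂ) + δ₁ = δ₁ * ε * charDegree ψ.1 := by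
    linear_combination -(δ₁ : ℂ) * e5 - charDegree χ₁.1 * hδ
  have h3 : ψ.1 J ^ 2 = 4 := by
    linear_combination ((ε : ℂ) * ψ.1 J - 2) * e4 + (ε * ψ.1 J - 2) * hδ - ψ.1 J ^ 2 * hε'
  refine ⟨?_, fun h => ?_⟩
  · have : (Nat.card G : ℂ) * ((charDegree χ₁.1 : ℂ) - δ₁) ^ 2 =
        2 * (charDegree χ₁.1 : ℂ) * ((charDegree χ₁.1 : ℂ) + δ₁) *
        (Nat.card (centralizer ({J} : Set G)) : ℂ) ^ 3 *
        (1 / (Nat.card (centralizer ({J, τ} : Set G)) : ℂ) +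
          1 / (Nat.card (centralizer ({J, σ * τ} : Set G)) : ℂ)) ^ 2 := by
      have h4 : -(charDegree χ₁.1 : ℂ) * (charDegree χ₁.1 + δ₁) * (ε * (ψ.1 J ^ 2 / charDegree ψ.1) -
          1 ^ 2 / 1 - δ₁ * (δ₁ ^ 2 / charDegree χ₁.1)) = (charDegree χ₁.1 - δ₁) ^ 2 := by
        rw [h3, hδ]
        nth_rewrite 1 [h2]
        field_simp
        linear_combination (-4 * δ₁ * charDegree χ₁.1) * hε' - (charDegree χ₁.1 + δ₁) * h2
      linear_combination -(charDegree χ₁.1 : ℂ) * (charDegree χ₁.1 + δ₁) * e3 - Nat.card G * h4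
    refine Rat.cast_injective (α := ℂ) ?_
    push_cast
    exact this
  · have h4 : (charDegree χ₁.1 : ℂ) + δ₁ = 0 := by exact_mod_cast h
    rw [h4] at h2
    have h5 : (δ₁ : ℂ) ≠ 0 := fun h => by simp [h] at hδ
    have h6 : (ε : ℂ) ≠ 0 := fun h => by simp [h] at hε'
    exact mul_ne_zero (mul_ne_zero h5 h6) hy h2.symm

end Dih

/-! ### Klein four Sylow subgroups -/

theorem _root_.GT.DihSyl.sq_of_zero {P : Subgroup G} {τ J : G} (D : DihSyl P J τ J 0) {x : G}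
    (hx : IsPElt 2 x) : x * x = 1 := by
  obtain ⟨g, -, hg⟩ := D.syl.exists_conj_mem hx trivial
  rw [← conj_eq_one_iff (a := g), ← conj_mul]
  by_cases h : g * x * g⁻¹ ∈ zpowers J
  · rw [← sq, ← orderOf_dvd_iff_pow_eq_one, ← D.ord_J]
    exact orderOf_dvd_of_mem_zpowers h
  · exact D.sq_of_not_mem hg h

theorem _root_.GT.DihSyl.cases_of_zero {P : Subgroup G} {τ J : G} (D : DihSyl P J τ J 0) {x : G}
    (hx : x ∈ P) (h1 : x ≠ 1) : x = J ∨ x = τ ∨ x = J * τ := by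
  by_cases h : x ∈ zpowers J
  · exact Or.inl (D.eq_J_of_sq h h1 (D.sq_of_zero (D.isPElt hx)))
  obtain ⟨s, hs, rfl⟩ := D.exists_eq_mul hx h
  by_cases h2 : s = 1
  · simp [h2]
  · rw [D.eq_J_of_sq hs h2 (D.sq_of_zero (D.isPElt (D.le hs)))]; simp

theorem _root_.GT.DihSyl.isConj_of_zero {P : Subgroup G} {τ J : G} (D : DihSyl P J τ J 0)
    (h : ¬ HasNormalPComplement 2 G) : IsConj J τ ∧ IsConj J (J * τ) := by
  by_contra hc
  refine h (hasNormalPComplement_top_iff.1 (D.syl.hasNormalPComplement_of_forall_le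
    fun Q hQ g _ hn ho q hq => by_contra fun h12 => hc ?_))
  have h23 : g * (g * q * g⁻¹) * g⁻¹ ≠ g * q * g⁻¹ := fun h =>
    h12 (mul_left_cancel (mul_right_cancel h))
  have h13 : g * (g * q * g⁻¹) * g⁻¹ ≠ q := fun h => by
    have h1 : g ^ 2 ∈ centralizer {q} := mem_centralizer_singleton_iff.2
      (mul_inv_eq_iff_eq_mul.1 (by rw [← h.symm.symm, sq]; nth_rewrite 2 [← h]; rw [h]; group))
    have h2 : g ∈ zpowers (g ^ 2) := mem_zpowers_pow_iff.2 (Nat.Coprime.gcd_eq_one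
      ((Nat.Prime.coprime_iff_not_dvd Nat.prime_two).2 ho))
    exact h12 (mul_inv_eq_iff_eq_mul.2 (mem_centralizer_singleton_iff.1 (zpowers_le.2 h1 h2)))
  have h1 : q ≠ 1 := fun h => h12 (by simp [h])
  have c1 := D.cases_of_zero (hQ hq) h1
  have c2 := D.cases_of_zero (hQ (hn _ hq)) (by simpa using h1)
  have c3 := D.cases_of_zero (hQ (hn _ (hn _ hq))) (by simpa using h1)
  have i12 : IsConj q (g * q * g⁻¹) := isConj_iff.2 ⟨g, rfl⟩
  have i23 : IsConj (g * q * g⁻¹) (g * (g * q * g⁻¹) * g⁻¹) := isConj_iff.2 ⟨g, rfl⟩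
  have i13 := i12.trans i23
  have i21 := i12.symm
  have i32 := i23.symm
  have i31 := i13.symm
  generalize g * (g * q * g⁻¹) * g⁻¹ = q₃ at *
  generalize g * q * g⁻¹ = q₂ at *
  rcases c1 with c1 | c1 | c1 <;> rcases c2 with c2 | c2 | c2 <;> rcases c3 with c3 | c3 | c3 <;>
    simp only [c1, c2, c3] at h12 h23 h13 i12 i23 i13 i21 i32 i31 <;>
    first | contradiction | exact ⟨by assumption, by assumption⟩

theorem _root_.GT.DihSyl.centralizer_pair {P : Subgroup G} {τ J : G} (D : DihSyl P J τ J 0) {t : G}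
    (ht : t ∈ P) (h : t ∉ zpowers J) : centralizer ({J, t} : Set G) = centralizer (P : Set G) := by
  refine le_antisymm ?_ (centralizer_le (Set.pair_subset D.σ_mem ht))
  rw [← le_centralizer_iff]
  intro x hx
  have h1 : zpowers J ≤ centralizer (centralizer ({J, t} : Set G) : Set G) :=
    zpowers_le.2 fun y hy => (hy J (by simp)).symm
  by_cases hs : x ∈ zpowers J
  · exact h1 hs
  · exact (mul_mem_cancel_right fun y hy => (hy t (by simp)).symm).1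
      (h1 (D.mul_mem_of_not_mem hx hs ht h))

theorem exists_dihSyl_zero {g₀ : ℕ} (hg₀ : Odd g₀) (hG : Nat.card G = 4 * g₀)
    (hnc : ¬ ∃ N : Subgroup G, N.Normal ∧ Nat.card N = g₀) (P : Sylow 2 G) {J : G}
    (hJ : J ∈ (P : Subgroup G)) (hJ2 : orderOf J = 2) :
    ∃ τ, DihSyl P J τ J 0 ∧ IsConj J τ ∧ IsConj J (J * τ) := by
  have hc : Nat.card (P : Subgroup G) = 4 := by
    rw [P.card_eq_multiplicity, hG, Nat.factorization_mul (by norm_num) hg₀.pos.ne',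
      show 4 = 2 ^ 2 from rfl, Nat.prime_two.factorization_pow]
    simp [Nat.factorization_eq_zero_of_not_dvd (Nat.two_dvd_ne_zero.2 (Nat.odd_iff.1 hg₀))]
  have hn : ¬ HasNormalPComplement 2 G := fun h => hnc ⟨pPrimeCore 2 G, inferInstance, by
    have := (isComplement'_pPrimeCore_sylow h P).card_mul_card
    rw [hc, hG] at this
    omega⟩
  obtain ⟨τ, D⟩ := exists_dihSyl_of_card_eq_four (isSylowIn_sylow P) hc
    (fun _ => hn (hasNormalPComplement_two_of_isCyclic P)) hJ hJ2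
  exact ⟨τ, D, D.isConj_of_zero hn⟩

section Klein
variable {P : Subgroup G} {τ J : G} (D : DihSyl P J τ J 0) {χ₁ χ₂ χ₃ : IrrCharacter G}
  (hB : principalBlock M G = {χ | χ.1 = (fun _ => 1) ∨ χ = χ₁ ∨ χ = χ₂ ∨ χ = χ₃})
  (hd : χ₁.1 ≠ (fun _ => 1) ∧ χ₂.1 ≠ (fun _ => 1) ∧ χ₃.1 ≠ (fun _ => 1) ∧ χ₁ ≠ χ₂ ∧ χ₁ ≠ χ₃ ∧
    χ₂ ≠ χ₃)
include hB hd

theorem sum_principal_four (F : IrrCharacter G → ℂ) :
    ∑ χ ∈ bset (principalBlock M G), F χ = F (irrOne G) + F χ₁ + F χ₂ + F χ₃ := by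
  classical
  have hne : ∀ {χ : IrrCharacter G}, (χ.1 ≠ fun _ => 1) → irrOne G ≠ χ := fun h h' => h (h' ▸ rfl)
  rw [show bset (principalBlock M G) = {irrOne G, χ₁, χ₂, χ₃} from Finset.ext fun χ => by
    simp only [mem_bset, hB, Finset.mem_insert, Finset.mem_singleton]
    exact or_congr ⟨fun h => Subtype.ext h, fun h => h ▸ rfl⟩ Iff.rfl,
    Finset.sum_insert (by simp [hne hd.1, hne hd.2.1, hne hd.2.2.1]),
    Finset.sum_insert (by simp [hd.2.2.2.1, hd.2.2.2.2.1]), Finset.sum_pair hd.2.2.2.2.2]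
  ring

variable {ε₁ ε₂ ε₃ : ℤ} (hv : χ₁.1 J = ε₁ ∧ χ₂.1 J = ε₂ ∧ χ₃.1 J = ε₃)
include hM D hv

theorem _root_.GT.DihSyl.klein_degree :
    1 + ε₁ * charDegree χ₁.1 + ε₂ * charDegree χ₂.1 + ε₃ * charDegree χ₃.1 = 0 := by
  have := bker_eq_zero_of_regular' hM (isPBlock_principalBlock (G := G)) (x := J) (y := 1)
    (D.ord_J ▸ dvd_rfl) not_dvd_orderOf_one
  rw [bker_def, sum_principal_four hB hd, hv.1, hv.2.1, hv.2.2] at this
  simp only [irrOne_apply, map_one, mul_one, irr_apply_one, map_natCast] at this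
  exact_mod_cast this

theorem _root_.GT.DihSyl.klein_order (hτ : IsConj J τ) (hστ : IsConj J (J * τ)) :
    (Nat.card G : ℚ) * (1 + ε₁ ^ 3 / charDegree χ₁.1 + ε₂ ^ 3 / charDegree χ₂.1 +
      ε₃ ^ 3 / charDegree χ₃.1) = 8 * (Nat.card (centralizer ({J} : Set G)) : ℚ) ^ 3 /
      (Nat.card (centralizer (P : Set G)) : ℚ) ^ 2 := by
  obtain ⟨l, hl, -⟩ := exists_hat_zpowers D.ord_J (IsPrimitiveRoot.neg_one 0 (by simp))
  have hJ : l ⟨J, mem_zpowers J⟩ = -1 := Units.ext (by simpa using hl 1)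
  have hl1 : l ≠ 1 := fun h => by
    have := congrArg Units.val hJ
    norm_num [h] at this
  have h1 := D.card_mul_sum_fw hM hτ hστ (Or.inr ⟨rfl, hJ⟩)
  have h2 : ∀ χ ∈ principalBlock M G, ∀ c : ℤ, χ.1 J = c →
      fw (principalBlock M G) (zpowers J).subtype l χ = -c := fun χ h c hc =>
    fw_of_const _ hl1 h fun u hu => by
      rw [coe_subtype, D.eq_J_of_sq u.2 (D.ne_one hu) (D.sq_of_zero (D.isPElt (D.le u.2))), hc]
  rw [← sum_bset_eq_sum_univ (principalBlock M G) fun χ h => by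
      rw [fw_of_not_mem _ _ h, Int.cast_zero, zero_mul], sum_principal_four hB hd,
    h2 _ (irrOne_mem_principalBlock hM) 1 (by simp), h2 χ₁ (by simp [hB]) _ hv.1,
    h2 χ₂ (by simp [hB]) _ hv.2.1, h2 χ₃ (by simp [hB]) _ hv.2.2, hv.1, hv.2.1, hv.2.2,
    D.centralizer_pair D.τ_mem D.not_mem, D.centralizer_pair (mul_mem D.σ_mem D.τ_mem)
      (D.mul_τ_not_mem (mem_zpowers J))] at h1
  simp only [irrOne_apply, irr_apply_one] at h1
  have : (Nat.card G : ℂ) * (1 + ε₁ ^ 3 / charDegree χ₁.1 + ε₂ ^ 3 / charDegree χ₂.1 +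
      ε₃ ^ 3 / charDegree χ₃.1) = 8 * (Nat.card (centralizer ({J} : Set G)) : ℂ) ^ 3 /
      (Nat.card (centralizer (P : Set G)) : ℂ) ^ 2 := by
    push_cast at h1
    linear_combination -h1
  refine Rat.cast_injective (α := ℂ) ?_
  push_cast
  exact this

theorem _root_.GT.DihSyl.klein_degree_eq (h1 : ε₁ = 1) (h2 : ε₂ = 1) (h3 : ε₃ = -1) :
    charDegree χ₁.1 = charDegree χ₂.1 := by
  subst h1 h2 h3
  have h0 := blockPart_eq_zero_of_section hM (isPBlock_principalBlock (G := G)) J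
    isClassFunction_card_sqrt (fun g v hv huv => by
      rw [Nat.cast_eq_zero, Nat.card_eq_zero]
      refine Or.inl ⟨fun x => D.J_ne_one (isConj_one_left.1 ?_)⟩
      rwa [← isPPart_iff.1 hv, ← x.2, ← sq, pPart_pow, sq, D.sq_of_zero (isPElt_pPart 2 _)] at huv)
    J J (isPPart_iff.2 (D.isPElt D.σ_mem).pPart_eq) (IsConj.refl J)
  rw [blockPart_apply_eq_sum_bset, sum_principal_four hB hd, hv.1, hv.2.1, hv.2.2] at h0
  simp only [ip_card_sqrt, irr_conj_nu2, irrOne_val, nu2_one, map_one] at h0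
  have hν : ∀ χ : IrrCharacter G, ∀ c : ℤ, Odd c → χ.1 J = c → nu2 χ.1 = 1 ∨ nu2 χ.1 = 0 :=
    fun χ c hc h => by
    have h1 := (irr_isCharacter χ).isGen.int_modEq_of_commute Nat.prime_two (Commute.one_right J)
      (k := 1) (by rw [pow_one, sq, D.J_sq]) (a := c) (b := charDegree χ.1)
      (by rw [mul_one, h]) (by rw [irr_apply_one, Int.cast_natCast])
    have h2 : Odd (charDegree χ.1) := (Int.odd_coe_nat _).1 (Int.odd_iff.2
      ((show (charDegree χ.1 : ℤ) % 2 = c % 2 from h1.symm).trans (Int.odd_iff.1 hc)))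
    rcases irr_nu2_cases χ with h | h | h
    exacts [Or.inl h, (Nat.not_even_iff_odd.2 h2 (irr_even_degree_of_nu2_eq_neg_one χ h)).elim,
      Or.inr h]
  have h4 : nu2 χ₁.1 = 0 := by
    rcases hν _ _ odd_one hv.1 with h | h
    · rcases hν _ _ odd_one hv.2.1 with h' | h' <;>
        rcases hν _ _ odd_one.neg hv.2.2 with h'' | h'' <;> norm_num [h, h', h''] at h0
    · exact h
  have h5 := (irrBar_mem_principal_iff hM χ₁).2 (by simp [hB])
  have h6 : ∀ g, (irrBar χ₁).1 g = conj (χ₁.1 g) := fun _ => rfl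
  rw [hB] at h5
  rcases h5 with h | h | h | h
  · refine (hd.1 (funext fun g => ?_)).elim
    simpa [h6] using congrArg conj (congrFun h g)
  · exact ((irr_nu2_eq_zero_iff _).1 h4 ((irr_isReal_iff_irrBar _).2 h)).elim
  · refine charDegree_eq_of_apply_one ?_
    rw [← irr_apply_one, ← h, h6, irr_apply_one, map_natCast]
  · have := h6 J
    rw [h, hv.1, hv.2.2] at this
    norm_num at this

end Klein

end BT
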