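import Cfsg.Agent.Lib.Block.E8Cyc
import Cfsg.Agent.Lib.Block.H16N

/-!
# Heights in `2`-blocks with an abelian defect group of order sixteen
-/

set_option autoImplicit false
set_option linter.unusedSectionVars false

namespace BT

open Cfsg CT GT Subgroup

universe u

theorem e16_odd_of_card {α : Type*} {s : Finset α} {d : α → ℤ} (h0 : ∀ t ∈ s, d t ≠ 0)
    (h16 : ∑ t ∈ s, d t * d t = 16) (hs : s.card = 8 ∨ s.card = 16) {t : α} (ht : t ∈ s) :
    ¬ 2 ∣ d t := by
  classical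
  have h1 : ∀ r ∈ s, 1 ≤ d r * d r := fun r hr => by
    have := mul_self_pos.2 (h0 r hr); omega
  have h2 : ∀ r ∈ s, d r * d r ≤ 9 := fun r hr => by
    have h2 := Finset.add_sum_erase s (fun t => d t * d t) hr
    have h3 := Finset.card_nsmul_le_sum (s.erase r) (fun t => d t * d t) 1
      fun t ht => h1 t (Finset.mem_of_mem_erase ht)
    rw [Finset.card_erase_of_mem hr, nsmul_eq_mul, mul_one] at h3
    omega
  have h3 : ∀ r ∈ s, d r * d r =
      1 + 3 * (if 2 ∣ d r then 1 else 0) + 8 * if d r * d r = 9 then 1 else 0 := fun r hr => by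
    have h3 := h2 r hr
    have h4 := h0 r hr
    have h5 : -4 < d r := by nlinarith
    have h6 : d r < 4 := by nlinarith
    generalize d r = a at h3 h4 h5 h6 ⊢
    interval_cases a <;> simp_all
  rw [Finset.sum_congr rfl h3] at h16
  simp only [Finset.sum_add_distrib, ← Finset.mul_sum, Finset.sum_boole, Finset.sum_const,
    nsmul_eq_mul, mul_one] at h16
  intro h
  have := Finset.card_ne_zero.2 (⟨t, Finset.mem_filter.2 ⟨ht, h⟩⟩ :
    (s.filter fun r => 2 ∣ d r).Nonempty)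
  omega

variable {M : Ideal AlgInt} {hM : IsPModular 2 M}

section

variable {G : Type*} [Group G] [Finite G]

theorem E16Str.height_eq_zero {B : Set (IrrCharacter G)} {m : SPair hM G} {T V W : Subgroup G}
    {v w : G} (h : E16Str B m T V W v w) {χ : IrrCharacter G} (hχ : χ ∈ B) :
    blockHeight 2 B χ.1 = 0 := by
  classical
  have hz := mul_mem h.vQ h.symm.vQ
  have hc : ∀ g ∈ m.Q, Commute (v * w) g := fun g => h.comm hz
  obtain ⟨S⟩ := h.rank_vw ▸ BT.exists_basicSet 2 (m.at (v * w)).blk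
  obtain ⟨h2, h3⟩ := S.gam_of_unique hM (SPair.isPBlock_blk _)
  obtain ⟨g, h4, h5, h6, -⟩ := h.max.exists_int_gdec' hz hc (h.sq _ hz) S
  have hk : (bset B).card = 8 ∨ (bset B).card = 16 := by
    rw [card_bset]
    by_cases h1 : blockRank 2 B = 1
    · obtain ⟨hX, hs⟩ := h.sum_reps
      have h10 := h.max.card_eq_sum_reps hX
      obtain ⟨S₁, -⟩ := h.exists_basicSet
      obtain ⟨S₂, -⟩ := h.symm.exists_basicSet
      rw [hs, ← S₁.card_eq, ← S₂.card_eq, h.rank_vw, h.max.blockRank_at_one, h1] at h10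
      exact .inl h10
    · exact .inr (h.card_eq h1).1
  have h7 := e16_odd_of_card (d := fun χ => g χ 0)
    (fun χ hχ h0 => h6 χ (mem_bset.1 hχ) (funext fun i => by rw [Subsingleton.elim i 0]; exact h0))
    (by rw [h4, h3, h.max.blockDefect_at_of_central hz hc]; exact_mod_cast h.pow_eq) hk
    (mem_bset.2 hχ)
  by_contra h8
  have h9 := (pow_mul_contr_mem_locIdeal_iff hM (SPair.centralizer_at (m := m) hz)
    (SPair.isPElt_of_mem hz) (h.max.isInducedBlock_at (v * w)) hχ hχ).2 (.inl h8)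
  rw [h.max.blockDefect_at_of_central hz hc] at h9
  have h10 := h5 χ χ
  rw [SPair.ctr] at h10
  rw [h10, intCast_mem_locIdeal_iff] at h9
  simp only [Fin.sum_univ_one, h2, mul_one, Nat.cast_ofNat, Int.prime_two.dvd_mul, or_self] at h9
  exact h7 h9

variable {A : Type*} [CommGroup A] [Finite A]

namespace AbPar

variable {B : Set (IrrCharacter G)} {m : SPair hM G} {ι : A →* G} {E : Subgroup (MulAut A)}
  (h : AbPar B m ι E)
include h

theorem height_of_nine (h16 : Nat.card A = 16) (h9 : Nat.card E = 9) {χ : IrrCharacter G}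
    (hχ : χ ∈ B) : blockHeight 2 B χ.1 = 0 := by
  rw [h.eq_inert, card_inert h.inj, h.range] at h9
  obtain ⟨V, W, h1, h2⟩ := exists_nineStr (h.card_eq.trans h16) NP_le_normalizer h9
  obtain ⟨v, hv⟩ := ne_bot_iff_exists_ne_one.1 ((one_lt_card_iff_ne_bot V).1 (by simp [h1.card]))
  obtain ⟨w, hw⟩ := ne_bot_iff_exists_ne_one.1 ((one_lt_card_iff_ne_bot W).1 (by simp [h2.card]))
  have key : ∀ {V W}, NineStr (NP ⊤ m.Q m.e) m.Q V W → ∀ v ∈ V, v * v = 1 := fun {V W} h1 v hv => by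
    by_contra h3
    obtain ⟨t, -, -, h4⟩ := h1.tr _ (mul_mem hv hv) v hv h3 (fun h4 => h3 (by simp [h4]))
    have h5 : v ^ 4 = 1 := congrArg Subtype.val (h1.card ▸ pow_card_eq_one' (x := (⟨v, hv⟩ : V)))
    exact h3 (by rw [← h4, conj_mul, show v * v * (v * v) = v ^ 4 by simp [pow_succ, mul_assoc], h5]; simp)
  exact E16Str.height_eq_zero (T := NP ⊤ m.Q m.e) ⟨h.max, h.card_eq.trans h16, fun u hu => by
    obtain ⟨a, ha, b, hb, rfl⟩ := h1.mul u hu
    rw [mul_assoc, ← mul_assoc b, h.ab (h1.le ha) b (h2.le hb), mul_assoc, key h2 b hb, mul_one,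
      key h1 a ha], fun _ => SPair.smul_eq_iff_mem_NP, h1, h2, v.2, w.2,
    fun h => hv (Subtype.ext h), fun h => hw (Subtype.ext h)⟩ hχ

/-- The inertial group acts regularly on the nonidentity elements of the defect group. -/
theorem height_of_regular (h3 : 3 ≤ Nat.card A) {v : A} (hv1 : v ≠ 1)
    (h1 : orb E v = ((⊤ : Subgroup A) : Set A) \ {1}) (hv : stab E v = ⊥) {χ : IrrCharacter G}
    (hχ : χ ∈ B) : blockHeight 2 B χ.1 = 0 := by
  have hA : ∀ a : A, a * a = 1 := fun a => mul_self_of_orb h.pgroup h1 (mem_top a)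
  obtain ⟨r, N, c, g, h4, -, h6, -, -⟩ := h.max.exists_orbForm_free h.ab (h.map_le ⊤)
    (by rw [h.card_map, card_top]; exact h3) (h.foc ⟨fun _ _ _ => trivial, fun u _ hu => by
      by_contra h2
      obtain ⟨w, hw, hw'⟩ := Set.exists_ne_of_one_lt_ncard
        (s := ((⊤ : Subgroup A) : Set A) \ {1}) (by
          have := ncard_sdiff_one (⊤ : Subgroup A)
          rw [card_top] at this
          omega) u
      obtain ⟨σ, hσ, rfl⟩ := h1.ge ⟨mem_top u, h2⟩
      obtain ⟨τ, hτ, rfl⟩ := h1.ge hw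
      exact hw' (by simpa using hu (τ * σ⁻¹) (mul_mem hτ (inv_mem hσ)))⟩)
    ⟨v, trivial, rfl⟩ (h.ne_one hv1) (h.trans h1) (by rw [← map_mul, hA, map_one]) (h.free hv)
  rw [h.card_map, card_top] at h4 h6
  rw [h.card_eq] at h4
  obtain rfl : N = 1 := by
    have := Nat.card_pos (α := A)
    exact (Nat.mul_eq_left this.ne').1 h4.symm
  have hq : 2 ∣ Nat.card A := by
    obtain ⟨k, hk⟩ := h.pgroup.exists_card_eq
    rw [hk] at h3 ⊢
    exact dvd_pow_self 2 (by rintro rfl; omega)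
  obtain ⟨i₀, h10⟩ := h6.exists_odd hM h.max.block hq
  have h11 : ¬ 2 ∣ g i₀ := fun h => h10 (by simpa using h.mul_right _)
  rw [h6.height_iff hM h.max.block hq hχ]
  simpa [Int.prime_two.dvd_mul] using e8_all_odd_of_one (fun F hF =>
    h.orbForm_two_dvd hA hv1 h6 F fun _ => hF) h11 (c χ)

theorem height_of_three (h16 : Nat.card A = 16) (hV : Foc E ⊤) (h3 : Nat.card E ≤ 3)
    {χ : IrrCharacter G} (hχ : χ ∈ B) : blockHeight 2 B χ.1 = 0 := by
  classical
  have h4 : ∀ a : A, a ^ 4 = 1 := fun a => by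
    by_contra h4
    obtain ⟨j, hj⟩ := isPElt_of_isPGroup h.pgroup a
    have h5 : 3 ≤ j := by
      by_contra h5
      exact h4 (orderOf_dvd_iff_pow_eq_one.1 (hj ▸ pow_dvd_pow 2 (show j ≤ 2 by omega)))
    obtain ⟨y, -, hy⟩ := exists_idx_of_card_le (D := ⊤) (C := zpowers a) le_top (by
      rw [card_top, h16, Nat.card_zpowers, hj]
      have := Nat.pow_le_pow_right two_pos h5
      omega)
    have h6 : a * a ≠ 1 := fun h6 => h4 (by
      rw [show a ^ 4 = a * a * (a * a) by simp [pow_succ, mul_assoc], h6, mul_one])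
    obtain ⟨s, ⟨i, rfl⟩, h7, h8⟩ := exists_mul_self_mem_zpowers
      (isPElt_of_isPGroup h.pgroup (a * a)) h6
    refine h8 (hV.fix _ trivial fun σ hσ => ?_)
    refine (eq_of_mul_self_of_mem_zpowers (zpow_mem (mul_mem (mem_zpowers a) (mem_zpowers a)) i)
      ?_ h7 h8 (by rw [← map_mul, h7, map_one])).resolve_left (σ.map_ne_one_iff.2 h8)
    rw [map_zpow, map_mul]
    exact zpow_mem (hy.sq_mem (mem_top _)) i
  by_contra h5
  obtain ⟨X, hX, -⟩ := m.exists_reps (fun _ => True) fun u hu => ⟨u, SPair.Fus.refl hu, trivial⟩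
  have h6 := h.max.card_mul_pow_succ_le X (fun z hz => ⟨hX.1 z hz,
    fun g hg => h.ab hg z (hX.1 z hz), fun j hj => pow_eq_or_of_pow_four (by
      obtain ⟨a, rfl⟩ := h.exists_eq (hX.1 z hz)
      rw [← map_pow, h4, map_one]) (by rw [h.card_eq, h16]; decide) hj⟩) (fun u hu v hv huv =>
      (hX.2 u (hX.1 u hu)).unique ⟨hu, .refl (hX.1 u hu)⟩ ⟨hv, huv⟩) hχ h5
  rw [← h.max.card_eq, h.card_eq, h16] at h6
  have h7 : 2 ^ 2 ≤ 2 ^ (blockHeight 2 B χ.1 + 1) := Nat.pow_le_pow_right two_pos (by omega)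
  have h8 : X.card ≤ 4 := by nlinarith
  have := Fintype.ofFinite A
  have := Fintype.ofFinite E
  choose! f hf using fun x (hx : x ∈ X) => h.exists_eq (hX.1 x hx)
  have h9 := Finset.card_le_card_of_surjOn (s := X ×ˢ (Finset.univ : Finset E))
    (t := (Finset.univ : Finset A)) (fun q => q.2.1 (f q.1)) fun a _ => by
      obtain ⟨x, ⟨hx, h9⟩, -⟩ := hX.2 _ (h.mem_Q a)
      rw [← hf x hx] at h9
      obtain ⟨σ, hσ, h10⟩ := h.fus_iff.1 h9.symm
      exact ⟨(x, ⟨σ, hσ⟩), by simpa using hx, h10⟩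
  rw [Finset.card_product, Finset.card_univ, Finset.card_univ, ← Nat.card_eq_fintype_card,
    ← Nat.card_eq_fintype_card, h16] at h9
  nlinarith

end AbPar

end

theorem AbPar.height_of_sixteen {G : Type u} [Group G] [Finite G] {A : Type*} [CommGroup A]
    [Finite A] {B : Set (IrrCharacter G)} {m : SPair hM G} {ι : A →* G}
    {E : Subgroup (MulAut A)} (h : AbPar B m ι E) (h16 : Nat.card A = 16) {χ : IrrCharacter G}
    (hχ : χ ∈ B) (h5 : Foc E ⊤ → (∀ u ≠ 1, stab E u = ⊥) → Nat.card E = 5 →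
      blockHeight 2 B χ.1 = 0) : blockHeight 2 B χ.1 = 0 := by
  obtain ⟨V, hV⟩ := exists_foc h.pgroup h.not_dvd
  have : Nontrivial A := Finite.one_lt_card_iff_nontrivial.1 (by omega)
  by_cases h1 : V = ⊤
  · subst h1
    by_cases h2 : ∀ u ≠ 1, stab E u = ⊥
    · obtain ⟨v, hv⟩ := exists_ne (1 : A)
      have h3 : ∀ u ≠ 1, (orb E u).ncard = Nat.card E := fun u hu => by
        rw [← card_stab_mul (E := E) u, h2 u hu, card_bot, one_mul]
      have h4 := ncard_sdiff_one (⊤ : Subgroup A)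
      rw [card_top, h16] at h4
      have h6 : Nat.card E ∣ 15 := dvd_ncard_of_orb h3 15 (((⊤ : Subgroup A) : Set A) \ {1})
        (by omega) (fun x hx => hx.2) fun σ _ x hx => ⟨trivial, σ.map_ne_one_iff.2 hx.2⟩
      have h7 : Nat.card E ≤ 3 ∨ Nat.card E = 5 ∨ Nat.card E = 15 := by
        have := Nat.le_of_dvd (by omega) h6
        interval_cases Nat.card E <;> omega
      rcases h7 with h7 | h7 | h7
      · exact h.height_of_three h16 hV h7 hχ
      · exact h5 hV h2 h7
      · refine h.height_of_regular (by omega) hv (Set.eq_of_subset_of_ncard_le ?_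
          (by rw [h3 v hv]; omega)) (h2 v hv) hχ
        rintro _ ⟨σ, -, rfl⟩
        exact ⟨trivial, σ.map_ne_one_iff.2 hv⟩
    · push Not at h2
      obtain ⟨u, h2, h3⟩ := h2
      exact h.height_of_nine h16 (card_eq_nine h.pgroup h.not_dvd h16 hV h2 h3) hχ
  · rcases hV.card_cases h.pgroup h.not_dvd (lt_top_iff_ne_top.2 h1) (by rw [card_top, h16]) with
      rfl | h2 | ⟨h2, -⟩
    · exact (h.of_foc_bot hV).2.1 χ hχ
    · exact (h.of_foc_four hV h2).2.1 χ hχ
    · obtain ⟨a, ha⟩ : ∃ a, a ∉ V := by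
        by_contra h3
        push Not at h3
        exact h1 (eq_top_iff.2 fun a _ => h3 a)
      obtain ⟨v, hv, t, ht, rfl⟩ := hV.exists_mul_fix h.pgroup h.not_dvd a
      have h3 : orderOf t ≠ 1 := fun h3 => ha (by rwa [orderOf_eq_one_iff.1 h3, mul_one])
      have h4 := orderOf_pos t
      exact (h.of_eight_of_fix hV h2 ht (by omega)).2.1 χ hχ

end BT
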