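import Cfsg.Agent.Lib.Block.Major
import Cfsg.Agent.Lib.Block.Heights

/-!
# Parity of projective characters in `2`-blocks

If the defect group `D` of a `2`-block `B` has a central element `u` that is not conjugate to the
square of an element of `D`, then `∑_{χ ∈ B} χ` takes values in the local ideal, so every
generalized character of `B` vanishing on the `2`-singular elements has even norm.
-/

set_option autoImplicit false
set_option linter.unusedSectionVars false

namespace BT

open Cfsg CT GT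
open scoped MonoidAlgebra ComplexConjugate Pointwise

variable {M : Ideal AlgInt} {G : Type*} [Group G] [Finite G]

theorem ev_sum_irr_conj_mul [Fintype G] (χ : IrrCharacter G) (h k : G) :
    χ.1 1 * ∑ g : G, χ.1 (g⁻¹ * h * g * k) = Nat.card G * (χ.1 h * χ.1 k) := by
  have hz : IsCentral (∑ g : G, MonoidAlgebra.single (g⁻¹ * h * g) (1 : ℂ)) :=
    isCentral_iff_cj.2 fun t => by
      rw [map_sum]
      refine Fintype.sum_equiv (Equiv.mulRight t⁻¹) _ _ fun g => ?_
      rw [cj_single]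
      simp [mul_assoc]
  have h1 := ev_mul_of_isCentral χ hz (MonoidAlgebra.single k 1)
  rw [Finset.sum_mul, map_sum, omega_sum] at h1
  simp only [MonoidAlgebra.single_mul_single, ev_single, one_mul, omega_def] at h1
  have h2 : ∀ g : G, χ.1 (g⁻¹ * h * g) = χ.1 h := fun g => by
    simpa using irr_isClassFunction χ h g⁻¹
  simp only [h2, Finset.sum_const, Finset.card_univ, nsmul_eq_mul,
    ← Nat.card_eq_fintype_card] at h1
  rw [h1]
  have := irr_apply_one_ne_zero χ
  field_simp

theorem ev_sum_coeff_conj_mul [Fintype G] {z : ℂ[G]} (hz : IsCentral z) (h : G) :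
    ∑ g : G, z.coeff (g⁻¹ * h * g * h) =
      ∑ χ : IrrCharacter G, omega χ.1 z * conj (χ.1 h) ^ 2 := by
  simp only [hz.coeff_eq_sum_omega]
  rw [← Finset.mul_sum, Finset.sum_comm, Finset.mul_sum]
  refine Finset.sum_congr rfl fun χ _ => ?_
  have h1 := congrArg conj (ev_sum_irr_conj_mul χ h h)
  rw [map_mul, map_mul, map_mul, map_sum, map_natCast, irr_apply_one, map_natCast,
    ← irr_apply_one] at h1
  rw [← Finset.mul_sum, ← Finset.mul_sum, h1]
  have hG : (Nat.card G : ℂ) ≠ 0 := card_cast_ne_zero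
  field_simp

variable (hM : IsPModular 2 M)

/-- A central element of `O[G] e_B` has coefficients in the local ideal at the elements commuting
with a `2`-element not conjugate into the defect group. -/
theorem ev_coeff_mem_locIdeal {B : Set (IrrCharacter G)} (hB : IsPBlock M B) {D : Subgroup G}
    (hD : IsDefectGroup 2 M B D) {z : ℂ[G]} (hz : IsCentral z) (hi : IsInt hM z)
    (hzB : z * setIdem B = z) {v y : G} (hv : IsPElt 2 v) (hvy : Commute v y)
    (hvD : ∀ t : G, t * v * t⁻¹ ∉ D) : z.coeff y ∈ locIdeal hM := by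
  have h0 : br (Subgroup.zpowers v) (idem hM B) = 0 := by
    by_contra h
    obtain ⟨t, -, ht⟩ := (defGrp_of_isDefectGroup hM hB hD).max _ le_top hv.isPGroup_zpowers h
    exact hvD t (ht ⟨v, Subgroup.mem_zpowers v, rfl⟩)
  have h1 : br (Subgroup.zpowers v) (redA hM z) = 0 := by
    rw [← hzB, redA_mul hM hi (isInt_setIdem hM hB), br_mul hv.isPGroup_zpowers
      ((isCentral_redA hM hz).isFixed _) ((isCentral_redA hM (isCentral_setIdem B)).isFixed _)]
    change _ * br _ (idem hM B) = 0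
    rw [h0, mul_zero]
  have hy : y ∈ Subgroup.centralizer (Subgroup.zpowers v : Set G) := by
    rw [← le_centralizer_singleton_iff, Subgroup.zpowers_le,
      Subgroup.mem_centralizer_singleton_iff]
    exact hvy.eq
  have h2 := coeff_br_of_mem (redA hM z) hy
  rw [h1, coeff_redA] at h2
  exact (red_eq_zero_iff hM (hi y)).1 h2.symm

/-- **Parity theorem.** -/
theorem sum_conj_irr_mem_locIdeal {B : Set (IrrCharacter G)} (hB : IsPBlock M B) {D : Subgroup G}
    (hD : IsDefectGroup 2 M B D) {u : G} (hu : u ∈ D) (hc : ∀ x ∈ D, u * x = x * u)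
    (hsq : ∀ x ∈ D, ¬ IsConj u (x ^ 2)) (h : G) :
    ∑ χ ∈ bset B, conj (χ.1 h) ∈ locIdeal hM := by
  classical
  have := Fintype.ofFinite G
  set C := Subgroup.centralizer ({u} : Set G) with hC
  have hu2 : IsPElt 2 u := isPElt_of_mem (isPGroup_of_isDefectGroup hD) hu
  obtain ⟨b, hb, -, hd⟩ := exists_major_subsection hM hB hD hu hC fun x hx =>
    Subgroup.mem_centralizer_singleton_iff.2 (hc x hx).symm
  obtain ⟨χ₀, hχ₀, h0⟩ := exists_height_zero hM hB
  set θ := lft C u (subsec 2 C u b χ₀.1) with hθ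
  have hθc : IsClassFunction G θ := isClassFunction_lft _
  have hz := isCentral_zOf hθc
  have hi : IsInt hM (zOf θ) := isInt_zOf_lft_subsec hM hC hu2 (irr_isCharacter χ₀).isGen
  have hv0 := subsec_apply_of_dvd (p := 2) (C := C) (u := u) (b := b) χ₀.1
  have hω0 : ∀ ψ : IrrCharacter G, ψ ∉ B → omega ψ.1 (zOf θ) = 0 := fun ψ hψ => by
    rw [omega_zOf, ← conj_ip, ip_lft_of_not_mem hM hC hu2 hb (blockPart_subsec hM hb.1 _) hv0 hψ]
    simp
  have hzB : zOf θ * setIdem B = zOf θ := by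
    refine (hz.mul (isCentral_setIdem B)).ext_omega hz fun ψ => ?_
    rw [omega_mul ψ hz, omega_setIdem]
    split_ifs with hψ
    · rw [mul_one]
    · rw [hω0 ψ hψ, zero_mul]
  have hunit : omega χ₀.1 (zOf θ) ∉ locIdeal hM := by
    obtain ⟨v, hv, hv', hv''⟩ := card_div_apply_one_eq hM (p := 2) hχ₀
    rw [omega_zOf_lft_subsec hM hC hb.1, mul_div_right_comm, hv'', mul_right_comm,
      mul_mem_locIdeal_iff_of_unit hM hv hv',
      pow_div_mul_contr_mem_locIdeal_iff hM hC hu2 hb hd hχ₀ hχ₀]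
    simp [h0]
  have hω : ∀ ψ ∈ B, omega ψ.1 (zOf θ) - omega χ₀.1 (zOf θ) ∈ locIdeal hM := fun ψ hψ => by
    rw [omega_zOf_lft_subsec hM hC hb.1, omega_zOf_lft_subsec hM hC hb.1]
    exact card_mul_contr_div_sub_mem hM hC hu2 hb.1 (irr_isCharacter χ₀).isGen hB hψ hχ₀
  have hval : ∀ ψ : IrrCharacter G, conj (ψ.1 h) ∈ locRing hM := fun ψ => by
    rw [← (irr_isCharacter ψ).apply_inv]
    exact mem_locRing_of_isIntegral hM (isIntegral_character_value (irr_isCharacter ψ) _)
  -- the sum over `g` lies in the local ideal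
  have hS : ∑ g : G, (zOf θ).coeff (g⁻¹ * h * g * h) ∈ locIdeal hM := by
    rw [← red_eq_zero_iff hM (sum_mem fun g _ => hi _), red_sum hM _ _ fun g _ => hi _]
    refine Finset.sum_involution (fun g _ => g⁻¹) (fun g _ => ?_) (fun g _ hg h1 => hg ?_)
      (fun _ _ => Finset.mem_univ _) (fun g _ => inv_inv g)
    · have : (zOf θ).coeff (g⁻¹⁻¹ * h * g⁻¹ * h) = (zOf θ).coeff (g⁻¹ * h * g * h) := by
        rw [← hz (g * h) (g⁻¹ * h * g * h)]
        congr 1
        group
      rw [this]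
      exact CharTwo.add_self_eq_zero _
    · rw [red_eq_zero_iff hM (hi _), h1]
      by_cases hy : (zOf θ).coeff (g * h * g * h) = 0
      · rw [hy]; exact zero_mem _
      have h2 : IsConj u (pPart 2 (g * h) ^ 2) := by
        by_contra h3
        apply hy
        rw [coeff_zOf, hθ, lft_apply_eq_zero hC hu2 hv0, map_zero]
        rwa [show g * h * g * h = (g * h) ^ 2 by simp only [sq, mul_assoc],
          pPart_pow]
      refine ev_coeff_mem_locIdeal hM hB hD hz hi hzB (isPElt_pPart 2 (g * h)) ?_ fun t ht => ?_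
      · rw [show g * h * g * h = (g * h) * (g * h) by simp only [mul_assoc]]
        exact (commute_pPart_self 2 _).mul_right (commute_pPart_self 2 _)
      · refine hsq _ ht (h2.trans (isConj_iff.2 ⟨t, ?_⟩))
        rw [conj_pow]
  rw [ev_sum_coeff_conj_mul hz, ← Finset.sum_subset (Finset.subset_univ (bset B))
    (fun ψ _ hψ => by rw [hω0 ψ (by simpa using hψ), zero_mul])] at hS
  have h3 : omega χ₀.1 (zOf θ) * ∑ ψ ∈ bset B, conj (ψ.1 h) ^ 2 ∈ locIdeal hM := by
    have h4 : ∑ ψ ∈ bset B, (omega ψ.1 (zOf θ) - omega χ₀.1 (zOf θ)) * conj (ψ.1 h) ^ 2 ∈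
        locIdeal hM := sum_mem fun ψ hψ =>
      mul_mem_locIdeal_right hM (hω ψ (mem_bset.1 hψ)) (pow_mem (hval ψ) 2)
    have := sub_mem hS h4
    rwa [← Finset.sum_sub_distrib, Finset.sum_congr rfl (g := fun ψ =>
      omega χ₀.1 (zOf θ) * conj (ψ.1 h) ^ 2) (fun ψ _ => by ring), ← Finset.mul_sum] at this
  rw [mul_comm, mul_mem_locIdeal_iff_of_unit hM (omega_mem_locRing hM χ₀ hz hi) hunit,
    ← red_eq_zero_iff hM (sum_mem fun ψ _ => pow_mem (hval ψ) 2),
    red_sum hM _ _ fun ψ _ => pow_mem (hval ψ) 2] at h3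
  simp only [red_pow hM (hval _)] at h3
  rw [← CharTwo.sum_sq, pow_eq_zero_iff two_ne_zero, ← red_sum hM _ _ fun ψ _ => hval ψ,
    red_eq_zero_iff hM (sum_mem fun ψ _ => hval ψ)] at h3
  exact h3

include hM in
/-- A generalized character of `B` vanishing on the `2`-singular elements has even coefficient
sum. -/
theorem two_dvd_sum_of_vanish {B : Set (IrrCharacter G)} (hB : IsPBlock M B) {D : Subgroup G}
    (hD : IsDefectGroup 2 M B D) {u : G} (hu : u ∈ D) (hc : ∀ x ∈ D, u * x = x * u)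
    (hsq : ∀ x ∈ D, ¬ IsConj u (x ^ 2)) (n : IrrCharacter G → ℤ)
    (h0 : ∀ g, 2 ∣ orderOf g → ∑ χ ∈ bset B, (n χ : ℂ) * χ.1 g = 0) :
    (2 : ℤ) ∣ ∑ χ ∈ bset B, n χ := by
  classical
  have := Fintype.ofFinite G
  have := Fintype.ofFinite (ConjClasses G)
  set Φ : G → ℂ := ∑ χ ∈ bset B, (n χ : ℂ) • χ.1 with hΦ
  set η : G → ℂ := ∑ χ ∈ bset B, χ.1 with hη
  have hΦg : IsGeneralizedCharacter G Φ :=
    isGen_sum _ _ fun ψ _ => (irr_isCharacter ψ).isGen.zsmul _
  have hηc : IsClassFunction G η := (isCharacter_sum _ _ fun ψ _ => irr_isCharacter ψ).isClassFunction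
  have hΦ0 : ∀ g, 2 ∣ orderOf g → Φ g = 0 := fun g hg => by
    rw [hΦ, Finset.sum_apply]; exact h0 g hg
  have h1 : ip Φ η = ((∑ χ ∈ bset B, n χ : ℤ) : ℂ) := by
    rw [hΦ, hη, ip_sum_left]
    push_cast
    refine Finset.sum_congr rfl fun χ hχ => ?_
    rw [ip_smul_left, ip_sum_right, Finset.sum_eq_single χ, ip_irr_self, mul_one]
    · intro ψ _ hψ; exact ip_irr_ne hψ.symm
    · exact fun h => absurd hχ h
  have hz : IsCentral (ofFun fun g => Φ g * conj (η g)) := fun t x => by
    rw [coeff_ofFun, coeff_ofFun, hΦg.isClassFunction x t, hηc x t]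
  have h2 := omega_eq_sum_conjClasses (χ := fun _ : G => (1 : ℂ)) (fun _ _ => rfl) hz
  rw [omega_def, ev_eq_sum] at h2
  simp only [coeff_ofFun, mul_one, div_one, centralChar] at h2
  have h3 := (intCast_mem_locIdeal_iff hM (∑ χ ∈ bset B, n χ)).1 (by
    rw [← h1, ip_def, h2, Finset.mul_sum]
    refine sum_mem fun c _ => ?_
    have h4 := mul_mem_locIdeal_left hM (div_card_centralizer_mem_locRing hM hΦg hΦ0 c.out)
      (sum_conj_irr_mem_locIdeal hM hB hD hu hc hsq c.out)
    convert h4 using 1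
    rw [hη, Finset.sum_apply, map_sum,
      ← (Subgroup.centralizer ({c.out} : Set G)).index_mul_card]
    have h5 : ((Subgroup.centralizer ({c.out} : Set G)).index : ℂ) ≠ 0 :=
      Nat.cast_ne_zero.2 Subgroup.index_ne_zero_of_finite
    have h6 : (Nat.card (Subgroup.centralizer ({c.out} : Set G)) : ℂ) ≠ 0 := card_cast_ne_zero
    push_cast
    field_simp)
  exact_mod_cast h3

include hM in
theorem BasicSet.two_dvd_sum_d {B : Set (IrrCharacter G)} (hB : IsPBlock M B) {D : Subgroup G}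
    (hD : IsDefectGroup 2 M B D) {u : G} (hu : u ∈ D) (hc : ∀ x ∈ D, u * x = x * u)
    (hsq : ∀ x ∈ D, ¬ IsConj u (x ^ 2)) {ι : Type*} [Fintype ι] (S : BasicSet 2 B ι) (i : ι) :
    (2 : ℤ) ∣ ∑ χ ∈ bset B, S.d χ i :=
  two_dvd_sum_of_vanish hM hB hD hu hc hsq _ fun g hg => by
    have := S.Φ_apply_of_dvd hM hB i hg
    rwa [BasicSet.Φ, Finset.sum_apply] at this

end BT
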