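import Cfsg.Agent.Lib.Block.KBAb
import Cfsg.Agent.Lib.Block.Even

/-!
# Abelian `2`-defect groups whose focal subgroup has order eight
-/

set_option autoImplicit false
set_option linter.unusedSectionVars false

namespace BT

open Cfsg CT GT Subgroup

universe u

variable {M : Ideal AlgInt} {hM : IsPModular 2 M}
variable {G : Type*} [Group G] [Finite G]

variable (hM) in include hM in
/-- The parity theorem in terms of the contribution matrix. -/
theorem two_dvd_sum_of_cm {B : Set (IrrCharacter G)} (hB : IsPBlock M B) {D : Subgroup G}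
    (hD : IsDefectGroup 2 M B D) {u : G} (hu : u ∈ D) (hc : ∀ x ∈ D, u * x = x * u)
    (hsq : ∀ x ∈ D, ¬ IsConj u (x ^ 2)) (n : IrrCharacter G → ℤ)
    (h0 : ∀ ψ ∈ B, ∑ χ ∈ bset B, n χ * cm 2 B χ.1 ψ.1 = 2 ^ blockDefect 2 B * n ψ) :
    (2 : ℤ) ∣ ∑ χ ∈ bset B, n χ := by
  refine two_dvd_sum_of_vanish hM hB hD hu hc hsq n fun g hg => ?_
  have h1 : ∀ χ ∈ bset B, ∑ ψ ∈ bset B, (cm 2 B χ.1 ψ.1 : ℂ) * ψ.1 g = 0 := fun χ hχ => by
    have := congrFun (pow_smul_pRegularPart_eq_sum hM hB (mem_bset.1 hχ)) g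
    rw [Pi.smul_apply, pRegularPart_of_dvd _ hg, smul_zero, Finset.sum_apply] at this
    exact this.symm
  refine mul_left_cancel₀ (pow_ne_zero (blockDefect 2 B) (two_ne_zero' ℂ)) ?_
  have h2 : ∀ ψ ∈ bset B, (2 : ℂ) ^ blockDefect 2 B * (n ψ * ψ.1 g) =
      ∑ χ ∈ bset B, n χ * ((cm 2 B χ.1 ψ.1 : ℂ) * ψ.1 g) := fun ψ hψ => by
    have := congrArg (Int.cast : ℤ → ℂ) (h0 ψ (mem_bset.1 hψ))
    push_cast at this
    simp only [← mul_assoc]
    rw [← this, Finset.sum_mul]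
  rw [mul_zero, Finset.mul_sum, Finset.sum_congr rfl h2, Finset.sum_comm]
  exact Finset.sum_eq_zero fun χ hχ => by rw [← Finset.mul_sum, h1 χ hχ, mul_zero]

/-- The contributions of `B` are described by integral columns `x a` on `r` classes of `N`
characters each. -/
structure OrbForm (B : Set (IrrCharacter G)) (q N : ℕ) {r : ℕ} (c : IrrCharacter G → Fin r)
    {ι : Type*} [Fintype ι] (x : ι → Fin r → ℤ) : Prop where
  pow : (2 : ℤ) ^ blockDefect 2 B = q * N
  sum : ∀ F : Fin r → ℤ, ∑ χ ∈ bset B, F (c χ) = N * ∑ i, F i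
  cm : ∀ χ ∈ B, ∀ ψ ∈ B, cm 2 B χ.1 ψ.1 =
    q * (if c χ = c ψ then 1 else 0) - ∑ a, x a (c χ) * x a (c ψ)

namespace OrbForm

variable {B : Set (IrrCharacter G)} {q N r : ℕ} {c : IrrCharacter G → Fin r}
  {ι : Type*} [Fintype ι] {x : ι → Fin r → ℤ} (h : OrbForm B q N c x)
include h

theorem ne_zero : (N : ℤ) ≠ 0 := fun h0 => by simpa [h0] using h.pow

theorem surj (i : Fin r) : ∃ χ ∈ B, c χ = i := by
  by_contra h1
  push Not at h1
  have := h.sum fun j => if j = i then 1 else 0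
  rw [Finset.sum_eq_zero fun χ hχ => if_neg (h1 χ (mem_bset.1 hχ))] at this
  exact h.ne_zero (by simpa using this.symm)

theorem card : Nat.card B = N * r := by
  have := h.sum fun _ => 1
  simp only [Finset.sum_const, Finset.card_univ, Fintype.card_fin, nsmul_eq_mul, mul_one] at this
  rw [← card_bset]
  exact_mod_cast this

variable (hM) (hB : IsPBlock M B)
include hM hB

theorem lt (i : Fin r) : ∑ a, x a i * x a i < q := by
  obtain ⟨χ, hχ, rfl⟩ := h.surj i
  have := cm_self_pos hM hB hχ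
  rw [h.cm χ hχ χ hχ, if_pos rfl] at this
  omega

theorem height_iff (hq : 2 ∣ q) {χ : IrrCharacter G} (hχ : χ ∈ B) :
    blockHeight 2 B χ.1 = 0 ↔ ¬ 2 ∣ ∑ a, x a (c χ) * x a (c χ) := by
  have := dvd_cm_iff hM hB hχ hχ
  rw [h.cm χ hχ χ hχ, if_pos rfl, or_self] at this
  push_cast at this
  omega

theorem exists_odd (hq : 2 ∣ q) : ∃ i, ¬ 2 ∣ ∑ a, x a i * x a i := by
  obtain ⟨χ, hχ, h0⟩ := exists_height_zero hM hB
  exact ⟨_, (h.height_iff hM hB hq hχ).1 h0⟩

theorem two_dvd (hN : N = 1) {D : Subgroup G} (hD : IsDefectGroup 2 M B D) {u : G} (hu : u ∈ D)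
    (hc : ∀ x ∈ D, u * x = x * u) (hsq : ∀ x ∈ D, ¬ IsConj u (x ^ 2)) (F : Fin r → ℤ)
    (hF : ∀ a, ∑ i, F i * x a i = 0) : 2 ∣ ∑ i, F i := by
  have := two_dvd_sum_of_cm hM hB hD hu hc hsq (fun χ => F (c χ)) fun ψ hψ => by
    rw [Finset.sum_congr rfl fun χ hχ => by rw [h.cm χ (mem_bset.1 hχ) ψ hψ],
      h.sum fun i => F i * (q * (if i = c ψ then 1 else 0) - ∑ a, x a i * x a (c ψ)), h.pow]
    have h1 : ∑ i, F i * ∑ a, x a i * x a (c ψ) = 0 := by
      simp only [Finset.mul_sum]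
      rw [Finset.sum_comm]
      simp only [← mul_assoc, ← Finset.sum_mul, hF, zero_mul, Finset.sum_const_zero]
    simp only [mul_sub, Finset.sum_sub_distrib, h1]
    simp
    ring
  rwa [h.sum, hN, Nat.cast_one, one_mul] at this

end OrbForm

/-! ### Arithmetic -/

theorem e8_all_odd_of_one {r : ℕ} {g : Fin r → ℤ}
    (hev : ∀ F : Fin r → ℤ, ∑ i, F i * g i = 0 → 2 ∣ ∑ i, F i) {i₀ : Fin r} (h0 : ¬ 2 ∣ g i₀)
    (i : Fin r) : ¬ 2 ∣ g i := by
  have := hev (fun j => (if j = i then g i₀ else 0) - if j = i₀ then g i else 0) (by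
    simp only [sub_mul, Finset.sum_sub_distrib, ite_mul, zero_mul, Finset.sum_ite_eq',
      Finset.mem_univ, if_true]
    ring)
  simp only [Finset.sum_sub_distrib, Finset.sum_ite_eq', Finset.mem_univ, if_true] at this
  omega

theorem e8_sq_cases {a : ℤ} (h : a * a < 8) :
    a % 2 = 1 ∧ a * a = 1 ∨ a = 0 ∨ a % 2 = 0 ∧ a * a = 4 := by
  have h1 : -3 < a := by nlinarith
  have h2 : a < 3 := by nlinarith
  interval_cases a <;> simp

theorem e8_count_one {r : ℕ} {g : Fin r → ℤ} (h0 : ∀ i, g i ≠ 0) (h1 : ∀ i, g i * g i < 8)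
    (h2 : ∑ i, g i * g i = 8) {i₀ : Fin r} (h3 : ¬ 2 ∣ g i₀) (h4 : 2 ∣ r ∨ ∀ i, ¬ 2 ∣ g i) :
    r = 8 ∧ ∀ i, ¬ 2 ∣ g i := by
  have h5 : ∀ i, g i * g i = 1 + 3 * if 2 ∣ g i then 1 else 0 := fun i => by
    have := e8_sq_cases (h1 i)
    have := h0 i
    split_ifs <;> omega
  simp only [h5, Finset.sum_add_distrib, ← Finset.mul_sum, Finset.sum_boole, Finset.sum_const,
    Finset.card_univ, Fintype.card_fin, nsmul_eq_mul, mul_one] at h2
  have h6 : (Finset.univ.filter fun i => 2 ∣ g i).card < r := by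
    simpa using Finset.card_lt_univ_of_notMem (s := Finset.univ.filter fun i => 2 ∣ g i)
      (x := i₀) (by simpa using h3)
  have h7 : (Finset.univ.filter fun i => 2 ∣ g i).card = 0 := by
    rcases h4 with h4 | h4
    · omega
    · simp [h4]
  refine ⟨by omega, fun i hi => ?_⟩
  exact (Finset.card_ne_zero.2 ⟨i, by simpa using hi⟩) h7

theorem e8_row_cases {a b c : ℤ} (h1 : 2 ∣ b - a) (h2 : 2 ∣ c - a) (h : a ≠ 0 ∨ b ≠ 0 ∨ c ≠ 0)
    (h3 : a * a + b * b + c * c < 8) :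
    a * a = 1 ∧ b * b = 1 ∧ c * c = 1 ∨ a * a = 4 ∧ b = 0 ∧ c = 0 ∨ a = 0 ∧ b * b = 4 ∧ c = 0 ∨
      a = 0 ∧ b = 0 ∧ c * c = 4 := by
  have ha := mul_self_nonneg a
  have hb := mul_self_nonneg b
  have hc := mul_self_nonneg c
  have h4 := e8_sq_cases (a := a) (by omega)
  have h5 := e8_sq_cases (a := b) (by omega)
  have h6 := e8_sq_cases (a := c) (by omega)
  omega

theorem e8_count_three {r : ℕ} {x : Fin 3 → Fin r → ℤ}
    (h1 : ∀ i, (∀ a, x a i * x a i = 1) ∨ ∃ a, x a i * x a i = 4 ∧ ∀ b ≠ a, x b i = 0)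
    (h2 : ∀ a, ∑ i, x a i * x a i = 8) {i₀ : Fin r} (h3 : ∀ a, x a i₀ * x a i₀ = 1)
    (h4 : 2 ∣ r ∨ ∀ F : Fin r → ℤ, (∀ a, ∑ i, F i * x a i = 0) → 2 ∣ ∑ i, F i) :
    r = 8 ∧ ∀ i a, x a i * x a i = 1 := by
  classical
  have h5 : ∀ i, ∑ a, x a i * x a i = 3 + if ∀ a, x a i * x a i = 1 then 0 else 1 := fun i => by
    split_ifs with h
    · simp [h]
    · obtain ⟨a, ha, hb⟩ := (h1 i).resolve_left h
      rw [Finset.sum_eq_single a (fun b _ h => by rw [hb b h, mul_zero]) (by simp), ha]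
      rfl
  have h6 : ∑ i, ∑ a, x a i * x a i = 24 := by rw [Finset.sum_comm]; simp [h2]
  simp only [h5, Finset.sum_add_distrib, Finset.sum_ite, Finset.sum_const, Finset.card_univ,
    Fintype.card_fin, nsmul_eq_mul, mul_one, mul_zero, zero_add] at h6
  set S := Finset.univ.filter fun i => ¬ ∀ a, x a i * x a i = 1 with hS
  have h7 : S.card < r := by
    simpa using Finset.card_lt_univ_of_notMem (s := S) (x := i₀) (by simp [hS, h3])
  have h8 : S.card = 0 := by
    rcases h4 with h4 | h4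
    · omega
    by_contra h8
    obtain ⟨j, hj⟩ := Finset.card_ne_zero.1 h8
    obtain ⟨b, hb, hb'⟩ := (h1 j).resolve_left (Finset.mem_filter.1 hj).2
    have h9 : ∀ a, ∃ j, x a j * x a j = 4 ∧ ∀ b ≠ a, x b j = 0 := fun a => by
      by_contra h9
      have h10 : ∀ i, (∀ a, x a i * x a i = 1) ∨ x a i = 0 := fun i => (h1 i).imp_right
        fun ⟨a', h10, h11⟩ => h11 a fun h12 => h9 ⟨i, h12 ▸ h10, h12 ▸ h11⟩
      have := Finset.sum_lt_sum (s := Finset.univ) (f := fun i => x a i * x a i)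
        (g := fun i => x b i * x b i) (fun i _ => by
          rcases h10 i with h11 | h11
          · rw [h11, h11]
          · rw [h11, mul_zero]; exact mul_self_nonneg _) ⟨j, Finset.mem_univ _, by
          rcases h10 j with h11 | h11
          · exact absurd h11 (Finset.mem_filter.1 hj).2
          · rw [h11, hb]; norm_num⟩
      rw [h2, h2] at this
      exact lt_irrefl _ this
    choose j hj1 hj2 using h9
    have h10 : ∀ a, ∃ s : ℤ, x a (j a) = 2 * s ∧ s * s = 1 := fun a => by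
      rcases mul_self_eq_mul_self_iff.1 ((hj1 a).trans (show (4 : ℤ) = 2 * 2 by norm_num)) with
        h | h
      exacts [⟨1, by omega, rfl⟩, ⟨-1, by omega, rfl⟩]
    choose s hs1 hs2 using h10
    have h11 := h4 (fun i => (if i = i₀ then 2 else 0) -
      ∑ a, if i = j a then x a i₀ * s a else 0) fun b => by
        simp only [sub_mul, Finset.sum_sub_distrib, Finset.sum_mul, ite_mul, zero_mul,
          Finset.sum_ite_eq', Finset.mem_univ, if_true]
        rw [Finset.sum_comm]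
        simp only [Finset.sum_ite_eq', Finset.mem_univ, if_true]
        rw [Finset.sum_eq_single b (fun a _ h => by rw [hj2 a b h.symm, mul_zero]) (by simp), hs1]
        linear_combination (-2 * x b i₀) * hs2 b
    simp only [Finset.sum_sub_distrib, Finset.sum_ite_eq', Finset.mem_univ, if_true] at h11
    rw [Finset.sum_comm] at h11
    simp only [Finset.sum_ite_eq', Finset.mem_univ, if_true, Fin.sum_univ_three] at h11
    have h12 : ∀ a, x a i₀ * s a = 1 ∨ x a i₀ * s a = -1 := fun a =>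
      mul_self_eq_one_iff.1 (by rw [mul_mul_mul_comm, h3, hs2, mul_one])
    have := h12 0
    have := h12 1
    have := h12 2
    omega
  refine ⟨by omega, fun i => ?_⟩
  by_contra hi
  exact (Finset.card_ne_zero.2 ⟨i, Finset.mem_filter.2 ⟨Finset.mem_univ _, hi⟩⟩) h8

/-! ### Two fusion classes in the focal subgroup -/

namespace MaxP

variable {B : Set (IrrCharacter G)} {m : SPair hM G} (hm : MaxP B m)
  (hab : m.Q ≤ centralizer (m.Q : Set G)) {V : Subgroup G} (hV : V ≤ m.Q) (h3 : 3 ≤ Nat.card V)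
  (hfoc : ∀ u v, m.Fus u v → u⁻¹ * v ∈ V) {v : G} (hv : v ∈ V) (hv1 : v ≠ 1)
  (htr : ∀ w ∈ V, w ≠ 1 → m.Fus w v) (hvv : v * v = 1)
include hm hab hV h3 hfoc hv hv1 htr hvv

theorem exists_orbForm_free
    (hfree : ∀ t : G, t • m = m → t * v * t⁻¹ = v → t ∈ centralizer (m.Q : Set G)) :
    ∃ (r N : ℕ) (c : IrrCharacter G → Fin r) (g : Fin r → ℤ), Nat.card m.Q = Nat.card V * N ∧
      r = blockRank 2 B + 1 ∧ OrbForm B (Nat.card V) N c (fun _ : Unit => g) ∧ (∀ i, g i ≠ 0) ∧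
      ∑ i, g i * g i = Nat.card V := by
  obtain ⟨⟨φ, hφ⟩, -⟩ := hm.exists_uniB_at hab (hV hv) hfree
  have h1 := hφ.blockRank_eq hM (SPair.isPBlock_blk _)
  obtain ⟨S⟩ := h1 ▸ exists_basicSet 2 (m.at v).blk
  obtain ⟨h2, h4⟩ := S.gam_of_unique hM (SPair.isPBlock_blk _)
  obtain ⟨r, N, c, g, h5, h6, h11, h7, h8, h9⟩ :=
    hm.exists_orbit_gdec hab hV h3 hfoc hv hv1 htr hvv S
  have h10 := h8 0 0
  rw [h4, hm.blockDefect_at_of_central (hV hv) fun g hg => hab hg v (hV hv), ← Nat.cast_pow,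
    ← hm.card_eq, h5, Nat.cast_mul, mul_comm, mul_left_inj' (by
      rintro h
      rw [Nat.cast_eq_zero.1 h] at h5
      exact Nat.card_pos.ne' h5)] at h10
  refine ⟨r, N, c, fun i => g i 0, h5, h1 ▸ h6, ⟨?_, h11, fun χ hχ ψ hψ => ?_⟩,
    fun i h => h7 i (funext fun a => by rwa [Subsingleton.elim a 0]), h10⟩
  · exact_mod_cast hm.card_eq.symm.trans h5
  · simpa [h2] using h9 χ hχ ψ hψ

omit h3 in
theorem exists_orbForm_three (h8 : Nat.card V = 8) {n : ℕ} (hn : Nat.card m.Q = 4 * n)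
    (S : BasicSet 2 (m.at v).blk (Fin 3)) (hS : S.C = (n : ℤ) • !![2, -1, 0; -1, 2, -1; 0, -1, 2]) :
    ∃ (r N : ℕ) (c : IrrCharacter G → Fin r) (x : Fin 3 → Fin r → ℤ), Nat.card m.Q = 8 * N ∧
      r = blockRank 2 B + 3 ∧ OrbForm B 8 N c x ∧ (∀ a, ∑ i, x a i * x a i = 8) ∧
      ∀ i, (∀ a, x a i * x a i = 1) ∨ ∃ a, x a i * x a i = 4 ∧ ∀ b ≠ a, x b i = 0 := by
  obtain ⟨r, N, c, g, h1, h2, h3, h4, h5, h6⟩ :=
    hm.exists_orbit_gdec hab hV (by omega) hfoc hv hv1 htr hvv S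
  have hd : (2 : ℤ) ^ blockDefect 2 B = 8 * N := by
    rw [h8] at h1; exact_mod_cast hm.card_eq.symm.trans h1
  have hN : (N : ℤ) ≠ 0 := fun h => by simp [h] at hd
  obtain rfl : n = 2 * N := by rw [h8] at h1; omega
  rw [← S.card_eq, Fintype.card_fin] at h2
  rw [S.gam_eq_of_mul hM (m.at v).isPBlock_blk (A := !![3, 2, 1; 2, 4, 2; 1, 2, 3]) (by
    rw [hS, hm.blockDefect_at_of_central (hV hv) fun g hg => hab hg v (hV hv), Nat.cast_ofNat, hd,
      Matrix.mul_smul, show (8 * N : ℤ) = (2 * N : ℕ) * 4 by push_cast; ring, mul_smul]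
    congr 1
    decide), h8] at h6
  let A : Fin 3 → Fin 3 → ℤ := !![1, 0, 1; 1, 0, -1; 1, 2, 1]
  obtain ⟨x, hx⟩ : ∃ x : Fin 3 → Fin r → ℤ, ∀ a i, x a i = ∑ j, A a j * g i j := ⟨_, fun _ _ => rfl⟩
  have h7 : OrbForm B 8 N c x := ⟨hd, h3, fun χ hχ ψ hψ => by
    rw [h6 χ hχ ψ hψ]
    simp [hx, A, Fin.sum_univ_three]
    ring⟩
  have h9 : ∀ a b, ∑ i, x a i * x b i = if a = b then 8 else 0 := fun a b => by
    have : ∀ j k, ∑ i, g i j * g i k = 2 * !![2, -1, 0; -1, 2, -1; 0, -1, 2] j k := fun j k =>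
      mul_left_cancel₀ hN (by rw [h5, hS]; simp; ring)
    simp only [hx, Finset.sum_mul_sum, mul_mul_mul_comm (A a _) (g _ _)]
    rw [Finset.sum_comm, Finset.sum_congr rfl fun _ _ => Finset.sum_comm]
    simp only [← Finset.mul_sum, this]
    revert a b
    decide
  have h10 : ∀ a i, 2 ∣ x a i - x 0 i := fun a i => by
    fin_cases a <;> simp [hx, A, Fin.sum_univ_three] <;> omega
  refine ⟨r, N, c, x, h8 ▸ h1, h2, h7, fun a => by simp [h9], fun i => ?_⟩
  have h11 := h7.lt hM hm.block i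
  rw [Fin.sum_univ_three] at h11
  rcases e8_row_cases (h10 1 i) (h10 2 i) (by
    by_contra h
    simp only [hx, A, Fin.sum_univ_three, not_or, not_not] at h
    simp at h
    exact h4 i (funext fun j => by fin_cases j <;> simp <;> omega)) (by exact_mod_cast h11) with
    h | h | h | h
  · exact .inl fun a => by fin_cases a <;> simp [h]
  · exact .inr ⟨0, h.1, fun b hb => by fin_cases b <;> simp_all⟩
  · exact .inr ⟨1, h.2.1, fun b hb => by fin_cases b <;> simp_all⟩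
  · exact .inr ⟨2, h.2.2, fun b hb => by fin_cases b <;> simp_all⟩

end MaxP

variable {A : Type*} [CommGroup A] [Finite A]

namespace AbPar

variable {B : Set (IrrCharacter G)} {m : SPair hM G} {ι : A →* G} {E : Subgroup (MulAut A)}
  (h : AbPar B m ι E)
include h

/-- The parity theorem for elementary abelian defect groups. -/
theorem orbForm_two_dvd (hA : ∀ a : A, a * a = 1) {v : A} (hv : v ≠ 1) {q r : ℕ}
    {c : IrrCharacter G → Fin r} {κ : Type*} [Fintype κ] {x : κ → Fin r → ℤ}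
    (hx : OrbForm B q 1 c x) (F : Fin r → ℤ) (hF : ∀ a, ∑ i, F i * x a i = 0) : 2 ∣ ∑ i, F i :=
  hx.two_dvd hM h.max.block rfl h.max.isDefectGroup (h.mem_Q v)
    (fun _ hx => h.ab hx _ (h.mem_Q v)) (fun y hy h1 => by
      obtain ⟨a, rfl⟩ := h.exists_eq hy
      rw [sq, ← map_mul, hA, map_one, isConj_one_left] at h1
      exact h.ne_one hv h1) F hF

theorem of_eight {V : Subgroup A} (hV : Foc E V) (h8 : Nat.card V = 8)
    (hl : ¬ 2 ∣ blockRank 2 B ∨ Nat.card A = 8) : Nat.card B = Nat.card A ∧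
      (∀ χ ∈ B, blockHeight 2 B χ.1 = 0) ∧ (blockRank 2 B = 5 ∨ blockRank 2 B = 7) := by
  obtain ⟨⟨v, hv⟩, hv1⟩ := ne_bot_iff_exists_ne_one.1 ((one_lt_card_iff_ne_bot V).1 (by omega))
  replace hv1 : v ≠ 1 := fun h => hv1 (Subtype.ext h)
  have h1 := hV.orb_eq h.not_dvd (.inr h8) hv hv1
  have h2 : ι v * ι v = 1 := by rw [← map_mul, mul_self_of_orb h.pgroup h1 hv, map_one]
  have hA : Nat.card A = 8 → ∀ a : A, a * a = 1 := fun h3 a => mul_self_of_orb h.pgroup h1
    ((eq_top_of_card_eq V (h8.trans h3.symm)).ge (mem_top a))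
  have h' := h.res v
  obtain ⟨U, hU⟩ := exists_foc h'.pgroup h'.not_dvd
  replace hU : Foc (stab E v) (U ⊓ V) :=
    ⟨fun σ hσ a => ⟨hU.mem σ hσ a, hV.mem σ hσ.1 a⟩, fun u hu => hU.fix u hu.1⟩
  rcases hU.card_cases h'.pgroup h'.not_dvd (W := V) (inf_le_right.lt_of_ne fun h3 =>
    hv1 (hU.fix v (h3.ge hv) fun σ hσ => hσ.2)) (by omega) with h3 | h3 | h3
  · obtain ⟨r, N, c, g, h4, h5, h6, h7, h9⟩ := h.max.exists_orbForm_free h.ab (h.map_le V)
      (by rw [h.card_map]; omega) (h.foc hV) ⟨v, hv, rfl⟩ (h.ne_one hv1) (h.trans h1) h2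
      (h.free (eq_bot_iff.2 fun σ hσ => hU.eq_one h'.pgroup h'.not_dvd hσ fun v hv => by
        rw [mem_bot.1 (h3.le hv), map_one]))
    rw [h.card_map, h8] at h4 h6 h9
    rw [h.card_eq] at h4
    obtain ⟨i₀, h10⟩ := h6.exists_odd hM h.max.block (by decide)
    have h11 : ¬ 2 ∣ g i₀ := fun h => h10 (by simpa using h.mul_right _)
    obtain ⟨h12, h13⟩ := e8_count_one h7 (fun i => by simpa using h6.lt hM h.max.block i) h9 h11
      (hl.imp (fun h => by omega) fun h14 => by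
        obtain rfl : N = 1 := by omega
        exact e8_all_odd_of_one (fun F hF =>
          h.orbForm_two_dvd (hA h14) hv1 h6 F fun _ => hF) h11)
    refine ⟨by rw [h6.card, h4, h12, mul_comm], fun χ hχ => ?_, .inr (by omega)⟩
    rw [h6.height_iff hM h.max.block (by decide) hχ]
    simpa [Int.prime_two.dvd_mul] using h13 (c χ)
  · obtain ⟨n, h4, S, hS⟩ := h'.four hU h3
    obtain ⟨r, N, c, x, h5, h6, h7, h9, h10⟩ := h.max.exists_orbForm_three h.ab (h.map_le V)
      (h.foc hV) ⟨v, hv, rfl⟩ (h.ne_one hv1) (h.trans h1) h2 ((h.card_map V).trans h8)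
      (h.card_eq.trans h4) S hS
    rw [h.card_eq] at h5
    obtain ⟨i₀, h11⟩ := h7.exists_odd hM h.max.block (by decide)
    obtain ⟨h12, h13⟩ := e8_count_three h10 h9 (i₀ := i₀) ((h10 i₀).resolve_right
      fun ⟨a, ha, hb⟩ => h11 (by
        rw [Finset.sum_eq_single a (fun b _ h => by rw [hb b h, mul_zero]) (by simp), ha]
        decide)) (hl.imp (fun h => by omega) fun h14 => by
        obtain rfl : N = 1 := by omega
        exact h.orbForm_two_dvd (hA h14) hv1 h7)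
    refine ⟨by rw [h7.card, h5, h12, mul_comm], fun χ hχ => ?_, .inl (by omega)⟩
    rw [h7.height_iff hM h.max.block (by decide) hχ]
    simp [h13]
  · omega

/-- Blocks with abelian defect group of order at most eight have `1`, `3`, `5` or `7` irreducible
Brauer characters. -/
theorem not_two_dvd_blockRank (h8 : Nat.card A ≤ 8) : ¬ 2 ∣ blockRank 2 B := by
  obtain ⟨V, hV⟩ := exists_foc h.pgroup h.not_dvd
  have key : V = ⊥ ∨ Nat.card V = 4 ∨ Nat.card V = 8 := by
    obtain ⟨n, hn⟩ := (h.pgroup.to_subgroup V).exists_card_eq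
    have h2 := hV.card_ne_two h.not_dvd
    have h3 := (card_le_card_group V).trans h8
    rw [← card_eq_one]
    rw [hn] at h2 h3 ⊢
    have h3 : n < 4 := (Nat.pow_lt_pow_iff_right one_lt_two).1 (by omega)
    interval_cases n <;> simp_all
  rcases key with h1 | h1 | h1
  · rw [h.blockRank_eq_one (eq_bot_iff.2 fun σ hσ => hV.eq_one h.pgroup
      h.not_dvd hσ fun v hv => by rw [mem_bot.1 (h1.le hv), map_one])]
    decide
  · obtain ⟨N, -, S, -⟩ := h.four hV h1
    rw [← S.card_eq]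
    decide
  · have := card_le_card_group V
    rcases (h.of_eight hV h1 (.inr (by omega))).2.2 with h2 | h2 <;> omega

end AbPar

variable (hM) in include hM in
theorem not_two_dvd_blockRank_of_abelian {G : Type u} [Group G] [Finite G]
    {B : Set (IrrCharacter G)} (hB : IsPBlock M B) {D : Subgroup G} (hD : IsDefectGroup 2 M B D)
    (hab : ∀ x ∈ D, ∀ y ∈ D, x * y = y * x) (h8 : Nat.card D ≤ 8) : ¬ 2 ∣ blockRank 2 B := by
  obtain ⟨m, hm, rfl⟩ := exists_maxP hM hB hD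
  obtain ⟨A, _, _, ι, E, h⟩ := hm.exists_abPar hab
  exact h.not_two_dvd_blockRank (h.card_eq ▸ h8)

/-- The focal subgroup has order eight and a fixed element generates a subgroup of index at most
eight. -/
theorem AbPar.of_eight_of_fix {G : Type u} [Group G] [Finite G] {B : Set (IrrCharacter G)}
    {m : SPair hM G} {ι : A →* G} {E : Subgroup (MulAut A)} (h : AbPar B m ι E) {V : Subgroup A}
    (hV : Foc E V) (h8 : Nat.card V = 8) {z : A} (hz : ∀ σ ∈ E, σ z = z)
    (hi : Nat.card A ≤ 8 * orderOf z) : Nat.card B = Nat.card A ∧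
      (∀ χ ∈ B, blockHeight 2 B χ.1 = 0) ∧ (blockRank 2 B = 5 ∨ blockRank 2 B = 7) := by
  refine h.of_eight hV h8 (.inl ?_)
  have hc : ∀ x ∈ m.Q, Commute (ι z) x := fun x hx => h.ab hx _ (h.mem_Q z)
  rw [h.max.blockRank_eq_at h.ab (h.mem_Q z) fun t ht => by
    obtain ⟨σ, hσ, h1⟩ := h.exists_mem ht
    rw [← h1, hz σ hσ]]
  obtain ⟨H, _, _, f, b, h1, h2, h3, h4, -⟩ := (m.at (ι z)).exists_quot' (Z := zpowers (ι z))
    (mem_pairsAt.1 (SPair.at_mem (h.mem_Q z))).ge (h.max.defGrp_at_of_central (h.mem_Q z) hc)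
  rw [← h4]
  refine not_two_dvd_blockRank_of_abelian hM h2 h3 ?_ ?_
  · rintro _ ⟨x, rfl⟩ _ ⟨y, rfl⟩
    rw [← map_mul, ← map_mul, show x * y = y * x from Subtype.ext (h.ab y.2 _ x.2)]
  · rw [card_range_of_ker h1]
    have h5 := ((zpowers (ι z)).subgroupOf m.Q).card_mul_index
    rw [card_subgroupOf_of_le (zpowers_le.2 (h.mem_Q z)), Nat.card_zpowers,
      orderOf_injective ι h.inj, h.card_eq] at h5
    have h6 := orderOf_pos z
    change orderOf z * (zpowers (ι z)).relIndex m.Q = _ at h5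
    nlinarith

end BT
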