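import Cfsg.Agent.Lib.Block.E8

/-!
# Abelian `2`-defect groups with small focal subgroup: character counts and heights
-/

set_option autoImplicit false
set_option linter.unusedSectionVars false

namespace BT

open Cfsg CT GT Subgroup

universe u

section Gen

variable {p : ℕ} [Fact p.Prime] {M : Ideal AlgInt} (hM : IsPModular p M)
variable {G : Type*} [Group G] [Finite G]

include hM in
theorem height_eq_zero_of_rank_one_of_card {B : Set (IrrCharacter G)} (hB : IsPBlock M B)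
    (h1 : blockRank p B = 1) (hk : Nat.card B = p ^ blockDefect p B) {χ : IrrCharacter G}
    (hχ : χ ∈ B) : blockHeight p B χ.1 = 0 := by
  obtain ⟨S⟩ := h1 ▸ exists_basicSet p B
  obtain ⟨h2, h3⟩ := S.gam_of_unique hM hB
  have h4 : ∀ ψ ∈ B, cm p B ψ.1 ψ.1 = S.d ψ 0 * S.d ψ 0 := fun ψ hψ => by
    simp [S.cm_eq_sum_gam hψ hψ, h2]
  have h5 : ∀ ψ ∈ bset B, 1 ≤ S.d ψ 0 * S.d ψ 0 := fun ψ hψ => by
    have := cm_self_pos hM hB (mem_bset.1 hψ)
    rw [h4 ψ (mem_bset.1 hψ)] at this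
    omega
  have h6 := (Finset.sum_eq_sum_iff_of_le h5).1 (by
    rw [← S.C_apply, h3, Finset.sum_const, card_bset, hk]
    simp) χ (mem_bset.2 hχ)
  by_contra h7
  have h8 := (dvd_cm_iff hM hB hχ hχ).2 (.inl h7)
  rw [h4 χ hχ, ← h6] at h8
  exact (Fact.out : p.Prime).one_lt.ne' (by exact_mod_cast Int.eq_one_of_dvd_one (by omega) h8)

end Gen

variable {M : Ideal AlgInt} {hM : IsPModular 2 M}
variable {G : Type*} [Group G] [Finite G] {A : Type*} [CommGroup A] [Finite A]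

namespace AbPar

variable {B : Set (IrrCharacter G)} {m : SPair hM G} {ι : A →* G} {E : Subgroup (MulAut A)}
  (h : AbPar B m ι E)
include h

theorem of_foc_bot [Nontrivial A] (hV : Foc E ⊥) : Nat.card B = Nat.card A ∧
    (∀ χ ∈ B, blockHeight 2 B χ.1 = 0) ∧ blockRank 2 B = 1 := by
  have h1 : E = ⊥ := eq_bot_iff.2 fun σ hσ => hV.eq_one h.pgroup h.not_dvd hσ fun v hv => by
    rw [mem_bot.1 hv, map_one]
  have h2 := h.blockRank_eq_one h1
  obtain ⟨r, h3, h4, -⟩ := h.abSet.card_of_free fun σ hσ _ _ _ => by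
    rwa [← h.eq_inert, h1, mem_bot] at hσ
  rw [← h.eq_inert, h1, card_bot] at h3
  have h5 : Nat.card B = Nat.card A := by omega
  exact ⟨h5, fun χ hχ => height_eq_zero_of_rank_one_of_card hM h.max.block h2
    (by rw [h5, ← h.card_eq, h.max.card_eq]) hχ, h2⟩

theorem of_foc_four {V : Subgroup A} (hV : Foc E V) (h4 : Nat.card V = 4) :
    Nat.card B = Nat.card A ∧ (∀ χ ∈ B, blockHeight 2 B χ.1 = 0) ∧ blockRank 2 B = 3 := by
  obtain ⟨⟨v, hv⟩, hv1⟩ := ne_bot_iff_exists_ne_one.1 ((one_lt_card_iff_ne_bot V).1 (by omega))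
  replace hv1 : v ≠ 1 := fun h => hv1 (Subtype.ext h)
  have h1 := hV.orb_eq h.not_dvd (.inl h4) hv hv1
  have h2 : ι v * ι v = 1 := by rw [← map_mul, mul_self_of_orb h.pgroup h1 hv, map_one]
  obtain ⟨r, N, c, g, h5, h6, h7, h8, h9⟩ := h.max.exists_orbForm_free h.ab (h.map_le V)
    (by rw [h.card_map]; omega) (h.foc hV) ⟨v, hv, rfl⟩ (h.ne_one hv1) (h.trans h1) h2
    (h.free (eq_bot_iff.2 fun σ hσ => hV.eq_one_of_four h.pgroup h.not_dvd h4 hv hv1 hσ.1 hσ.2))
  rw [h.card_map, h4] at h5 h7 h9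
  rw [h.card_eq] at h5
  have h10 : ∀ i, g i * g i = 1 := fun i => by
    have h10 : g i * g i < 4 := by simpa using h7.lt hM h.max.block i
    have := e8_sq_cases (a := g i) (by omega)
    have := h8 i
    omega
  simp only [h10, Finset.sum_const, Finset.card_univ, Fintype.card_fin, nsmul_eq_mul,
    mul_one] at h9
  refine ⟨by rw [h7.card, h5, mul_comm]; congr 1; omega, fun χ hχ => ?_, by omega⟩
  rw [h7.height_iff hM h.max.block (by decide) hχ]
  simp [h10]

end AbPar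

end BT

namespace GT

open Subgroup

variable {A : Type*} [CommGroup A] [Finite A] {E : Subgroup (MulAut A)}

theorem Foc.exists_mul_fix {p : ℕ} [Fact p.Prime] (hA : IsPGroup p A) (hE : ¬ p ∣ Nat.card E)
    {V : Subgroup A} (hV : Foc E V) (a : A) :
    ∃ v ∈ V, ∃ t : A, (∀ σ ∈ E, σ t = t) ∧ a = v * t := by
  have := Fintype.ofFinite E
  obtain ⟨k, hk⟩ := hA.exists_card_eq
  have hc : (Nat.card E).Coprime (Nat.card A) := by
    rw [hk]
    exact ((Nat.Prime.coprime_iff_not_dvd Fact.out).2 hE).symm.pow_right k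
  obtain ⟨b, rfl⟩ := (powCoprime hc.symm).surjective a
  refine ⟨(∏ σ : E, b⁻¹ * σ.1 b)⁻¹, inv_mem (prod_mem fun σ _ => hV.mem σ σ.2 b), ∏ σ : E, σ.1 b,
    fun τ hτ => ?_, ?_⟩
  · rw [map_prod]
    exact Fintype.prod_equiv (Equiv.mulLeft (⟨τ, hτ⟩ : E)) _ _ fun _ => rfl
  · rw [Finset.prod_mul_distrib, Finset.prod_const, Finset.card_univ, ← Nat.card_eq_fintype_card]
    simp [mul_assoc]

/-- If the squares contain a unique involution and at most sixteen elements have order at most two,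
then the focal subgroup has order `1`, `4` or `8` and exponent at most two. -/
theorem Foc.card_cases_of_sq (hA : IsPGroup 2 A) (hE : ¬ 2 ∣ Nat.card E) {V : Subgroup A}
    (hV : Foc E V) {s : A} (hs1 : s ≠ 1) (hs : ∀ a : A, (∃ b, b * b = a) ∧ a * a = 1 ↔ a = 1 ∨ a = s)
    (h16 : Nat.card (powMonoidHom 2 : A →* A).ker ≤ 16) :
    (∀ v ∈ V, v * v = 1) ∧ (V = ⊥ ∨ Nat.card V = 4 ∨ Nat.card V = 8) := by
  obtain ⟨⟨b, hb⟩, hss⟩ := (hs s).2 (.inr rfl)
  have h1 : s ∉ V := fun h => hs1 (hV.fix s h fun σ hσ =>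
    ((hs (σ s)).1 ⟨⟨σ b, by rw [← map_mul, hb]⟩, by rw [← map_mul, hss, map_one]⟩).resolve_left
      (σ.map_ne_one_iff.2 hs1))
  have h2 : ∀ v ∈ V, v * v = 1 := fun v hv => by
    by_contra h2
    obtain ⟨w, ⟨j, rfl⟩, h4, h5⟩ := exists_mul_self_mem_zpowers (isPElt_of_isPGroup hA (v * v)) h2
    refine h1 (((hs _).1 ⟨⟨v ^ j, (mul_zpow v v j).symm⟩, h4⟩).resolve_left h5 ▸ ?_)
    exact zpow_mem (mul_mem hv hv) j
  refine ⟨h2, ?_⟩
  have := hV.card_cases hA hE (W := (powMonoidHom 2 : A →* A).ker) (lt_of_le_of_ne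
    (fun v hv => by simpa [sq] using h2 v hv) fun h => h1 (h ▸ by simpa [sq] using hss)) h16
  tauto

end GT
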