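import Mathlib

/-!
# Integer lemmas for the principal 3-block with extraspecial defect group of order 27
-/

set_option autoImplicit false

namespace BT.ExN

theorem card_le_of_orth {ι α : Type*} [Fintype ι] (s : Finset α) (w : ι → α → ℤ)
    (h0 : ∀ i, ∑ a ∈ s, w i a * w i a ≠ 0)
    (h : ∀ i j, i ≠ j → ∑ a ∈ s, w i a * w j a = 0) : Fintype.card ι ≤ s.card := by
  classical
  have hli : LinearIndependent ℚ fun i (a : s) => (w i a : ℚ) := by
    rw [Fintype.linearIndependent_iff]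
    intro c hc j
    have h1 : ∑ a : s, (∑ i, c i • fun a : s => (w i a : ℚ)) a * (w j a : ℚ) = 0 := by
      rw [hc]; simp
    simp only [Finset.sum_apply, Pi.smul_apply, smul_eq_mul, Finset.sum_mul] at h1
    rw [Finset.sum_comm, Finset.sum_eq_single j] at h1
    · simp only [mul_assoc, ← Finset.mul_sum] at h1
      refine (mul_eq_zero.1 h1).resolve_right fun h2 => h0 j ?_
      rw [Finset.sum_coe_sort s fun a => (w j a : ℚ) * w j a] at h2
      exact_mod_cast h2
    · intro i _ hi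
      simp only [mul_assoc, ← Finset.mul_sum]
      rw [Finset.sum_coe_sort s fun a => (w i a : ℚ) * w j a]
      have := h i j hi
      rw [show ∑ a ∈ s, (w i a : ℚ) * w j a = 0 by exact_mod_cast this, mul_zero]
    · simp
  simpa using hli.fintype_card_le_finrank

theorem sq_mod_three {x : ℤ} (h : ¬ 3 ∣ x) : 1 ≤ x * x ∧ 3 ∣ x * x - 1 := by
  have h0 : x ≠ 0 := fun e => h (by simp [e])
  refine ⟨mul_self_pos.2 h0, ?_⟩
  obtain ⟨k, rfl | rfl⟩ : ∃ k, x = 3 * k + 1 ∨ x = 3 * k + 2 := ⟨x / 3, by omega⟩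
  · exact ⟨3 * k * k + 2 * k, by ring⟩
  · exact ⟨3 * k * k + 4 * k + 1, by ring⟩

theorem nine_card {α : Type*} (s : Finset α) (x : α → ℤ) (h3 : ∀ a ∈ s, ¬ 3 ∣ x a)
    (h9 : ∑ a ∈ s, x a * x a = 9) :
    (s.card = 3 ∨ s.card = 6 ∨ s.card = 9) ∧
      (s.card = 9 → ∀ A : α → ℤ, ∑ a ∈ s, A a * x a = 0 → 2 ∣ ∑ a ∈ s, A a * A a) := by
  have h1 : ∑ a ∈ s, (x a * x a - 1) = 9 - s.card := by
    rw [Finset.sum_sub_distrib, h9]; simp
  have h2 : 0 ≤ ∑ a ∈ s, (x a * x a - 1) :=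
    Finset.sum_nonneg fun a ha => by have := (sq_mod_three (h3 a ha)).1; omega
  have h4 : 3 ∣ ∑ a ∈ s, (x a * x a - 1) :=
    Finset.dvd_sum fun a ha => (sq_mod_three (h3 a ha)).2
  have h5 : s.card ≠ 0 := fun e => by
    rw [Finset.card_eq_zero.1 e] at h9; simp at h9
  refine ⟨by omega, fun h6 A hA => ?_⟩
  have h7 := (Finset.sum_eq_zero_iff_of_nonneg fun a ha => by
    have := (sq_mod_three (h3 a ha)).1; omega).1 (show ∑ a ∈ s, (x a * x a - 1) = 0 by omega)
  rw [← sub_zero (∑ a ∈ s, A a * A a), ← hA, ← Finset.sum_sub_distrib]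
  refine Finset.dvd_sum fun a ha => ?_
  rcases mul_self_eq_one_iff.1 (sub_eq_zero.1 (h7 a ha)) with h | h <;> rw [h]
  · rw [show A a * A a - A a * 1 = A a * (A a - 1) by ring]
    exact (Int.even_mul_pred_self _).two_dvd
  · rw [show A a * A a - A a * -1 = A a * (A a + 1) by ring]
    exact (Int.even_mul_succ_self _).two_dvd

theorem le_sum_of_mem {α : Type*} {s : Finset α} (x : α → ℤ) {a : α} (ha : a ∈ s) :
    x a * x a ≤ ∑ b ∈ s, x b * x b :=
  Finset.single_le_sum (f := fun b => x b * x b) (fun _ _ => mul_self_nonneg _) ha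

theorem add_le_sum_of_mem {α : Type*} {s : Finset α} (x : α → ℤ) {a b : α} (ha : a ∈ s)
    (hb : b ∈ s) (hab : a ≠ b) : x a * x a + x b * x b ≤ ∑ c ∈ s, x c * x c := by
  classical
  rw [← Finset.sum_pair (f := fun c => x c * x c) hab]
  exact Finset.sum_le_sum_of_subset_of_nonneg (by
    intro c hc; simp only [Finset.mem_insert, Finset.mem_singleton] at hc
    rcases hc with rfl | rfl <;> assumption) fun c _ _ => mul_self_nonneg _

/-- The contribution form of the dominated block. -/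
def qf {α τ : Type*} (s : Finset α) (U : Finset τ) (x : τ → α → ℤ) (n n' : α → ℤ) : ℤ :=
  9 * ∑ a ∈ s, n a * n' a - ∑ t ∈ U, (∑ a ∈ s, x t a * n a) * (∑ a ∈ s, x t a * n' a)

theorem qf_lat {α τ : Type*} [DecidableEq τ] (s : Finset α) (U : Finset τ) (x : τ → α → ℤ)
    (δ : α → ℤ) (hr : ¬ 3 ∣ U.card) (hδ : ∀ t ∈ U, ∀ a ∈ s, 3 ∣ x t a - δ a)
    (h3 : ∀ a ∈ s, ¬ 3 ∣ δ a)
    (hx : ∀ t ∈ U, ∀ t' ∈ U, ∑ a ∈ s, x t a * x t' a = if t = t' then 9 else 0)
    (y : α → ℤ) (hy : qf s U x y y = 9) :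
    (∃ A : α → ℤ, ∑ a ∈ s, A a * A a = 9 ∧ ∀ t ∈ U, ∑ a ∈ s, A a * x t a = 0) ∧
      ∀ n, ∃ c, qf s U x n y = 3 * c ∧ (3 ∣ c ↔ 3 ∣ ∑ a ∈ s, δ a * n a) := by
  classical
  have hm : ∀ n : α → ℤ, ∀ t ∈ U, 3 ∣ ∑ a ∈ s, x t a * n a - ∑ a ∈ s, δ a * n a := by
    intro n t ht
    rw [← Finset.sum_sub_distrib]
    exact Finset.dvd_sum fun a ha => by rw [← sub_mul]; exact (hδ t ht a ha).mul_right _
  have hm0 : 3 ∣ ∑ a ∈ s, δ a * y a := by
    by_contra h
    have h1 : 3 ∣ ∑ t ∈ U, ((∑ a ∈ s, x t a * y a) * (∑ a ∈ s, x t a * y a) - 1) :=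
      Finset.dvd_sum fun t ht => (sq_mod_three fun h2 => h (by have := hm y t ht; omega)).2
    rw [Finset.sum_sub_distrib] at h1
    simp only [Finset.sum_const, nsmul_eq_mul, mul_one] at h1
    unfold qf at hy
    omega
  have hμ : ∀ t, ∃ μ : ℤ, t ∈ U → ∑ a ∈ s, x t a * y a = 3 * μ := fun t => by
    by_cases ht : t ∈ U
    · obtain ⟨μ, h⟩ : 3 ∣ ∑ a ∈ s, x t a * y a := by have := hm y t ht; omega
      exact ⟨μ, fun _ => h⟩
    · exact ⟨0, fun h => (ht h).elim⟩
  choose μ hμ using hμ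
  have hy' : ∑ a ∈ s, y a * y a - ∑ t ∈ U, μ t * μ t = 1 := by
    unfold qf at hy
    rw [Finset.sum_congr rfl fun t ht => show _ = 9 * (μ t * μ t) by rw [hμ t ht]; ring,
      ← Finset.mul_sum] at hy
    omega
  let A : α → ℤ := fun a => 3 * y a - ∑ t ∈ U, x t a * μ t
  have hA : ∀ n : α → ℤ, ∑ a ∈ s, A a * n a =
      3 * ∑ a ∈ s, n a * y a - ∑ t ∈ U, (∑ a ∈ s, x t a * n a) * μ t := by
    intro n
    simp only [A, sub_mul, Finset.sum_sub_distrib, Finset.mul_sum, Finset.sum_mul]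
    rw [Finset.sum_comm (s := s) (t := U)]
    congr 1
    · exact Finset.sum_congr rfl fun a _ => by ring
    · exact Finset.sum_congr rfl fun t _ => Finset.sum_congr rfl fun a _ => by ring
  have hA1 : ∀ t ∈ U, ∑ a ∈ s, A a * x t a = 0 := by
    intro t ht
    rw [hA, hμ t ht, Finset.sum_congr rfl fun t' ht' => by rw [hx t' ht' t ht],
      Finset.sum_eq_single t (fun t' _ h => by simp [h]) (fun h => (h ht).elim)]
    simp only [if_true]; ring
  have hA2 : ∑ a ∈ s, A a * A a = 9 := by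
    rw [hA, Finset.sum_congr rfl fun t ht => show (∑ a ∈ s, x t a * A a) * μ t = 0 by
      rw [Finset.sum_congr rfl fun a _ => mul_comm (x t a) (A a), hA1 t ht, zero_mul], hA,
      Finset.sum_congr rfl fun t ht => show (∑ a ∈ s, x t a * y a) * μ t = 3 * (μ t * μ t) by
        rw [hμ t ht]; ring, ← Finset.mul_sum]
    simp only [Finset.sum_const_zero]
    omega
  have hσ : ¬ 3 ∣ ∑ t ∈ U, μ t := by
    intro h
    have h1 : ∀ a ∈ s, 3 ∣ A a := fun a ha => by
      have h2 : 3 ∣ ∑ t ∈ U, (x t a - δ a) * μ t :=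
        Finset.dvd_sum fun t ht => (hδ t ht a ha).mul_right _
      simp only [sub_mul, Finset.sum_sub_distrib, ← Finset.mul_sum] at h2
      have h4 := h.mul_left (δ a)
      simp only [A]
      omega
    obtain ⟨a, ha, h0⟩ : ∃ a ∈ s, A a ≠ 0 := by
      by_contra hc
      push Not at hc
      rw [Finset.sum_eq_zero fun a ha => by rw [hc a ha, mul_zero]] at hA2
      omega
    obtain ⟨t, ht⟩ : U.Nonempty := Finset.card_pos.1 (Nat.pos_of_ne_zero fun e => hr (by simp [e]))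
    have h5 := hA1 t ht
    rw [Finset.sum_eq_single a (fun b hb hba => ?_) (fun h => (h ha).elim)] at h5
    · have h6 := (mul_eq_zero.1 h5).resolve_left h0
      have h7 := hδ t ht a ha
      exact h3 a ha (by omega)
    · have h6 := add_le_sum_of_mem A ha hb hba.symm
      obtain ⟨k, hk⟩ := h1 a ha
      have h7 : k ≠ 0 := fun e => h0 (by simp [hk, e])
      have h8 := mul_self_pos.2 h7
      have h9 : A b * A b = 0 := by
        have := mul_self_nonneg (A b)
        rw [hA2, hk, show 3 * k * (3 * k) = 9 * (k * k) by ring] at h6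
        omega
      rw [mul_self_eq_zero.1 h9, zero_mul]
  refine ⟨⟨A, hA2, hA1⟩, fun n => ⟨∑ a ∈ s, A a * n a, ?_, ?_⟩⟩
  · unfold qf
    rw [hA, mul_sub, Finset.mul_sum U]
    congr 1
    · ring
    · exact Finset.sum_congr rfl fun t ht => by rw [hμ t ht]; ring
  · have h2 : 3 ∣ ∑ t ∈ U, (∑ a ∈ s, x t a * n a - ∑ a ∈ s, δ a * n a) * μ t :=
      Finset.dvd_sum fun t ht => (hm n t ht).mul_right _
    simp only [sub_mul, Finset.sum_sub_distrib, ← Finset.mul_sum] at h2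
    rw [hA]
    constructor
    · intro h
      have h4 : 3 ∣ (∑ a ∈ s, δ a * n a) * ∑ t ∈ U, μ t := by omega
      exact (Int.prime_three.dvd_or_dvd h4).resolve_right hσ
    · intro h
      have h4 := h.mul_right (∑ t ∈ U, μ t)
      omega

/-- The final count. -/
theorem main_count {α τ : Type*} [DecidableEq α] [DecidableEq τ] (B : Finset α) (σ : α → α)
    (U : Finset τ) (x : τ → α → ℤ) (c : α → α → ℤ) (d : α → ℤ) (l : ℕ) (o : α)
    (hσB : ∀ a ∈ B, σ a ∈ B) (hσσ : ∀ a ∈ B, σ (σ a) = a)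
    (ho : o ∈ B) (hσo : σ o = o) (hdo : ¬ 3 ∣ d o) (hdσ : ∀ a ∈ B, d (σ a) = d a)
    (hxσ : ∀ t ∈ U, ∀ a ∈ B, x t (σ a) = x t a) (hxd : ∀ t ∈ U, ∀ a ∈ B, 3 ∣ x t a - d a)
    (hx : ∀ t ∈ U, ∀ t' ∈ U, ∑ a ∈ B, x t a * x t' a = if t = t' then 9 else 0)
    (hcσ : ∀ j ∈ B, σ j ≠ j → ∀ a ∈ B, c j (σ a) = c j a)
    (hc2 : ∀ j ∈ B, σ j ≠ j → ∀ a ∈ B, (2 ∣ c j a ↔ a ≠ j ∧ a ≠ σ j))
    (hc3 : ∀ j ∈ B, σ j ≠ j → ∀ a ∈ B, (3 ∣ c j a ↔ 3 ∣ d a))
    (hcc : ∀ j ∈ B, σ j ≠ j → ∑ a ∈ B, c j a * c j a = 54)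
    (hcc' : ∀ j ∈ B, σ j ≠ j → ∀ j' ∈ B, σ j' ≠ j' → j' ≠ j → j' ≠ σ j →
      ∑ a ∈ B, c j a * c j' a = 0)
    (hcx : ∀ j ∈ B, σ j ≠ j → ∀ t ∈ U, ∑ a ∈ B, c j a * x t a = 0)
    (hne : ∀ a ∈ B, σ a = a → (∀ t ∈ U, x t a = 0) → ∃ j ∈ B, σ j ≠ j ∧ c j a ≠ 0)
    (hl : (B.filter fun a => σ a ≠ a).card = 2 * l) (hl0 : 0 < l) (hr : 0 < U.card)
    (hlr : l + U.card = 6) :
    (B.filter fun a => ¬ 3 ∣ d a).card = 6 ∧ B.card = 6 + 2 * l := by
  set s := B.filter fun a => ¬ 3 ∣ d a with hs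
  have hmem : ∀ a, a ∈ s ↔ a ∈ B ∧ ¬ 3 ∣ d a := fun a => Finset.mem_filter
  have hos : o ∈ s := (hmem o).2 ⟨ho, hdo⟩
  have hsum : ∀ F : α → ℤ, (∀ a ∈ B, 3 ∣ d a → F a = 0) → ∑ a ∈ s, F a = ∑ a ∈ B, F a :=
    fun F hF => Finset.sum_filter_of_ne fun a ha h h3 => h (hF a ha h3)
  have hx0 : ∀ t ∈ U, ∀ a ∈ B, 3 ∣ d a → x t a = 0 := by
    intro t ht a ha h3
    have h1 := add_le_sum_of_mem (x t) ha ho (by rintro rfl; exact hdo h3)
    rw [hx t ht t ht, if_pos rfl] at h1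
    have h2 := (sq_mod_three (x := x t o) (by have := hxd t ht o ho; omega)).1
    obtain ⟨k, hk⟩ : 3 ∣ x t a := by have := hxd t ht a ha; omega
    rw [hk, show 3 * k * (3 * k) = 9 * (k * k) by ring] at h1
    have h4 := mul_self_nonneg k
    rw [hk, mul_self_eq_zero.1 (show k * k = 0 by omega), mul_zero]
  have hxs : ∀ t ∈ U, ∀ F : α → ℤ, ∑ a ∈ s, F a * x t a = ∑ a ∈ B, F a * x t a :=
    fun t ht F => hsum _ fun a ha h3 => by rw [hx0 t ht a ha h3, mul_zero]
  obtain ⟨t₀, ht₀⟩ := Finset.card_pos.1 hr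
  obtain ⟨h369, h9⟩ := nine_card s (x t₀) (fun a ha => by
    have := hxd t₀ ht₀ a ((hmem a).1 ha).1
    have := ((hmem a).1 ha).2
    omega) (by rw [hxs t₀ ht₀, hx t₀ ht₀ t₀ ht₀, if_pos rfl])
  -- entries at characters of positive height
  have h6 : ∀ j ∈ B, σ j ≠ j → ∀ a ∈ B, 3 ∣ d a → a ≠ j → a ≠ σ j → ∃ k, c j a = 6 * k := by
    intro j hj hj' a ha h3 h1 h2
    have := (hc2 j hj hj' a ha).2 ⟨h1, h2⟩
    have := (hc3 j hj hj' a ha).2 h3
    exact ⟨c j a / 6, by omega⟩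
  have hz : ∀ j ∈ B, σ j ≠ j → ∀ a ∈ B, 3 ∣ d a → σ a ≠ a → a ≠ j → a ≠ σ j → c j a = 0 := by
    intro j hj hj' a ha h3 hσa h1 h2
    obtain ⟨k, hk⟩ := h6 j hj hj' a ha h3 h1 h2
    have h4 := add_le_sum_of_mem (c j) (hσB a ha) ha hσa
    rw [hcc j hj hj', hcσ j hj hj' a ha, hk, show 6 * k * (6 * k) = 36 * (k * k) by ring] at h4
    have h5 := mul_self_nonneg k
    rw [hk, mul_self_eq_zero.1 (show k * k = 0 by omega), mul_zero]
  have hprod : ∀ j ∈ B, σ j ≠ j → ∀ j' ∈ B, σ j' ≠ j' → j' ≠ j → j' ≠ σ j →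
      ∀ a ∈ B, 3 ∣ d a → c j a * c j' a = 0 := by
    intro j hj hj1 j' hj' hj2 h1 h2 a ha h3
    by_cases hσa : σ a = a
    · obtain ⟨k, hk⟩ := h6 j hj hj1 a ha h3 (by rintro rfl; exact hj1 hσa)
        (by rintro rfl; exact hj1 (by rw [← hσa, hσσ j hj]))
      obtain ⟨k', hk'⟩ := h6 j' hj' hj2 a ha h3 (by rintro rfl; exact hj2 hσa)
        (by rintro rfl; exact hj2 (by rw [← hσa, hσσ j' hj']))
      have e1 := le_sum_of_mem (fun a => c j a + c j' a) ha
      have e2 := le_sum_of_mem (fun a => c j a - c j' a) ha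
      simp only [add_mul, mul_add, sub_mul, mul_sub, Finset.sum_add_distrib,
        Finset.sum_sub_distrib, mul_comm (c j' _) (c j _)] at e1 e2
      rw [hcc j hj hj1, hcc j' hj' hj2, hcc' j hj hj1 j' hj' hj2 h1 h2, hk, hk'] at e1 e2
      rw [hk, hk']
      by_contra hne
      have h4 : k ≠ 0 := by rintro rfl; simp at hne
      have h5 : k' ≠ 0 := by rintro rfl; simp at hne
      have h7 := mul_self_pos.2 h4
      have h8 := mul_self_pos.2 h5
      have h10 : k * k' ≠ 0 := mul_ne_zero h4 h5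
      have e3 : 36 * (k * k) + 72 * (k * k') + 36 * (k' * k') ≤ 108 := by linarith
      have e4 : 36 * (k * k) - 72 * (k * k') + 36 * (k' * k') ≤ 108 := by linarith
      omega
    · by_cases h4 : a = j ∨ a = σ j
      · rw [hz j' hj' hj2 a ha h3 hσa ?_ ?_, mul_zero]
        · rintro rfl; tauto
        · rintro rfl
          rcases h4 with h4 | h4
          · exact h2 (by rw [← h4, hσσ j' hj'])
          · exact h1 (by rw [← hσσ j' hj', h4, hσσ j hj])
      · push Not at h4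
        rw [hz j hj hj1 a ha h3 hσa h4.1 h4.2, zero_mul]
  have hpos : ∀ j ∈ B, σ j ≠ j → 0 < ∑ a ∈ s, c j a * c j a := fun j hj hj' =>
    lt_of_lt_of_le (sq_mod_three fun h => hdo ((hc3 j hj hj' o ho).1 h)).1
      (le_sum_of_mem (c j) hos)
  -- a nonrational character of positive height
  have hone : ∀ j ∈ B, σ j ≠ j → 3 ∣ d j →
      s.card ≠ 9 ∧ ∀ a ∈ B, 3 ∣ d a → σ a = a → c j a = 0 := by
    intro j hj hj' h3
    have hjs : j ∉ s := fun h => ((hmem j).1 h).2 h3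
    have hjs' : σ j ∉ s := fun h => ((hmem _).1 h).2 (by rw [hdσ j hj]; exact h3)
    obtain ⟨k, hk⟩ := (hc3 j hj hj' j hj).2 h3
    have hk0 : k ≠ 0 := by
      rintro rfl
      exact ((hc2 j hj hj' j hj).1 (by simp [hk])).1 rfl
    have hk1 := mul_self_pos.2 hk0
    have key : ∀ T : Finset α, T ⊆ B → Disjoint s T → j ∉ T → σ j ∉ T →
        ∑ a ∈ s, c j a * c j a + ∑ a ∈ T, c j a * c j a + 18 * (k * k) ≤ 54 := by
      intro T hT hd h1 h2
      rw [← hcc j hj hj', ← Finset.sum_union hd]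
      have h4 : ∑ a ∈ insert j (insert (σ j) (s ∪ T)), c j a * c j a ≤ ∑ a ∈ B, c j a * c j a :=
        Finset.sum_le_sum_of_subset_of_nonneg (Finset.insert_subset hj (Finset.insert_subset
          (hσB j hj) (Finset.union_subset (Finset.filter_subset _ _) hT)))
          fun _ _ _ => mul_self_nonneg _
      rw [Finset.sum_insert (by simp [hjs, h1, hj'.symm]), Finset.sum_insert (by simp [hjs', h2]),
        hcσ j hj hj' j hj, hk] at h4
      linarith
    have hz' : ∀ a ∈ B, 3 ∣ d a → σ a = a → c j a = 0 := by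
      intro a ha ha3 hσa
      have h1 : a ≠ j := by rintro rfl; exact hj' hσa
      have h2 : a ≠ σ j := by rintro rfl; exact hj' (by rw [← hσa, hσσ j hj])
      obtain ⟨m, hm⟩ := h6 j hj hj' a ha ha3 h1 h2
      have h4 := key {a} (by simpa using ha) (by simpa using fun h => ((hmem a).1 h).2 ha3)
        (by simpa using h1.symm) (by simpa using h2.symm)
      rw [Finset.sum_singleton, hm, show 6 * m * (6 * m) = 36 * (m * m) by ring] at h4
      have h5 := hpos j hj hj'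
      have h7 := mul_self_nonneg m
      rw [hm, mul_self_eq_zero.1 (show m * m = 0 by omega), mul_zero]
    refine ⟨fun h => ?_, hz'⟩
    have hA : ∀ a ∈ s, c j a = 2 * (c j a / 2) := fun a ha => by
      have := (hc2 j hj hj' a ((hmem a).1 ha).1).2
        ⟨by rintro rfl; exact hjs ha, by rintro rfl; exact hjs' ha⟩
      omega
    have h1 : 2 * ∑ a ∈ s, c j a / 2 * x t₀ a = 0 := by
      rw [← hcx j hj hj' t₀ ht₀, ← hxs t₀ ht₀, Finset.mul_sum]
      exact Finset.sum_congr rfl fun a ha => by rw [← mul_assoc, ← hA a ha]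
    have h2 := h9 h (fun a => c j a / 2) (by omega)
    have h4 : ∑ a ∈ s, c j a * c j a = 4 * ∑ a ∈ s, c j a / 2 * (c j a / 2) := by
      rw [Finset.mul_sum]
      exact Finset.sum_congr rfl fun a ha => by
        conv_lhs => rw [hA a ha]
        ring
    have h5 : ∑ a ∈ insert j (insert (σ j) s), c j a * c j a = ∑ a ∈ B, c j a * c j a := by
      refine Finset.sum_subset (Finset.insert_subset hj (Finset.insert_subset
          (hσB j hj) (Finset.filter_subset _ _))) fun a ha h7 => ?_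
      simp only [Finset.mem_insert, not_or, hmem, ha, true_and, not_not] at h7
      by_cases hσa : σ a = a
      · rw [hz' a ha h7.2.2 hσa, mul_zero]
      · rw [hz j hj hj' a ha h7.2.2 hσa h7.1 h7.2.1, mul_zero]
    rw [Finset.sum_insert (by simp [hjs, hj'.symm]), Finset.sum_insert hjs',
      hcσ j hj hj' j hj, hk, hcc j hj hj', show 3 * k * (3 * k) = 9 * (k * k) by ring] at h5
    have h7 := hpos j hj hj'
    have h8 : k * k ≠ 2 := fun e => by
      have : k ≤ 1 := by nlinarith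
      have : -1 ≤ k := by nlinarith
      interval_cases k <;> omega
    omega
  -- representatives of the pairs
  obtain ⟨R, hR, hRc⟩ : ∃ R : Finset α, (∀ j ∈ R, j ∈ B ∧ σ j ≠ j ∧ σ j ∉ R) ∧ R.card = l := by
    let e : α → ℕ := fun a => if h : a ∈ B then (B.equivFin ⟨a, h⟩ : ℕ) else 0
    have he : ∀ a ∈ B, ∀ b ∈ B, e a = e b → a = b := fun a ha b hb h => by
      simp only [e, ha, hb, dif_pos] at h
      exact congrArg Subtype.val (B.equivFin.injective (Fin.ext h))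
    refine ⟨B.filter fun a => e a < e (σ a), fun j hj => ?_, ?_⟩
    · rw [Finset.mem_filter] at hj
      refine ⟨hj.1, fun h => by rw [h] at hj; omega, fun h => ?_⟩
      rw [Finset.mem_filter, hσσ j hj.1] at h
      omega
    · have h1 : (B.filter fun a => e a < e (σ a)).card = (B.filter fun a => e (σ a) < e a).card :=
        Finset.card_bij' (fun a _ => σ a) (fun a _ => σ a)
          (fun a ha => by
            rw [Finset.mem_filter] at ha ⊢
            exact ⟨hσB a ha.1, by rw [hσσ a ha.1]; exact ha.2⟩)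
          (fun a ha => by
            rw [Finset.mem_filter] at ha ⊢
            exact ⟨hσB a ha.1, by rw [hσσ a ha.1]; exact ha.2⟩)
          (fun a ha => hσσ a (Finset.mem_filter.1 ha).1)
          (fun a ha => hσσ a (Finset.mem_filter.1 ha).1)
      have h2 : (B.filter fun a => σ a ≠ a) =
          (B.filter fun a => e a < e (σ a)) ∪ B.filter fun a => e (σ a) < e a := by
        ext a
        simp only [Finset.mem_filter, Finset.mem_union]
        refine ⟨fun h => ?_, fun h => ?_⟩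
        · have := mt (he _ (hσB a h.1) a h.1) h.2
          by_cases h3 : e a < e (σ a)
          · exact Or.inl ⟨h.1, h3⟩
          · exact Or.inr ⟨h.1, by omega⟩
        · rcases h with h | h <;> exact ⟨h.1, fun h3 => by rw [h3] at h; omega⟩
      rw [h2, Finset.card_union_of_disjoint (Finset.disjoint_filter.2 fun a _ h => by omega)] at hl
      omega
  let w : R ⊕ U → α → ℤ := Sum.elim (fun j => c j) fun t => x t
  have hw0 : ∀ i, ∑ a ∈ s, w i a * w i a ≠ 0 := by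
    rintro (⟨j, hj⟩ | ⟨t, ht⟩)
    · exact (hpos j (hR j hj).1 (hR j hj).2.1).ne'
    · simp only [w, Sum.elim_inr]
      rw [hxs t ht, hx t ht t ht]; simp
  have hw1 : ∀ i j, i ≠ j → ∑ a ∈ s, w i a * w j a = 0 := by
    rintro (⟨j, hj⟩ | ⟨t, ht⟩) (⟨j', hj'⟩ | ⟨t', ht'⟩) h <;>
      simp only [w, Sum.elim_inl, Sum.elim_inr]
    · have h1 : j' ≠ j := by rintro rfl; exact h rfl
      have h2 : j' ≠ σ j := by rintro rfl; exact (hR j hj).2.2 hj'
      rw [hsum _ (hprod j (hR j hj).1 (hR j hj).2.1 j' (hR j' hj').1 (hR j' hj').2.1 h1 h2),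
        hcc' j (hR j hj).1 (hR j hj).2.1 j' (hR j' hj').1 (hR j' hj').2.1 h1 h2]
    · rw [hxs t' ht', hcx j (hR j hj).1 (hR j hj).2.1 t' ht']
    · rw [Finset.sum_congr rfl fun a _ => mul_comm _ _, hxs t ht,
        hcx j' (hR j' hj').1 (hR j' hj').2.1 t ht]
    · rw [hxs t' ht', hx t ht t' ht', if_neg (by rintro rfl; exact h rfl)]
  have hge := card_le_of_orth s w hw0 hw1
  simp only [Fintype.card_sum, Fintype.card_coe] at hge
  have hall : ∀ j ∈ B, σ j ≠ j → 3 ∣ d j := by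
    intro j hj hj'
    by_contra h3
    have hjs : j ∈ s := (hmem j).2 ⟨hj, h3⟩
    have hjs' : σ j ∈ s := (hmem _).2 ⟨hσB j hj, by rw [hdσ j hj]; exact h3⟩
    let v : α → ℤ := fun a => (if a = j then 1 else 0) - if a = σ j then 1 else 0
    have hv : ∀ F : α → ℤ, ∑ a ∈ s, v a * F a = F j - F (σ j) := fun F => by
      simp [v, sub_mul, Finset.sum_sub_distrib, hjs, hjs']
    have hv' : ∀ i, ∑ a ∈ s, v a * w i a = 0 := by
      rintro (⟨i, hi⟩ | ⟨t, ht⟩) <;> rw [hv] <;> simp only [w, Sum.elim_inl, Sum.elim_inr]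
      · rw [hcσ i (hR i hi).1 (hR i hi).2.1 j hj, sub_self]
      · rw [hxσ t ht j hj, sub_self]
    have h7 := card_le_of_orth s (fun i : Option (R ⊕ U) => i.elim v w) (by
      rintro (_ | i)
      · simp only [Option.elim]
        rw [hv]; simp [v, hj', hj'.symm]
      · exact hw0 i) (by
      rintro (_ | i) (_ | i') h <;> simp only [Option.elim]
      · exact (h rfl).elim
      · exact hv' i'
      · rw [Finset.sum_congr rfl fun a _ => mul_comm _ _, hv' i]
      · exact hw1 i i' (by rintro rfl; exact h rfl))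
    simp only [Fintype.card_option, Fintype.card_sum, Fintype.card_coe] at h7
    have h8 : s.card = 9 := by omega
    have h10 : (B.filter fun a => σ a ≠ a) ⊆ s.erase o := fun a ha => by
      rw [Finset.mem_filter] at ha
      refine Finset.mem_erase.2 ⟨by rintro rfl; exact ha.2 hσo, (hmem a).2 ⟨ha.1, fun h => ?_⟩⟩
      exact (hone a ha.1 ha.2 h).1 h8
    have h11 := Finset.card_le_card h10
    rw [Finset.card_erase_of_mem hos] at h11
    obtain ⟨t, ht, ht'⟩ := Finset.exists_mem_ne (s := U) (by omega) t₀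
    have h12 := h9 h8 (x t) (by rw [hxs t₀ ht₀, hx t ht t₀ ht₀, if_neg ht'])
    rw [hxs t ht, hx t ht t ht, if_pos rfl] at h12
    omega
  obtain ⟨j₀, hj₀⟩ : R.Nonempty := Finset.card_pos.1 (by omega)
  have h9' := (hone j₀ (hR j₀ hj₀).1 (hR j₀ hj₀).2.1 (hall j₀ (hR j₀ hj₀).1 (hR j₀ hj₀).2.1)).1
  have hs6 : s.card = 6 := by omega
  refine ⟨hs6, ?_⟩
  rw [← hl, ← hs6, ← Finset.card_union_of_disjoint (Finset.disjoint_filter.2 fun a ha h h' =>
    h (hall a ha h'))]
  congr 1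
  ext a
  simp only [Finset.mem_union, Finset.mem_filter]
  refine ⟨fun ha => ?_, fun h => h.elim And.left And.left⟩
  by_contra h
  simp only [ha, true_and, not_or, not_not] at h
  obtain ⟨j, hj, hj', h1⟩ := hne a ha h.2 fun t ht => hx0 t ht a ha h.1
  exact h1 ((hone j hj hj' (hall j hj hj')).2 a ha h.1 h.2)

end BT.ExN
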