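import Cfsg.Agent.Lib.Block.QuotCartan
import Cfsg.Agent.Lib.Block.HZCount
import Cfsg.Agent.Lib.Block.ExNum
import Cfsg.Agent.Lib.Grp.Ex27

/-!
# Sections of the principal 3-block for an extraspecial Sylow subgroup of order 27
-/

set_option autoImplicit false
set_option linter.unusedSectionVars false

namespace BT

open Cfsg CT GT Subgroup
open scoped ComplexConjugate

section general

variable {p : ℕ} [Fact p.Prime] {M : Ideal AlgInt} (hM : IsPModular p M)
variable {G : Type*} [Group G] [Finite G]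

/-- The values of `θ` on the section of `u`. -/
noncomputable def rsh (p : ℕ) (C : Subgroup G) (u : G) (θ : G → ℂ) : C → ℂ :=
  pRegularPart p (shift C u θ)

variable {C : Subgroup G} {u : G}

theorem rsh_of_dvd (θ : G → ℂ) {c : C} (h : p ∣ orderOf c) : rsh p C u θ c = 0 :=
  pRegularPart_of_dvd _ h

theorem rsh_of_not_dvd (θ : G → ℂ) {c : C} (h : ¬ p ∣ orderOf c) : rsh p C u θ c = θ (u * c) :=
  pRegularPart_of_not_dvd _ h

variable (hC : C = centralizer ({u} : Set G))
include hC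

theorem ip_lft_rsh {θ : G → ℂ} (hθ : IsClassFunction G θ) {φ : C → ℂ}
    (h0 : ∀ c, p ∣ orderOf c → φ c = 0) : ip θ (lft C u φ) = ip (rsh p C u θ) φ := by
  rw [ip_lft_right hC hθ, rsh, ip_pRegularPart_left_eq_right, pRegularPart_eq_self_iff.2 h0]

variable (hu : IsPElt p u)
include hu

theorem ip_sectionPart_rsh {θ η : G → ℂ} (hθ : IsClassFunction G θ) (hη : IsClassFunction G η) :
    ip (sectionPart p u θ) η = ip (rsh p C u θ) (rsh p C u η) := by
  rw [ip_sectionPart_eq hC hu hθ hη, rsh, rsh, ip_pRegularPart_both]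

include hM

theorem rsh_eq_subsec {χ : IrrCharacter G} (hχ : χ ∈ principalBlock M G) :
    rsh p C u χ.1 = subsec p C u (principalBlock M C) χ.1 := by
  funext c
  by_cases h : p ∣ orderOf c
  · rw [rsh_of_dvd _ h, subsec_apply_of_dvd _ _ h]
  · rw [rsh_of_not_dvd _ h, subsec_apply_of_not_dvd _ h, principal_apply_mul hM hC hu hχ h]

theorem sum_ip_rsh_self : ∑ χ ∈ bset (principalBlock M G), ip (rsh p C u χ.1) (rsh p C u χ.1) =
    blockRank p (principalBlock M C) := by
  rw [← sum_contr_self hM hC hu (isInducedBlock_principal_of_eq hM hC hu)]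
  exact Finset.sum_congr rfl fun χ hχ => by
    rw [contr_def, rsh_eq_subsec hM hC hu (mem_bset.1 hχ)]

theorem ip_rsh_of_nilpotent (hN : HasNormalPComplement p C) {χ ψ : IrrCharacter G}
    (hχ : χ ∈ principalBlock M G) (hψ : ψ ∈ principalBlock M G) :
    ip (rsh p C u χ.1) (rsh p C u ψ.1) =
      χ.1 u * conj (ψ.1 u) / (p : ℂ) ^ (Nat.card C).factorization p := by
  classical
  have := Fintype.ofFinite C
  have h1 : ∀ c : C, rsh p C u χ.1 c * conj (rsh p C u ψ.1 c) =
      if c ∈ pPrimeCore p C then χ.1 u * conj (ψ.1 u) else 0 := by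
    intro c
    by_cases h : p ∣ orderOf c
    · rw [rsh_of_dvd _ h, zero_mul, if_neg fun hc =>
        isPRegular_of_mem (not_dvd_card_pPrimeCore p C) hc h]
    · rw [rsh_of_not_dvd _ h, rsh_of_not_dvd _ h, principal_apply_mul_of_nilpotent hM hC hu hN hχ h,
        principal_apply_mul_of_nilpotent hM hC hu hN hψ h,
        if_pos (hasNormalPComplement_iff_forall_mem.1 hN c h)]
  rw [ip_def, Finset.sum_congr rfl fun c _ => h1 c, ← Finset.sum_filter, Finset.sum_const,
    ← Fintype.card_subtype, ← Nat.card_eq_fintype_card, ← Nat.cast_pow,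
    ← index_pPrimeCore_of_hasNormalPComplement hN, ← (pPrimeCore p C).card_mul_index, nsmul_eq_mul]
  have h2 : (Nat.card (pPrimeCore p C) : ℂ) ≠ 0 := card_cast_ne_zero
  have h3 : ((pPrimeCore p C).index : ℂ) ≠ 0 := by exact_mod_cast (index_pos _).ne'
  push_cast
  field_simp

end general

variable {M : Ideal AlgInt} (hM : IsPModular 3 M)
variable {G : Type*} [Group G] [Finite G]

theorem exists_three_multiplier (G : Type*) [Group G] [Finite G] :
    ∃ k : ℕ, k.Coprime (Nat.card G) ∧ (∀ g : G, ¬ 3 ∣ orderOf g → g ^ k = g) ∧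
      ∀ g : G, g ^ 3 = 1 → g ^ k = g⁻¹ := by
  have h0 : Nat.card G ≠ 0 := Nat.card_pos.ne'
  have h1 : (3 : ℕ).Coprime (ordCompl[3] (Nat.card G)) :=
    Nat.coprime_ordCompl Nat.prime_three h0
  obtain ⟨k, hk1, hk2⟩ := Nat.chineseRemainder h1 2 1
  refine ⟨k, ?_, fun g hg => ?_, fun g hg => ?_⟩
  · rw [← Nat.ordProj_mul_ordCompl_eq_self (Nat.card G) 3]
    refine Nat.Coprime.mul_right (Nat.Coprime.pow_right _ ?_) ?_
    · rw [Nat.Coprime, hk1.gcd_eq]; norm_num
    · rw [Nat.Coprime, hk2.gcd_eq]; simp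
  · have h2 : orderOf g ∣ ordCompl[3] (Nat.card G) :=
      Nat.Coprime.dvd_of_dvd_mul_left (Nat.Coprime.pow_right _
        ((Nat.Prime.coprime_iff_not_dvd Nat.prime_three).2 hg).symm)
        (by rw [Nat.ordProj_mul_ordCompl_eq_self]; exact orderOf_dvd_natCard g)
    rw [pow_eq_pow_iff_modEq.2 (hk2.of_dvd h2), pow_one]
  · rw [pow_eq_pow_iff_modEq.2 (hk1.of_dvd (orderOf_dvd_of_pow_eq_one hg)), eq_inv_iff_mul_eq_one,
      ← pow_succ, hg]

theorem exists_int_of_cube {θ : G → ℂ} (hθ : IsGeneralizedCharacter G θ) {u : G} (hu : u ^ 3 = 1)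
    (h : IsConj u u⁻¹) : ∃ n : ℤ, θ u = n := by
  refine hθ.exists_int_of_isConj fun k hk => ?_
  by_cases h1 : u = 1
  · simp [h1]
  rw [orderOf_eq_prime hu h1] at hk
  rw [← pow_mod_orderOf, orderOf_eq_prime hu h1]
  have h2 : k % 3 ≠ 0 := fun e => by
    have := (Nat.Prime.coprime_iff_not_dvd Nat.prime_three).1 hk.symm
    omega
  obtain h3 | h3 : k % 3 = 1 ∨ k % 3 = 2 := by omega
  · rw [h3, pow_one]
  · rwa [h3, show u ^ 2 = u⁻¹ by rw [eq_inv_iff_mul_eq_one, ← pow_succ, hu]]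

/-- Representatives `1, z, z⁻¹, u t` of the classes of 3-elements. -/
structure ExS (z : G) {τ : Type*} (u : τ → G) : Prop where
  z3 : z ^ 3 = 1
  ne : z ≠ 1
  nconj : ¬ IsConj z z⁻¹
  u3 : ∀ t, u t ^ 3 = 1
  une : ∀ t, u t ≠ 1 ∧ ¬ IsConj z (u t) ∧ ¬ IsConj z⁻¹ (u t)
  uinj : ∀ t t', IsConj (u t) (u t') → t = t'
  nilp : ∀ t, HasNormalPComplement 3 (centralizer ({u t} : Set G))
  nine : ∀ t, (Nat.card (centralizer ({u t} : Set G))).factorization 3 = 2
  cover : ∀ g, IsPElt 3 g → g = 1 ∨ IsConj z g ∨ IsConj z⁻¹ g ∨ ∃ t, IsConj (u t) g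

theorem _root_.GT.Ex27.exS {P : Subgroup G} {z : G} (E : Ex27 P z) {τ : Type*} {u : τ → G}
    (h1 : ∀ t, u t ∈ P ∧ u t ∉ zpowers z) (h2 : ∀ t t', IsConj (u t) (u t') → t = t')
    (h3 : ∀ g ∈ P, g ∉ zpowers z → ∃ t, IsConj (u t) g) : ExS z u where
  z3 := E.cube z E.mem
  ne := E.ne
  nconj := E.not_isConj_inv
  u3 t := E.cube _ (h1 t).1
  une t := ⟨fun h => (h1 t).2 (h ▸ one_mem _), E.not_isConj (h1 t).1 (h1 t).2 (mem_zpowers z),
    E.not_isConj (h1 t).1 (h1 t).2 (inv_mem (mem_zpowers z))⟩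
  uinj := h2
  nilp t := E.nilp (h1 t).1 (h1 t).2
  nine t := E.factorization_centralizer (h1 t).1 (h1 t).2
  cover g hg := by
    obtain ⟨c, -, hc⟩ := E.syl.exists_conj_mem hg (mem_top g)
    have h4 : IsConj (c * g * c⁻¹) g := (isConj_iff.2 ⟨c, rfl⟩).symm
    by_cases h : c * g * c⁻¹ ∈ zpowers z
    · rcases E.mem_Z.1 h with h5 | h5 | h5 <;> rw [h5] at h4
      · exact Or.inl (isConj_one_right.1 h4)
      · exact Or.inr (Or.inl h4)
      · exact Or.inr (Or.inr (Or.inl h4))
    · obtain ⟨t, ht⟩ := h3 _ hc h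
      exact Or.inr (Or.inr (Or.inr ⟨t, ht.trans h4⟩))

theorem _root_.GT.Ex27.subgroupOf {P : Subgroup G} {z : G} (E : Ex27 P z) {C : Subgroup G}
    (hC : C = centralizer ({z} : Set G)) :
    Ex27 (P.subgroupOf C) ⟨z, mem_of_eq_centralizer hC⟩ := by
  have hP : P ≤ C := fun y hy => hC ▸ mem_centralizer_singleton_iff.2 (E.comm hy)
  have hz : ∀ w : C, (w : G) ∈ zpowers z → w ∈ zpowers (⟨z, mem_of_eq_centralizer hC⟩ : C) := by
    rintro w ⟨k, hk⟩
    exact ⟨k, Subtype.ext (by simpa using hk)⟩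
  exact
    { syl := (isSylowIn_subgroupOf_top_iff hP).2 (E.syl.of_le hP le_top)
      card := by rw [card_subgroupOf_of_le hP, E.card]
      cube := fun x hx => Subtype.ext (E.cube x hx)
      mem := E.mem
      ne := fun h => E.ne (congrArg Subtype.val h)
      cen := fun w hw h => hz w (E.cen w hw fun y hy => congrArg Subtype.val (h ⟨y, hP hy⟩ hy))
      der := fun x hx y hy => hz _ (E.der x hx y hy)
      norm := fun g _ => Subtype.ext (commute_of_eq_centralizer hC g).symm }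

namespace ExS

variable {z : G} {τ : Type*} [Fintype τ] {u : τ → G} (E : ExS z u)
include E

theorem zP : IsPElt 3 z := isPElt_of_pow_eq_one (k := 1) E.z3

theorem uP (t : τ) : IsPElt 3 (u t) := isPElt_of_pow_eq_one (k := 1) (E.u3 t)

theorem eq_sum (θ : G → ℂ) : θ = pRegularPart 3 θ + sectionPart 3 z θ + sectionPart 3 z⁻¹ θ +
    ∑ t, sectionPart 3 (u t) θ := by
  classical
  funext g
  have hz : z⁻¹ ≠ 1 := inv_ne_one.2 E.ne
  simp only [← sectionPart_one, Pi.add_apply, Finset.sum_apply, sectionPart_apply]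
  rcases E.cover _ (isPElt_pPart 3 g) with h | h | h | ⟨t, h⟩
  · simp [h, E.ne, fun t => (E.une t).1]
  · rw [if_neg fun h' => E.ne (isConj_one_left.1 (h.trans h'.symm)), if_pos h,
      if_neg fun h' => E.nconj (h.trans h'.symm),
      Finset.sum_eq_zero fun t _ => if_neg fun h' => (E.une t).2.1 (h.trans h'.symm)]
    simp
  · rw [if_neg fun h' => hz (isConj_one_left.1 (h.trans h'.symm)), if_pos h,
      if_neg fun h' => E.nconj (h'.trans h.symm),
      Finset.sum_eq_zero fun t _ => if_neg fun h' => (E.une t).2.2 (h.trans h'.symm)]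
    simp
  · rw [if_neg fun h' => (E.une t).1 (isConj_one_left.1 (h.trans h'.symm)),
      if_neg fun h' => (E.une t).2.1 (h'.trans h.symm),
      if_neg fun h' => (E.une t).2.2 (h'.trans h.symm), Finset.sum_eq_single t
        (fun t' _ ht => if_neg fun h' => ht (E.uinj _ _ (h'.trans h.symm))) (by simp), if_pos h]
    simp

include hM

theorem ip_eq {C : Subgroup G} (hC : C = centralizer ({z} : Set G)) {χ ψ : IrrCharacter G}
    (hχ : χ ∈ principalBlock M G) (hψ : ψ ∈ principalBlock M G) :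
    ip χ.1 ψ.1 = ip (pRegularPart 3 χ.1) ψ.1 + ip (rsh 3 C z χ.1) (rsh 3 C z ψ.1) +
      ip (rsh 3 C z⁻¹ χ.1) (rsh 3 C z⁻¹ ψ.1) + ∑ t, χ.1 (u t) * conj (ψ.1 (u t)) / 9 := by
  have h1 := irr_isClassFunction χ
  have h2 := irr_isClassFunction ψ
  conv_lhs => rw [E.eq_sum χ.1]
  rw [ip_add_left, ip_add_left, ip_add_left, ip_sum_left, ip_sectionPart_rsh hC E.zP h1 h2,
    ip_sectionPart_rsh (eq_centralizer_inv hC) E.zP.inv h1 h2]
  congr 1
  refine Finset.sum_congr rfl fun t _ => ?_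
  rw [ip_sectionPart_rsh rfl (E.uP t) h1 h2, ip_rsh_of_nilpotent hM rfl (E.uP t) (E.nilp t) hχ hψ,
    E.nine t]
  norm_num

theorem bker_u [DecidableEq τ] (t t' : τ) :
    bker (principalBlock M G) (u t) (u t') = if t = t' then 9 else 0 := by
  classical
  rw [bker_of_isPElt hM isPBlock_principalBlock (E.uP t) (E.uP t')]
  by_cases h : t = t'
  · subst h
    rw [if_pos (IsConj.refl _), if_pos rfl,
      bker_principal_self_of_nilpotent hM rfl (E.uP t) (E.nilp t), E.nine t]
    norm_num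
  · rw [if_neg (mt (E.uinj t t') h), if_neg h]

theorem card_eq {C : Subgroup G} (hC : C = centralizer ({z} : Set G)) :
    Nat.card (principalBlock M G) = blockRank 3 (principalBlock M G) +
      2 * blockRank 3 (principalBlock M C) + Fintype.card τ := by
  classical
  have h1 := Finset.sum_congr rfl fun χ (hχ : χ ∈ bset (principalBlock M G)) =>
    E.ip_eq hM hC (mem_bset.1 hχ) (mem_bset.1 hχ)
  simp only [ip_irr_self, Finset.sum_add_distrib] at h1
  rw [sum_ip_pRegularPart_self hM isPBlock_principalBlock, sum_ip_rsh_self hM hC E.zP,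
    sum_ip_rsh_self hM (eq_centralizer_inv hC) E.zP.inv, Finset.sum_comm] at h1
  simp only [← Finset.sum_div, ← bker_def, E.bker_u hM, if_true, Finset.sum_const, card_bset,
    nsmul_eq_mul, Finset.card_univ] at h1
  have h2 : (Nat.card (principalBlock M G) : ℂ) = blockRank 3 (principalBlock M G) +
      2 * blockRank 3 (principalBlock M C) + Fintype.card τ := by linear_combination h1
  exact_mod_cast h2

theorem eq_zero_of {C : Subgroup G} (hC : C = centralizer ({z} : Set G)) {χ : IrrCharacter G}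
    (hχ : χ ∈ principalBlock M G) (h1 : rsh 3 C z χ.1 = 0) (h2 : rsh 3 C z⁻¹ χ.1 = 0)
    (h3 : ∀ t, χ.1 (u t) = 0) : False := by
  obtain ⟨g, hg, h⟩ := exists_apply_ne_zero_of_defect_ne_zero hM isPBlock_principalBlock
    (blockDefect_principal_ne_zero hM ((E.zP.dvd_orderOf E.ne).trans (orderOf_dvd_natCard z))) hχ
  apply h
  rcases E.cover _ (isPElt_pPart 3 g) with h | h | h | ⟨t, h⟩
  · exact (pPart_ne_one_iff.2 hg h).elim
  · obtain ⟨s, hs, h4⟩ := exists_isConj_mul hC h
    rw [← (irr_isClassFunction χ).of_isConj h4, ← rsh_of_not_dvd χ.1 hs, h1, Pi.zero_apply]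
  · obtain ⟨s, hs, h4⟩ := exists_isConj_mul (eq_centralizer_inv hC) h
    rw [← (irr_isClassFunction χ).of_isConj h4, ← rsh_of_not_dvd χ.1 hs, h2, Pi.zero_apply]
  · obtain ⟨s, hs, h4⟩ := exists_isConj_mul rfl h
    rw [← (irr_isClassFunction χ).of_isConj h4,
      principal_apply_mul_of_nilpotent hM rfl (E.uP t) (E.nilp t) hχ hs, h3]

end ExS

end BT
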