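import Cfsg.Agent.Lib.Grp.ZsigSmall

/-!
# Small Zsigmondy primes of `3 ^ n - 1`
-/

set_option autoImplicit false

namespace FE
open Polynomial GT

theorem thirty_mul_pow_le_two_pow (t : ℕ) (ht : 36 ≤ t) : 30 * t ^ 6 ≤ 2 ^ t := by
  induction t, ht using Nat.le_induction with
  | base => norm_num
  | succ t ht ih =>
    have h1 : (36 * (t + 1)) ^ 6 ≤ (37 * t) ^ 6 := Nat.pow_le_pow_left (by omega) 6
    rw [mul_pow, mul_pow] at h1
    rw [pow_succ 2]
    generalize (t + 1) ^ 6 = a at *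
    generalize t ^ 6 = b at *
    generalize 2 ^ t = c at *
    norm_num at h1
    omega

/-- Bounded check. -/
def allLt (f : ℕ → Bool) (n : ℕ) : Bool := Nat.rec true (fun k b => f k && b) n

theorem allLt_spec {f : ℕ → Bool} {n : ℕ} (h : allLt f n = true) {k : ℕ} (hk : k < n) :
    f k = true := by
  induction n with
  | zero => omega
  | succ n ih =>
    have h1 : (f n && allLt f n) = true := h
    rw [Bool.and_eq_true] at h1
    rcases Nat.lt_succ_iff_lt_or_eq.1 hk with h2 | rfl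
    exacts [ih h1.2 h2, h1.1]

/-- Number of entries coprime to `n`. -/
def cntC (n : ℕ) (l : List ℕ) : ℕ :=
  List.rec 0 (fun q _ c => cond (Nat.beq (Nat.gcd n q) 1) (Nat.succ c) c) l

theorem cntC_eq (n : ℕ) (l : List ℕ) : cntC n l = (l.filter fun q => n.Coprime q).length := by
  induction l with
  | nil => rfl
  | cons q l ih =>
    have h1 : cntC n (q :: l) = cond (Nat.beq (Nat.gcd n q) 1) (Nat.succ (cntC n l)) (cntC n l) :=
      rfl
    rw [h1, ih, List.filter_cons]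
    by_cases h : n.Coprime q
    · rw [if_pos (decide_eq_true h), h.gcd_eq_one]; rfl
    · rw [Bool.eq_false_iff.2 fun e => h (Nat.eq_of_beq_eq_true e)]; simp [h]

/-- One and the primes up to `173`. -/
def prL : List ℕ := [1, 2, 3, 5, 7, 11, 13, 17, 19, 23, 29, 31, 37, 41, 43, 47, 53, 59, 61, 67,
  71, 73, 79, 83, 89, 97, 101, 103, 107, 109, 113, 127, 131, 137, 139, 149, 151, 157, 163, 167, 173]

theorem cnt_ge : allLt (fun n => Nat.ble 36 (cntC (n + 1) prL)) 2451 = true := by decide +kernel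

theorem lt_of_two_pow_totient_lt {n : ℕ} (hn : 3 ≤ n)
    (h : 2 ^ n.totient < n * (n + 1) * (2 * n + 1)) : n < 175 := by
  have h1 := (le_two_mul_totient_sq n).1
  have h2 : n.totient ≤ 35 := by
    by_contra h2
    have h3 := thirty_mul_pow_le_two_pow n.totient (by omega)
    set s := n.totient ^ 2 with hs
    have h4 : n.totient ^ 6 = s ^ 3 := by rw [hs]; ring
    have h5 : 1 ≤ s := Nat.one_le_pow _ _ (by omega)
    have h6 : n * (n + 1) * (2 * n + 1) ≤ (2 * s) * (3 * s) * (5 * s) :=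
      Nat.mul_le_mul (Nat.mul_le_mul h1 (by omega)) (by omega)
    have h7 : (2 * s) * (3 * s) * (5 * s) = 30 * s ^ 3 := by ring
    omega
  have h3 : n < 2451 := by nlinarith
  by_contra h4
  have h5 : 36 ≤ cntC (n - 1 + 1) prL :=
    Nat.le_of_ble_eq_true (allLt_spec cnt_ge (k := n - 1) (by omega))
  rw [Nat.sub_add_cancel (by omega), cntC_eq,
    ← List.toFinset_card_of_nodup (List.Nodup.filter _ (by decide))] at h5
  have h7 : ∀ q ∈ prL, q < 175 := by decide
  have h6 : (prL.filter fun q => n.Coprime q).toFinset.card ≤ n.totient := by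
    rw [Nat.totient_eq_card_coprime]
    refine Finset.card_le_card fun q hq => ?_
    rw [List.mem_toFinset, List.mem_filter] at hq
    exact Finset.mem_filter.2 ⟨Finset.mem_range.2 (by have := h7 q hq.1; omega), by simpa using hq.2⟩
  exact absurd (h5.trans (h6.trans h2)) (by norm_num)

/-- The product of the `3 ^ j - 1`, `0 < j ≤ n`. -/
def prD (n : ℕ) : ℕ := Nat.rec 1 (fun j c => (3 ^ (j + 1) - 1) * c) n

theorem dvd_prD {n j : ℕ} (h0 : 0 < j) (h : j ≤ n) : 3 ^ j - 1 ∣ prD n := by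
  induction n with
  | zero => omega
  | succ n ih =>
    change _ ∣ (3 ^ (n + 1) - 1) * prD n
    rcases Nat.le_succ_iff.1 h with h1 | rfl
    exacts [(ih h1).mul_left _, dvd_mul_right _ _]

/-- The primitive part of `3 ^ (n + 1) - 1`. -/
def primPart (n : ℕ) : ℕ :=
  (3 ^ (n + 1) - 1) / Nat.gcd (3 ^ (n + 1) - 1) (prD n * prD n)

theorem primPart_spec : allLt (fun n => Nat.ble n 1 || Nat.beq n 3 || Nat.beq n 5 ||
    Nat.beq n 17 || (Nat.beq (Nat.gcd (primPart n) (prD n)) 1 &&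
      Nat.blt 0 (((n + 2) * (2 * n + 3)) % primPart n))) 174 = true := by decide +kernel

theorem dvd_of_squarefree_aux {N K : ℕ} (hN : N ≠ 0) (hK : K ≠ 0)
    (h : ∀ r : ℕ, r.Prime → r ∣ N → r ∣ K ∧ ¬ r ^ 2 ∣ N) : N ∣ K := by
  rw [← Nat.factorization_prime_le_iff_dvd hN hK]
  intro r hr
  by_cases hrN : r ∣ N
  · have h1 := (hr.dvd_iff_one_le_factorization hK).1 (h r hr hrN).1
    have h2 := mt (hr.pow_dvd_iff_le_factorization hN).2 (h r hr hrN).2
    omega
  · rw [Nat.factorization_eq_zero_of_not_dvd hrN]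
    exact Nat.zero_le _

theorem eq_of_zsigmondy_three {n : ℕ} (hn : 3 ≤ n)
    (h : ∀ r : ℕ, r.Prime → r ∣ 3 ^ n - 1 → (∀ j, 0 < j → j < n → ¬ r ∣ 3 ^ j - 1) →
      (r = n + 1 ∨ r = 2 * n + 1) ∧ ¬ r ^ 2 ∣ 3 ^ n - 1) :
    n = 4 ∨ n = 6 ∨ n = 18 := by
  set N := ((cyclotomic n ℤ).eval ((3 : ℕ) : ℤ)).natAbs with hN
  have hlt : (3 - 1) ^ n.totient < N :=
    sub_one_pow_totient_lt_natAbs_cyclotomic_eval (by omega) (by omega)
  have hc : ∀ j, ((3 ^ j - 1 : ℕ) : ℤ) = ((3 : ℕ) : ℤ) ^ j - 1 := fun j => by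
    rw [Nat.cast_sub (Nat.one_le_pow _ _ (by norm_num))]; simp
  have hNd : N ∣ 3 ^ n - 1 := by
    rw [hN, ← Int.natCast_dvd_natCast, hc, Int.natAbs_dvd]
    simpa using eval_dvd (x := ((3 : ℕ) : ℤ)) (cyclotomic.dvd_X_pow_sub_one n ℤ)
  have hA : ∀ r : ℕ, r.Prime → r ∣ N → r ∣ n * (n + 1) * (2 * n + 1) ∧ ¬ r ^ 2 ∣ N := by
    intro r hr hrN
    by_cases hrn : r ∣ n
    · refine ⟨(hrn.mul_right _).mul_right _, fun h2 =>
        not_sq_dvd_cyclotomic_eval (a := 3) (by omega) hn hr hrn ?_⟩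
      exact_mod_cast Int.natCast_dvd.2 h2
    obtain ⟨k, m, h1, h2, h3, h4⟩ := zsig_aux (a := 3) (n := n) (by omega) hr
      (Int.natCast_dvd.2 hrN)
    rcases k with _ | k
    · rw [pow_zero, one_mul] at h1
      subst h1
      obtain ⟨h6, h7⟩ := h r hr (hrN.trans hNd) fun j hj0 hjn hj => by
        have := Nat.le_of_dvd hj0 ((h4 j).1 (by rw [← hc]; exact_mod_cast hj))
        omega
      refine ⟨?_, fun h8 => h7 (h8.trans hNd)⟩
      rcases h6 with rfl | rfl
      · exact (dvd_mul_left _ _).mul_right _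
      · exact dvd_mul_left _ _
    · exact absurd (h1 ▸ (dvd_pow_self r (by omega)).mul_right m) hrn
  have hN0 : N ≠ 0 := (lt_of_le_of_lt (Nat.zero_le _) hlt).ne'
  have hle := lt_of_two_pow_totient_lt hn (hlt.trans_le (Nat.le_of_dvd (by positivity)
    (dvd_of_squarefree_aux hN0 (by positivity) hA)))
  by_contra hne
  obtain ⟨n, rfl⟩ := Nat.exists_eq_add_of_le' (show 1 ≤ n by omega)
  have h0 := allLt_spec primPart_spec (k := n) (by omega)
  simp only [Bool.or_eq_true, Bool.and_eq_true, Nat.ble_eq, Nat.beq_eq, Nat.blt_eq] at h0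
  obtain ⟨h1, h2⟩ := h0.resolve_left (by omega)
  have h3 : primPart n ∣ 3 ^ (n + 1) - 1 := Nat.div_dvd_of_dvd (Nat.gcd_dvd_left _ _)
  have h4 : 3 ^ (n + 1) - 1 ≠ 0 := Nat.sub_ne_zero_of_lt (Nat.one_lt_pow (by omega) (by norm_num))
  refine h2.ne' (Nat.mod_eq_zero_of_dvd (dvd_of_squarefree_aux (ne_zero_of_dvd_ne_zero h4 h3)
    (by positivity) fun r hr hd => ?_))
  obtain ⟨h5, h6⟩ := h r hr (hd.trans h3) fun j hj hjn e =>
    hr.one_lt.ne' (Nat.eq_one_of_dvd_coprimes h1 hd (e.trans (dvd_prD hj (by omega))))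
  refine ⟨?_, fun e => h6 (e.trans h3)⟩
  rcases h5 with rfl | rfl
  · exact dvd_mul_right _ _
  · exact dvd_mul_left _ _

end FE
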