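import Cfsg.Agent.Lib.Block.OneAux
import Cfsg.Agent.Lib.Block.PrincipalB
import Cfsg.Agent.Lib.Char.SymSq

/-!
# The principal block for a Sylow subgroup of prime order
-/

set_option autoImplicit false
set_option linter.unusedSectionVars false

namespace FEcp
end FEcp

open FEcp

namespace FEcp.BT

open _root_.BT

open Cfsg CT GT
open scoped MonoidAlgebra ComplexConjugate Pointwise

variable {p : ℕ} [hp : Fact p.Prime]
variable {G : Type*} [Group G] [Finite G]
variable {A : Type*} [CommGroup A] [Finite A]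

/-- Conjugation action of the normalizer on the parametrising group. -/
noncomputable def conjA {ι : A →* G} (hι : Function.Injective ι) :
    Subgroup.normalizer (ι.range : Set G) →* MulAut A where
  toFun n := (exists_mulAut_of_mem_normalizer hι n.2).choose
  map_one' := MulEquiv.ext fun u => hι (by
    rw [(exists_mulAut_of_mem_normalizer hι (Subtype.prop _)).choose_spec]; simp)
  map_mul' n m := MulEquiv.ext fun u => hι (by
    rw [MulAut.mul_apply, (exists_mulAut_of_mem_normalizer hι (n * m).2).choose_spec,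
      (exists_mulAut_of_mem_normalizer hι n.2).choose_spec,
      (exists_mulAut_of_mem_normalizer hι m.2).choose_spec, Subgroup.coe_mul]
    group)

theorem conjA_spec {ι : A →* G} (hι : Function.Injective ι)
    (n : Subgroup.normalizer (ι.range : Set G)) (u : A) :
    ι (conjA hι n u) = n * ι u * (n : G)⁻¹ :=
  (exists_mulAut_of_mem_normalizer hι n.2).choose_spec u

/-- The automorphisms of `A` induced by the normalizer. -/
def autN (ι : A →* G) : Subgroup (MulAut A) where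
  carrier := {σ | ∃ t ∈ Subgroup.normalizer (ι.range : Set G), ∀ u, ι (σ u) = t * ι u * t⁻¹}
  one_mem' := ⟨1, one_mem _, fun u => by simp⟩
  mul_mem' := by
    rintro σ τ ⟨s, hs, h⟩ ⟨t, ht, h'⟩
    exact ⟨s * t, mul_mem hs ht, fun u => by rw [MulAut.mul_apply, h, h']; group⟩
  inv_mem' := by
    rintro σ ⟨s, hs, h⟩
    refine ⟨s⁻¹, inv_mem hs, fun u => ?_⟩
    have := h (σ⁻¹ u)
    rw [MulAut.apply_inv_self] at this
    rw [this]; group

theorem mem_autN {ι : A →* G} {σ : MulAut A} : σ ∈ autN ι ↔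
    ∃ t ∈ Subgroup.normalizer (ι.range : Set G), ∀ u, ι (σ u) = t * ι u * t⁻¹ := Iff.rfl

theorem range_conjA {ι : A →* G} (hι : Function.Injective ι) : (conjA hι).range = autN ι := by
  ext σ
  constructor
  · rintro ⟨n, rfl⟩
    exact ⟨n, n.2, conjA_spec hι n⟩
  · rintro ⟨t, ht, h⟩
    exact ⟨⟨t, ht⟩, MulEquiv.ext fun u => hι (by rw [conjA_spec, h])⟩

theorem conjA_mem {ι : A →* G} (hι : Function.Injective ι)
    (n : Subgroup.normalizer (ι.range : Set G)) : conjA hι n ∈ autN ι :=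
  ⟨n, n.2, conjA_spec hι n⟩

theorem conjA_eq_one_iff {ι : A →* G} (hι : Function.Injective ι)
    (n : Subgroup.normalizer (ι.range : Set G)) :
    conjA hι n = 1 ↔ (n : G) ∈ Subgroup.centralizer (ι.range : Set G) := by
  rw [Subgroup.mem_centralizer_iff]
  constructor
  · rintro h _ ⟨u, rfl⟩
    have := conjA_spec hι n u
    rw [h, MulAut.one_apply] at this
    exact eq_mul_inv_iff_mul_eq.1 this
  · intro h
    refine MulEquiv.ext fun u => hι ?_
    rw [conjA_spec, ← h _ ⟨u, rfl⟩]; simp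

theorem ker_conjA {ι : A →* G} (hι : Function.Injective ι) : (conjA hι).ker =
    (Subgroup.centralizer (ι.range : Set G)).subgroupOf (Subgroup.normalizer (ι.range : Set G)) :=
  Subgroup.ext fun n => conjA_eq_one_iff hι n

theorem card_autN {ι : A →* G} (hι : Function.Injective ι) : Nat.card (autN ι) =
    (Subgroup.centralizer (ι.range : Set G)).relIndex (Subgroup.normalizer (ι.range : Set G)) := by
  rw [← range_conjA hι, ← Subgroup.index_ker, ker_conjA, Subgroup.relIndex]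

theorem sum_normalizer_conjA {ι : A →* G} (hι : Function.Injective ι)
    [Fintype (Subgroup.normalizer (ι.range : Set G))] [Fintype (autN ι)] (F : MulAut A → ℂ) :
    ∑ n, F (conjA hι n) = Nat.card (Subgroup.centralizer (ι.range : Set G)) *
      ∑ σ : autN ι, F σ := by
  have := sum_comp_of_surjective ((conjA hι).codRestrict (autN ι) (conjA_mem hι))
    (fun σ => by
      obtain ⟨n, hn⟩ : σ.1 ∈ (conjA hι).range := (range_conjA hι).ge σ.2
      exact ⟨n, Subtype.ext hn⟩) fun σ => F σ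
  rw [MonoidHom.ker_codRestrict, ker_conjA,
    Nat.card_congr (Subgroup.subgroupOfEquivOfLe (Subgroup.centralizer_le_normalizer _)).toEquiv]
    at this
  exact this

/-! ### Characters of a group of prime order -/

section PrimeOrder
variable (hA : Nat.card A = p)
include hA

theorem mulAut_eq_one_of_prime {σ : MulAut A} {u : A} (hu : u ≠ 1) (h : σ u = u) : σ = 1 := by
  refine MulEquiv.ext fun v => ?_
  obtain ⟨k, rfl⟩ := mem_zpowers_of_prime_card hA hu (g' := v)
  simp [h]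

theorem hat_injective {l : A →* ℂˣ} (hl : l ≠ 1) : Function.Injective l := by
  rw [injective_iff_map_eq_one]
  intro u hu
  by_contra h
  refine hl (MonoidHom.ext fun v => ?_)
  obtain ⟨k, rfl⟩ := mem_zpowers_of_prime_card hA h (g' := v)
  simp [hu]

theorem mulAut_eq_of_comp_eq {l : A →* ℂˣ} (hl : l ≠ 1) {σ τ : MulAut A}
    (h : ∀ u, l (σ u) = l (τ u)) : σ = τ :=
  MulEquiv.ext fun u => hat_injective hA hl (h u)

theorem card_mulAut_of_prime : Nat.card (MulAut A) = p - 1 := by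
  have := isCyclic_of_prime_card hA
  rw [IsCyclic.card_mulAut, hA, Nat.totient_prime hp.out]

theorem card_sub_dvd (E : Subgroup (MulAut A)) : Nat.card E ∣ p - 1 :=
  card_mulAut_of_prime hA ▸ E.card_subgroup_dvd_card

omit hA in
theorem osum_one (E : Subgroup (MulAut A)) (l : A →* ℂˣ) : osum E l 1 = Nat.card E := by
  have := Fintype.ofFinite E
  rw [osum_eq]; simp

omit hA in
theorem conj_osum (E : Subgroup (MulAut A)) (l : A →* ℂˣ) (u : A) :
    conj (osum E l u) = osum E l u⁻¹ := by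
  have := Fintype.ofFinite A
  have := Fintype.ofFinite E
  rw [osum_eq, osum_eq, map_sum]
  exact Finset.sum_congr rfl fun σ _ => by rw [conj_hat, map_inv σ.1]

omit hA in
theorem osum_comp {E : Subgroup (MulAut A)} {σ : MulAut A} (hσ : σ ∈ E) (l : A →* ℂˣ) (u : A) :
    osum E (l.comp σ.toMonoidHom) u = osum E l u := by
  have := Fintype.ofFinite E
  rw [osum_eq, osum_eq, ← Equiv.sum_comp (Equiv.mulLeft (⟨σ, hσ⟩ : E)) fun τ => (l (τ.1 u) : ℂ)]
  rfl

open Classical in
theorem sum_osum_mul_conj [Fintype A] (E : Subgroup (MulAut A)) {l : A →* ℂˣ} (hl : l ≠ 1)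
    (m : A →* ℂˣ) : ∑ u, osum E l u * conj (m u : ℂ) =
      if ∃ σ ∈ E, l.comp σ.toMonoidHom = m then (p : ℂ) else 0 := by
  have := Fintype.ofFinite E
  simp only [osum_eq, Finset.sum_mul]
  rw [Finset.sum_comm]
  have h1 : ∀ σ : E, ∑ u, (l (σ.1 u) : ℂ) * conj (m u : ℂ) =
      if l.comp σ.1.toMonoidHom = m then (p : ℂ) else 0 := fun σ => by
    rw [← hA]; exact sum_apply_mul_conj_hat (l.comp σ.1.toMonoidHom) m
  simp only [h1]
  split_ifs with h
  · obtain ⟨σ, hσ, h⟩ := h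
    rw [Finset.sum_eq_single ⟨σ, hσ⟩, if_pos h]
    · intro τ _ hτ
      exact if_neg fun h' => hτ (Subtype.ext (mulAut_eq_of_comp_eq hA hl fun u =>
        DFunLike.congr_fun (h'.trans h.symm) u))
    · simp
  · exact Finset.sum_eq_zero fun σ _ => if_neg fun h' => h ⟨σ, σ.2, h'⟩

theorem sum_osum_eq_zero [Fintype A] (E : Subgroup (MulAut A)) {l : A →* ℂˣ} (hl : l ≠ 1) :
    ∑ u, osum E l u = 0 := by
  have := sum_osum_mul_conj hA E hl 1
  rw [if_neg] at this
  · simpa using this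
  · rintro ⟨σ, -, h⟩
    exact hl (MonoidHom.ext fun u => by simpa using DFunLike.congr_fun h (σ⁻¹ u))

open Classical in
theorem sum_osum_mul_conj_osum [Fintype A] (E : Subgroup (MulAut A)) {l : A →* ℂˣ} (hl : l ≠ 1)
    (m : A →* ℂˣ) : ∑ u, osum E l u * conj (osum E m u) =
      if ∃ σ ∈ E, l.comp σ.toMonoidHom = m then (p * Nat.card E : ℂ) else 0 := by
  have := Fintype.ofFinite E
  simp only [osum_eq E m, map_sum, Finset.mul_sum]
  rw [Finset.sum_comm, Finset.sum_congr rfl (g := fun _ =>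
    if ∃ σ ∈ E, l.comp σ.toMonoidHom = m then (p : ℂ) else 0) fun τ _ => ?_]
  · split_ifs <;> simp [mul_comm]
  · refine (sum_osum_mul_conj hA E hl (m.comp τ.1.toMonoidHom)).trans (if_congr ⟨?_, ?_⟩ rfl rfl)
    · rintro ⟨σ, hσ, h⟩
      refine ⟨σ * τ.1⁻¹, mul_mem hσ (inv_mem τ.2), MonoidHom.ext fun u => ?_⟩
      simpa using DFunLike.congr_fun h (τ.1⁻¹ u)
    · rintro ⟨σ, hσ, rfl⟩
      exact ⟨σ * τ.1, mul_mem hσ τ.2, rfl⟩

/-- If `E` is not transitive there is a character outside a given orbit. -/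
theorem exists_not_orbit (E : Subgroup (MulAut A)) (hE : Nat.card E < p - 1) (l : A →* ℂˣ) :
    ∃ m : HatNe A, ¬ ∃ σ ∈ E, l.comp σ.toMonoidHom = m.1 := by
  by_contra h
  push Not at h
  choose σ hσ h using h
  have := Nat.card_le_card_of_injective (fun m : HatNe A => (⟨σ m, hσ m⟩ : E)) fun m m' h' =>
    Subtype.ext (by rw [← h m, ← h m', show σ m = σ m' from congrArg Subtype.val h'])
  rw [card_hatNe, hA] at this
  omega

theorem osum_of_card_eq (E : Subgroup (MulAut A)) (hE : Nat.card E = p - 1) {l : A →* ℂˣ}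
    (hl : l ≠ 1) {u : A} (hu : u ≠ 1) : osum E l u = -1 := by
  classical
  have := Fintype.ofFinite A
  have := Fintype.ofFinite E
  have h1 : Function.Bijective fun σ : E => (⟨σ.1 u, by simpa using hu⟩ : {v : A // v ≠ 1}) := by
    refine (Nat.bijective_iff_injective_and_card _).2 ⟨fun σ τ h => Subtype.ext ?_, ?_⟩
    · have h2 : (τ.1⁻¹ * σ.1) u = u := by
        rw [MulAut.mul_apply, show σ.1 u = τ.1 u from congrArg Subtype.val h]; simp
      exact (inv_mul_eq_one.1 (mulAut_eq_one_of_prime hA hu h2)).symm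
    · rw [hE, ← hA, Nat.card_eq_fintype_card, Nat.card_eq_fintype_card]; simp
  rw [osum_eq, h1.sum_comp fun v => (l v.1 : ℂ)]
  have h2 := sum_apply_mul_conj_hat l 1
  rw [if_neg hl, Fintype.sum_eq_add_sum_subtype_ne _ 1] at h2
  simp only [map_one, Units.val_one, MonoidHom.one_apply, mul_one] at h2
  exact eq_neg_of_add_eq_zero_right h2

omit hA in
/-- Fourier coefficients of the restriction of a character. -/
theorem _root_.FEcp.Cfsg.IsCharacter.exists_hat_mult [Fintype A] {θ : G → ℂ} (hθ : IsCharacter G θ)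
    (ι : A →* G) : ∃ k : (A →* ℂˣ) → ℕ, (∀ u, θ (ι u) = ∑ m, (k m : ℂ) * m u) ∧
      (∀ m, ∑ u, θ (ι u) * conj (m u : ℂ) = Nat.card A * k m) ∧ charDegree θ = ∑ m, k m := by
  classical
  have h : ∀ m : A →* ℂˣ, ∃ k : ℕ, ∑ u, θ (ι u) * conj (m u : ℂ) = Nat.card A * k := fun m => by
    obtain ⟨k, hk⟩ := (hθ.comp ι).exists_nat_ip
      (isIrrCharacter_of_monoidHom ((Units.coeHom ℂ).comp m)).isCharacter
    refine ⟨k, ?_⟩
    rw [← hk, ip_def, mul_inv_cancel_left₀ card_cast_ne_zero]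
    rfl
  choose k hk using h
  have h1 : ∀ u, θ (ι u) = ∑ m, (k m : ℂ) * m u := fun u => by
    refine mul_left_cancel₀ (card_cast_ne_zero (G := A)) ?_
    rw [Finset.mul_sum, Finset.sum_congr rfl fun m _ => by rw [← mul_assoc, ← hk m, Finset.sum_mul],
      Finset.sum_comm, Finset.sum_eq_single u]
    · simp only [mul_assoc, ← Finset.mul_sum, mul_comm (conj _), sum_hat_mul_conj, if_true]
      ring
    · intro v _ hv
      simp only [mul_assoc, ← Finset.mul_sum, mul_comm (conj _), sum_hat_mul_conj, if_neg hv.symm,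
        mul_zero]
    · simp
  refine ⟨k, h1, hk, charDegree_eq_of_apply_one ?_⟩
  simpa using h1 1

end PrimeOrder

/-- A character without fixed vectors for `P` sums to zero over each coset of `P`. -/
theorem _root_.FEcp.Cfsg.IsCharacter.sum_coset_eq_zero {B : Type*} [Group B] [Fintype B] {θ : G → ℂ}
    (hθ : IsCharacter G θ) (f : B →* G) (h : ∑ u, θ (f u) = 0) (g : G) :
    ∑ u, θ (f u * g) = 0 := by
  obtain ⟨ρ, hρ⟩ := hθ.exists_matrix_rep
  set e := (Nat.card B : ℂ)⁻¹ • ∑ u, Matrix.toLin' (ρ (f u)) with he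
  have h0 : (Nat.card B : ℂ) ≠ 0 := card_cast_ne_zero
  have h1 : IsIdempotentElem e := by
    have : ∀ v, Matrix.toLin' (ρ (f v)) * ∑ u, Matrix.toLin' (ρ (f u)) =
        ∑ u, Matrix.toLin' (ρ (f u)) := fun v => by
      rw [Finset.mul_sum, ← Equiv.sum_comp (Equiv.mulLeft v) fun u => Matrix.toLin' (ρ (f u))]
      exact Finset.sum_congr rfl fun u _ => by
        rw [Equiv.coe_mulLeft, map_mul, map_mul, Matrix.toLin'_mul]; rfl
    rw [IsIdempotentElem, he, smul_mul_smul_comm, Finset.sum_mul]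
    simp only [this, Finset.sum_const, Finset.card_univ, ← Nat.card_eq_fintype_card]
    rw [← Nat.cast_smul_eq_nsmul ℂ, smul_smul, mul_assoc, inv_mul_cancel₀ h0, mul_one]
  have h2 : LinearMap.trace ℂ _ e = 0 := by
    simp only [he, map_smul, map_sum, Matrix.trace_toLin'_eq, hρ, h, smul_zero]
  have h3 : e = 0 := by
    rw [(LinearMap.IsIdempotentElem.isProj_range e h1).trace, Nat.cast_eq_zero,
      Submodule.finrank_eq_zero, LinearMap.range_eq_bot] at h2
    exact h2
  have h4 : ∑ u, ρ (f u) = 0 := by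
    have := (smul_eq_zero.1 h3).resolve_left (inv_ne_zero h0)
    rw [← map_sum] at this
    exact Matrix.toLin'.map_eq_zero_iff.1 this
  simp only [← hρ, map_mul, ← Matrix.trace_sum, ← Finset.sum_mul, h4, zero_mul, Matrix.trace_zero]

/-- The fixed-space dimension is additive over constituents. -/
theorem _root_.FEcp.Cfsg.IsCharacter.sum_eq_zero_of_ip_ne_zero {B : Type*} [Group B] [Fintype B]
    {θ : G → ℂ} (hθ : IsCharacter G θ) (f : B →* G) (h : ∑ u, θ (f u) = 0) {χ : IrrCharacter G}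
    (hχ : ip θ χ.1 ≠ 0) : ∑ u, χ.1 (f u) = 0 := by
  obtain ⟨a, ha⟩ := ((hθ.sub_irr χ hχ).comp f).exists_nat_ip isCharacter_one
  obtain ⟨b, hb⟩ := ((irr_isCharacter χ).comp f).exists_nat_ip isCharacter_one
  rw [ip_def] at ha hb
  simp only [map_one, mul_one, Pi.sub_apply, Finset.sum_sub_distrib, h, zero_sub] at ha hb
  have : (a : ℂ) + b = 0 := by rw [← ha, ← hb]; ring
  have h3 : b = 0 := by
    have : a + b = 0 := by exact_mod_cast this
    omega
  rw [h3, Nat.cast_zero] at hb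
  exact (mul_eq_zero.1 hb).resolve_left (inv_ne_zero card_cast_ne_zero)

theorem _root_.FEcp.Cfsg.IsCharacter.exists_nat_sum {B : Type*} [Group B] [Fintype B]
    {θ : G → ℂ} (hθ : IsCharacter G θ) (f : B →* G) :
    ∃ a : ℕ, ∑ u, θ (f u) = Nat.card B * a := by
  obtain ⟨a, ha⟩ := (hθ.comp f).exists_nat_ip isCharacter_one
  refine ⟨a, ?_⟩
  rw [← ha, ip_def, mul_inv_cancel_left₀ card_cast_ne_zero]
  simp

/-! ### The `p`-regular part of the centralizer -/

variable (p) in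
/-- The `p`-complement of `C_G(P)`. -/
def cenReg (ι : A →* G) : Subgroup G :=
  (pPrimeCore p (Subgroup.centralizer (ι.range : Set G))).map (Subgroup.subtype _)

namespace PrimeSyl
open _root_.BT.PrimeSyl
variable {ι : A →* G} (H : PrimeSyl p ι)
include H

theorem hasNormalPComplement_centralizer :
    HasNormalPComplement p (Subgroup.centralizer (ι.range : Set G)) :=
  (H.syl.of_le (range_le_centralizer ι) le_top).hasNormalPComplement_of_le_centralizer inf_le_left

theorem mem_cenReg {y : G} :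
    y ∈ cenReg p ι ↔ y ∈ Subgroup.centralizer (ι.range : Set G) ∧ ¬ p ∣ orderOf y := by
  constructor
  · rintro ⟨y, hy, rfl⟩
    exact ⟨y.2, isPRegular_iff.1 (isPRegular_coe.2 (isPRegular_of_mem_pPrimeCore hy))⟩
  · rintro ⟨h1, h2⟩
    exact ⟨⟨y, h1⟩, hasNormalPComplement_iff_forall_mem.1 H.hasNormalPComplement_centralizer _
      ((isPRegular_mk h1).2 (isPRegular_iff.2 h2)), rfl⟩

theorem card_autN_dvd : Nat.card (autN ι) ∣ p - 1 := card_sub_dvd H.card _

theorem card_autN_pos : 0 < Nat.card (autN ι) := Nat.card_pos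

theorem dvd_orderOf_mul' {u : A} (hu : u ≠ 1) {y : G} (hy : y ∈ cenReg p ι) :
    p ∣ orderOf (ι u * y) := by
  obtain ⟨h1, h2⟩ := H.mem_cenReg.1 hy
  refine pPart_ne_one_iff.1 ?_
  rw [pPart_mul_eq (Subgroup.mem_centralizer_iff.1 h1 _ ⟨u, rfl⟩)
    (isPElt_of_mem H.syl.isPGroup ⟨u, rfl⟩) h2]
  exact fun h => hu (H.inj (h.trans (map_one ι).symm))

theorem exists_eq_mul {w : G} (hw : w ∈ Subgroup.centralizer (ι.range : Set G)) :
    ∃ u, ∃ y ∈ cenReg p ι, w = ι u * y := by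
  obtain ⟨u, hu⟩ := H.mem_range (isPElt_pPart p w)
    (pPart_mem p (Subgroup.centralizer_le_normalizer _ hw))
  exact ⟨u, pRegPart p w, H.mem_cenReg.2 ⟨pRegPart_mem p hw, not_dvd_orderOf_pRegPart p w⟩,
    by rw [hu, pPart_mul_pRegPart]⟩

theorem not_dvd_card_of_normal {K : Subgroup G} [K.Normal] (h : ¬ ι.range ≤ K) :
    ¬ p ∣ Nat.card K := fun hd => by
  refine h (le_of_isPGroup_of_not_dvd_index H.syl.isPGroup fun hi => ?_)
  have h1 : p ^ 2 ∣ Nat.card G := by
    rw [← K.card_mul_index, sq]; exact mul_dvd_mul hd hi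
  have := (hp.out.pow_dvd_iff_le_factorization Nat.card_pos.ne').1 h1
  rw [H.factorization_card] at this
  omega

theorem range_le_of_mem {K : Subgroup G} {u : A} (hu : u ≠ 1) (h : ι u ∈ K) : ι.range ≤ K := by
  rw [← H.zpowers_eq hu]; exact (Subgroup.zpowers_le_of_mem h)

/-- Induction of a class function of `C_G(P)` that is a multiple of `l` on `P`. -/
theorem ind_apply_of_mul {C : Subgroup G} (hC : C = Subgroup.centralizer (ι.range : Set G))
    (φ : C → ℂ) (l : A →* ℂˣ) {s : ℂ} {x : G} {u : A} (hx : p ∣ orderOf x) (hxC : x ∈ C)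
    (h : ∀ (n : Subgroup.normalizer (ι.range : Set G)) (w : C), (w : G) = n * x * (n : G)⁻¹ →
      φ w = l (conjA H.inj n u) * s) : ind C φ x = s * osum (autN ι) l u := by
  subst hC
  have := Fintype.ofFinite (Subgroup.normalizer (ι.range : Set G))
  have := Fintype.ofFinite (autN ι)
  have hCN := Subgroup.centralizer_le_normalizer (ι.range : Set G)
  rw [H.ind_apply hCN φ hx (hCN hxC), ← Equiv.sum_comp (Equiv.inv _), Finset.sum_congr rfl
    (g := fun n => (l (conjA H.inj n u) : ℂ) * s) fun n _ => ?_, ← Finset.sum_mul,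
    sum_normalizer_conjA H.inj fun σ => (l (σ u) : ℂ), osum_eq, mul_assoc,
    inv_mul_cancel_left₀ card_cast_ne_zero, mul_comm]
  have hm : (n : G) * x * (n : G)⁻¹ ∈ Subgroup.centralizer (ι.range : Set G) := by
    simpa using inv_conj_mem_of_mem_normalizer
      (normalizer_le_normalizer_centralizer _ (inv_mem n.2)) hxC
  simp only [Equiv.inv_apply, Subgroup.coe_inv, inv_inv]
  rw [extendByZero_of_mem _ _ hm, h n _ rfl]

/-- The restriction to `P` of an irreducible character of degree prime to `p`. -/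
theorem exists_exc (ζ : IrrCharacter G) (h : ¬ p ∣ charDegree ζ.1) :
    (∃ c : ℂ, ∀ u ≠ 1, ζ.1 (ι u) = c) ∨ ∃ (ε : ℤ) (s : ℕ) (Z : HatNe A → IrrCharacter G)
      (l : HatNe A), (ε = 1 ∨ ε = -1) ∧ 0 < s ∧ Z l = ζ ∧
      (∀ m g, ¬ p ∣ orderOf g → (Z m).1 g = ζ.1 g) ∧
      ∀ m, ∀ u ≠ 1, (Z m).1 (ι u) = ε * s * osum (autN ι) m.1 u := by
  obtain ⟨M, hM⟩ := exists_pModular hp.out
  have hd : blockDefect p (blockOf M ζ.1) ≠ 0 := fun h0 => h (by
    rw [← pow_mul_rdeg (p := p) (mem_blockOf_self hM ζ), h0, H.factorization_card]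
    simp)
  obtain ⟨b, X, Y, δ, δ₀, ξ, O⟩ := H.exists_oneStr_of_defect hM rfl (isPBlock_blockOf ζ) hd
  rcases (O.cyc.mem_iff ζ).1 (mem_blockOf_self hM ζ) with h1 | ⟨l, rfl⟩
  · exact Or.inl ⟨_, fun u hu => O.valX_range h1 hu⟩
  refine Or.inr ⟨-δ₀, charDegree (ξ 1).1, Y, l, by rcases O.cyc.sign₀ with h | h <;> simp [h],
    irr_degree_pos _, rfl, fun m g hg => O.cyc.reg_eq _ _ hg, fun m u hu => ?_⟩
  rw [O.valY m (H.dvd_orderOf hu), H.ind_apply_of_mul rfl _ m.1 (u := u) (H.dvd_orderOf hu)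
    (O.range_le ⟨u, rfl⟩) fun n w hw => O.cen.apply_of_eq m.1 _ (by rw [hw, conjA_spec]),
    irr_apply_one]
  push_cast
  ring

end PrimeSyl

/-- Brauer's description of the principal block. -/
structure PB (p : ℕ) (ι : A →* G) (X : Finset (IrrCharacter G)) (Y : HatNe A → IrrCharacter G)
    (δ : IrrCharacter G → ℤ) (δ₀ : ℤ) : Prop where
  syl : PrimeSyl p ι
  not_mem : ∀ l, Y l ∉ X
  eq_iff : ∀ l m, Y l = Y m ↔ ∃ σ ∈ autN ι, σ • m = l
  card_X : X.card = Nat.card (autN ι)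
  sign : ∀ χ ∈ X, δ χ = 1 ∨ δ χ = -1
  sign₀ : δ₀ = 1 ∨ δ₀ = -1
  valX : ∀ χ ∈ X, ∀ x, p ∣ orderOf x → χ.1 x = δ χ
  valY : ∀ l, ∀ u ≠ 1, ∀ y ∈ cenReg p ι, (Y l).1 (ι u * y) = -δ₀ * osum (autN ι) l.1 u
  reg : ∀ l g, ¬ p ∣ orderOf g → δ₀ * (Y l).1 g + ∑ χ ∈ X, (δ χ : ℂ) * χ.1 g = 0
  out : ∀ χ ∉ X, (∀ l, Y l ≠ χ) → ∀ u ≠ 1, ∑ᶠ y : cenReg p ι, χ.1 (ι u * y) = 0
  core : ∀ χ, (χ ∈ X ∨ ∃ l, Y l = χ) → pPrimeCore p G ≤ ker χ.1

theorem PrimeSyl.exists_pb' {ι : A →* G} (H : PrimeSyl p ι) : ∃ X Y δ δ₀, PB p ι X Y δ δ₀ := by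
  classical
  obtain ⟨M, hM⟩ := exists_pModular hp.out
  obtain ⟨X, Y, δ, δ₀, ξ, O⟩ := H.exists_oneStr_principal hM rfl
  have hE : inert ι (sidem hM _ (principalBlock M (Subgroup.centralizer (ι.range : Set G)))) =
      autN ι := Subgroup.ext fun σ => by rw [mem_inert, O.ab.NP_principal]; rfl
  refine ⟨bset X, Y, δ, δ₀, H, fun l => by simpa using O.cyc.not_mem l,
    fun l m => hE ▸ O.cyc.eq_iff l m, by rw [card_bset, ← hE, O.cyc.card_X],
    fun χ h => O.cyc.sign χ (mem_bset.1 h), O.cyc.sign₀, fun χ h x hx => O.prin_valX (mem_bset.1 h) hx,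
    fun l u hu y hy => hE ▸ O.prin_valY l hu (H.mem_cenReg.1 hy).1 (H.mem_cenReg.1 hy).2,
    O.cyc.reg, fun χ h1 h2 u hu => ?_, fun χ h => pPrimeCore_le_ker_of_mem_principal hM
      ((O.cyc.mem_iff χ).2 (by simpa using h))⟩
  have h3 : χ ∉ principalBlock M G := fun h => by
    rcases (O.cyc.mem_iff χ).1 h with h | ⟨l, h⟩
    exacts [h1 (mem_bset.2 h), h2 l h]
  have := Fintype.ofFinite (pPrimeCore p (Subgroup.centralizer (ι.range : Set G)))
  have := Fintype.ofFinite (cenReg p ι)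
  have h4 := blockPart_principal_of_nilpotent hM (H.centralizer_eq hu).symm
    (isPElt_of_mem H.syl.isPGroup ⟨u, rfl⟩) H.hasNormalPComplement_centralizer
    (irr_isClassFunction χ)
  rw [blockPart_eq_sum, Finset.sum_eq_zero fun ψ hψ => by
    rw [ip_irr_ne (by rintro rfl; exact h3 (by simpa using hψ)), zero_smul]] at h4
  rw [finsum_eq_sum_of_fintype, ← (mul_eq_zero.1 h4.symm).resolve_left
    (inv_ne_zero card_cast_ne_zero)]
  let e : pPrimeCore p (Subgroup.centralizer (ι.range : Set G)) ≃ cenReg p ι :=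
    (Subgroup.equivMapOfInjective _ _ (Subgroup.subtype_injective _)).toEquiv
  exact (Fintype.sum_equiv e _ _ fun _ => rfl).symm

theorem PrimeSyl.exists_conj_eq_mul {ι : A →* G} (H : PrimeSyl p ι) {x : G} (hx : p ∣ orderOf x) :
    ∃ g, ∃ u ≠ 1, ∃ y ∈ cenReg p ι, g * x * g⁻¹ = ι u * y := by
  obtain ⟨g, hg⟩ := H.exists_conj_mem hx
  obtain ⟨u, y, hy, h⟩ := H.exists_eq_mul hg
  refine ⟨g, u, ?_, y, hy, h⟩
  rintro rfl
  rw [← orderOf_conj' x g, h, map_one, one_mul] at hx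
  exact (H.mem_cenReg.1 hy).2 hx

namespace PB
variable {ι : A →* G} {X : Finset (IrrCharacter G)} {Y : HatNe A → IrrCharacter G}
  {δ : IrrCharacter G → ℤ} {δ₀ : ℤ} (T : PB p ι X Y δ δ₀)
include T

theorem valY_range (l : HatNe A) {u : A} (hu : u ≠ 1) :
    (Y l).1 (ι u) = -δ₀ * osum (autN ι) l.1 u := by simpa using T.valY l u hu 1 (one_mem _)

theorem valX_range {χ : IrrCharacter G} (hχ : χ ∈ X) {u : A} (hu : u ≠ 1) : χ.1 (ι u) = δ χ :=
  T.valX χ hχ _ (T.syl.dvd_orderOf hu)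

theorem sign₀_ne_zero : (δ₀ : ℂ) ≠ 0 := by rcases T.sign₀ with h | h <;> simp [h]

theorem reg_eq (l m : HatNe A) {g : G} (hg : ¬ p ∣ orderOf g) : (Y l).1 g = (Y m).1 g :=
  mul_left_cancel₀ T.sign₀_ne_zero (add_right_cancel ((T.reg l g hg).trans (T.reg m g hg).symm))

theorem degree_eq (l m : HatNe A) : charDegree (Y l).1 = charDegree (Y m).1 := by
  have := T.reg_eq l m (not_dvd_orderOf_one (p := p))
  rw [irr_apply_one, irr_apply_one] at this
  exact_mod_cast this

theorem apply_mul_of_mem {χ : IrrCharacter G} (hχ : χ ∈ X ∨ ∃ l, Y l = χ) {u : A} (hu : u ≠ 1)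
    {y : G} (hy : y ∈ cenReg p ι) : χ.1 (ι u * y) = χ.1 (ι u) := by
  rcases hχ with h | ⟨l, rfl⟩
  · rw [T.valX χ h _ (T.syl.dvd_orderOf_mul' hu hy), T.valX_range h hu]
  · rw [T.valY l u hu y hy, T.valY_range l hu]

theorem valY_of_card_eq (h : Nat.card (autN ι) = p - 1) (l : HatNe A) {x : G}
    (hx : p ∣ orderOf x) : (Y l).1 x = δ₀ := by
  obtain ⟨g, u, hu, y, hy, hg⟩ := T.syl.exists_conj_eq_mul hx
  rw [← irr_isClassFunction _ x g, hg, T.valY l u hu y hy, osum_of_card_eq T.syl.card _ h l.2 hu]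
  ring

theorem card_eq_of_const {l : HatNe A} {c : ℂ} (h : ∀ u ≠ 1, (Y l).1 (ι u) = c) :
    Nat.card (autN ι) = p - 1 := by
  classical
  have := Fintype.ofFinite A
  by_contra hne
  obtain ⟨m, hm⟩ := exists_not_orbit T.syl.card (autN ι) (lt_of_le_of_ne (Nat.le_of_dvd
    (by have := hp.out.two_le; omega) T.syl.card_autN_dvd) hne) l.1
  have h1 := sum_osum_mul_conj T.syl.card (autN ι) l.2 m.1
  have h2 := sum_osum_mul_conj T.syl.card (autN ι) l.2 l.1
  rw [if_neg hm] at h1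
  rw [if_pos ⟨1, one_mem _, rfl⟩] at h2
  have h3 : ∀ k : HatNe A, ∑ u, osum (autN ι) l.1 u * conj (k.1 u : ℂ) =
      Nat.card (autN ι) + δ₀ * c := fun k => by
    have h4 := sum_apply_mul_conj_hat 1 k.1
    rw [if_neg k.2.symm, Fintype.sum_eq_add_sum_subtype_ne _ 1] at h4
    rw [Fintype.sum_eq_add_sum_subtype_ne _ 1, osum_one, Finset.sum_congr rfl
      (g := fun u => -(δ₀ * c) * conj (k.1 u.1 : ℂ)) fun u _ => ?_, ← Finset.mul_sum]
    · simp only [MonoidHom.one_apply, Units.val_one, one_mul, map_one] at h4 ⊢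
      rw [eq_neg_of_add_eq_zero_right h4]; ring
    · rw [← h u.1 u.2, T.valY_range l u.2]
      rcases T.sign₀ with h | h <;> simp [h]
  rw [h3] at h1 h2
  exact Nat.cast_ne_zero.2 hp.out.ne_zero (h2.symm.trans h1)

theorem eq_of_card_eq (h : Nat.card (autN ι) = p - 1) (l m : HatNe A) : Y l = Y m :=
  Subtype.ext (funext fun x => by
    by_cases hx : p ∣ orderOf x
    · rw [T.valY_of_card_eq h l hx, T.valY_of_card_eq h m hx]
    · exact T.reg_eq l m hx)

theorem mem_of_apply {χ : IrrCharacter G} {u : A} (hu : u ≠ 1) {c : ℂ} (hc : c ≠ 0)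
    (h : ∀ y ∈ cenReg p ι, χ.1 (ι u * y) = c) : χ ∈ X ∨ ∃ l, Y l = χ := by
  by_contra h1
  push Not at h1
  have := Fintype.ofFinite (cenReg p ι)
  have h2 := T.out χ h1.1 h1.2 u hu
  rw [finsum_eq_sum_of_fintype, Finset.sum_congr rfl fun (y : cenReg p ι) _ => h y y.2] at h2
  simp [hc] at h2

end PB

theorem PrimeSyl.exists_pb {ι : A →* G} (H : PrimeSyl p ι) :
    ∃ X Y δ δ₀, PB p ι X Y δ δ₀ ∧ irrOne G ∈ X := by
  classical
  obtain ⟨X, Y, δ, δ₀, T⟩ := H.exists_pb'
  have := H.nontrivial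
  obtain ⟨u, hu⟩ := exists_ne (1 : A)
  rcases T.mem_of_apply (χ := irrOne G) hu one_ne_zero fun _ _ => rfl with h | ⟨l, hl⟩
  · exact ⟨X, Y, δ, δ₀, T, h⟩
  have he := T.card_eq_of_const (l := l) (c := 1) fun u _ => by rw [hl]; rfl
  have hY : ∀ m, Y m = irrOne G := fun m => (T.eq_of_card_eq he m l).trans hl
  obtain ⟨χ, hχ⟩ : X.Nonempty := Finset.card_pos.1 (T.card_X ▸ H.card_autN_pos)
  have h1 : irrOne G ∉ X := hl ▸ T.not_mem l
  have h2 : irrOne G ∉ X.erase χ := fun h => h1 (Finset.mem_of_mem_erase h)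
  have hne : χ ≠ irrOne G := fun h => h1 (h ▸ hχ)
  have h3 : ∀ ψ ∈ X, Function.update δ (irrOne G) δ₀ ψ = δ ψ := fun ψ h =>
    Function.update_of_ne (fun h' : ψ = irrOne G => h1 (h' ▸ h)) _ _
  refine ⟨insert (irrOne G) (X.erase χ), fun _ => χ, Function.update δ (irrOne G) δ₀, δ χ,
    ⟨H, fun _ => by simp [hne], fun m m' => by simpa [hY] using T.eq_iff m m', ?_, fun ψ h => ?_,
    T.sign χ hχ, fun ψ h x hx => ?_, fun m v hv y hy => ?_, fun m g hg => ?_, fun ψ h h' => ?_,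
    fun ψ h => ?_⟩, Finset.mem_insert_self _ _⟩
  · rw [Finset.card_insert_of_notMem h2, Finset.card_erase_add_one hχ, T.card_X]
  · rcases Finset.mem_insert.1 h with rfl | h
    · simpa using T.sign₀
    · rw [h3 ψ (Finset.mem_of_mem_erase h)]; exact T.sign ψ (Finset.mem_of_mem_erase h)
  · rcases Finset.mem_insert.1 h with rfl | h
    · rw [Function.update_self, ← hl, T.valY_of_card_eq he l hx]
    · rw [h3 ψ (Finset.mem_of_mem_erase h)]; exact T.valX ψ (Finset.mem_of_mem_erase h) x hx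
  · rw [T.valX χ hχ _ (H.dvd_orderOf_mul' hv hy), osum_of_card_eq H.card _ he m.2 hv]; ring
  · rw [Finset.sum_insert h2, Function.update_self, Finset.sum_congr rfl fun ψ h => by
      rw [h3 ψ (Finset.mem_of_mem_erase h)], ← T.reg l g hg, hl, ← Finset.add_sum_erase X _ hχ]
    ring
  · refine T.out ψ (fun h4 => h (Finset.mem_insert_of_mem (Finset.mem_erase.2
      ⟨fun h5 => h' l h5.symm, h4⟩))) fun m h4 => h ?_
    rw [← h4, hY]; exact Finset.mem_insert_self _ _
  · refine T.core ψ ?_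
    rcases h with h | ⟨-, rfl⟩
    · rcases Finset.mem_insert.1 h with rfl | h
      exacts [Or.inr ⟨l, hl⟩, Or.inl (Finset.mem_of_mem_erase h)]
    · exact Or.inl hχ

namespace PB
variable {ι : A →* G} {X : Finset (IrrCharacter G)} {Y : HatNe A → IrrCharacter G}
  {δ : IrrCharacter G → ℤ} {δ₀ : ℤ} (T : PB p ι X Y δ δ₀)
include T

theorem sign_one (h : irrOne G ∈ X) : δ (irrOne G) = 1 := by
  have := T.syl.nontrivial
  obtain ⟨u, hu⟩ := exists_ne (1 : A)
  have := (T.valX_range h hu).symm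
  rw [irrOne_apply] at this
  exact_mod_cast this

theorem sum_comp {R : Type*} [AddCommMonoid R] (F : IrrCharacter G → R) :
    ∑ l, F (Y l) = Nat.card (autN ι) • ∑ ψ ∈ bset (Set.range Y), F ψ := by
  classical
  have := Fintype.ofFinite (autN ι)
  rw [Finset.sum_comp F Y, Finset.smul_sum]
  refine Finset.sum_congr (Finset.ext fun χ => by simp) fun ψ hψ => ?_
  obtain ⟨l, rfl⟩ := mem_bset.1 hψ
  congr 1
  rw [Nat.card_eq_fintype_card, ← Finset.card_univ]
  refine (Finset.card_bij (fun σ _ => σ.1 • l) (fun σ _ => ?_) (fun σ _ τ _ h => ?_)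
    fun m hm => ?_).symm
  · simpa using (T.eq_iff _ _).2 ⟨σ.1, σ.2, rfl⟩
  · exact Subtype.ext (inv_injective (mulAut_eq_of_comp_eq T.syl.card l.2 fun u =>
      congrArg (fun m : HatNe A => m.1 u) h))
  · obtain ⟨σ, hσ, h⟩ := (T.eq_iff _ _).1 (Finset.mem_filter.1 hm).2
    exact ⟨⟨σ, hσ⟩, Finset.mem_univ _, h⟩

theorem card_range_mul : (bset (Set.range Y)).card * Nat.card (autN ι) = p - 1 := by
  have := T.sum_comp fun _ => (1 : ℕ)
  simp only [Finset.sum_const, smul_eq_mul, mul_one, Finset.card_univ] at this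
  rw [mul_comm, ← this, ← Nat.card_eq_fintype_card, card_hatNe, T.syl.card]

theorem disjoint : Disjoint X (bset (Set.range Y)) := Finset.disjoint_right.2 fun ψ h => by
  obtain ⟨l, rfl⟩ := mem_bset.1 h
  exact T.not_mem l

theorem sum_range_mul (F : IrrCharacter G → ℂ) {u : A} (hu : u ≠ 1) :
    ∑ ψ ∈ bset (Set.range Y), F ψ * ψ.1 (ι u) = -δ₀ * ∑ l, F (Y l) * l.1 u := by
  have := Fintype.ofFinite (autN ι)
  refine mul_left_cancel₀ (card_cast_ne_zero (G := autN ι)) ?_
  rw [← nsmul_eq_mul, ← T.sum_comp fun ψ => F ψ * ψ.1 (ι u)]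
  simp only [T.valY_range _ hu, osum_eq, Finset.mul_sum]
  rw [Finset.sum_comm, Finset.sum_congr rfl (g := fun _ => ∑ l, -δ₀ * (F (Y l) * l.1 u))
    fun σ _ => ?_]
  · simp [Finset.mul_sum]
  · refine Fintype.sum_equiv (MulAction.toPerm σ.1⁻¹) _ _ fun l => ?_
    rw [MulAction.toPerm_apply, (T.eq_iff _ l).2 ⟨_, inv_mem σ.2, rfl⟩, HatNe.smul_apply, inv_inv]
    ring

theorem sum_range_apply {u : A} (hu : u ≠ 1) : ∑ ψ ∈ bset (Set.range Y), ψ.1 (ι u) = δ₀ := by
  classical
  have := T.sum_range_mul (fun _ => 1) hu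
  simp only [one_mul] at this
  rw [this, sum_hatNe_apply, if_neg hu]; ring

/-- The principal block part of a class function on the `p`-section of `u`. -/
theorem sum_cenReg [Fintype (cenReg p ι)] {θ : G → ℂ} (hθ : IsClassFunction G θ) {u : A}
    (hu : u ≠ 1) : ∑ y : cenReg p ι, θ (ι u * y) = Nat.card (cenReg p ι) *
      (∑ χ ∈ X, ip θ χ.1 * δ χ - δ₀ * ∑ l, ip θ (Y l).1 * l.1 u) := by
  classical
  simp only [hθ.apply_eq_sum_irr (ι u * _)]
  rw [Finset.sum_comm, ← Finset.sum_subset (Finset.subset_univ (X ∪ bset (Set.range Y))),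
    Finset.sum_congr rfl (g := fun χ => Nat.card (cenReg p ι) * (ip θ χ.1 * χ.1 (ι u))),
    ← Finset.mul_sum, Finset.sum_union T.disjoint, T.sum_range_mul _ hu,
    Finset.sum_congr rfl fun χ h => by rw [T.valX_range h hu]]
  · ring
  · intro χ h
    rw [Finset.sum_congr rfl fun y _ => by rw [T.apply_mul_of_mem (by simpa using h) hu y.2]]
    simp
  · intro χ _ h
    simp only [Finset.mem_union, mem_bset, Set.mem_range, not_or, not_exists] at h
    rw [← Finset.mul_sum, ← finsum_eq_sum_of_fintype, T.out χ h.1 h.2 u hu, mul_zero]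

theorem exists_mult_of_const {θ : G → ℂ} (hθ : IsCharacter G θ) {c : ℂ}
    (h : ∀ u ≠ 1, ∀ y ∈ cenReg p ι, θ (ι u * y) = c) : ∃ m : ℕ, (∀ l, mult θ (Y l).1 = m) ∧
      c = (∑ χ ∈ X, mult θ χ.1 * δ χ + δ₀ * m : ℤ) := by
  classical
  have := Fintype.ofFinite (cenReg p ι)
  have := Fintype.ofFinite A
  have h1 : ∀ u ≠ 1, c = ∑ χ ∈ X, ip θ χ.1 * δ χ - δ₀ * ∑ l, ip θ (Y l).1 * l.1 u := fun u hu => by
    have := T.sum_cenReg hθ.isClassFunction hu
    rw [Finset.sum_congr rfl fun (y : cenReg p ι) _ => h u hu y y.2, Finset.sum_const, Finset.card_univ,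
      nsmul_eq_mul, ← Nat.card_eq_fintype_card] at this
    exact mul_left_cancel₀ card_cast_ne_zero this
  set a := ∑ χ ∈ X, ip θ χ.1 * δ χ with ha
  let k : (A →* ℂˣ) → ℂ := fun l => if hl : l = 1 then a - c else -δ₀ * ip θ (Y ⟨l, hl⟩).1
  have h2 : ∀ l : HatNe A, k l.1 = k 1 := fun l => eq_of_fourier_eq_zero k fun u => by
    by_cases hu : u = 1
    · simp [hu]
    right
    have h3 := sum_hatNe fun l => k l * l u
    rw [Finset.sum_congr rfl (g := fun l => -δ₀ * (ip θ (Y l).1 * l.1 u)) fun l _ => by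
      simp only [k, dif_neg l.2, mul_assoc]; rfl, ← Finset.mul_sum, eq_sub_iff_add_eq] at h3
    rw [← h3]
    simp only [k, dif_pos, MonoidHom.one_apply, Units.val_one]
    linear_combination -h1 u hu
  have h4 : ∀ l : HatNe A, c = a + δ₀ * mult θ (Y l).1 := fun l => by
    have := h2 l
    simp only [k, dif_neg l.2, dif_pos] at this
    replace this : -δ₀ * ip θ (Y l).1 = a - c := this
    rw [← hθ.ip_eq_mult (irr_isCharacter _)]
    linear_combination this
  have := T.syl.nontrivial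
  obtain ⟨l₀⟩ : Nonempty (HatNe A) := by
    rw [← Finite.card_pos_iff, card_hatNe, T.syl.card]; have := hp.out.two_le; omega
  refine ⟨mult θ (Y l₀).1, fun l => ?_, ?_⟩
  · exact_mod_cast mul_left_cancel₀ T.sign₀_ne_zero (add_left_cancel ((h4 l).symm.trans (h4 l₀)))
  · rw [h4 l₀, ha]
    push_cast
    simp only [hθ.ip_eq_mult (irr_isCharacter _)]

theorem sum_X [Fintype A] {χ : IrrCharacter G} (hχ : χ ∈ X) :
    ∑ u, χ.1 (ι u) = charDegree χ.1 + (p - 1) * δ χ := by
  classical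
  rw [Fintype.sum_eq_add_sum_subtype_ne _ 1, map_one, irr_apply_one,
    Finset.sum_congr rfl fun u _ => T.valX_range hχ u.2]
  simp [← T.syl.card, Nat.cast_sub Fintype.card_pos]

theorem sum_Y [Fintype A] (l : HatNe A) :
    ∑ u, (Y l).1 (ι u) = charDegree (Y l).1 + δ₀ * Nat.card (autN ι) := by
  classical
  have h := sum_osum_eq_zero T.syl.card (autN ι) l.2
  rw [Fintype.sum_eq_add_sum_subtype_ne _ 1, osum_one] at h
  rw [Fintype.sum_eq_add_sum_subtype_ne _ 1, map_one, irr_apply_one,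
    Finset.sum_congr rfl fun u _ => T.valY_range l u.2, ← Finset.mul_sum,
    eq_neg_of_add_eq_zero_right h]
  ring

theorem exists_fix_X {χ : IrrCharacter G} (hχ : χ ∈ X) :
    ∃ f : ℕ, (charDegree χ.1 : ℤ) + (p - 1) * δ χ = p * f := by
  have := Fintype.ofFinite A
  obtain ⟨f, hf⟩ := (irr_isCharacter χ).exists_nat_sum ι
  rw [T.sum_X hχ, T.syl.card] at hf
  exact ⟨f, by exact_mod_cast hf⟩

theorem exists_fix_Y (l : HatNe A) :
    ∃ f : ℕ, (charDegree (Y l).1 : ℤ) + δ₀ * Nat.card (autN ι) = p * f := by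
  have := Fintype.ofFinite A
  obtain ⟨f, hf⟩ := (irr_isCharacter (Y l)).exists_nat_sum ι
  rw [T.sum_Y l, T.syl.card] at hf
  exact ⟨f, by exact_mod_cast hf⟩

theorem degree_rel (l : HatNe A) :
    δ₀ * charDegree (Y l).1 + ∑ χ ∈ X, δ χ * charDegree χ.1 = 0 := by
  have := T.reg l 1 not_dvd_orderOf_one
  simp only [irr_apply_one] at this
  exact_mod_cast this

theorem cenReg_le_ker [Fintype A] {χ : IrrCharacter G} (hχ : χ ∈ X ∨ ∃ l, Y l = χ)
    (h : ∑ u, χ.1 (ι u) = 0) : cenReg p ι ≤ ker χ.1 := fun y hy => by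
  classical
  have h1 := (irr_isCharacter χ).sum_coset_eq_zero ι h y
  rw [Fintype.sum_eq_add_sum_subtype_ne _ 1] at h h1
  rw [Finset.sum_congr rfl fun u _ => T.apply_mul_of_mem hχ u.2 hy] at h1
  rw [irr_mem_ker_iff]
  simpa using add_right_cancel (h1.trans h.symm)

theorem mem_of_sum_ne_zero [Fintype A] [Fintype (cenReg p ι)] {χ : IrrCharacter G}
    (h : ∑ u, χ.1 (ι u) = 0) (h' : ∑ y : cenReg p ι, χ.1 y ≠ 0) : χ ∈ X ∨ ∃ l, Y l = χ := by
  classical
  by_contra h1
  push Not at h1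
  refine h' ?_
  have h2 : ∑ y : cenReg p ι, ∑ u, χ.1 (ι u * y) = 0 :=
    Finset.sum_eq_zero fun y _ => (irr_isCharacter χ).sum_coset_eq_zero ι h y
  rw [Finset.sum_comm, Fintype.sum_eq_add_sum_subtype_ne _ 1,
    Finset.sum_eq_zero fun (u : {v : A // v ≠ 1}) _ => by
    rw [← finsum_eq_sum_of_fintype, T.out χ h1.1 h1.2 u.1 u.2]] at h2
  simpa using h2

theorem apply_eq_zero_of_le_ker {χ : IrrCharacter G} (h : cenReg p ι ≤ ker χ.1) (h1 : χ ∉ X)
    (h2 : ∀ l, Y l ≠ χ) {u : A} (hu : u ≠ 1) : χ.1 (ι u) = 0 := by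
  by_contra h0
  rcases T.mem_of_apply hu h0 fun y hy => (irr_isClassFunction χ).apply_mul_of_mem_ker (h hy) _
    with h | ⟨l, h⟩
  exacts [h1 h, h2 l h]

end PB

/-- Summing a class function over the `p`-singular elements. -/
theorem PrimeSyl.sum_singular {ι : A →* G} (H : PrimeSyl p ι) [Fintype G] [Fintype A]
    [DecidableEq A] [Fintype (cenReg p ι)] {F : G → ℂ} (hF : IsClassFunction G F) :
    ∑ g with p ∣ orderOf g, F g = (Subgroup.normalizer (ι.range : Set G)).index *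
      ∑ u with u ≠ 1, ∑ y : cenReg p ι, F (ι u * y) := by
  classical
  set C := Subgroup.centralizer (ι.range : Set G) with hC
  have hCN : C ≤ _ := Subgroup.centralizer_le_normalizer (ι.range : Set G)
  let φ : C → ℂ := fun w => if p ∣ orderOf w then 1 else 0
  have h1 := sum_indHom_mul C.subtype φ hF
  rw [← ind_eq_indHom, Finset.sum_congr rfl (g := fun g => if p ∣ orderOf g then
    (C.relIndex (Subgroup.normalizer (ι.range : Set G)) : ℂ) * F g else 0) fun g _ => ?_,
    ← Finset.sum_filter, ← Finset.mul_sum, ← C.card_mul_index, ← Subgroup.relIndex_mul_index hCN]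
    at h1
  · have h2 : ∑ w : C, φ w * F (C.subtype w) = ∑ u with u ≠ 1, ∑ y : cenReg p ι, F (ι u * y) := by
      rw [← Finset.sum_product', Finset.sum_congr rfl (g := fun w : C =>
        if p ∣ orderOf w then F w else 0) fun w _ => by simp [φ], ← Finset.sum_filter]
      refine (Finset.sum_bij (fun a _ => ⟨ι a.1 * a.2, mul_mem (range_le_centralizer ι ⟨_, rfl⟩)
        (H.mem_cenReg.1 a.2.2).1⟩) (fun a ha => ?_) (fun a _ b _ h => ?_) (fun w hw => ?_)
        fun _ _ => rfl).symm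
      · simp only [Finset.mem_filter, Finset.mem_univ, true_and, Subgroup.orderOf_mk]
        exact H.dvd_orderOf_mul' (by simpa using ha) a.2.2
      · have h3 : ∀ a : A × cenReg p ι, pPart p (ι a.1 * a.2) = ι a.1 := fun a =>
          pPart_mul_eq (Subgroup.mem_centralizer_iff.1 (H.mem_cenReg.1 a.2.2).1 _ ⟨_, rfl⟩)
            (isPElt_of_mem H.syl.isPGroup ⟨_, rfl⟩) (H.mem_cenReg.1 a.2.2).2
        have h4 : ι a.1 * a.2 = ι b.1 * b.2 := congrArg Subtype.val h
        have h5 : ι a.1 = ι b.1 := by rw [← h3, h4, h3]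
        exact Prod.ext (H.inj h5) (Subtype.ext (mul_left_cancel (h5 ▸ h4)))
      · obtain ⟨u, y, hy, h⟩ := H.exists_eq_mul w.2
        refine ⟨(u, ⟨y, hy⟩), ?_, Subtype.ext h.symm⟩
        simp only [Finset.mem_product, Finset.mem_filter, Finset.mem_univ, true_and, and_true]
        rintro rfl
        refine (H.mem_cenReg.1 hy).2 ?_
        have := (Finset.mem_filter.1 hw).2
        rwa [← Subgroup.orderOf_coe, h, map_one, one_mul] at this
    rw [h2] at h1
    refine mul_left_cancel₀ (Nat.cast_ne_zero.2 (Subgroup.FiniteIndex.index_ne_zero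
      (H := C.subgroupOf (Subgroup.normalizer (ι.range : Set G))))) (h1.trans ?_)
    have := card_cast_ne_zero (G := C)
    rw [Subgroup.relIndex]
    push_cast
    field_simp
  · split_ifs with hg
    · obtain ⟨x, hx⟩ := H.exists_conj_mem hg
      rw [← isClassFunction_ind C φ g x, H.ind_apply_of_const hC φ (by rwa [orderOf_conj']) hx
        (a := 1) fun n _ w hw => if_pos ?_, mul_one]
      rw [← Subgroup.orderOf_coe, hw, ← orderOf_conj' _ n]
      rw [← orderOf_conj' g x] at hg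
      simpa [mul_assoc] using hg
    · rw [ind_apply_eq_zero' fun k hk => if_neg (by
        rwa [← Subgroup.orderOf_coe, ← orderOf_eq_of_isConj hk]), zero_mul]

end FEcp.BT
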