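import Cfsg.Agent.Lib.Block.FE1PB
import Cfsg.Agent.Lib.Lin.Average

/-!
# Characters of small degree when `p` divides `|G|` exactly once (Brauer)
-/

set_option autoImplicit false
set_option linter.unusedSectionVars false

namespace FEcp
end FEcp

open FEcp

namespace FEcp.BT

open _root_.BT

open Cfsg CT GT
open scoped MonoidAlgebra ComplexConjugate Pointwise commutatorElement

variable {p : ℕ} [hp : Fact p.Prime]
variable {G : Type*} [Group G] [Finite G]
variable {A : Type*} [CommGroup A] [Finite A]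

theorem center_of_forall_constituent {χ : G → ℂ} (hχ : IsCharacter G χ) (hk : ker χ = ⊥) {z : G}
    (h : ∀ ψ : IrrCharacter G, ip χ ψ.1 ≠ 0 → z ∈ center ψ.1) : z ∈ Subgroup.center G := by
  rw [Subgroup.mem_center_iff]
  intro g
  have : ⁅z, g⁆ ∈ ker χ := hχ.mem_ker_iff_forall_irr.2 fun ψ hψ =>
    (irr_mem_center_iff_commutator ψ).1 (h ψ hψ) g
  rw [hk, Subgroup.mem_bot, commutatorElement_eq_one_iff_mul_comm] at this
  exact this.symm

/-- The data of an exceptional character without fixed vectors for `P`. -/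
structure ExcFree (p : ℕ) (ι : A →* G) (ζ : IrrCharacter G) (s : ℕ)
    (Z : HatNe A → IrrCharacter G) (l : HatNe A) : Prop where
  pos : 0 < s
  eq : Z l = ζ
  reg : ∀ m g, ¬ p ∣ orderOf g → (Z m).1 g = ζ.1 g
  val : ∀ m u, (Z m).1 (ι u) = s * osum (autN ι) m.1 u

theorem ExcFree.degree {ι : A →* G} {ζ : IrrCharacter G} {s : ℕ} {Z : HatNe A → IrrCharacter G}
    {l : HatNe A} (F : ExcFree p ι ζ s Z l) : charDegree ζ.1 = s * Nat.card (autN ι) := by
  have := F.val l 1
  rw [map_one, osum_one, F.eq, irr_apply_one] at this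
  exact_mod_cast this

namespace PrimeSyl
open _root_.BT.PrimeSyl
variable {ι : A →* G} (H : PrimeSyl p ι)
include H

theorem sub {L : Subgroup G} (hD : ι.range ≤ L) : PrimeSyl p (subHom ι hD) :=
  ⟨fun _ _ h => H.inj (congrArg Subtype.val h), H.card, by
    rw [range_subHom, isSylowIn_subgroupOf_top_iff hD]; exact H.syl.of_le hD le_top⟩

theorem range_le_ker_of_const {θ : G → ℂ} (hθ : IsCharacter G θ) (hd : charDegree θ + 1 < p) {c : ℂ}
    (h : ∀ u ≠ 1, θ (ι u) = c) : ι.range ≤ ker θ := by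
  classical
  have := Fintype.ofFinite A
  obtain ⟨k, -, hk, hs⟩ := hθ.exists_hat_mult ι
  have h1 : ∀ m : HatNe A, (p : ℂ) * k m.1 = θ 1 - c := fun m => by
    have h4 := sum_apply_mul_conj_hat 1 m.1
    rw [if_neg m.2.symm, Fintype.sum_eq_add_sum_subtype_ne _ 1] at h4
    rw [← H.card, ← hk, Fintype.sum_eq_add_sum_subtype_ne _ 1, Finset.sum_congr rfl
      fun (u : {v : A // v ≠ 1}) _ => by rw [h u.1 u.2], ← Finset.mul_sum]
    simp only [MonoidHom.one_apply, Units.val_one, one_mul, map_one] at h4 ⊢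
    rw [eq_neg_of_add_eq_zero_right h4]; ring
  by_cases h0 : θ 1 = c
  · rintro _ ⟨u, rfl⟩
    rw [hθ.mem_ker_iff]
    by_cases hu : u = 1
    · rw [hu, map_one]
    · rw [h u hu, h0]
  have h2 : ∑ m : HatNe A, 1 ≤ ∑ m : HatNe A, k m.1 := Finset.sum_le_sum fun m _ =>
    Nat.pos_of_ne_zero fun h3 => h0 (by
      have := h1 m
      rw [h3, Nat.cast_zero, mul_zero] at this
      exact (sub_eq_zero.1 this.symm))
  have h3 : ∑ m : HatNe A, k m.1 ≤ ∑ m, k m := by
    have := sum_hatNe fun m => (k m : ℤ)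
    have h4 : (∑ m : HatNe A, k m.1 : ℤ) ≤ ∑ m, k m := by rw [this]; simp
    exact_mod_cast h4
  rw [Finset.sum_const, Finset.card_univ, ← Nat.card_eq_fintype_card, card_hatNe, H.card,
    smul_eq_mul] at h2
  omega

theorem exists_small (ζ : IrrCharacter G) (hd : charDegree ζ.1 + 1 < p) :
    ι.range ≤ ker ζ.1 ∨ (∃ s Z l, ExcFree p ι ζ s Z l) ∨
      (p ≤ charDegree ζ.1 + Nat.card (autN ι) ∧ Nat.card (autN ι) < p - 1) := by
  classical
  have := Fintype.ofFinite A
  have := Fintype.ofFinite (autN ι)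
  have hpos := irr_degree_pos ζ
  rcases H.exists_exc ζ (Nat.not_dvd_of_pos_of_lt hpos (by omega)) with
    ⟨c, h⟩ | ⟨ε, s, Z, l, hε, hs, rfl, hreg, hval⟩
  · exact Or.inl (H.range_le_ker_of_const (irr_isCharacter ζ) hd h)
  by_cases he : Nat.card (autN ι) = p - 1
  · exact Or.inl (H.range_le_ker_of_const (irr_isCharacter _) hd fun u hu => by
      rw [hval l u hu, osum_of_card_eq H.card _ he l.2 hu])
  right
  obtain ⟨k, -, hk, hsum⟩ := (irr_isCharacter (Z l)).exists_hat_mult ι
  have h1 : ∀ m, ¬ (∃ σ ∈ autN ι, l.1.comp σ.toMonoidHom = m) →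
      (p : ℤ) * k m = charDegree (Z l).1 - ε * s * Nat.card (autN ι) := fun m hm => by
    have h2 := sum_osum_mul_conj H.card (autN ι) l.2 m
    rw [if_neg hm, Fintype.sum_eq_add_sum_subtype_ne _ 1, osum_one] at h2
    have h3 := hk m
    rw [H.card, Fintype.sum_eq_add_sum_subtype_ne _ 1, Finset.sum_congr rfl
      fun (u : {v : A // v ≠ 1}) _ => by rw [hval l u.1 u.2, mul_assoc], ← Finset.mul_sum,
      eq_neg_of_add_eq_zero_right h2] at h3
    simp only [map_one, Units.val_one, mul_one, irr_apply_one] at h3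
    have : (p : ℂ) * k m = charDegree (Z l).1 - ε * s * Nat.card (autN ι) := by rw [← h3]; ring
    exact_mod_cast this
  have h0 : ¬ ∃ σ ∈ autN ι, l.1.comp σ.toMonoidHom = 1 := by
    rintro ⟨σ, -, h⟩
    exact l.2 (MonoidHom.ext fun u => by simpa using DFunLike.congr_fun h (σ⁻¹ u))
  by_cases hk1 : k 1 = 0
  · have h2 := h1 1 h0
    rw [hk1, Nat.cast_zero, mul_zero, eq_comm, sub_eq_zero] at h2
    obtain rfl : ε = 1 := hε.resolve_right (by
      rintro rfl
      have : (0 : ℤ) ≤ s * Nat.card (autN ι) := by positivity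
      rw [mul_assoc] at h2
      omega)
    refine Or.inl ⟨s, Z, l, hs, rfl, hreg, fun m u => ?_⟩
    by_cases hu : u = 1
    · rw [hu, map_one, hreg m 1 not_dvd_orderOf_one, osum_one, irr_apply_one]
      rw [one_mul] at h2
      exact_mod_cast h2
    · simpa using hval m u hu
  refine Or.inr ⟨?_, lt_of_le_of_ne (Nat.le_of_dvd (by have := hp.out.two_le; omega)
    H.card_autN_dvd) he⟩
  let S : Finset (A →* ℂˣ) := Finset.univ.image fun σ : autN ι => l.1.comp σ.1.toMonoidHom
  have h2 : S.card ≤ Nat.card (autN ι) := Finset.card_image_le.trans (by simp)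
  have h3 : ∑ m ∈ Sᶜ, 1 ≤ ∑ m, k m := le_trans (Finset.sum_le_sum fun m hm => by
    have := (h1 m fun ⟨σ, hσ, h⟩ => Finset.mem_compl.1 hm
      (Finset.mem_image.2 ⟨⟨σ, hσ⟩, Finset.mem_univ _, h⟩)).trans (h1 1 h0).symm
    have h4 : k m = k 1 := by
      exact_mod_cast mul_left_cancel₀ (Int.natCast_ne_zero.2 hp.out.ne_zero) this
    omega) (Finset.sum_le_sum_of_subset (Finset.subset_univ _))
  rw [Finset.sum_const, Finset.card_compl, card_hat, H.card, smul_eq_mul] at h3
  omega

theorem two_mul_card_autN_le (h : Nat.card (autN ι) < p - 1) : 2 * Nat.card (autN ι) + 1 ≤ p := by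
  obtain ⟨t, ht⟩ := H.card_autN_dvd
  obtain rfl | rfl | h2 : t = 0 ∨ t = 1 ∨ 2 ≤ t := by omega
  · omega
  · omega
  · have : Nat.card (autN ι) * 2 ≤ Nat.card (autN ι) * t := Nat.mul_le_mul_left _ h2
    omega

theorem range_le_center_of_card_eq_one (he : Nat.card (autN ι) = 1) (ζ : IrrCharacter G)
    (hd : charDegree ζ.1 + 1 < p) : ι.range ≤ center ζ.1 := by
  rcases H.exists_small ζ hd with h | ⟨s, Z, l, F⟩ | h
  · exact h.trans (ker_le_center _)
  · rintro _ ⟨u, rfl⟩
    have := Fintype.ofFinite (autN ι)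
    have h1 : Unique (autN ι) := (Nat.card_eq_one_iff_unique.1 he).elim fun h h' =>
      @uniqueOfSubsingleton _ h h'.some
    rw [irr_mem_center_iff, F.degree, he, ← F.eq, F.val, osum_eq, Fintype.sum_unique, norm_mul]
    have := monoidHom_norm_eq_one ((Units.coeHom ℂ).comp l.1) ((default : autN ι).1 u)
    simp only [MonoidHom.comp_apply, Units.coeHom_apply] at this
    simp [this]
  · omega

theorem le_centralizer_of_faithful {χ : G → ℂ} (hχ : IsCharacter G χ) (hk : ker χ = ⊥)
    (hd : charDegree χ + 1 < p) {K : Subgroup G} [K.Normal] (hK : ¬ p ∣ Nat.card K) :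
    K ≤ Subgroup.centralizer (ι.range : Set G) := by
  have hD : ι.range ≤ K ⊔ ι.range := le_sup_right
  have H' := H.sub hD
  have h1 : K ⊓ Subgroup.normalizer (ι.range : Set G) ≤ Subgroup.centralizer (ι.range : Set G) :=
    commute_of_normal_of_disjoint' (fun x hx => Subgroup.inf_normalizer_le_normalizer_inf
      ⟨Subgroup.le_normalizer_of_normal (Subgroup.mem_top x), Subgroup.le_normalizer
        (Subgroup.le_normalizer hx)⟩) inf_le_right
      ((disjoint_of_isPGroup_of_not_dvd H.syl.isPGroup hK).symm.mono_left inf_le_left)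
  have he : Nat.card (autN (subHom ι hD)) = 1 := by
    rw [Subgroup.card_eq_one, eq_bot_iff]
    rintro σ ⟨t, ht, h⟩
    rw [range_subHom] at ht
    have ht' : (t : G) ∈ Subgroup.normalizer (ι.range : Set G) :=
      mem_normalizer_of_conj_mem (by
        rintro _ ⟨u, rfl⟩
        exact ⟨σ u, congrArg Subtype.val (h u)⟩)
    obtain ⟨k, hk, y, hy, h2⟩ := (mem_sup_of_le_normalizer_left
      Subgroup.le_normalizer_of_normal).1 t.2
    have h3 : (t : G) ∈ Subgroup.centralizer (ι.range : Set G) := by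
      rw [← h2]
      refine mul_mem (h1 ⟨hk, ?_⟩) (range_le_centralizer ι hy)
      rw [eq_mul_inv_of_mul_eq h2]
      exact mul_mem ht' (Subgroup.le_normalizer (inv_mem hy))
    refine MulEquiv.ext fun u => H.inj ?_
    have h4 : ι (σ u) = t * ι u * (t : G)⁻¹ := congrArg Subtype.val (h u)
    rw [h4, ← Subgroup.mem_centralizer_iff.1 h3 _ ⟨u, rfl⟩]
    simp
  intro k hk'
  rw [Subgroup.mem_centralizer_iff]
  rintro _ ⟨u, rfl⟩
  have := center_of_forall_constituent (hχ.res (K ⊔ ι.range)) (by rw [hχ.ker_res, hk]; simp)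
    (z := subHom ι hD u) fun ψ hψ => H'.range_le_center_of_card_eq_one he ψ
      (lt_of_le_of_lt (Nat.succ_le_succ ((hχ.res _).degree_le_of_ip_ne_zero ψ hψ)) hd) ⟨u, rfl⟩
  exact (congrArg Subtype.val (Subgroup.mem_center_iff.1 this ⟨k, Subgroup.mem_sup_left hk'⟩)).symm

theorem cenReg_le_pPrimeCore {ζ : IrrCharacter G} {s : ℕ} {Z : HatNe A → IrrCharacter G}
    {l : HatNe A} (F : ExcFree p ι ζ s Z l) (he : Nat.card (autN ι) < p - 1) :
    cenReg p ι ≤ pPrimeCore p G := by
  classical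
  have := Fintype.ofFinite A
  have := Fintype.ofFinite (cenReg p ι)
  obtain ⟨X, Y, δ, δ₀, T, -⟩ := H.exists_pb
  obtain ⟨m, hm⟩ := exists_not_orbit H.card (autN ι) he l.1
  have hΘ := (irr_isCharacter (Z l)).mul (irr_isCharacter (Z m)).cbar
  have h1 : ∑ u, ((Z l).1 * cbar (Z m).1) (ι u) = 0 := by
    have := sum_osum_mul_conj_osum H.card (autN ι) l.2 m.1
    rw [if_neg hm] at this
    simp only [Pi.mul_apply, cbar_apply, F.val, map_mul, Complex.conj_natCast]
    rw [Finset.sum_congr rfl fun u _ => mul_mul_mul_comm _ _ _ _, ← Finset.mul_sum, this, mul_zero]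
  have h2 : ∑ y : cenReg p ι, ((Z l).1 * cbar (Z m).1) y ≠ 0 := by
    rw [Finset.sum_congr rfl (g := fun y : cenReg p ι => ((‖ζ.1 y‖ ^ 2 : ℝ) : ℂ)) fun y _ => by
      rw [Pi.mul_apply, cbar_apply, F.reg l y (H.mem_cenReg.1 y.2).2,
        F.reg m y (H.mem_cenReg.1 y.2).2, Complex.mul_conj']; simp]
    rw [← Complex.ofReal_sum, Complex.ofReal_ne_zero]
    refine (Finset.sum_pos' (fun _ _ => by positivity) ⟨1, Finset.mem_univ _, ?_⟩).ne'
    have := irr_apply_one_ne_zero ζ
    positivity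
  obtain ⟨α, h3, h4⟩ : ∃ α : IrrCharacter G, ip ((Z l).1 * cbar (Z m).1) α.1 ≠ 0 ∧
      ∑ y : cenReg p ι, α.1 y ≠ 0 := by
    by_contra h
    push Not at h
    refine h2 ?_
    simp only [hΘ.isClassFunction.apply_eq_sum_irr (_ : cenReg p ι)]
    rw [Finset.sum_comm]
    refine Finset.sum_eq_zero fun α _ => ?_
    rw [← Finset.mul_sum]
    by_cases h5 : ip ((Z l).1 * cbar (Z m).1) α.1 = 0
    · rw [h5, zero_mul]
    · rw [h α h5, mul_zero]
  have h5 := hΘ.sum_eq_zero_of_ip_ne_zero ι h1 h3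
  refine (T.cenReg_le_ker (T.mem_of_sum_ne_zero h5 h4) h5).trans
    (le_pPrimeCore' (H.not_dvd_card_of_normal fun h => ?_))
  rw [Finset.sum_congr rfl fun u _ => (irr_mem_ker_iff α).1 (h ⟨u, rfl⟩)] at h5
  simp [irr_apply_one_ne_zero] at h5

variable (hno : ∀ K : Subgroup G, K.Normal → ι.range ≤ K → K = ⊤)
include hno

theorem fix_mul_lt (he : 2 * Nat.card (autN ι) + 1 < p) [Fintype A] {α : IrrCharacter G}
    (h1 : α ≠ irrOne G) (hV : cenReg p ι ≤ ker α.1) {f : ℕ} (hf : ∑ u, α.1 (ι u) = p * f) :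
    f * (Nat.card (autN ι) + 1) < charDegree α.1 := by
  classical
  obtain ⟨X, Y, δ, δ₀, T, -⟩ := H.exists_pb
  have hpos := irr_degree_pos α
  have he0 := H.card_autN_pos
  set e := Nat.card (autN ι)
  by_cases hX : α ∈ X
  · have h2 : (charDegree α.1 : ℤ) + (p - 1) * δ α = p * f := by
      rw [T.sum_X hX] at hf; exact_mod_cast hf
    rcases T.sign α hX with h | h <;> rw [h] at h2
    · have h3 : 2 ≤ f := by
        by_contra h3
        obtain rfl | rfl : f = 0 ∨ f = 1 := by omega
        · omega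
        refine h1 ((irr_ker_eq_top_iff α).1 (hno _ inferInstance ?_))
        rintro _ ⟨u, rfl⟩
        rw [irr_mem_ker_iff]
        by_cases hu : u = 1
        · rw [hu, map_one]
        · rw [T.valX_range hX hu, h, irr_apply_one, show charDegree α.1 = 1 by omega]; simp
      nlinarith
    · nlinarith
  by_cases hY : ∃ l, Y l = α
  · obtain ⟨l, rfl⟩ := hY
    have h2 : (charDegree (Y l).1 : ℤ) + δ₀ * e = p * f := by
      rw [T.sum_Y l] at hf; exact_mod_cast hf
    rcases T.sign₀ with h | h <;> rw [h] at h2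
    · have h3 : 1 ≤ f := by
        by_contra h3
        obtain rfl : f = 0 := by omega
        omega
      nlinarith
    · nlinarith
  · push Not at hY
    rw [H.sum_eq fun u hu => T.apply_eq_zero_of_le_ker hV hX hY hu, map_one, irr_apply_one,
      mul_zero, add_zero] at hf
    have h2 : charDegree α.1 = p * f := by exact_mod_cast hf
    have h3 : 0 < f := Nat.pos_of_ne_zero fun h => by simp [h] at h2; omega
    nlinarith

theorem degree_eq_one_of_excFree {ζ : IrrCharacter G} {s : ℕ} {Z : HatNe A → IrrCharacter G}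
    {l : HatNe A} (F : ExcFree p ι ζ s Z l) (he : 2 * Nat.card (autN ι) + 1 < p)
    (hV : cenReg p ι ≤ Subgroup.center G) : charDegree ζ.1 = 1 := by
  classical
  have := Fintype.ofFinite A
  have hΘ := (irr_isCharacter ζ).mul (irr_isCharacter ζ).cbar
  set Θ := ζ.1 * cbar ζ.1 with hΘd
  set e := Nat.card (autN ι) with hedef
  have hV' : cenReg p ι ≤ ker Θ := fun y hy => by
    rw [hΘ.mem_ker_iff, hΘd, Pi.mul_apply, Pi.mul_apply, cbar_apply, cbar_apply, Complex.mul_conj',
      Complex.mul_conj', (irr_mem_center_iff ζ).1 (center_le_irr_center ζ (hV hy)),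
      (irr_isCharacter ζ).norm_apply_one]
  choose f hf using fun α : IrrCharacter G => (irr_isCharacter α).exists_nat_sum ι
  rw [H.card] at hf
  have h1 : ∑ α : IrrCharacter G, mult Θ α.1 * f α = s * s * e := by
    have h2 := sum_osum_mul_conj_osum H.card (autN ι) l.2 l.1
    rw [if_pos ⟨1, one_mem _, rfl⟩] at h2
    have h3 : ∑ u, Θ (ι u) = p * (s * s * e) := by
      simp only [hΘd, Pi.mul_apply, cbar_apply, ← F.eq, F.val, map_mul, Complex.conj_natCast]
      rw [Finset.sum_congr rfl fun u _ => mul_mul_mul_comm _ _ _ _, ← Finset.mul_sum, h2]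
      ring
    have h4 : ∑ u, Θ (ι u) = p * ∑ α : IrrCharacter G, (mult Θ α.1 * f α : ℂ) := by
      simp only [hΘ.isClassFunction.apply_eq_sum_irr (ι _)]
      rw [Finset.sum_comm, Finset.mul_sum]
      refine Finset.sum_congr rfl fun α _ => ?_
      rw [← Finset.mul_sum, hf, hΘ.ip_eq_mult (irr_isCharacter α)]; ring
    exact_mod_cast mul_left_cancel₀ (Nat.cast_ne_zero.2 hp.out.ne_zero) (h4.symm.trans h3)
  have h2 : ∑ α : IrrCharacter G, mult Θ α.1 * charDegree α.1 = s * e * (s * e) := by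
    rw [← hΘ.degree_eq_sum_mult, ← F.degree]
    refine charDegree_eq_of_apply_one ?_
    simp [hΘd, irr_apply_one]
  have hm : mult Θ (irrOne G).1 = 1 := mult_eq_of_ip_eq (by
    rw [hΘd, ip_mul_left]
    convert ip_irr_self ζ using 2
    · ext g; simp
    · simp)
  have hf1 : f (irrOne G) = 1 := by
    have := hf (irrOne G)
    simp only [irrOne_apply, Finset.sum_const, Finset.card_univ, ← Nat.card_eq_fintype_card,
      H.card, nsmul_eq_mul] at this
    exact_mod_cast (mul_left_cancel₀ (Nat.cast_ne_zero.2 hp.out.ne_zero) this).symm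
  have hd1 : charDegree (irrOne G).1 = 1 := charDegree_eq_of_apply_one (by simp)
  have h3 : ∀ α ∈ Finset.univ.erase (irrOne G),
      mult Θ α.1 * f α * (e + 1) + mult Θ α.1 ≤ mult Θ α.1 * charDegree α.1 := fun α hα => by
    rcases Nat.eq_zero_or_pos (mult Θ α.1) with h | h
    · simp [h]
    have := H.fix_mul_lt hno he (Finset.ne_of_mem_erase hα) (hV'.trans
      (hΘ.ker_le_of_ip_ne_zero α ((hΘ.mult_pos_iff (irr_isCharacter α)).1 h))) (hf α)
    nlinarith
  have h4 := Finset.sum_le_sum h3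
  rw [Finset.sum_add_distrib, ← Finset.sum_mul] at h4
  rw [← Finset.add_sum_erase _ _ (Finset.mem_univ (irrOne G)), hm] at h1 h2
  rw [hf1] at h1
  rw [hd1] at h2
  have hs := F.pos
  have he0 := H.card_autN_pos
  have h5 : ∑ α ∈ Finset.univ.erase (irrOne G), mult Θ α.1 = 0 := by
    have : e ≤ s * s * e := Nat.le_mul_of_pos_left _ (by positivity)
    have h6 := congrArg (· * (e + 1)) h1
    simp only [add_mul] at h6
    have h7 : s * s * e * (e + 1) = s * e * (s * e) + s * s * e := by ring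
    omega
  rw [Finset.sum_eq_zero fun α hα => by rw [Finset.sum_eq_zero_iff.1 h5 α hα, zero_mul]] at h2
  rw [F.degree]
  exact Nat.eq_one_of_mul_eq_one_left h2.symm

/-- Brauer's bound for groups generated by their Sylow `p`-subgroups. -/
theorem range_le_center_or (hc : pPrimeCore p G ≤ Subgroup.centralizer (ι.range : Set G))
    (ζ : IrrCharacter G) (hd : 2 * charDegree ζ.1 + 1 ≤ p) : ι.range ≤ center ζ.1 ∨
      (2 * charDegree ζ.1 + 1 = p ∧ charDegree ζ.1 = Nat.card (autN ι) ∧
        cenReg p ι ≤ Subgroup.center G) := by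
  have hpos := irr_degree_pos ζ
  have h0 : charDegree ζ.1 = 1 → ι.range ≤ center ζ.1 := fun h g _ => by
    rw [irr_mem_center_iff, (irr_isCharacter ζ).norm_eq_one_of_degree_one h, h, Nat.cast_one]
  by_cases h1 : charDegree ζ.1 = 1
  · exact Or.inl (h0 h1)
  rcases H.exists_small ζ (by omega) with h | ⟨s, Z, l, F⟩ | h
  · exact Or.inl (h.trans (ker_le_center _))
  · have h2 := F.degree
    have hs := F.pos
    have he : Nat.card (autN ι) ≤ charDegree ζ.1 := h2 ▸ Nat.le_mul_of_pos_left _ hs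
    have hV : cenReg p ι ≤ Subgroup.center G := (H.cenReg_le_pPrimeCore F (by omega)).trans
      (Subgroup.centralizer_eq_top_iff_subset.1 (hno _ inferInstance
        (Subgroup.le_centralizer_iff.1 hc)))
    by_cases h3 : 2 * Nat.card (autN ι) + 1 < p
    · exact absurd (H.degree_eq_one_of_excFree hno F h3 hV) h1
    · exact Or.inr ⟨by omega, by omega, hV⟩
  · have := H.two_mul_card_autN_le h.2
    omega

omit hno in
theorem residual_no : ∀ K : Subgroup (pPrimeResidual p G), K.Normal →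
    (subHom ι (le_pPrimeResidual_of_isPGroup H.syl.isPGroup)).range ≤ K → K = ⊤ := fun K hK h =>
  pPrimeResidual_eq_top_iff.1 pPrimeResidual_pPrimeResidual K hK (by
    simpa using (H.sub (le_pPrimeResidual_of_isPGroup H.syl.isPGroup)).syl.not_dvd_relIndex_of_le h)

omit hno in
theorem autN_sub_le {L : Subgroup G} (hD : ι.range ≤ L) : autN (subHom ι hD) ≤ autN ι := by
  rintro σ ⟨t, -, h⟩
  refine ⟨t, mem_normalizer_of_conj_mem ?_, fun u => congrArg Subtype.val (h u)⟩
  rintro _ ⟨u, rfl⟩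
  exact ⟨σ u, congrArg Subtype.val (h u)⟩

omit hno in
/-- Brauer's theorem on faithful characters of degree at most `(p - 1) / 2`. -/
theorem faithful_small {χ : G → ℂ} (hχ : IsCharacter G χ) (hk : ker χ = ⊥)
    (hd : 2 * charDegree χ + 1 ≤ p) (hnn : ¬ ι.range.Normal) :
    2 * charDegree χ + 1 = p ∧ Nat.card (autN ι) = charDegree χ ∧ 2 ≤ charDegree χ ∧
      IsIrrCharacter G χ ∧ cenReg p ι ≤ Subgroup.center G ∧
      pPrimeResidual p G ⊔ Subgroup.center G = ⊤ := by
  have hD : ι.range ≤ pPrimeResidual p G := le_pPrimeResidual_of_isPGroup H.syl.isPGroup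
  set L := pPrimeResidual p G with hL
  have H' := H.sub hD
  have h2 : 2 ≤ charDegree χ := by
    by_contra h
    refine hnn ⟨fun x hx g => ?_⟩
    have : x ∈ center χ := by
      obtain h | h : charDegree χ = 0 ∨ charDegree χ = 1 := by omega
      · rw [hχ.mem_center_iff, h, hχ.eq_zero_of_degree_eq_zero h]; simp
      · rw [hχ.mem_center_iff, hχ.norm_eq_one_of_degree_one h, h, Nat.cast_one]
    rwa [Subgroup.mem_center_iff.1 (hχ.center_le_center_of_faithful hk this) g,
      mul_inv_cancel_right]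
  have hk' : ker (res L χ) = ⊥ := by rw [hχ.ker_res, hk]; simp
  have hc := H'.le_centralizer_of_faithful (hχ.res L) hk' (by rw [charDegree_res]; omega)
    (not_dvd_card_pPrimeCore p L)
  obtain ⟨ψ, hψ, h3⟩ : ∃ ψ : IrrCharacter L, ip (res L χ) ψ.1 ≠ 0 ∧
      ¬ (subHom ι hD).range ≤ center ψ.1 := by
    by_contra h
    push Not at h
    have h4 : L ≤ Subgroup.normalizer (ι.range : Set G) := fun g hg =>
      Subgroup.centralizer_le_normalizer _ (Subgroup.mem_centralizer_iff.2 (by
        rintro _ ⟨u, rfl⟩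
        exact (congrArg Subtype.val (Subgroup.mem_center_iff.1 (center_of_forall_constituent
          (hχ.res L) hk' (z := subHom ι hD u) fun ψ hψ => h ψ hψ ⟨u, rfl⟩) ⟨g, hg⟩)).symm))
    have h5 := H.syl.of_le hD le_top
    exact hnn (Subgroup.normalizer_eq_top_iff.1 (eq_top_iff.2 fun g _ =>
      conj_smul_eq_iff_mem_normalizer.1 (h5.eq_of_le_normalizer h4 (h5.conj_of_mem_normalizer
        (Subgroup.le_normalizer_of_normal (Subgroup.mem_top g))))))
  have h4 := (hχ.res L).degree_le_of_ip_ne_zero ψ hψ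
  rw [charDegree_res] at h4
  obtain ⟨h5, h6, -⟩ := (H'.range_le_center_or H.residual_no hc ψ (by omega)).resolve_left h3
  have h7 : res L χ = ψ.1 := (hχ.res L).eq_irr_of_ip_ne_zero_of_degree_le ψ hψ
    (by rw [charDegree_res]; omega)
  have hirr : IsIrrCharacter G χ := isIrr_of_isIrr_res hχ (h7 ▸ ψ.2)
  have h8 := Subgroup.card_le_of_le (H.autN_sub_le hD)
  rcases H.exists_small ⟨χ, hirr⟩ (by simp only; omega) with h | ⟨s, Z, l, F⟩ | h
  · rw [hk, le_bot_iff] at h
    exact absurd (h ▸ inferInstance) hnn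
  swap
  · have := H.two_mul_card_autN_le h.2
    simp only at h
    omega
  have h9 : Nat.card (autN ι) ≤ charDegree χ := F.degree ▸ Nat.le_mul_of_pos_left _ F.pos
  have hV : cenReg p ι ≤ Subgroup.center G := fun y hy => by
    have := Fintype.ofFinite L
    have h10 : L ≤ Subgroup.centralizer (pPrimeCore p G : Set G) := pPrimeResidual_le (by
      simpa using H.syl.not_dvd_relIndex_of_le (Subgroup.le_centralizer_iff.1
        (H.le_centralizer_of_faithful hχ hk (by omega) (not_dvd_card_pPrimeCore p G))))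
    refine hχ.center_le_center_of_faithful hk ⟨χ y / χ 1, fun x => ?_⟩
    have h11 := LG.sum_conj_of_isIrr_comp hχ L.subtype (show IsIrrCharacter L (res L χ) from h7 ▸ ψ.2)
      y x
    rw [Finset.sum_congr rfl (g := fun _ => χ (y * x)) fun g _ => by
      rw [Subgroup.subtype_apply, ← Subgroup.mem_centralizer_iff.1 (h10 g.2) y
        (H.cenReg_le_pPrimeCore F (by omega) hy), mul_inv_cancel_right], Finset.sum_const,
      Finset.card_univ, ← Nat.card_eq_fintype_card, nsmul_eq_mul] at h11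
    refine mul_left_cancel₀ (card_cast_ne_zero (G := L)) (h11.trans (by ring))
  refine ⟨by omega, by omega, h2, hirr, hV, ?_⟩
  have h12 : autN (subHom ι hD) = autN ι :=
    Subgroup.eq_of_le_of_card_ge (H.autN_sub_le hD) (by omega)
  rw [eq_top_iff, ← (H.syl.of_le hD le_top).frattini_top]
  refine sup_le le_sup_left fun n hn => ?_
  obtain ⟨t, -, ht⟩ := h12.ge (conjA_mem H.inj ⟨n, hn⟩)
  have h13 : (t : G)⁻¹ * n ∈ Subgroup.centralizer (ι.range : Set G) :=
    Subgroup.mem_centralizer_iff.2 (by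
      rintro _ ⟨u, rfl⟩
      have h14 : ι (conjA H.inj ⟨n, hn⟩ u) = t * ι u * (t : G)⁻¹ := congrArg Subtype.val (ht u)
      rw [conjA_spec] at h14
      calc ι u * ((t : G)⁻¹ * n) = (t : G)⁻¹ * (t * ι u * (t : G)⁻¹) * n := by group
        _ = _ := by rw [← h14]; group)
  obtain ⟨u, y, hy, h⟩ := H.exists_eq_mul h13
  rw [eq_mul_of_inv_mul_eq h]
  exact mul_mem (Subgroup.mem_sup_left t.2)
    (mul_mem (Subgroup.mem_sup_left (hD ⟨u, rfl⟩)) (Subgroup.mem_sup_right (hV hy)))

end PrimeSyl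

theorem exists_primeSyl_of_dvd (hdiv : p ∣ Nat.card G) (hsq : ¬ p ^ 2 ∣ Nat.card G) :
    ∃ (A : Type) (_ : CommGroup A) (_ : Finite A) (ι : A →* G), PrimeSyl p ι := by
  obtain ⟨P, hP⟩ := exists_isSylowIn p (⊤ : Subgroup G)
  have h1 := (hp.out.pow_dvd_iff_le_factorization (Nat.card_pos (α := G)).ne' (k := 1)).1
    (by simpa using hdiv)
  have h2 := mt (hp.out.pow_dvd_iff_le_factorization (Nat.card_pos (α := G)).ne' (k := 2)).2 hsq
  obtain ⟨A, _, _, ι, H, -⟩ := exists_primeSyl hP (by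
    rw [hP.card_eq, Subgroup.card_top, show (Nat.card G).factorization p = 1 by omega, pow_one])
  exact ⟨A, _, inferInstance, ι, H⟩

end FEcp.BT
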