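import Cfsg.Agent.Lib.Block.LinCore
import Cfsg.Agent.Lib.Grp.BaerSuzuki

/-!
# Linear groups of degree at most `p - 2`: `p`-elements have no large eigenspace
-/

set_option autoImplicit false
set_option linter.unusedSectionVars false

namespace BT

open Cfsg CT GT LG

variable {p : ℕ} [hp : Fact p.Prime]
variable {G : Type*} [Group G] [Finite G]

theorem mem_pCore_of_comm_normal {M : Subgroup G} [M.Normal] [IsMulCommutative M] {w : G}
    (hw : w ∈ M) (h : IsPElt p w) : w ∈ pCore p G := by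
  have : (Subgroup.zpowers (⟨w, hw⟩ : M)).Normal :=
    ⟨fun a ha g => by rwa [mul_comm' g, mul_inv_cancel_right]⟩
  have h1 : w ∈ (pCore p M).map M.subtype :=
    ⟨⟨w, hw⟩, le_pCore ((isPElt_mk hw).2 h).isPGroup_zpowers (Subgroup.mem_zpowers _), rfl⟩
  rw [map_subtype_pCore] at h1
  exact h1.1

theorem mem_pCore_of_mem_center {w : G} (hw : w ∈ Subgroup.center G) (h : IsPElt p w) :
    w ∈ pCore p G := mem_pCore_of_comm_normal hw h

namespace LinCore
variable {χ : G → ℂ} {S : Subgroup G} {ι : Multiplicative (ZMod p) →* S} {ψ : IrrCharacter G}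
  (W : LinCore p χ S ι ψ) (hχ : IsCharacter G χ) (hd : charDegree χ + 1 < p)
include W hχ hd

theorem of_count [DecidableEq ℂ] (h3 : p ≠ 3) {w : G} (hw : IsPElt p w) (hw' : w ∉ pCore p G)
    {s : Multiset ℂ} (hs : IsEig χ w s) {c : ℂ} (hc : p ≤ 2 * s.count c + 1) :
    w ∈ center (χ - ψ.1) ∧ 2 * charDegree ψ.1 + 1 = p ∧ pCore p G ≠ ⊥ := by
  have hψ := irr_isCharacter ψ
  have hθ := hχ.sub_irr ψ W.mem
  have h1 := hχ.degree_eq_sub_irr_add ψ W.mem
  have h2 := W.big
  obtain ⟨r, u, hr, z, hz, rfl⟩ := W.exists_eq_mul hw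
  have hu : u ≠ 1 := by
    rintro rfl
    rw [map_one, isConj_one_right] at hr
    exact hw' (by simpa [hr] using hz)
  obtain ⟨t, ht⟩ := exists_isEig hψ r
  obtain ⟨h4, h5⟩ := W.isEig_nodup (by omega) hu hr ht
  obtain ⟨α, h6, h7, -⟩ := exists_scalar hψ (W.pCore_le_center hz)
  have h8 := ne_zero_of_pow_eq_one' (orderOf_pos z).ne' h6
  have hc' : Commute z r := Subgroup.mem_centralizer_iff.1 (W.cen r.2) z hz
  have h9 : IsEig ψ.1 (z * r) (t.map (α * ·)) := ht.smul h8 fun k => by rw [hc'.mul_pow, h7]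
  obtain ⟨t', ht'⟩ := exists_isEig hθ (z * r)
  obtain rfl := hs.unique (sub_add_cancel χ ψ.1 ▸ ht'.add h9)
  have h10 := Multiset.nodup_iff_count_le_one.1 (h4.map (mul_right_injective₀ h8)) c
  have h11 := Multiset.count_le_card c t'
  have h12 := ht'.card
  rw [Multiset.count_add] at hc
  have h13 := Multiset.count_eq_card.1 (show t'.count c = t'.card by omega)
  refine ⟨ht'.mem_center hθ fun a ha => (h13 a ha).symm, by omega, fun h => ?_⟩
  rw [h, Subgroup.mem_bot] at hz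
  subst hz
  rw [orderOf_one, pow_one] at h6
  subst h6
  obtain ⟨a, ha⟩ := Multiset.card_pos_iff_exists_mem.1 (show 0 < t'.card by omega)
  have h14 := ht'.unique (isEig_replicate (n := charDegree (χ - ψ.1)) one_ne_zero fun k => by
    rw [one_mul, hθ.mem_ker_iff.1 (pow_mem (W.le_ker r.2) k), hθ.apply_one, one_pow, one_mul])
  obtain rfl : c = 1 := (h13 a ha).trans (Multiset.eq_of_mem_replicate (h14 ▸ ha))
  refine h5 (by omega) (Multiset.one_le_count_iff_mem.1 ?_)
  simp only [one_mul, Multiset.map_id'] at hc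
  omega

theorem exists_near (h2 : 2 * charDegree ψ.1 + 1 = p) (h3 : p ≠ 3) (hc : center (χ - ψ.1) = ⊤)
    {z : G} (hz : z ∈ pCore p G) (ho : orderOf z = p) :
    z ∈ center χ ∨ ∃ w s α β, IsEig χ w s ∧ ‖β‖ = 1 ∧ (∀ a ∈ s, a = α ∨ a = β) ∧ ‖α - β‖ < 1 ∧
      IsPElt p (w ^ 2) ∧ w ^ 2 ≠ 1 := by
  have hψ := irr_isCharacter ψ
  have hθ := hχ.sub_irr ψ W.mem
  have hp2 : p ≠ 2 := by omega
  obtain ⟨α, h4, h5, h6⟩ := exists_scalar hψ (W.pCore_le_center hz)
  obtain ⟨β, h7, h8, h9⟩ := exists_scalar hθ (hc.ge (Subgroup.mem_top z))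
  rw [ho] at h4 h7
  have hα := norm_eq_one_of_pow_eq_one' hp.out.ne_zero h4
  have hβ := norm_eq_one_of_pow_eq_one' hp.out.ne_zero h7
  have hβ0 := ne_zero_of_pow_eq_one' hp.out.ne_zero h7
  have key : ∀ (j : G) (ε : ℂ), j ∈ S → j ^ 2 = 1 → ‖ε‖ = 1 →
      (∀ k : ℕ, ψ.1 (j ^ k) = ε ^ k * charDegree ψ.1) →
      (∀ k, 0 < k → k < 7 → p ∣ k → 1 ≤ ‖(α * ε / β) ^ k - 1‖) →
      ∃ w s α β, IsEig χ w s ∧ ‖β‖ = 1 ∧ (∀ a ∈ s, a = α ∨ a = β) ∧ ‖α - β‖ < 1 ∧
        IsPElt p (w ^ 2) ∧ w ^ 2 ≠ 1 := fun j ε hj hj2 hε h10 h11 => by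
    have hc' : Commute z j := Subgroup.mem_centralizer_iff.1 (W.cen hj) z hz
    obtain ⟨k, h12, h13, h14⟩ := exists_pow_near_one (ζ := α * ε / β) (by simp [hα, hβ, hε])
    have h15 : IsEig ψ.1 (z * j) (Multiset.replicate (charDegree ψ.1) (α * ε)) :=
      isEig_replicate (fun h => by simpa [hα, hε] using congrArg norm h) fun k => by
        rw [hc'.mul_pow, h5, h10]; ring
    have h16 : IsEig (χ - ψ.1) (z * j) (Multiset.replicate (charDegree (χ - ψ.1)) β) :=
      isEig_replicate hβ0 fun k => by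
        rw [hc'.mul_pow, h8, hθ.mem_ker_iff.1 (pow_mem (W.le_ker hj) k), hθ.apply_one]
    have h17 : ((z * j) ^ k) ^ 2 = z ^ (2 * k) := by
      rw [← pow_mul, mul_comm, hc'.mul_pow, pow_mul j, hj2, one_pow, mul_one]
    refine ⟨_, _, (α * ε) ^ k, β ^ k, (sub_add_cancel χ ψ.1 ▸ h16.add h15).pow k, by simp [hβ],
      fun a ha => ?_, ?_, h17 ▸ (isPElt_of_mem (isPGroup_pCore p G) hz).pow _, fun h => ?_⟩
    · obtain ⟨b, hb, rfl⟩ := Multiset.mem_map.1 ha
      rcases Multiset.mem_add.1 hb with h | h <;> simp [Multiset.eq_of_mem_replicate h]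
    · rwa [div_pow, div_sub_one (pow_ne_zero _ hβ0), norm_div, norm_pow, hβ, one_pow,
        div_one] at h14
    · rw [h17, ← orderOf_dvd_iff_pow_eq_one, ho, hp.out.dvd_mul,
        Nat.prime_dvd_prime_iff_eq hp.out Nat.prime_two] at h
      exact (h11 k h12 h13 (h.resolve_left hp2)).not_gt h14
  by_cases h : α = β
  · subst h
    exact Or.inl ((sub_add_cancel χ ψ.1 ▸ h9.add h6).mem_center hχ (c := α) fun a ha => by
      rcases Multiset.mem_add.1 ha with h | h <;> exact Multiset.eq_of_mem_replicate h)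
  right
  by_cases h7p : 7 ≤ p
  · exact key 1 1 (one_mem _) (one_pow _) norm_one (fun k => by simp [irr_apply_one])
      fun k h0 h1 h => absurd (Nat.le_of_dvd h0 h) (by omega)
  have h10 : charDegree (CT.res S ψ.1) = 2 := by have := irr_degree_pos ψ; rw [charDegree_res]; omega
  obtain ⟨j, hj⟩ := exists_prime_orderOf_dvd_card' 2
    (h10 ▸ irr_degree_dvd_card ⟨_, W.irr⟩ : 2 ∣ Nat.card S)
  have hj2 : j ^ 2 = 1 := hj ▸ pow_orderOf_eq_one j
  obtain ⟨a, b, h11, h12, h13⟩ := W.irr.isCharacter.exists_nat_of_sq_eq_one hj2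
  rw [(mem_ker_detChar_iff _).1 (commutator_le_ker_detChar _
    ((W.perfect (by rw [charDegree_res] at h10; omega)).ge (Subgroup.mem_top j)))] at h13
  have h14 : ψ.1 j = -2 := by
    obtain rfl | rfl | rfl : b = 0 ∨ b = 1 ∨ b = 2 := by omega
    · have : j ∈ ker (CT.res S ψ.1) := by
        rw [W.irr.isCharacter.mem_ker_iff, h11, W.irr.isCharacter.apply_one, h12]; simp
      rw [W.faith, Subgroup.mem_bot] at this
      simp [this] at hj
    · norm_num at h13
    · obtain rfl : a = 0 := by omega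
      simpa using h11
  rw [charDegree_res] at h10
  refine key j (-1) j.2 (congrArg Subtype.val hj2) (by simp) (fun k => ?_) fun k h0 h1 h => ?_
  · obtain ⟨i, rfl | rfl⟩ := k.even_or_odd'
    · rw [pow_mul, show (j : G) ^ 2 = 1 from congrArg Subtype.val hj2]; simp [irr_apply_one]
    · rw [pow_succ, pow_mul, show (j : G) ^ 2 = 1 from congrArg Subtype.val hj2, one_pow, one_mul,
        h14, h10]
      simp [pow_succ]
  · obtain rfl : p = 5 := by omega
    obtain rfl : k = 5 := by omega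
    rw [div_pow, mul_pow, h4, h7]
    norm_num

end LinCore

variable (p) in
/-- The hypotheses satisfied by a minimal counterexample to Feit's theorem. -/
structure FeitMin (χ : IrrCharacter G) : Prop where
  faith : ker χ.1 = ⊥
  lt : charDegree χ.1 + 1 < p
  ne : charDegree χ.1 ≠ 1
  core : pCore p G = ⊥
  ind : ∀ H : Subgroup G, H ≠ ⊤ → ¬ p ^ 2 ∣ (pCore p H).index

namespace FeitMin
variable {χ : IrrCharacter G} (F : FeitMin p χ)
include F

theorem ker_res (H : Subgroup G) : ker (res H χ.1) = ⊥ := by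
  rw [(irr_isCharacter χ).ker_res, F.faith]; simp

theorem exists_linCore {H : Subgroup G} (hH : H ≠ ⊤) (h : p ∣ (pCore p H).index) :
    ∃ S ι ψ, LinCore p (res H χ.1) S ι ψ :=
  BT.exists_linCore ((irr_isCharacter χ).res H) (F.ker_res H) F.lt h (F.ind H hH)

theorem eq_one_of_mem_center {z : G} (hz : IsPElt p z) (h : z ∈ Subgroup.center G) : z = 1 :=
  Subgroup.mem_bot.1 (F.core ▸ mem_pCore_of_mem_center h hz)

theorem eq_one_of_count [DecidableEq ℂ] {x : G} (hx : IsPElt p x) {s : Multiset ℂ}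
    (hs : IsEig χ.1 x s) {c : ℂ} (hc : p ≤ 2 * s.count c + 1) : x = 1 := by
  have hχ := irr_isCharacter χ
  have hd := F.lt
  have h3 : p ≠ 3 := by have := F.ne; have := irr_degree_pos χ; omega
  refine Subgroup.mem_bot.1 (F.core ▸ mem_pCore_of_forall_isPGroup_closure fun g => ?_)
  have hs' := hs.of_isConj hχ.isClassFunction (isConj_iff.2 ⟨g, rfl⟩)
  have hy := hx.conj g
  set y := g * x * g⁻¹
  set H := Subgroup.closure ({x, y} : Set G) with hH
  have h1 : H ≠ ⊤ := fun h => F.ne (degree_eq_one_of_count χ hs hs' (a := c) (b := c) (by omega) h)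
  let x' : H := ⟨x, Subgroup.subset_closure (by simp)⟩
  let y' : H := ⟨y, Subgroup.subset_closure (by simp)⟩
  have h2 : ∀ T : Subgroup H, x' ∈ T → y' ∈ T → T = ⊤ := fun T h4 h5 => by
    refine Subgroup.map_injective H.subtype_injective (le_antisymm (Subgroup.map_mono le_top) ?_)
    rw [← MonoidHom.range_eq_map, Subgroup.range_subtype]
    refine (Subgroup.closure_le _).2 ?_
    rintro _ (rfl | rfl)
    exacts [⟨x', h4, rfl⟩, ⟨y', h5, rfl⟩]
  have hx' : IsPElt p x' := isPElt_coe.1 hx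
  have hy' : IsPElt p y' := isPElt_coe.1 hy
  by_contra h4
  have h5 : ∀ w : H, IsPElt p w → pCore p H ⊔ Subgroup.zpowers w ≠ ⊤ := fun w hw h =>
    h4 (isPGroup_top_iff.1 (h ▸ (isPGroup_pCore p H).to_sup_of_normal_left hw.isPGroup_zpowers))
  obtain ⟨S, ι, ψ, W⟩ := F.exists_linCore h1 (by
    by_contra h
    exact h5 1 isPElt_one (h2 _ (Subgroup.mem_sup_left (pPrimeResidual_le h (mem_pPrimeResidual hx')))
      (Subgroup.mem_sup_left (pPrimeResidual_le h (mem_pPrimeResidual hy')))))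
  obtain ⟨h6, h7, h8⟩ := W.of_count (hχ.res H) hd h3 hx' (fun h => h5 y' hy' (h2 _
    (Subgroup.mem_sup_left h) (Subgroup.mem_sup_right (Subgroup.mem_zpowers _))))
    (hs.congr fun _ => rfl) hc
  obtain ⟨h9, -⟩ := W.of_count (hχ.res H) hd h3 hy' (fun h => h5 x' hx' (h2 _
    (Subgroup.mem_sup_right (Subgroup.mem_zpowers _)) (Subgroup.mem_sup_left h)))
    (hs'.congr fun _ => rfl) hc
  obtain ⟨z, hz⟩ := exists_prime_orderOf_dvd_card' p
    (dvd_card_of_isPGroup_of_ne_bot (isPGroup_pCore p H) h8)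
  rw [← Subgroup.orderOf_coe] at hz
  rcases W.exists_near (hχ.res H) hd h7 h3 (h2 _ h6 h9) z.2 hz with
    h | ⟨w, t, α, β, h10, h11, h12, h13, h14, h15⟩
  · rw [hχ.center_res, irr_center_eq_of_faithful _ F.faith] at h
    have := F.eq_one_of_mem_center (isPElt_coe.2 (isPElt_of_mem (isPGroup_pCore p H) z.2)) h
    rw [show (z : H) = 1 from Subtype.ext this, orderOf_one] at hz
    exact hp.out.one_lt.ne hz
  · have := IsEig.comm_normalClosure hχ F.faith (z := (w : G)) (h10.congr fun _ => rfl) h11 h12 h13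
    exact h15 (Subtype.ext (Subgroup.mem_bot.1 (F.core ▸ mem_pCore_of_comm_normal
      (pow_mem (Subgroup.subset_normalClosure (Set.mem_singleton (w : G))) 2) (isPElt_coe.2 h14))))

end FeitMin

end BT
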