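import Cfsg.Agent.Lib.Block.OnePSL
import Cfsg.Agent.Lib.Block.OneSmall
import Cfsg.Agent.Lib.Block.PMinusTwo
import Cfsg.Agent.Lib.Char.Mackey

/-!
# Perfect groups with a Sylow subgroup of prime order: Brauer's dichotomy
-/

set_option autoImplicit false
set_option linter.unusedSectionVars false

namespace BT

open Cfsg CT GT ComplexConjugate

/-- No proper factorization of `(p - 1) (1 + n p)` through a number `1 + u p`. -/
def NoRep (p n : ℕ) : Prop := ∀ u, 0 < u → u < n → ¬ 1 + u * p ∣ (p - 1) * (1 + n * p)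

theorem NoRep.of_one {p n d : ℕ} (h : NoRep p n) (hp : 1 < p) (hd : d ∣ (p - 1) * (1 + n * p))
    (h1 : (p : ℤ) ∣ d - 1) : d = 1 ∨ d = 1 + n * p := by
  obtain ⟨q, rfl⟩ : ∃ q, p = q + 1 := ⟨p - 1, by omega⟩
  have hd0 : 0 < d := Nat.pos_of_dvd_of_pos hd (by simp; omega)
  obtain ⟨u, rfl⟩ : ∃ u, d = 1 + u * (q + 1) := by
    obtain ⟨u, hu⟩ := (Nat.modEq_iff_dvd' hd0).1 (Nat.modEq_iff_dvd.2 h1)
    exact ⟨u, by rw [mul_comm]; omega⟩
  rcases Nat.eq_zero_or_pos u with rfl | hu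
  · simp
  have h2 : n ≤ u := not_lt.1 fun h' => h u hu h' hd
  obtain ⟨v, hv⟩ := hd
  rw [Nat.add_sub_cancel] at hv
  have h3 : q + 1 ∣ v + 1 := Int.natCast_dvd_natCast.1 ⟨1 + q * n - u * v, by
    zify at hv; push_cast; linear_combination -hv⟩
  have h4 := Nat.le_of_dvd (by omega) h3
  have h5 : q * (1 + u * (q + 1)) ≤ q * (1 + n * (q + 1)) := by rw [hv]; nlinarith
  have h6 := Nat.le_of_mul_le_mul_left h5 (by omega)
  right; nlinarith

theorem NoRep.of_neg_one {p n d : ℕ} (h : NoRep p n) (hp : 1 < p)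
    (hd : d ∣ (p - 1) * (1 + n * p)) (h1 : (p : ℤ) ∣ d + 1) :
    d + 1 = p ∨ d = (p - 1) * (1 + n * p) := by
  obtain ⟨v, hv⟩ := hd
  obtain ⟨f, hf⟩ := h1
  rcases h.of_one hp (d := v) ⟨d, by rw [hv, mul_comm]⟩ ⟨v * f - 1 - (p - 1) * n, by
    zify [hp.le] at hv; linear_combination hv + v * hf⟩ with rfl | rfl
  · right; omega
  · left
    have := Nat.eq_of_mul_eq_mul_right (by omega) hv
    omega

variable {p : ℕ} [hp : Fact p.Prime]
variable {G : Type*} [Group G] [Finite G]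
variable {A : Type*} [CommGroup A] [Finite A]

theorem _root_.Cfsg.IsCharacter.eq_sum_of_degree_le {θ : G → ℂ} (hθ : IsCharacter G θ)
    {S : Finset (IrrCharacter G)} (h : ∀ ψ ∈ S, ip θ ψ.1 ≠ 0)
    (hd : charDegree θ ≤ ∑ ψ ∈ S, charDegree ψ.1) : θ = ∑ ψ ∈ S, ψ.1 := by
  classical
  induction S using Finset.induction_on generalizing θ with
  | empty => exact hθ.eq_zero_of_degree_eq_zero (by simpa using hd)
  | insert χ S hχ ih =>
    have h1 := h χ (by simp)
    rw [Finset.sum_insert hχ] at hd ⊢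
    rw [← ih (hθ.sub_irr χ h1) (fun ψ hψ => ?_) (by
      have := hθ.degree_eq_sub_irr_add χ h1; omega), add_sub_cancel]
    rw [ip_sub_left, ip_irr_ne (by rintro rfl; exact hχ hψ), sub_zero]
    exact h ψ (by simp [hψ])

theorem PrimeSyl.index_centralizer {ι : A →* G} (H : PrimeSyl p ι) :
    (Subgroup.centralizer (ι.range : Set G)).index =
      Nat.card (autN ι) * (Subgroup.normalizer (ι.range : Set G)).index := by
  rw [card_autN H.inj, Subgroup.relIndex_mul_index (Subgroup.centralizer_le_normalizer _)]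

namespace PB
variable {ι : A →* G} {X : Finset (IrrCharacter G)} {Y : HatNe A → IrrCharacter G}
  {δ : IrrCharacter G → ℤ} {δ₀ : ℤ} (T : PB p ι X Y δ δ₀)
include T

theorem degree_dvd_X {χ : IrrCharacter G} (hχ : χ ∈ X) :
    charDegree χ.1 ∣ Nat.card (autN ι) * (Subgroup.normalizer (ι.range : Set G)).index := by
  obtain ⟨u, hu⟩ := have := T.syl.nontrivial; exists_ne (1 : A)
  refine nat_dvd_of_isIntegral ((isIntegral_centralChar χ (ι u)).mul
    (isIntegral_algebraMap (x := δ χ))) ?_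
  have := irr_apply_one_ne_zero χ
  rw [centralChar, T.syl.centralizer_eq hu, T.syl.index_centralizer, T.valX_range hχ hu,
    ← irr_apply_one]
  rcases T.sign χ hχ with h | h <;> simp [h] <;> field_simp

theorem degree_dvd_Y (l : HatNe A) :
    charDegree (Y l).1 ∣ Nat.card (autN ι) * (Subgroup.normalizer (ι.range : Set G)).index := by
  obtain ⟨u, hu⟩ := have := T.syl.nontrivial; exists_ne (1 : A)
  refine nat_dvd_of_isIntegral ((IsIntegral.sum (s := bset (Set.range Y)) _ fun ψ _ =>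
    isIntegral_centralChar ψ (ι u)).mul (isIntegral_algebraMap (x := δ₀))) ?_
  have := irr_apply_one_ne_zero (Y l)
  rw [Finset.sum_congr rfl (g := fun ψ => (Subgroup.centralizer (ι.range : Set G)).index /
    (Y l).1 1 * ψ.1 (ι u)) fun ψ hψ => ?_, ← Finset.mul_sum, T.sum_range_apply hu,
    T.syl.index_centralizer, ← irr_apply_one]
  · rcases T.sign₀ with h | h <;> simp [h] <;> field_simp
  · obtain ⟨m, rfl⟩ := mem_bset.1 hψ
    rw [centralChar, T.syl.centralizer_eq hu, T.reg_eq m l not_dvd_orderOf_one]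
    ring

theorem degree_ne [Fintype A] [DecidableEq A] {χ : IrrCharacter G} (hχ : χ ∈ X ∨ ∃ l, Y l = χ)
    (l : A →* ℂˣ) (h : ∑ u, χ.1 (ι u) * conj (l u : ℂ) = χ.1 1 + p - Nat.card (autN ι))
    (hr : (Subgroup.normalizer (ι.range : Set G)).index ≠ 1) :
    charDegree χ.1 ≠ Nat.card (autN ι) * (Subgroup.normalizer (ι.range : Set G)).index := by
  classical
  intro hd
  have H := T.syl
  have := Fintype.ofFinite (cenReg p ι)
  set C := Subgroup.centralizer (ι.range : Set G) with hC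
  set N := Subgroup.normalizer (ι.range : Set G) with hN
  let f : A × cenReg p ι →* G := ι.noncommCoprod (cenReg p ι).subtype fun u y =>
    Subgroup.mem_centralizer_iff.1 (H.mem_cenReg.1 y.2).1 _ ⟨u, rfl⟩
  have hf : ∀ a, f a = ι a.1 * a.2 := fun _ => rfl
  have hreg : ∀ a, ¬ p ∣ orderOf (f a) → a.1 = 1 := fun a ha =>
    not_not.1 fun h => ha (H.dvd_orderOf_mul' h a.2.2)
  have hinj : Function.Injective f := (injective_iff_map_eq_one f).2 fun a ha => by
    have h1 := hreg a (ha ▸ not_dvd_orderOf_one)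
    exact Prod.ext h1 (Subtype.ext (by simpa [hf, h1] using ha))
  have hrange : f.range = C := le_antisymm (by
    rintro _ ⟨a, rfl⟩
    exact mul_mem (range_le_centralizer ι ⟨_, rfl⟩) (H.mem_cenReg.1 a.2.2).1) fun w hw => by
      obtain ⟨u, y, hy, rfl⟩ := H.exists_eq_mul hw
      exact ⟨(u, ⟨y, hy⟩), rfl⟩
  have hφ := isCharacter_units_hom (l.comp (MonoidHom.fst A (cenReg p ι)))
  obtain ⟨a, ha⟩ := (irr_isCharacter χ).exists_nat_sum (cenReg p ι).subtype
  have hp2 := hp.out.two_le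
  have he := Nat.le_of_dvd (by omega) H.card_autN_dvd
  have h1 : ip χ.1 (indHom f fun x => (l.comp (MonoidHom.fst A (cenReg p ι)) x : ℂ)) * p =
      (a + (p - Nat.card (autN ι)) : ℕ) := by
    rw [ip_indHom_right _ _ (irr_isClassFunction χ), ip_def, Fintype.sum_prod_type,
      Fintype.sum_eq_add_sum_subtype_ne _ 1, Finset.sum_congr rfl (g := fun u : {x : A // x ≠ 1} =>
        Nat.card (cenReg p ι) * (χ.1 (ι u.1) * conj (l u.1 : ℂ))) fun u _ => by
          simp [hf, T.apply_mul_of_mem hχ u.2], ← Finset.mul_sum, Nat.card_prod, H.card]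
    rw [Fintype.sum_eq_add_sum_subtype_ne _ 1] at h
    simp only [hf, map_one, one_mul, MonoidHom.comp_apply, MonoidHom.coe_fst, Units.val_one,
      mul_one, Subgroup.coe_subtype] at h ha ⊢
    rw [ha, show ∑ u : {x : A // x ≠ 1}, χ.1 (ι u.1) * conj (l u.1 : ℂ) = p - Nat.card (autN ι) by
      linear_combination h]
    have := card_cast_ne_zero (G := cenReg p ι)
    have : (p : ℂ) ≠ 0 := Nat.cast_ne_zero.2 hp.out.ne_zero
    push_cast [show Nat.card (autN ι) ≤ p by omega]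
    field_simp
  have h2 := (hφ.indHom f).eq_irr_of_ip_ne_zero_of_degree_le χ (by
    rw [(hφ.indHom f).ip_comm (irr_isCharacter χ)]
    intro h0
    rw [h0, zero_mul, eq_comm, Nat.cast_eq_zero] at h1
    omega) (by
      rw [charDegree_indHom hinj hφ, hrange, H.index_centralizer, hd,
        charDegree_eq_of_apply_one (n := 1) (by simp), mul_one])
  rw [h2, ip_irr_self, one_mul, Nat.cast_inj] at h1
  have h3 : ∀ y : cenReg p ι, χ.1 y * Nat.card C = Nat.card {x : G // x⁻¹ * y * x ∈ C} := by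
    intro y
    have h4 := indHom_apply_eq_zero (f := f) (g := y)
      (θ := (fun x => (l.comp (MonoidHom.fst A (cenReg p ι)) x : ℂ)) - fun _ => 1) fun k hk => by
        simp [hreg k (orderOf_eq_of_isConj hk ▸ (H.mem_cenReg.1 y.2).2)]
    rw [indHom_sub, Pi.sub_apply, h2, sub_eq_zero,
      indHom_eq_ind_of_range hinj hrange _ (fun _ => 1) fun _ _ _ => rfl, ind_one_apply] at h4
    rw [h4, div_mul_cancel₀ _ card_cast_ne_zero]
  have h4 : ∑ y : cenReg p ι, Nat.card {x : G // x⁻¹ * y * x ∈ C} =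
      ∑ _y : cenReg p ι, Nat.card N := by
    rw [← Nat.cast_inj (R := ℂ), Nat.cast_sum, ← Finset.sum_congr rfl fun y _ => h3 y,
      ← Finset.sum_mul, show ∑ y : cenReg p ι, χ.1 y = _ from ha, ← card_mul_relIndex
        (Subgroup.centralizer_le_normalizer _), ← card_autN H.inj, show a = Nat.card (autN ι) by omega,
      Finset.sum_const, Finset.card_univ, ← Nat.card_eq_fintype_card, ← hC, smul_eq_mul]
    push_cast; ring
  refine (Finset.sum_lt_sum (fun y _ => Nat.card_le_card_of_injective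
    (fun n => ⟨n, inv_conj_mem_of_mem_normalizer (normalizer_le_normalizer_centralizer _ n.2)
      (H.mem_cenReg.1 y.2).1⟩) fun _ _ h => Subtype.ext (by simpa using h))
      ⟨1, Finset.mem_univ _, ?_⟩).ne' h4
  rw [Nat.card_congr (Equiv.subtypeUnivEquiv (p := fun x : G => x⁻¹ * (1 : cenReg p ι) * x ∈ C)
    (by simp)), ← N.card_mul_index]
  exact lt_mul_of_one_lt_right Nat.card_pos
    (Nat.one_lt_iff_ne_zero_and_ne_one.2 ⟨Subgroup.index_ne_zero_of_finite, hr⟩)

theorem sum_eq_zero_X [Fintype A] {χ : IrrCharacter G} (hχ : χ ∈ X) (h : δ χ = -1)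
    (hd : charDegree χ.1 + 1 = p) : ∑ u, χ.1 (ι u) = 0 := by
  rw [T.sum_X hχ, h, ← hd]; push_cast; ring

theorem sum_eq_zero_Y [Fintype A] {l : HatNe A} (h : δ₀ = -1)
    (hd : charDegree (Y l).1 = Nat.card (autN ι)) : ∑ u, (Y l).1 (ι u) = 0 := by
  rw [T.sum_Y, h, hd]; push_cast; ring

end PB

theorem PrimeSyl.ker_le_pPrimeCore {ι : A →* G} (H : PrimeSyl p ι) [Fintype A]
    {χ : IrrCharacter G} (h : ∑ u, χ.1 (ι u) = 0) : ker χ.1 ≤ pPrimeCore p G :=
  le_pPrimeCore (Nat.Coprime.symm (hp.out.coprime_iff_not_dvd.2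
    (H.not_dvd_card_of_normal fun h' => by
      rw [H.sum_eq fun u _ => ker_apply_eq (h' ⟨u, rfl⟩), map_one] at h
      exact mul_ne_zero (Nat.cast_ne_zero.2 hp.out.ne_zero) (irr_apply_one_ne_zero χ)
        (by linear_combination h))))

theorem PrimeSyl.card_autN_ne_one {ι : A →* G} (H : PrimeSyl p ι) (h : commutator G = ⊤) :
    Nat.card (autN ι) ≠ 1 := fun h1 => not_hasNormalPComplement_of_perfect h
  (H.card_range ▸ ι.range.card_subgroup_dvd_card) (H.hasNormalPComplement (card_autN H.inj ▸ h1))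

theorem PrimeSyl.not_normal_of_perfect {ι : A →* G} (H : PrimeSyl p ι) (h : commutator G = ⊤) :
    ¬ ι.range.Normal := fun hn => by
  have := isCyclic_mulAut_of_prime H.card
  let _ : CommGroup (MulAut A) := IsCyclic.commGroup
  refine H.card_autN_ne_one h (Subgroup.card_eq_one.2 (eq_bot_iff.2 fun σ hσ => ?_))
  obtain ⟨n, rfl⟩ := (range_conjA H.inj).ge hσ
  exact map_eq_one_of_perfect h ((conjA H.inj).comp ((MonoidHom.id G).codRestrict _ fun g =>
    (Subgroup.normalizer_eq_top_iff.2 hn).ge (Subgroup.mem_top g))) n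

/-- The principal block when the number `1 + n p` of Sylow subgroups is not representable. -/
structure BR (p n : ℕ) (ι : A →* G) (X : Finset (IrrCharacter G))
    (Y : HatNe A → IrrCharacter G) (δ : IrrCharacter G → ℤ) (δ₀ : ℤ) : Prop
    extends PB p ι X Y δ δ₀ where
  one : irrOne G ∈ X
  perf : commutator G = ⊤
  pos : 0 < n
  idx : (Subgroup.normalizer (ι.range : Set G)).index = 1 + n * p
  cent : Subgroup.centralizer (ι.range : Set G) ≤ ι.range
  bot : pPrimeCore p G = ⊥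
  degX : ∀ χ ∈ X, χ ≠ irrOne G → δ χ = 1 ∧ charDegree χ.1 = 1 + n * p ∨
    δ χ = -1 ∧ charDegree χ.1 + 1 = p
  degY : ∀ l, δ₀ = 1 ∧ (bset (Set.range Y)).card * charDegree (Y l).1 = 1 + n * p ∨
    δ₀ = -1 ∧ charDegree (Y l).1 = Nat.card (autN ι)

theorem PrimeSyl.nonempty_hatNe {ι : A →* G} (H : PrimeSyl p ι) : Nonempty (HatNe A) := by
  rw [← Finite.card_pos_iff, card_hatNe, H.card]; have := hp.out.two_le; omega

theorem PrimeSyl.exists_br {ι : A →* G} (H : PrimeSyl p ι) (hperf : commutator G = ⊤)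
    (hO : pPrimeCore p G = ⊥) {n : ℕ}
    (hn : (Subgroup.normalizer (ι.range : Set G)).index = 1 + n * p) (hr : NoRep p n) :
    ∃ X Y δ δ₀, BR p n ι X Y δ δ₀ := by
  classical
  have := Fintype.ofFinite A
  obtain ⟨X, Y, δ, δ₀, T, h1⟩ := H.exists_pb
  have hp1 := hp.out.one_lt
  have hn0 : 0 < n := Nat.pos_of_ne_zero fun h => H.not_normal_of_perfect hperf
    (Subgroup.normalizer_eq_top_iff.1 (Subgroup.index_eq_one.1 (by simpa [h] using hn)))
  have hn1 : (Subgroup.normalizer (ι.range : Set G)).index ≠ 1 := by rw [hn]; simp; omega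
  have hlin := commutator_eq_top_iff_forall_linear.1 hperf
  obtain ⟨l, hl⟩ := H.nonempty_hatNe
  have hX : ∀ χ ∈ X, χ ≠ irrOne G → δ χ = 1 ∧ charDegree χ.1 = 1 + n * p ∨
      δ χ = -1 ∧ charDegree χ.1 + 1 = p := fun χ hχ hχ1 => by
    have h2 := T.degree_dvd_X hχ
    rw [hn] at h2
    have h3 := h2.trans (mul_dvd_mul_right H.card_autN_dvd _)
    obtain ⟨f, hf⟩ := T.exists_fix_X hχ
    refine (T.sign χ hχ).imp (fun h => ⟨h, ?_⟩) fun h => ⟨h, ?_⟩ <;> rw [h] at hf
    · exact (hr.of_one hp1 h3 ⟨f - 1, by linear_combination hf⟩).resolve_left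
        fun h => hχ1 (hlin χ h)
    refine (hr.of_neg_one hp1 h3 ⟨f + 1, by linear_combination hf⟩).resolve_right fun h4 => ?_
    have h5 : Nat.card (autN ι) = p - 1 := Nat.dvd_antisymm H.card_autN_dvd
      (Nat.dvd_of_mul_dvd_mul_right (by omega) (h4 ▸ h2))
    refine T.degree_ne (Or.inl hχ) l ?_ hn1 (by rw [hn, h4, h5])
    have h6 := congrArg conj (sum_apply_units_hom l)
    rw [if_neg hl, map_zero, map_sum, Fintype.sum_eq_add_sum_subtype_ne _ 1] at h6
    rw [Fintype.sum_eq_add_sum_subtype_ne _ 1, h5, Nat.cast_sub hp1.le,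
      Finset.sum_congr rfl fun u _ => by rw [T.valX_range hχ u.2, h], ← Finset.mul_sum]
    simp only [map_one, Units.val_one] at h6 ⊢
    push_cast
    linear_combination -h6
  have ht := T.card_range_mul
  have hY : ∀ l, δ₀ = 1 ∧ (bset (Set.range Y)).card * charDegree (Y l).1 = 1 + n * p ∨
      δ₀ = -1 ∧ charDegree (Y l).1 = Nat.card (autN ι) := fun l => by
    have h2 := mul_dvd_mul_left (bset (Set.range Y)).card (T.degree_dvd_Y l)
    rw [hn, ← mul_assoc, ht] at h2
    obtain ⟨f, hf⟩ := T.exists_fix_Y l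
    have ht' : ((bset (Set.range Y)).card : ℤ) * Nat.card (autN ι) = p - 1 := by
      zify [hp1.le] at ht; exact ht
    have ht0 : 0 < (bset (Set.range Y)).card := Nat.pos_of_ne_zero fun h => by
      rw [h] at ht; omega
    refine T.sign₀.imp (fun h => ⟨h, ?_⟩) fun h => ⟨h, ?_⟩ <;> rw [h] at hf
    · exact (hr.of_one hp1 h2 ⟨(bset (Set.range Y)).card * f - 1, by
        push_cast; linear_combination (bset (Set.range Y)).card * hf - ht'⟩).resolve_left
        fun h => T.not_mem l (hlin _ (Nat.eq_one_of_mul_eq_one_left h) ▸ h1)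
    rcases hr.of_neg_one hp1 h2 ⟨(bset (Set.range Y)).card * f + 1, by
      push_cast; linear_combination (bset (Set.range Y)).card * hf + ht'⟩ with h4 | h4
    · exact Nat.eq_of_mul_eq_mul_left ht0 (by omega)
    refine (T.degree_ne (Or.inr ⟨l, rfl⟩) l.1 ?_ hn1 (Nat.eq_of_mul_eq_mul_left ht0 (by
      rw [hn, h4, ← mul_assoc, ht]))).elim
    have h6 := sum_osum_mul_conj H.card (autN ι) l.2 l.1
    rw [if_pos ⟨1, one_mem _, rfl⟩, Fintype.sum_eq_add_sum_subtype_ne _ 1, osum_one] at h6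
    rw [Fintype.sum_eq_add_sum_subtype_ne _ 1,
      Finset.sum_congr rfl fun u _ => by rw [T.valY_range l u.2, h]]
    simp only [map_one, Units.val_one, Int.cast_neg, Int.cast_one, neg_neg, one_mul] at h6 ⊢
    linear_combination h6
  refine ⟨X, Y, δ, δ₀, T, h1, hperf, hn0, hn, fun w hw => ?_, hO, hX, hY⟩
  obtain ⟨χ, h2, h3⟩ : ∃ χ, (χ ∈ X ∨ ∃ l, Y l = χ) ∧ ∑ u, χ.1 (ι u) = 0 := by
    rcases hY ⟨l, hl⟩ with h | h
    swap
    · exact ⟨_, Or.inr ⟨_, rfl⟩, T.sum_eq_zero_Y h.1 h.2⟩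
    by_contra! h2
    have h3 := T.degree_rel ⟨l, hl⟩
    have h4 := irr_degree_pos (Y ⟨l, hl⟩)
    have : 0 ≤ ∑ χ ∈ X, δ χ * charDegree χ.1 := Finset.sum_nonneg fun χ hχ => by
      by_cases h5 : χ = irrOne G
      · simp [h5, T.sign_one h1]
      rcases hX χ hχ h5 with h6 | h6
      · simp [h6.1]
      · exact (h2 χ (Or.inl hχ) (T.sum_eq_zero_X hχ h6.1 h6.2)).elim
    rw [h.1] at h3
    omega
  obtain ⟨u, y, hy, rfl⟩ := H.exists_eq_mul hw
  rw [Subgroup.mem_bot.1 (hO.le (H.ker_le_pPrimeCore h3 (T.cenReg_le_ker h2 h3 hy))), mul_one]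
  exact ⟨u, rfl⟩

section fix
variable [Fintype A]

/-- The character of `N_G(P)` on the fixed points of `P`. -/
noncomputable def fixPart (ι : A →* G) (θ : G → ℂ) :
    Subgroup.normalizer (ι.range : Set G) → ℂ := fun n => (Nat.card A : ℂ)⁻¹ * ∑ u, θ (ι u * n)

theorem fixPart_mul (ι : A →* G) (θ : G → ℂ) (u : A) (n : Subgroup.normalizer (ι.range : Set G)) :
    fixPart ι θ (subHom ι Subgroup.le_normalizer u * n) = fixPart ι θ n := by
  rw [fixPart, fixPart, ← Equiv.sum_comp (Equiv.mulRight u) fun v => θ (ι v * n)]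
  simp only [Subgroup.coe_mul, coe_subHom, Equiv.coe_mulRight, map_mul, mul_assoc]

theorem ip_fixPart (ι : A →* G) (θ : G → ℂ) {l : Subgroup.normalizer (ι.range : Set G) → ℂ}
    (h : ∀ u, subHom ι Subgroup.le_normalizer u ∈ ker l) :
    ip (fixPart ι θ) l = ip (res _ θ) l := by
  have := Fintype.ofFinite (Subgroup.normalizer (ι.range : Set G))
  rw [ip_def, ip_def]
  congr 1
  simp only [fixPart, mul_assoc, Finset.sum_mul]
  rw [← Finset.mul_sum, Finset.sum_comm, Finset.sum_congr rfl (g := fun _ => ∑ n, res _ θ n * conj (l n))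
    fun u _ => ?_, Finset.sum_const, Finset.card_univ, ← Nat.card_eq_fintype_card, nsmul_eq_mul,
    inv_mul_cancel_left₀ card_cast_ne_zero]
  rw [← Equiv.sum_comp (Equiv.mulLeft (subHom ι Subgroup.le_normalizer u))
    fun n => res _ θ n * conj (l n)]
  exact Finset.sum_congr rfl fun n _ => by rw [Equiv.coe_mulLeft, h u n]; rfl

theorem PrimeSyl.isCharacter_fixPart {ι : A →* G} (H : PrimeSyl p ι) {θ : G → ℂ}
    (hθ : IsCharacter G θ) : IsCharacter _ (fixPart ι θ) := by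
  convert hθ.isotypic (Subgroup.subtype _) ι 1 fun n => ⟨(conjA H.inj n).toEquiv, fun u =>
    ⟨(eq_mul_inv_iff_mul_eq.1 (conjA_spec H.inj n u)).symm, rfl⟩⟩ using 2 with n
  simp only [fixPart, hθ.isClassFunction.mul_comm (ι _), MonoidHom.one_apply, Units.val_one,
    one_mul, Subgroup.coe_subtype]

theorem PrimeSyl.fixPart_apply {ι : A →* G} (H : PrimeSyl p ι) {θ : G → ℂ}
    (hθ : IsClassFunction G θ) {n : Subgroup.normalizer (ι.range : Set G)}
    (hn : (n : G) ∉ Subgroup.centralizer (ι.range : Set G)) : fixPart ι θ n = θ n := by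
  rw [fixPart, H.card_mul_apply hθ n.2 hn, H.card,
    inv_mul_cancel_left₀ (Nat.cast_ne_zero.2 hp.out.ne_zero)]

theorem PrimeSyl.fixPart_one {ι : A →* G} (H : PrimeSyl p ι) {θ : G → ℂ} {c : ℂ}
    (h : ∑ u, θ (ι u) = p * c) : fixPart ι θ 1 = c := by
  simp only [fixPart, Subgroup.coe_one, mul_one]
  rw [h, H.card, inv_mul_cancel_left₀ (Nat.cast_ne_zero.2 hp.out.ne_zero)]

end fix

theorem PrimeSyl.mul_mem_centralizer {ι : A →* G} (H : PrimeSyl p ι) {a b : G}
    (ha : a ∈ Subgroup.normalizer (ι.range : Set G))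
    (hb : b ∈ Subgroup.normalizer (ι.range : Set G))
    (ha' : a ∉ Subgroup.centralizer (ι.range : Set G))
    (hb' : b ∉ Subgroup.centralizer (ι.range : Set G)) (h1 : a * a = 1) (h2 : b * b = 1) :
    a * b ∈ Subgroup.centralizer (ι.range : Set G) := by
  have key : ∀ n : Subgroup.normalizer (ι.range : Set G), (n : G) * n = 1 →
      (n : G) ∉ Subgroup.centralizer (ι.range : Set G) → ∀ u, conjA H.inj n u = u⁻¹ := by
    intro n h1 h2 u
    by_contra h
    refine h2 ((conjA_eq_one_iff H.inj n).1 (mulAut_eq_one_of_prime H.card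
      (u := conjA H.inj n u * u) (fun h' => h (eq_inv_of_mul_eq_one_left h')) ?_))
    rw [map_mul, ← MulAut.mul_apply, ← map_mul, show n * n = 1 from Subtype.ext h1, map_one,
      MulAut.one_apply, mul_comm]
  exact (conjA_eq_one_iff H.inj (⟨a, ha⟩ * ⟨b, hb⟩)).1 (MulEquiv.ext fun u => by
    rw [map_mul, MulAut.mul_apply, key ⟨b, hb⟩ h2 hb', key ⟨a, ha⟩ h1 ha', inv_inv]; rfl)

theorem PrimeSyl.exists_conj_mul {ι : A →* G} (H : PrimeSyl p ι) {n : G}
    (hn : n ∈ Subgroup.normalizer (ι.range : Set G))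
    (hc : n ∉ Subgroup.centralizer (ι.range : Set G)) (u : A) :
    ∃ v, (ι v)⁻¹ * (n * ι u) * ι v = n := by
  have h1 : Function.Injective fun v : A => conjA H.inj ⟨n⁻¹, inv_mem hn⟩ v / v := fun v w h => by
    by_contra hne
    refine hc (inv_mem_iff.1 ((conjA_eq_one_iff H.inj ⟨n⁻¹, inv_mem hn⟩).1
      (mulAut_eq_one_of_prime H.card (u := v / w) (div_ne_one.2 hne) ?_)))
    rw [map_div]
    exact div_eq_div_iff_div_eq_div.1 h
  obtain ⟨v, rfl⟩ := Finite.injective_iff_surjective.1 h1 u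
  refine ⟨v, ?_⟩
  simp only [div_eq_mul_inv, map_mul, map_inv, conjA_spec]
  group

theorem smul_coe_eq_iff (K : Subgroup G) (x y : G) : y • (x : G ⧸ K) = x ↔ x⁻¹ * y * x ∈ K := by
  rw [MulAction.Quotient.smul_coe, eq_comm, QuotientGroup.eq, smul_eq_mul, mul_assoc]

namespace BR
variable {n : ℕ} {ι : A →* G} {X : Finset (IrrCharacter G)} {Y : HatNe A → IrrCharacter G}
  {δ : IrrCharacter G → ℤ} {δ₀ : ℤ} (T : BR p n ι X Y δ δ₀)
include T

local notation "N" => Subgroup.normalizer (MonoidHom.range ι : Set G)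
local notation "C" => Subgroup.centralizer (MonoidHom.range ι : Set G)
local notation "Z" => bset (Set.range Y)
local notation "e" => Nat.card (autN ι)

theorem ind_apply {l : N → ℂ} (hl : IsCharacter N l) (h1 : charDegree l = 1)
    (h : ∀ u, subHom ι Subgroup.le_normalizer u ∈ ker l) {u : A} (hu : u ≠ 1) :
    ind N l (ι u) = 1 := by
  have := Fintype.ofFinite N
  rw [T.syl.ind_apply le_rfl l (T.syl.dvd_orderOf hu) (Subgroup.le_normalizer ⟨u, rfl⟩),
    Finset.sum_congr rfl (g := fun _ => 1) fun x _ => ?_, Finset.sum_const, Finset.card_univ,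
    ← Nat.card_eq_fintype_card, nsmul_one, inv_mul_cancel₀ card_cast_ne_zero]
  rw [show (x : G)⁻¹ * ι u * x = (x⁻¹ * subHom ι Subgroup.le_normalizer u * x : N) from rfl,
    extendByZero_coe, hl.isClassFunction.conj', ker_apply_eq (h u), hl.apply_one, h1, Nat.cast_one]

theorem ind_cases {l : N → ℂ} (hl : IsCharacter N l) (h1 : charDegree l = 1)
    (h : ∀ u, subHom ι Subgroup.le_normalizer u ∈ ker l) :
    (ip (ind N l) (irrOne G).1 ≠ 0 ∧ (∀ χ ∈ X, χ ≠ irrOne G → ip (ind N l) χ.1 = 0) ∧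
      ∀ m, ip (ind N l) (Y m).1 = 0) ∨ (∃ χ ∈ X, χ ≠ irrOne G ∧ ind N l = χ.1) ∨
      ind N l = ∑ ψ ∈ Z, ψ.1 := by
  have := Fintype.ofFinite A
  have H := T.syl
  have hΘ := hl.ind
  have hd : charDegree (ind N l) = 1 + n * p := by rw [charDegree_ind hl, h1, T.idx, mul_one]
  have h0 : ∀ χ : IrrCharacter G, ∑ u, χ.1 (ι u) = 0 → ip (ind N l) χ.1 = 0 := fun χ hχ => by
    rw [hΘ.ip_comm (irr_isCharacter χ), ip_ind_right _ _ (irr_isClassFunction χ),
      ← ip_fixPart ι _ h, (H.isCharacter_fixPart (irr_isCharacter χ)).eq_zero_of_degree_eq_zero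
      (charDegree_eq_of_apply_one (H.fixPart_one (by simpa using hχ))), ip_zero_left]
  obtain ⟨m, hm, hc⟩ := T.exists_mult_of_const hΘ (c := 1) fun u hu y hy => by
    rw [Subgroup.mem_bot.1 ((H.cenReg_eq_bot T.cent).le hy), mul_one, T.ind_apply hl h1 h hu]
  simp only [hΘ.ip_eq_mult (irr_isCharacter _), ne_eq, Nat.cast_eq_zero] at h0 ⊢
  by_cases h2 : m = 0
  swap
  · obtain ⟨l₀⟩ := H.nonempty_hatNe
    rcases T.degY l₀ with h3 | h3
    swap
    · exact (h2 ((hm l₀).symm.trans (h0 _ (T.sum_eq_zero_Y h3.1 h3.2)))).elim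
    refine Or.inr (Or.inr (hΘ.eq_sum_of_degree_le (fun ψ hψ => ?_) ?_))
    · obtain ⟨k, rfl⟩ := mem_bset.1 hψ
      rw [hΘ.ip_eq_mult (irr_isCharacter _), hm]
      exact Nat.cast_ne_zero.2 h2
    · rw [Finset.sum_congr rfl (g := fun _ => charDegree (Y l₀).1) fun ψ hψ => by
        obtain ⟨k, rfl⟩ := mem_bset.1 hψ; exact T.degree_eq k l₀, Finset.sum_const, smul_eq_mul,
        h3.2, hd]
  by_cases h3 : ∀ χ ∈ X, χ ≠ irrOne G → mult (ind N l) χ.1 = 0
  · refine Or.inl ⟨fun h4 => ?_, h3, fun k => (hm k).trans h2⟩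
    rw [Finset.sum_eq_zero fun χ hχ => by
      by_cases h5 : χ = irrOne G
      · rw [h5, h4, Nat.cast_zero, zero_mul]
      · rw [h3 χ hχ h5, Nat.cast_zero, zero_mul], h2] at hc
    simp at hc
  push Not at h3
  obtain ⟨χ, hχ, h3, h4⟩ := h3
  refine Or.inr (Or.inl ⟨χ, hχ, h3, hΘ.eq_irr_of_ip_ne_zero_of_degree_le χ (by
    rw [hΘ.ip_eq_mult (irr_isCharacter _)]; exact Nat.cast_ne_zero.2 h4) ?_⟩)
  rcases T.degX χ hχ h3 with h5 | h5
  · rw [hd, h5.2]
  · exact (h4 (h0 _ (T.sum_eq_zero_X hχ h5.1 h5.2))).elim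

theorem ip_sum_one : ip (∑ ψ ∈ Z, ψ.1) (irrOne G).1 = 0 := by
  rw [ip_sum_left]
  refine Finset.sum_eq_zero fun ψ hψ => ip_irr_ne ?_
  obtain ⟨k, rfl⟩ := mem_bset.1 hψ
  exact fun h => T.not_mem k (h ▸ T.one)

theorem card_fixedBy {y : G} (hy : y ∈ N) (hy' : y ∉ C) :
    Nat.card (MulAction.fixedBy (G ⧸ N) y) = n + 1 := by
  have := Fintype.ofFinite A
  have H := T.syl
  have hπ := (isCharacter_one (G := N)).ind
  have h1 : ∀ u, subHom ι Subgroup.le_normalizer u ∈ ker (fun _ : N => (1 : ℂ)) := fun _ _ => rfl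
  have h2 : charDegree (fun _ : N => (1 : ℂ)) = 1 := charDegree_irrOne
  obtain ⟨-, h3, h4⟩ := (T.ind_cases isCharacter_one h2 h1).resolve_right (by
    have := ip_ind_one_one N
    rintro (⟨χ, -, hχ, h⟩ | h) <;> rw [h, ← irrOne_val] at this
    · exact zero_ne_one ((ip_irr_ne hχ).symm.trans this)
    · exact zero_ne_one (T.ip_sum_one.symm.trans this))
  have hF := H.isCharacter_fixPart hπ
  have h5 : ∀ l : IrrCharacter N, l ≠ irrOne N → ip (fixPart ι (ind N fun _ => 1)) l.1 = 0 := by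
    intro l hl
    by_contra h
    have h6 : ∀ u, subHom ι Subgroup.le_normalizer u ∈ ker l.1 := fun u =>
      hF.ker_le_of_ip_ne_zero l h (fixPart_mul ι _ u)
    have h7 : charDegree l.1 = 1 := (irr_degree_eq_one_iff_commutator_le_ker l).2 fun x hx => by
      have := isCyclic_mulAut_of_prime H.card
      let _ : CommGroup (MulAut A) := IsCyclic.commGroup
      obtain ⟨u, hu⟩ := T.cent ((conjA_eq_one_iff H.inj x).1
        (Abelianization.commutator_subset_ker (conjA H.inj) hx))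
      exact (show subHom ι Subgroup.le_normalizer u = x from Subtype.ext hu) ▸ h6 u
    refine h ?_
    rw [ip_fixPart ι _ h6, ← ip_ind_right _ _ hπ.isClassFunction]
    rcases T.ind_cases (irr_isCharacter l) h7 h6 with h8 | ⟨χ, hχ, hχ1, h8⟩ | h8
    · exact (h8.1 ((ip_ind_left _ _ (irr_isClassFunction (irrOne G))).trans
        (ip_irr_ne (ψ := irrOne N) hl))).elim
    · rw [h8, h3 χ hχ hχ1]
    · rw [h8, ip_sum_right]
      exact Finset.sum_eq_zero fun ψ hψ => by obtain ⟨k, rfl⟩ := mem_bset.1 hψ; exact h4 k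
  have h6 : ∀ x, fixPart ι (ind N fun _ => 1) x = ip (fixPart ι (ind N fun _ => 1)) (irrOne N).1 :=
    fun x => by
      rw [hF.isClassFunction.apply_eq_sum_irr, Fintype.sum_eq_single (irrOne N) fun l hl => by
        rw [h5 l hl, zero_mul], irrOne_apply, mul_one]
  have h7 := H.fixPart_apply hπ.isClassFunction (n := ⟨y, hy⟩) hy'
  rw [h6, ← h6 1, H.fixPart_one (c := (n + 1 : ℕ)) (by
    rw [H.sum_eq fun u hu => T.ind_apply isCharacter_one h2 h1 hu, map_one, ind_apply_one, T.idx]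
    push_cast; ring), ind_one_eq_permChar, permChar_apply] at h7
  exact_mod_cast h7.symm

theorem exists_gen : ∃ g ∈ N, orderOf g = e ∧ (∀ k : ℕ, g ^ k ∈ C ↔ e ∣ k) ∧
    (n + 1) * e ∣ Nat.card (Subgroup.normalizer (Subgroup.zpowers g : Set G)) := by
  have H := T.syl
  obtain ⟨g, hg, h1, h2, h3⟩ := H.exists_gen
  have h4 : orderOf g = e := Nat.dvd_antisymm (orderOf_dvd_of_pow_eq_one (H.eq_one_of_mem_range
    (T.cent ((h2 _).2 dvd_rfl)) fun h => h1 (h.trans (orderOf_pow_dvd _))))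
      ((h2 _).1 (by rw [pow_orderOf_eq_one]; exact one_mem _))
  have h5 : g ∉ C := fun h => H.card_autN_ne_one T.perf (Nat.dvd_one.1 ((h2 1).1 (by simpa)))
  refine ⟨g, hg, h4, h2, ?_⟩
  set M := Subgroup.normalizer (Subgroup.zpowers g : Set G)
  have hs := smul_coe_eq_iff N
  have h6 : MulAction.orbit M ((1 : G) : G ⧸ N) = MulAction.fixedBy (G ⧸ N) g := by
    ext q
    constructor
    · rintro ⟨m, rfl⟩
      refine (hs (m * 1) g).2 ?_
      rw [mul_one]
      exact Subgroup.zpowers_le_of_mem hg (inv_conj_mem_of_mem_normalizer m.2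
        (Subgroup.mem_zpowers g))
    · induction q using QuotientGroup.induction_on with
      | H x =>
      intro hx
      obtain ⟨k, c, hc, h7⟩ := h3 _ ((hs x g).1 hx)
      obtain ⟨u, rfl⟩ := T.cent hc
      have h8 : g ^ k ∉ C := fun h => h5 (by
        have := H.eq_one_of_mem_range (T.cent (h7 ▸ mul_mem h hc)) (by
          rw [← orderOf_conj' _ x]; simpa [mul_assoc] using h1)
        rw [show g = 1 by simpa [mul_assoc] using congrArg (fun z => x * z * x⁻¹) this]
        exact one_mem _)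
      obtain ⟨v, hv⟩ := H.exists_conj_mul (pow_mem hg k) h8 u
      refine ⟨⟨x * ι v, ?_⟩, (congrArg _ (mul_one _)).trans (QuotientGroup.mk_mul_of_mem x
        (Subgroup.le_normalizer ⟨v, rfl⟩))⟩
      have h9 : (x * ι v)⁻¹ * g * (x * ι v)⁻¹⁻¹ = g ^ k := by
        rw [← hv, ← h7]; group
      rw [← inv_mem_iff, ← conj_smul_eq_iff_mem_normalizer, conj_smul_zpowers, h9]
      exact Subgroup.eq_of_le_of_card_ge (Subgroup.zpowers_le_of_mem (Subgroup.npow_mem_zpowers g k))
        (by rw [Nat.card_zpowers, Nat.card_zpowers, ← h9, orderOf_conj'])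
  rw [← (MulAction.stabilizer M ((1 : G) : G ⧸ N)).index_mul_card, MulAction.index_stabilizer, h6,
    ← Nat.card_coe_set_eq, T.card_fixedBy hg h5, ← h4]
  exact mul_dvd_mul_left _ ((Subgroup.orderOf_mk g (Subgroup.le_normalizer
    (Subgroup.mem_zpowers g))).symm ▸ Subgroup.orderOf_dvd_natCard _ ((hs 1 g).2 (by simpa)))

theorem card_normalizer : Nat.card N = p * e := by
  rw [← card_mul_relIndex (Subgroup.centralizer_le_normalizer _), ← card_autN T.syl.inj,
    T.syl.centralizer_le_iff.1 T.cent]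

theorem card_eq : Nat.card G = p * e * (1 + n * p) := by
  rw [← T.card_normalizer, ← T.idx, Subgroup.card_mul_index]

theorem succ_dvd (h : n + 1 < p) : n + 1 ∣ p - 1 := by
  obtain ⟨g, -, -, -, h1⟩ := T.exists_gen
  have h2 := h1.trans (Subgroup.card_subgroup_dvd_card _)
  rw [T.card_eq, mul_right_comm] at h2
  obtain ⟨k, hk⟩ := ((Nat.coprime_of_lt_prime (by omega) h hp.out).symm.dvd_of_dvd_mul_left
    (Nat.dvd_of_mul_dvd_mul_right T.syl.card_autN_pos h2))
  refine Int.natCast_dvd_natCast.1 ⟨p - k, ?_⟩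
  zify at hk
  push_cast [hp.out.one_le]
  linear_combination -hk

theorem exists_count : ∃ a b : ℕ, a + b + 1 = e ∧
    ∑ χ ∈ X, δ χ * charDegree χ.1 = 1 + a * (1 + n * p) - b * (p - 1) := by
  classical
  refine ⟨((X.erase (irrOne G)).filter (δ · = 1)).card,
    ((X.erase (irrOne G)).filter fun χ => ¬ δ χ = 1).card, by
      rw [Finset.card_filter_add_card_filter_not, Finset.card_erase_add_one T.one, T.card_X], ?_⟩
  rw [← Finset.add_sum_erase _ _ T.one, T.sign_one T.one, charDegree_irrOne,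
    ← Finset.sum_filter_add_sum_filter_not _ (δ · = 1),
    Finset.sum_congr rfl (g := fun _ => 1 + (n : ℤ) * p) fun χ hχ => ?_,
    Finset.sum_congr (s₁ := Finset.filter (fun χ => ¬ δ χ = 1) _) rfl (g := fun _ => 1 - (p : ℤ))
      fun χ hχ => ?_]
  · simp only [Finset.sum_const, nsmul_eq_mul]; ring
  all_goals
    simp only [Finset.mem_filter, Finset.mem_erase] at hχ
    rcases T.degX χ hχ.1.2 hχ.1.1 with h | h
  · exact (hχ.2 h.1).elim
  · rw [h.1, ← h.2]; push_cast; ring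
  · rw [h.1, h.2]; push_cast; ring
  · have := hχ.2; omega

theorem exists_vanish {l : HatNe A} (h : δ₀ = 1) (hd : charDegree (Y l).1 + e = p) :
    (∀ z, (∀ x, x⁻¹ * z * x ∉ N) → (Y l).1 z = 0) ∧
      ∀ y ∈ N, y ∉ C → (Y l).1 y ^ orderOf y = 1 := by
  have := Fintype.ofFinite A
  have H := T.syl
  have hF := H.isCharacter_fixPart (irr_isCharacter (Y l))
  have h1 : charDegree (fixPart ι (Y l).1) = 1 := charDegree_eq_of_apply_one (H.fixPart_one (by
    rw [T.sum_Y, h, ← hd]; push_cast; ring))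
  have h2 : ∀ u, subHom ι Subgroup.le_normalizer u ∈ ker (fixPart ι (Y l).1) := fixPart_mul ι _
  refine ⟨fun z hz => ?_, fun y hy hy' => ?_⟩
  · have h3 : ip (ind N (fixPart ι (Y l).1)) (Y l).1 = 1 := by
      rw [hF.ind.ip_comm (irr_isCharacter _), ip_ind_right _ _ (irr_isClassFunction _),
        ← ip_fixPart ι _ h2, hF.isIrr_iff_ip_self.1 (hF.isIrr_of_degree_one h1)]
    have h4 := ind_apply_eq_zero (fixPart ι (Y l).1) hz
    rcases T.ind_cases hF h1 h2 with h5 | ⟨χ, hχ, -, h5⟩ | h5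
    · exact (zero_ne_one ((h5.2.2 l).symm.trans h3)).elim
    · rw [h5, ip_irr_ne (by rintro rfl; exact T.not_mem l hχ)] at h3
      exact (zero_ne_one h3).elim
    rw [h5, Finset.sum_apply, Finset.sum_congr rfl (g := fun _ => (Y l).1 z) fun ψ hψ => ?_,
      Finset.sum_const, nsmul_eq_mul] at h4
    · exact (mul_eq_zero.1 h4).resolve_left (Nat.cast_ne_zero.2 (Finset.card_ne_zero.2
        ⟨Y l, mem_bset.2 ⟨l, rfl⟩⟩))
    obtain ⟨k, rfl⟩ := mem_bset.1 hψ
    refine T.reg_eq k l fun hz' => ?_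
    obtain ⟨x, hx⟩ := H.exists_conj_mem hz'
    exact hz x⁻¹ (by rw [inv_inv]; exact Subgroup.centralizer_le_normalizer _ hx)
  · obtain ⟨f, hf⟩ := hF.exists_monoidHom_of_degree_one h1
    rw [← H.fixPart_apply (irr_isClassFunction _) (n := ⟨y, hy⟩) hy', hf, ← map_pow,
      ← Subgroup.orderOf_mk y hy, pow_orderOf_eq_one, map_one]

theorem eq_two {l : HatNe A} (h : δ₀ = 1) (hd : charDegree (Y l).1 + e = p) {a : ℕ}
    (h1 : (n + 1) * e + 1 = p) (h2 : a * (n + 1) + 2 = e) : n = 1 ∨ e = 2 := by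
  classical
  have H := T.syl
  obtain ⟨hv, hu⟩ := T.exists_vanish h hd
  have hn := T.pos
  have hD : charDegree (Y l).1 + 1 = (n + 1) * (a * n + 2) := by
    zify at *; linear_combination hd - h1 - n * h2
  have hq : ∀ q : ℕ, q.Prime → q ∣ n + 1 → ∀ z : G, ∀ k, z ^ q ^ k = 1 → orderOf z ∣ p * e := by
    intro q hq hq' z k hz
    by_contra h3
    have := (irr_isCharacter (Y l)).isGen.int_modEq_of_commute hq (Commute.one_right z) hz
      (a := 0) (b := charDegree (Y l).1) (by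
        rw [mul_one, hv z fun x hx => h3 ?_, Int.cast_zero]
        rw [← T.card_normalizer, ← orderOf_conj' z x⁻¹, inv_inv]
        exact Subgroup.orderOf_dvd_natCard _ hx) (by simp [irr_apply_one])
    have h4 : q ∣ charDegree (Y l).1 := by simpa [Int.natCast_dvd_natCast] using this.dvd
    exact hq.one_lt.ne' (Nat.dvd_one.1 ((Nat.dvd_add_right h4).1 (hD ▸ hq'.mul_right _)))
  have hpe : ∀ q : ℕ, q ∣ n + 1 → q ∣ p * e → q ∣ 2 := fun q h3 h4 => by
    have h5 : q.Coprime p := Nat.Coprime.coprime_dvd_left (h3.mul_right e) (by rw [← h1]; simp)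
    have := h5.dvd_of_dvd_mul_left h4
    rwa [← h2, Nat.dvd_add_right (h3.mul_left _)] at this
  obtain ⟨g, hg, hge, hgC, hM⟩ := T.exists_gen
  have h3 := Nat.eq_prime_pow_of_unique_prime_dvd (n := n + 1) (p := 2) (by omega) fun {q} hq0 hq' => by
    have := Fact.mk hq0
    obtain ⟨z, hz⟩ := exists_prime_orderOf_dvd_card' (G := G) q
      ((hq'.mul_right _).trans (hM.trans (Subgroup.card_subgroup_dvd_card _)))
    exact (Nat.prime_dvd_prime_iff_eq hq0 Nat.prime_two).1 (hpe q hq' (hz ▸ hq q hq0 hq' z 1 (by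
      rw [pow_one, ← hz, pow_orderOf_eq_one])))
  by_contra! h4
  obtain ⟨c, hc⟩ : 4 ∣ n + 1 := by
    rw [h3]
    refine pow_dvd_pow 2 (show 2 ≤ _ from not_lt.1 fun h5 => ?_)
    have := Nat.pow_le_pow_right two_pos (Nat.lt_succ_iff.1 h5)
    omega
  have he : e = 2 * (2 * (a * c) + 1) := by rw [← h2, hc]; ring
  obtain ⟨q, hq1, hq2⟩ := Nat.exists_prime_and_dvd (show 2 * (a * c) + 1 ≠ 1 by omega)
  obtain ⟨k, hk⟩ : Odd q := (odd_two_mul_add_one _).of_dvd_nat hq2
  have hp2 : ¬ 2 ∣ p := by rw [← h1, he, mul_left_comm]; omega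
  have hinv : ∀ z : G, ∀ i, z ^ 2 ^ i = 1 → z * z = 1 := fun z i hz => by
    obtain ⟨j, -, hj⟩ := (Nat.dvd_prime_pow Nat.prime_two).1 (orderOf_dvd_of_pow_eq_one hz)
    rw [← sq, ← orderOf_dvd_iff_pow_eq_one, hj]
    refine pow_dvd_pow 2 (show j ≤ 1 from not_lt.1 fun h5 => ?_)
    have := hpe 4 ⟨c, hc⟩ ((pow_dvd_pow 2 h5).trans (hj ▸ hq 2 Nat.prime_two (by omega) z i hz))
    omega
  have hqe : q ∣ orderOf g := hge ▸ he ▸ hq2.mul_left 2
  have h2e : 2 ∣ orderOf g := hge ▸ he ▸ dvd_mul_right 2 _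
  set y := g ^ (orderOf g / q) with hy
  set j := g ^ (orderOf g / 2) with hj
  have hyq : orderOf y = q := orderOf_pow_orderOf_div (orderOf_pos g).ne' hqe
  have hj2 : orderOf j = 2 := orderOf_pow_orderOf_div (orderOf_pos g).ne' h2e
  have hC : ∀ z ∈ C, z * z = 1 → z = 1 := fun z hz h5 => H.eq_one_of_mem_range (T.cent hz)
    fun h6 => hp2 (((Nat.prime_dvd_prime_iff_eq hp.out Nat.prime_two).1
      (h6.trans (orderOf_dvd_of_pow_eq_one (by rwa [sq])))) ▸ dvd_rfl)
  have hyC : y ∉ C := fun h5 => Nat.not_dvd_of_pos_of_lt (Nat.div_pos (Nat.le_of_dvd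
    (orderOf_pos g) hqe) hq1.pos) (Nat.div_lt_self (orderOf_pos g) hq1.one_lt)
    (hge.dvd.trans ((hgC _).1 h5))
  have hfix : MulAction.fixedBy (G ⧸ N) g = MulAction.fixedBy (G ⧸ N) y :=
    Set.eq_of_subset_of_ncard_le (MulAction.fixedBy_subset_fixedBy_zpow _ g (orderOf g / q : ℕ)
      |>.trans (by rw [zpow_natCast])) (by
      rw [← Nat.card_coe_set_eq, ← Nat.card_coe_set_eq, T.card_fixedBy (pow_mem hg _) hyC,
        T.card_fixedBy hg fun h5 => hyC (pow_mem h5 _)])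
  have hjj : j * j = 1 := by rw [← sq, ← hj2, pow_orderOf_eq_one]
  have key : ∀ z : G, z * z = 1 → Commute z y → Commute z j → z = 1 ∨ z = j := by
    intro z hz h5 h6
    obtain ⟨x, hx⟩ : ∃ x, x⁻¹ * (z * y) * x ∈ N := by
      by_contra! h7
      obtain ⟨M, -, hM1, hM2⟩ := exists_pModular Nat.prime_two
      obtain ⟨b, hb, hb'⟩ := (irr_isCharacter (Y l)).isGen.sub_mem_of_commute Nat.prime_two
        hM1.isPrime hM2 h5 (k := 1) (by rwa [pow_one, sq])
      rw [hv _ h7, zero_sub] at hb'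
      refine hM1.ne_top (M.eq_top_of_isUnit_mem (neg_mem hb) (IsUnit.of_pow_eq_one
        (n := q) (Subtype.ext ?_) hq1.ne_zero))
      have := hu y (pow_mem hg _) hyC
      rw [hyq, ← neg_neg ((Y l).1 y), ← hb'] at this
      exact_mod_cast this
    have h7 : x⁻¹ * y * x ∈ N := by
      have := pow_mem hx (q + 1)
      rwa [← inv_inv x, inv_inv x⁻¹, conj_pow, inv_inv, h5.mul_pow, pow_succ y, ← hyq,
        pow_orderOf_eq_one, hyq, hk, show 2 * k + 1 + 1 = 2 * (k + 1) by ring, pow_mul, sq, hz,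
        one_pow, one_mul, one_mul] at this
    have h8 : x⁻¹ * z * x ∈ N := by
      simpa [mul_assoc] using mul_mem hx (inv_mem h7)
    have h9 : x⁻¹ * j * x ∈ N := by
      have := pow_mem ((smul_coe_eq_iff N x g).1 (hfix.ge ((smul_coe_eq_iff N x y).2 h7)))
        (orderOf g / 2)
      rwa [← inv_inv x, inv_inv x⁻¹, conj_pow, inv_inv] at this
    have hsq : ∀ w : G, w * w = 1 → x⁻¹ * w * x * (x⁻¹ * w * x) = 1 := fun w hw => by
      rw [show x⁻¹ * w * x * (x⁻¹ * w * x) = x⁻¹ * (w * w) * x by group, hw]; group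
    have hC' : ∀ w : G, w * w = 1 → x⁻¹ * w * x ∈ C → w = 1 := fun w hw h => by
      simpa [mul_assoc] using congrArg (fun v => x * v * x⁻¹) (hC _ h (hsq w hw))
    refine or_iff_not_imp_left.2 fun hz1 => ?_
    have h10 := H.mul_mem_centralizer h8 h9 (fun h => hz1 (hC' z hz h))
      (fun h => by simp [hC' j hjj h] at hj2) (hsq z hz) (hsq j hjj)
    rw [show x⁻¹ * z * x * (x⁻¹ * j * x) = x⁻¹ * (z * j) * x by group] at h10
    have : z * j = 1 := hC' _ (by rw [← sq, h6.mul_pow, sq, sq, hz, hjj, one_mul]) h10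
    exact mul_right_cancel (this.trans hjj.symm)
  set M := Subgroup.normalizer (Subgroup.zpowers g : Set G)
  have : Fact (Nat.Prime 2) := ⟨Nat.prime_two⟩
  obtain ⟨S⟩ : Nonempty (Sylow 2 M) := inferInstance
  let φ := M.subtype.comp (S : Subgroup M).subtype
  have hS : ∀ s, φ s * φ s = 1 := fun s => by
    obtain ⟨i, hi⟩ := S.isPGroup' s
    exact hinv _ i (by rw [← map_pow, hi, map_one])
  have hpow : ∀ s, ∃ i : ℤ, ∀ k : ℕ, φ s * g ^ k * (φ s)⁻¹ = (g ^ k) ^ i := fun s => by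
    obtain ⟨i, hi⟩ := (Subgroup.mem_normalizer_iff.1 s.1.2 g).1 (Subgroup.mem_zpowers g)
    exact ⟨i, fun k => by
      rw [← conj_pow, ← zpow_natCast g, ← zpow_mul, mul_comm (k : ℤ), zpow_mul, zpow_natCast]
      exact congrArg (· ^ k) hi.symm⟩
  have hpm : ∀ s (k : ℕ), (orderOf (g ^ k)).Prime → φ s * g ^ k * (φ s)⁻¹ = g ^ k ∨
      φ s * g ^ k * (φ s)⁻¹ = (g ^ k)⁻¹ := fun s k hk => by
    obtain ⟨i, hi⟩ := hpow s
    have h5 : (g ^ k) ^ ((i - 1) * (i + 1)) = 1 := by
      rw [show (i - 1) * (i + 1) = i * i - 1 by ring, zpow_sub_one, zpow_mul, ← hi, conj_zpow, ← hi,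
        show ∀ a b : G, a * (a * b * a⁻¹) * a⁻¹ = a * a * b * (a * a)⁻¹ from fun a b => by group, hS]
      simp
    rw [← orderOf_dvd_iff_zpow_eq_one, (Nat.prime_iff_prime_int.1 hk).dvd_mul,
      orderOf_dvd_iff_zpow_eq_one, orderOf_dvd_iff_zpow_eq_one, zpow_sub_one, zpow_add_one,
      mul_inv_eq_one, mul_eq_one_iff_eq_inv] at h5
    rwa [hi]
  let B := (Subgroup.centralizer {y}).comap φ
  have hB : ∀ s, s ∈ B ↔ φ s * y * (φ s)⁻¹ = y := fun s => by
    rw [Subgroup.mem_comap, Subgroup.mem_centralizer_singleton_iff, mul_inv_eq_iff_eq_mul]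
  have h5 : B.index ∣ 2 := Subgroup.index_dvd_two_iff.2 (by
    by_cases h5 : ∀ s, s ∈ B
    · exact ⟨1, fun b => Or.inr (h5 b)⟩
    push Not at h5
    obtain ⟨s, hs⟩ := h5
    refine ⟨s, fun b => or_iff_not_imp_right.2 fun hb => (hB _).2 ?_⟩
    rw [hB] at hs hb
    have h6 := (hpm s _ (hyq.symm ▸ hq1 : (orderOf y).Prime)).resolve_left hs
    have h7 := (hpm b _ (hyq.symm ▸ hq1 : (orderOf y).Prime)).resolve_left hb
    rw [map_mul, show ∀ a b y : G, a * b * y * (a * b)⁻¹ = a * (b * y * b⁻¹) * a⁻¹ from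
      fun a b y => by group, h6, ← conj_inv, h7, inv_inv])
  have h6 : Nat.card B ≤ Nat.card Bool := Nat.card_le_card_of_injective
    (fun s => decide (φ s = 1)) fun s s' h => by
      have h7 : ∀ s : B, φ s = 1 ∨ φ s = j := fun s => key _ (hS s)
        (mul_inv_eq_iff_eq_mul.1 ((hB s).1 s.2)) (mul_inv_eq_iff_eq_mul.1
          ((hpm s _ (hj2.symm ▸ Nat.prime_two : (orderOf j).Prime)).elim id fun h => h.trans (inv_eq_of_mul_eq_one_right hjj)))
      refine Subtype.ext (Subtype.ext (Subtype.ext (show φ s = φ s' from ?_)))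
      have h8 := decide_eq_decide.1 h
      rcases h7 s with h9 | h9
      · rw [h9, h8.1 h9]
      · rcases h7 s' with h10 | h10
        · rw [h10, h8.2 h10]
        · rw [h9, h10]
  have h7 := Nat.le_of_dvd Nat.card_pos (S.pow_dvd_card_of_pow_dvd_card (n := 3)
    (Dvd.dvd.trans ⟨c * (2 * (a * c) + 1), by rw [he, hc]; ring⟩ hM))
  rw [← B.card_mul_index] at h7
  have := Nat.mul_le_mul h6 (Nat.le_of_dvd two_pos h5)
  rw [Nat.card_eq_fintype_card (α := Bool), Fintype.card_bool] at this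
  omega

theorem cases : 3 < p ∧ (2 * e + 1 = p ∧ n = 1 ∨
    e = 2 ∧ ∃ θ : IrrCharacter G, charDegree θ.1 + 2 = p) := by
  have := Fintype.ofFinite A
  have H := T.syl
  obtain ⟨l⟩ := H.nonempty_hatNe
  obtain ⟨a, b, hab, h1⟩ := T.exists_count
  have h2 := T.degree_rel l
  have h3 := T.card_range_mul
  have hn := T.pos
  have he1 := H.card_autN_ne_one T.perf
  have hp1 := hp.out.one_lt
  have hp0 : (p : ℤ) ≠ 0 := by omega
  have he := Nat.le_of_dvd (by omega) H.card_autN_dvd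
  rw [h1] at h2
  rcases T.degY l with ⟨h, h4⟩ | ⟨h, h4⟩
  · obtain ⟨k, hk⟩ := T.exists_fix_Y l
    rw [h] at h2 hk
    set t := (bset (Set.range Y)).card
    have h5 : t * k = n + 1 := by
      zify [hp1.le] at h3 h4 ⊢
      exact mul_left_cancel₀ hp0 (by linear_combination h4 + h3 - t * hk)
    have h6 : a * (n + 1) + k + 1 = e := by
      zify at hab ⊢
      exact mul_left_cancel₀ hp0 (by linear_combination h2 - hk + (p - 1) * hab)
    have ht : 0 < t := Nat.pos_of_ne_zero fun h => by rw [h] at h5; omega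
    have h7 := T.succ_dvd (by
      rcases Nat.eq_zero_or_pos a with rfl | ha
      · have : t * k < t * e := Nat.mul_lt_mul_of_pos_left (by omega) ht
        omega
      · have := Nat.le_mul_of_pos_left (n + 1) ha; omega)
    rw [← h3, ← h5] at h7
    obtain rfl : k = 1 := by
      have := Nat.dvd_of_mul_dvd_mul_left ht h7
      rwa [← h6, ← h5, Nat.dvd_add_right ((Nat.dvd_add_left dvd_rfl).2
        ((dvd_mul_left k t).mul_left a)), Nat.dvd_one] at this
    rw [mul_one] at h5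
    rw [h5] at h3
    have h8 : charDegree (Y l).1 + e = p := by omega
    rcases T.eq_two h h8 (a := a) (by omega) (by omega) with h9 | h9
    · subst h9; omega
    · rw [h9] at h3 h8
      exact ⟨by omega, Or.inr ⟨h9, _, h8⟩⟩
  · have h5 : a * (n + 1) + 1 = e := by
      rw [h, h4] at h2
      zify at hab ⊢
      exact mul_left_cancel₀ hp0 (by linear_combination h2 + (p - 1) * hab)
    have ha : 0 < a := Nat.pos_of_ne_zero fun h => by rw [h] at h5; omega
    have h6 := T.succ_dvd (by have := Nat.le_mul_of_pos_left (n + 1) ha; omega)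
    have h7 : e < p - 1 := lt_of_le_of_ne he fun h' => by
      rw [← h', ← h5, Nat.dvd_add_right (dvd_mul_left _ _), Nat.dvd_one] at h6
      omega
    obtain ⟨h8, -, h9, -⟩ := H.faithful_small (irr_isCharacter (Y l)) (le_bot_iff.1 (T.bot ▸
      H.ker_le_pPrimeCore (T.sum_eq_zero_Y h h4))) (h4 ▸ H.two_mul_card_autN_le h7)
      (H.not_normal_of_perfect T.perf)
    rw [h4] at h8 h9
    rw [show p - 1 = 2 * a * (n + 1) + 2 by rw [mul_assoc]; omega,
      Nat.dvd_add_right (dvd_mul_left _ _)] at h6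
    have := Nat.le_of_dvd two_pos h6
    omega

end BR

theorem PrimeSyl.brauer_dichotomy {ι : A →* G} (H : PrimeSyl p ι) (hperf : commutator G = ⊤)
    (hO : pPrimeCore p G = ⊥) {n : ℕ}
    (hn : (Subgroup.normalizer (ι.range : Set G)).index = 1 + n * p) (hr : NoRep p n) :
    3 < p ∧ (Nonempty (G ≃* Matrix.ProjectiveSpecialLinearGroup (Fin 2) (ZMod p)) ∧
      2 * Nat.card G = (p + 1) * p * (p - 1) ∨
      (∃ (a : ℕ) (F : Type) (_ : Field F) (_ : Fintype F), p = 2 ^ a + 1 ∧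
        Fintype.card F = 2 ^ a ∧ Nonempty (G ≃* Matrix.SpecialLinearGroup (Fin 2) F)) ∧
      Nat.card G = p * (p - 1) * (p - 2)) := by
  obtain ⟨X, Y, δ, δ₀, T⟩ := H.exists_br hperf hO hn hr
  obtain ⟨h3, ⟨h1, rfl⟩ | ⟨h1, θ, h2⟩⟩ := T.cases
  · refine ⟨h3, Or.inl ⟨H.nonempty_psl2 h3 T.cent h1 (by omega) hperf, ?_⟩⟩
    rw [T.card_eq, show p - 1 = 2 * Nat.card (autN ι) by omega]
    ring
  · obtain ⟨χ, Z, O⟩ := H.exists_pm2 h3 T.cent (card_autN H.inj ▸ h1) hO (Or.inr h2)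
    exact ⟨h3, Or.inr ⟨O.exists_SL2, O.card_eq⟩⟩

theorem PrimeSyl.comp {G' : Type*} [Group G'] [Finite G'] {ι : A →* G} (H : PrimeSyl p ι)
    {f : G →* G'} (hf : Function.Surjective f) (hk : ¬ p ∣ Nat.card f.ker) :
    PrimeSyl p (f.comp ι) :=
  ⟨(injective_iff_map_eq_one _).2 fun u hu => by_contra fun h => hk ((H.dvd_orderOf h).trans
    (Subgroup.orderOf_dvd_natCard _ hu)), H.card,
    f.range_comp ι ▸ H.syl.map_top_of_surjective hf⟩

theorem PrimeSyl.brauer_dichotomy' {ι : A →* G} (H : PrimeSyl p ι) (hperf : commutator G = ⊤)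
    {n : ℕ} (hn : (Subgroup.normalizer (ι.range : Set G)).index = 1 + n * p) (hr : NoRep p n) :
    3 < p ∧ (Nonempty (G ⧸ pPrimeCore p G ≃* Matrix.ProjectiveSpecialLinearGroup (Fin 2) (ZMod p))
      ∧ 2 * (pPrimeCore p G).index = (p + 1) * p * (p - 1) ∨
      (∃ (a : ℕ) (F : Type) (_ : Field F) (_ : Fintype F), p = 2 ^ a + 1 ∧ Fintype.card F = 2 ^ a
        ∧ Nonempty (G ⧸ pPrimeCore p G ≃* Matrix.SpecialLinearGroup (Fin 2) F)) ∧
      (pPrimeCore p G).index = p * (p - 1) * (p - 2)) := by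
  have hf := QuotientGroup.mk'_surjective (pPrimeCore p G)
  have H' := H.comp hf (by rw [QuotientGroup.ker_mk']; exact not_dvd_card_pPrimeCore p G)
  have hperf' : commutator (G ⧸ pPrimeCore p G) = ⊤ := by
    rw [commutator_def, ← MonoidHom.range_eq_top.2 hf, ← map_commutator_eq, hperf,
      MonoidHom.range_eq_map]
  have h1 := Subgroup.index_dvd_of_le (Subgroup.map_le_iff_le_comap.1
    (ι.range.le_normalizer_map (QuotientGroup.mk' (pPrimeCore p G))))
  rw [Subgroup.index_comap_of_surjective _ hf, ← MonoidHom.range_comp, hn] at h1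
  obtain ⟨u, hu⟩ := (Nat.modEq_iff_dvd' (Nat.pos_of_ne_zero Subgroup.index_ne_zero_of_finite)).1
    H'.index_normalizer_modEq.symm
  have h2 := Nat.eq_add_of_sub_eq (Nat.pos_of_ne_zero Subgroup.index_ne_zero_of_finite) hu
  rw [add_comm, mul_comm] at h2
  rw [h2] at h1
  obtain rfl : u = n := le_antisymm (Nat.le_of_mul_le_mul_right (by
    have := Nat.le_of_dvd (by omega) h1; omega) hp.out.pos) (not_lt.1 fun h => hr u
      (Nat.pos_of_ne_zero fun h => H'.not_normal_of_perfect hperf'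
        (Subgroup.normalizer_eq_top_iff.1 (Subgroup.index_eq_one.1 (by simpa [h] using h2)))) h
      (h1.mul_left _))
  exact H'.brauer_dichotomy hperf' (pPrimeCore_quotient_pPrimeCore p G) h2 hr

theorem exists_rep_of_not_noRep {p n : ℕ} (hp : 0 < p) (h : ¬ NoRep p n) :
    ∃ h u : ℕ, 0 < h ∧ 0 < u ∧ n * (u + 1) = h * u * p + u ^ 2 + u + h := by
  simp only [NoRep, not_forall, not_not] at h
  obtain ⟨u, hu, hn, v, hv⟩ := h
  obtain ⟨m, rfl⟩ := Nat.exists_eq_add_of_lt hn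
  obtain ⟨k, hk⟩ : 1 + u * p ∣ (m + 1) * (u + 1) := by
    refine (show (1 + u * p).Coprime p by simp).dvd_of_dvd_mul_left
      (Int.natCast_dvd_natCast.1 ⟨p * (m + 1) + u * (p - 1) - u * v, ?_⟩)
    zify [hp] at hv
    push_cast
    linear_combination -u * hv
  exact ⟨k, u, Nat.pos_of_ne_zero fun h => by simp [h] at hk, hu, by linear_combination hk⟩

end BT
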