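import Cfsg.Agent.Lib.Block.FeitBig
import Cfsg.Agent.Lib.Block.OneBR
import Cfsg.Agent.Lib.Block.AbFree

/-!
# Feit's theorem on linear groups of degree at most `p - 2`
-/

set_option autoImplicit false
set_option linter.unusedSectionVars false

namespace BT

open Cfsg CT GT LG
open scoped ComplexConjugate commutatorElement Pointwise

universe u

variable {p : ℕ} [hp : Fact p.Prime]
variable {G : Type*} [Group G] [Finite G]

/-- Bessel's inequality. -/
theorem sum_norm_ip_sq_le {F : G → ℂ} (hF : IsClassFunction G F) (s : Finset (IrrCharacter G)) :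
    ∑ χ ∈ s, ‖ip F χ.1‖ ^ 2 ≤ (ip F F).re := by
  rw [ip_eq_sum_irr hF hF, Complex.re_sum]
  simp only [Complex.mul_conj', ← Complex.ofReal_pow, Complex.ofReal_re]
  exact Finset.sum_le_sum_of_subset_of_nonneg (Finset.subset_univ _) fun _ _ _ => by positivity

theorem sum_ite_mem_subgroup {K N : Subgroup G} (h : K ≤ N) [Fintype N] [DecidablePred (· ∈ K)]
    (r : ℝ) : ∑ n : N, (if (n : G) ∈ K then r else 0) = Nat.card K * r := by
  classical
  rw [← Finset.sum_filter, Finset.sum_const, nsmul_eq_mul, ← card_subgroupOf_of_le h,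
    Nat.card_eq_fintype_card, Fintype.card_subtype]
  congr

section Fix
variable {A : Type*} [CommGroup A] [Fintype A] {ι : A →* G} (hι : Function.Injective ι)

local notation "N" => Subgroup.normalizer (MonoidHom.range ι : Set G)

include hι

theorem isCharacter_fixPart' {θ : G → ℂ} (hθ : IsCharacter G θ) :
    IsCharacter _ (fixPart ι θ) := by
  convert hθ.isotypic (Subgroup.subtype _) ι 1 fun n => ⟨(conjA hι n).toEquiv, fun u =>
    ⟨(eq_mul_inv_iff_mul_eq.1 (conjA_spec hι n u)).symm, rfl⟩⟩ using 2 with n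
  simp only [fixPart, hθ.isClassFunction.mul_comm (ι _), MonoidHom.one_apply, Units.val_one,
    one_mul, Subgroup.coe_subtype]

theorem isCharacter_res_sub_fixPart {θ : G → ℂ} (hθ : IsCharacter G θ) :
    IsCharacter _ (res N θ - fixPart ι θ) := by
  have h1 := isCharacter_fixPart' hι hθ
  refine (isCharacter_iff_ip_nat ((hθ.res _).isClassFunction.sub h1.isClassFunction)).2 fun l => ?_
  rw [ip_sub_left]
  by_cases h : ip (fixPart ι θ) l.1 = 0
  · rw [h, sub_zero]; exact (hθ.res _).exists_nat_ip (irr_isCharacter l)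
  · exact ⟨0, by
      rw [ip_fixPart ι θ fun u => h1.ker_le_of_ip_ne_zero l h (fixPart_mul ι θ u), sub_self,
        Nat.cast_zero]⟩

theorem fixPart_apply_of_free {θ : G → ℂ} (hθ : IsClassFunction G θ) {n : N}
    (hn : ∀ u, Commute (n : G) (ι u) → u = 1) : fixPart ι θ n = θ n := by
  have h1 : Function.Injective fun v : A => v / conjA hι n v := fun v w h => by
    refine div_eq_one.1 (hn _ (mul_inv_eq_iff_eq_mul.1 ?_))
    rw [← conjA_spec hι, map_div, div_eq_div_iff_div_eq_div.1 h]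
  rw [fixPart, Finset.sum_congr rfl (g := fun _ => θ n) fun u _ => ?_, Finset.sum_const,
    Finset.card_univ, ← Nat.card_eq_fintype_card, nsmul_eq_mul,
    inv_mul_cancel_left₀ card_cast_ne_zero]
  obtain ⟨v, rfl⟩ := Finite.injective_iff_surjective.1 h1 u
  rw [← hθ n (ι v)]
  simp only [div_eq_mul_inv, map_mul, map_inv, conjA_spec]
  congr 1
  group

theorem card_mul_fix_sq_le (hZ : Disjoint ι.range (Subgroup.center G))
    (hTI : ∀ x ∉ Subgroup.center G, ∀ u ≠ 1, Commute x (ι u) → ∀ g : G, ∀ v ≠ 1,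
      Commute (g⁻¹ * x * g) (ι v) → g ∈ N) (η : IrrCharacter G) (h : ¬ ι.range ≤ ker η.1) {f : ℕ}
    (hf : ∑ u, η.1 (ι u) = Nat.card A * f) : Nat.card A * f ^ 2 ≤ charDegree η.1 ^ 2 := by
  classical
  have := Fintype.ofFinite N
  have hη := irr_isCharacter η
  let X : Set G := {x | x ∉ Subgroup.center G ∧ ∃ u ≠ 1, Commute x (ι u)}
  let θ : N → ℂ := fun n => if (n : G) ∈ X then η.1 n else 0
  have hX : ∀ x ∈ X, ∀ n : N, n * x * (n : G)⁻¹ ∈ X := by
    rintro x ⟨h1, u, hu, h2⟩ n
    refine ⟨fun h => h1 (by simpa [mul_assoc] using Subgroup.Normal.conj_mem' inferInstance _ h n),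
      conjA hι n u, by simpa using hu, ?_⟩
    rw [conjA_spec]
    exact h2.conj _
  have hθ : IsClassFunction N θ := fun g k => if_congr
    ⟨fun h => by
      convert hX _ h k⁻¹ using 1
      simp only [Subgroup.coe_mul, Subgroup.coe_inv]; group, fun h => hX _ h k⟩
    (hη.isClassFunction _ _) rfl
  have h0 : ∀ k : N, (k : G) ∉ X → θ k = 0 := fun k hk => if_neg hk
  have h1 := sum_norm_ip_sq_le (isClassFunction_ind N θ) {η}
  rw [Finset.sum_singleton, ip_ind_ind_of_TI (fun x hx g hg => by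
    obtain ⟨u, hu, h1⟩ := hx.2
    obtain ⟨v, hv, h2⟩ := hg.2
    exact hTI x hx.1 u hu h1 g v hv h2) hθ h0 h0, ip_ind_left _ _ hη.isClassFunction,
    show ip θ (res N η.1) = ip θ θ by
      rw [ip_def, ip_def]
      exact congrArg _ (Finset.sum_congr rfl fun n _ => by
        rw [res_apply]; by_cases h : (n : G) ∈ X <;> simp [θ, h]), ip_self_eq, Complex.ofReal_re,
    Complex.norm_real, Real.norm_of_nonneg (by positivity)] at h1
  have hζ := isCharacter_fixPart' hι hη
  have hξ := isCharacter_res_sub_fixPart hι hη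
  have hk : ∀ u, subHom ι Subgroup.le_normalizer u ∈ ker (fixPart ι η.1) := fixPart_mul ι η.1
  obtain ⟨m, hm⟩ := hξ.exists_nat_ip hξ
  have hm0 : m ≠ 0 := by
    rintro rfl
    rw [Nat.cast_zero, ip_self_eq_zero, sub_eq_zero] at hm
    rw [← hm, hη.ker_res] at hk
    exact h (by rintro _ ⟨u, rfl⟩; exact hk u)
  rw [ip_sub_left, ip_sub_right, ip_sub_right, hζ.ip_comm (hη.res _), ← ip_fixPart ι η.1 hk,
    sub_self, sub_zero, ip_self_eq, ip_self_eq, ← Complex.ofReal_sub, ← Complex.ofReal_natCast,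
    Complex.ofReal_inj, ← mul_sub] at hm
  have h2 : fixPart ι η.1 1 = f := by
    simp only [fixPart, OneMemClass.coe_one, mul_one, hf, inv_mul_cancel_left₀ card_cast_ne_zero]
  obtain ⟨u₀, hu₀⟩ : ∃ u : A, u ≠ 1 := by
    by_contra! h3
    exact h (by rintro _ ⟨u, rfl⟩; rw [h3 u, map_one]; exact one_mem _)
  have hZN : Subgroup.center G ≤ N := Subgroup.center_le_normalizer _
  have h3 : ∀ n : N, (if (n : G) ∈ ι.range ⊔ Subgroup.center G then (f : ℝ) ^ 2 else 0) -
      (if (n : G) ∈ Subgroup.center G then (charDegree η.1 : ℝ) ^ 2 else 0) ≤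
      ‖θ n‖ ^ 2 - (‖res N η.1 n‖ ^ 2 - ‖fixPart ι η.1 n‖ ^ 2) := fun n => by
    have h4 : (n : G) ∈ ι.range ⊔ Subgroup.center G →
        ‖fixPart ι η.1 n‖ = f ∧ Commute (n : G) (ι u₀) := fun h => by
      obtain ⟨_, ⟨u, rfl⟩, z, hz, h5⟩ :=
        (mem_sup_of_le_normalizer_right Subgroup.le_normalizer_of_normal).1 h
      refine ⟨?_, h5 ▸ ((Commute.all u u₀).map ι).mul_left
        (Subgroup.mem_center_iff.1 hz _).symm⟩
      obtain ⟨c, h6, h7, -⟩ := exists_scalar hη (center_le_irr_center η hz)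
      rw [show n = subHom ι Subgroup.le_normalizer u * ⟨z, hZN hz⟩ from Subtype.ext h5.symm,
        fixPart_mul, show fixPart ι η.1 ⟨z, hZN hz⟩ = c * f by
          simp only [← h2, fixPart, Subgroup.mem_center_iff.1 hz, OneMemClass.coe_one, mul_one]
          rw [mul_left_comm, Finset.mul_sum _ _ c]
          exact congrArg _ (Finset.sum_congr rfl fun v _ => by simpa using h7 1 (ι v)),
        norm_mul, norm_eq_one_of_pow_eq_one' (orderOf_pos z).ne' h6, one_mul, Complex.norm_natCast]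
    have h5 : ‖res N η.1 n‖ ^ 2 ≤ (charDegree η.1 : ℝ) ^ 2 :=
      pow_le_pow_left₀ (norm_nonneg _) (hη.norm_le _) 2
    by_cases h6 : (n : G) ∈ Subgroup.center G
    · rw [if_pos h6, if_pos (Subgroup.mem_sup_right h6), (h4 (Subgroup.mem_sup_right h6)).1]
      nlinarith [sq_nonneg ‖θ n‖]
    rw [if_neg h6, sub_zero]
    by_cases h7 : (n : G) ∈ X
    · rw [show θ n = res N η.1 n from if_pos h7, sub_sub_cancel]
      split_ifs with h8
      · rw [(h4 h8).1]
      · positivity
    · rw [if_neg fun h => h7 ⟨h6, u₀, hu₀, (h4 h).2⟩, fixPart_apply_of_free hι hη.isClassFunction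
        fun u hu => by_contra fun h => h7 ⟨h6, u, h, hu⟩, res_apply]
      simp
  have h4 := Finset.sum_le_sum fun n (_ : n ∈ Finset.univ) => h3 n
  simp only [Finset.sum_sub_distrib] at h4
  rw [sum_ite_mem_subgroup (sup_le Subgroup.le_normalizer hZN), sum_ite_mem_subgroup hZN,
    card_sup_of_disjoint hZ, card_range_of_injective hι] at h4
  have h5 : (0 : ℝ) < Nat.card N := Nat.cast_pos.2 Nat.card_pos
  have h6 : (0 : ℝ) < Nat.card (Subgroup.center G) := Nat.cast_pos.2 Nat.card_pos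
  have h7 : (1 : ℝ) ≤ m := by exact_mod_cast Nat.pos_of_ne_zero hm0
  have h8 : (Nat.card N : ℝ)⁻¹ * ∑ n, ‖θ n‖ ^ 2 ≤ 1 := by nlinarith
  rw [inv_mul_le_iff₀ h5] at h8
  rw [inv_mul_eq_iff_eq_mul₀ h5.ne'] at hm
  have h9 : (Nat.card (Subgroup.center G) : ℝ) * (Nat.card A * f ^ 2) ≤
      Nat.card (Subgroup.center G) * charDegree η.1 ^ 2 := by
    push_cast at h4
    nlinarith
  exact_mod_cast le_of_mul_le_mul_left h9 h6

theorem le_degree_succ_of_TI (hZ : Disjoint ι.range (Subgroup.center G))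
    (hTI : ∀ x ∉ Subgroup.center G, ∀ u ≠ 1, Commute x (ι u) → ∀ g : G, ∀ v ≠ 1,
      Commute (g⁻¹ * x * g) (ι v) → g ∈ N) (hno : ∀ K : Subgroup G, K.Normal → ι.range ≤ K → K = ⊤)
    {q : ℕ} (hq : q ^ 2 ≤ Nat.card A) (χ : IrrCharacter G) (hd : charDegree χ.1 ≠ 1) :
    q ≤ charDegree χ.1 + 1 := by
  classical
  have hχ := irr_isCharacter χ
  have hΘ := hχ.mul hχ.cbar
  set Θ := χ.1 * cbar χ.1 with hΘd
  choose f hf using fun α : IrrCharacter G => (irr_isCharacter α).exists_nat_sum ι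
  obtain ⟨k, h1, h2, h3⟩ := hχ.exists_hat_mult ι
  have h4 : ∑ α : IrrCharacter G, mult Θ α.1 * f α = ∑ m, k m * k m := by
    have h5 : ∑ u, Θ (ι u) = Nat.card A * ∑ m, (k m * k m : ℂ) := by
      simp only [hΘd, Pi.mul_apply, cbar_apply]
      rw [Finset.sum_congr rfl fun u _ => by rw [congrArg conj (h1 u), map_sum, Finset.mul_sum],
        Finset.sum_comm, Finset.mul_sum]
      refine Finset.sum_congr rfl fun m _ => ?_
      simp only [map_mul, Complex.conj_natCast, mul_left_comm _ (k m : ℂ), ← Finset.mul_sum, h2]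
    have h6 : ∑ u, Θ (ι u) = Nat.card A * ∑ α : IrrCharacter G, (mult Θ α.1 * f α : ℂ) := by
      simp only [hΘ.isClassFunction.apply_eq_sum_irr (ι _)]
      rw [Finset.sum_comm, Finset.mul_sum]
      refine Finset.sum_congr rfl fun α _ => ?_
      rw [← Finset.mul_sum, hf, hΘ.ip_eq_mult (irr_isCharacter α)]; ring
    exact_mod_cast mul_left_cancel₀ card_cast_ne_zero (h6.symm.trans h5)
  have h5 : ∑ α : IrrCharacter G, mult Θ α.1 * charDegree α.1 =
      charDegree χ.1 * charDegree χ.1 := by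
    rw [← hΘ.degree_eq_sum_mult]
    refine charDegree_eq_of_apply_one ?_
    simp [hΘd, irr_apply_one]
  have hm : mult Θ (irrOne G).1 = 1 := mult_eq_of_ip_eq (by
    rw [hΘd, ip_mul_left]
    convert ip_irr_self χ using 2
    · ext g; simp
    · simp)
  have hf1 : f (irrOne G) = 1 := by
    have := hf (irrOne G)
    simp only [irrOne_apply, Finset.sum_const, Finset.card_univ, ← Nat.card_eq_fintype_card,
      nsmul_eq_mul] at this
    exact_mod_cast (mul_left_cancel₀ card_cast_ne_zero this).symm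
  have h6 : ∀ α ∈ Finset.univ.erase (irrOne G),
      q * (mult Θ α.1 * f α) ≤ mult Θ α.1 * charDegree α.1 := fun α hα => by
    have := card_mul_fix_sq_le hι hZ hTI α (fun h => Finset.ne_of_mem_erase hα
      ((irr_ker_eq_top_iff α).1 (hno _ inferInstance h))) (hf α)
    rw [mul_left_comm]
    refine Nat.mul_le_mul_left _ (Nat.pow_le_pow_iff_left two_ne_zero |>.1 ?_)
    rw [mul_pow]
    exact (Nat.mul_le_mul_right _ hq).trans this
  have h7 := Finset.sum_le_sum h6
  rw [← Finset.mul_sum] at h7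
  rw [← Finset.add_sum_erase _ _ (Finset.mem_univ (irrOne G)), hm] at h4 h5
  rw [hf1] at h4
  rw [charDegree_irrOne] at h5
  have h8 : ∑ m, k m ≤ ∑ m, k m * k m := Finset.sum_le_sum fun m _ => Nat.le_mul_self _
  obtain ⟨e, he⟩ : ∃ e, charDegree χ.1 = e + 2 := ⟨charDegree χ.1 - 2, by
    have := irr_degree_pos χ; omega⟩
  rw [he] at h3 h5 ⊢
  by_contra! h
  have := Nat.mul_le_mul (show e + 4 ≤ q by omega)
    (show e + 1 ≤ ∑ α ∈ Finset.univ.erase (irrOne G), mult Θ α.1 * f α by omega)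
  nlinarith

end Fix

namespace FeitMin
variable {χ : IrrCharacter G} (F : FeitMin p χ)
include F

theorem comm {P : Subgroup G} (hP : IsPGroup p P) : ∀ x ∈ P, ∀ y ∈ P, x * y = y * x :=
  comm_of_isPGroup_of_lt (irr_isCharacter χ) F.faith (by have := F.lt; omega) hP

theorem free {P : Subgroup G} (hP : IsSylowIn p P ⊤) {y : G} (hy : y ∈ P) (h1 : y ≠ 1) {g : G}
    (h : g⁻¹ * y * g ∈ Subgroup.normalizer (P : Set G)) : g ∈ Subgroup.normalizer (P : Set G) := by
  classical
  have hχ := irr_isCharacter χ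
  have hy' := isPElt_of_mem hP.isPGroup hy
  have h2 : y ∈ MulAut.conj g • P := mem_conj_smul.2
    (hP.mem_of_mem_normalizer (by simpa using hy'.conj g⁻¹) trivial h)
  set C := Subgroup.centralizer ({y} : Set G)
  have h3 : ∀ Q : Subgroup G, IsSylowIn p Q ⊤ → y ∈ Q → IsSylowIn p Q C := fun Q hQ h =>
    hQ.of_le (fun x hx => Subgroup.mem_centralizer_singleton_iff.2 (F.comm hQ.isPGroup x hx y h))
      le_top
  have h4 := h3 _ hP hy
  have h5 := h3 _ (hP.conj_of_mem (g := g) trivial) h2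
  by_cases h6 : p ∣ (pCore p C).index
  · obtain ⟨S, ι, ψ, W⟩ := F.exists_linCore (H := C) (fun h => h1 (F.eq_one_of_mem_center hy'
      (Subgroup.centralizer_eq_top_iff_subset.1 h (Set.mem_singleton y)))) h6
    let y' : C := ⟨y, Subgroup.mem_centralizer_singleton_iff.2 rfl⟩
    obtain ⟨c, -, -, h7⟩ := exists_scalar (irr_isCharacter ψ) (center_le_irr_center ψ (x := y')
      (Subgroup.mem_center_iff.2 fun x => Subtype.ext
        (show (x : G) * y = y * x from Subgroup.mem_centralizer_singleton_iff.1 x.2)))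
    obtain ⟨t, ht⟩ := exists_isEig ((hχ.res C).sub_irr ψ W.mem) y'
    have h8 := W.big
    refine absurd (F.eq_one_of_count hy' ((sub_add_cancel (res C χ.1) ψ.1 ▸ ht.add h7).congr
      fun _ => rfl) (c := c) ?_) h1
    rw [Multiset.count_add, Multiset.count_replicate_self]
    omega
  · have h7 := (normal_sylow_iff_not_dvd_index_pCore h4.toSylow).2 h6
    rw [IsSylowIn.coe_toSylow, Subgroup.normal_subgroupOf_iff_le_normalizer h4.le] at h7
    exact conj_smul_eq_iff_mem_normalizer.1 (h4.eq_of_le_normalizer h7 h5)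

theorem centralizer_le {P : Subgroup G} (hP : IsSylowIn p P ⊤) (h2 : p ^ 2 ∣ Nat.card P) {y : G}
    (hy : y ∉ Subgroup.center G) {r : G} (hr : r ∈ P) (h1 : r ≠ 1) (hc : Commute y r) :
    Subgroup.centralizer ({y} : Set G) ≤ Subgroup.normalizer (P : Set G) := by
  classical
  have hχ := irr_isCharacter χ
  have hr' := isPElt_of_mem hP.isPGroup hr
  have h3 : ∀ x, Commute x r → x ∈ Subgroup.normalizer (P : Set G) := fun x hx =>
    F.free hP hr h1 (by rw [mul_assoc, ← hx.eq, inv_mul_cancel_left]; exact Subgroup.le_normalizer hr)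
  set K := Subgroup.centralizer ({y} : Set G)
  have hK : K ≠ ⊤ := fun h => hy (Subgroup.centralizer_eq_top_iff_subset.1 h rfl)
  let r' : K := ⟨r, Subgroup.mem_centralizer_singleton_iff.2 hc.symm⟩
  by_contra h4
  have h5 : pCore p K = ⊥ := by
    have h5 : ∀ z ∈ pCore p K, (z : G) ∈ P := fun z hz => hP.mem_of_mem_normalizer
      (isPElt_coe.2 (isPElt_of_mem (isPGroup_pCore p K) hz)) trivial (h3 _ (congrArg Subtype.val
        (comm_of_isPGroup_of_lt (hχ.res K) (F.ker_res K) (Nat.lt_of_succ_lt F.lt)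
          ((isPGroup_pCore p K).to_sup_of_normal_left (isPElt_coe.1 hr' : IsPElt p r').isPGroup_zpowers)
          z (Subgroup.mem_sup_left hz) r' (Subgroup.mem_sup_right (Subgroup.mem_zpowers _)))))
    refine eq_bot_iff.2 fun z hz => by_contra fun h => h4 fun k hk => ?_
    exact F.free hP (h5 z hz) (fun h' => h (Subtype.ext h')) (Subgroup.le_normalizer
      (h5 _ (Subgroup.Normal.conj_mem' inferInstance z hz ⟨k, hk⟩)))
  have h6 := F.ind K hK
  obtain ⟨S, κ, ψ, W⟩ := F.exists_linCore hK (by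
    rw [h5, Subgroup.index_bot]
    exact ((isPElt_coe.1 hr' : IsPElt p r').dvd_orderOf fun h => h1 (congrArg Subtype.val h)).trans
      (orderOf_dvd_natCard _))
  rw [h5, Subgroup.index_bot] at h6
  obtain ⟨x, hx, h7⟩ : ∃ x ∈ P, x ∉ K := by
    by_contra! h
    exact h6 (h2.trans (Subgroup.card_dvd_of_le h))
  obtain ⟨s, u, h8, z, hz, h9⟩ := W.exists_eq_mul (isPElt_coe.1 hr' : IsPElt p r')
  rw [h5, Subgroup.mem_bot] at hz
  rw [hz, one_mul] at h9
  obtain ⟨g, hg⟩ := isConj_iff.1 h8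
  have hu : u ≠ 1 := by
    rintro rfl
    exact h1 (congrArg Subtype.val (show r' = 1 by simpa [← hg] using h9))
  let κ₀ : Multiplicative (ZMod p) →* S := (MulAut.conj g).toMonoidHom.comp κ
  let κ' : Multiplicative (ZMod p) →* G := K.subtype.comp (S.subtype.comp κ₀)
  have hκ : Function.Injective κ' := K.subtype_injective.comp (S.subtype_injective.comp
    ((MulAut.conj g).injective.comp W.syl.inj))
  have h10 : ∀ w, Commute w r → w ∈ Subgroup.normalizer (κ'.range : Set G) := fun w hw =>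
    Subgroup.centralizer_le_normalizer _ (Subgroup.mem_centralizer_iff.2 (by
      rintro _ ⟨v, rfl⟩
      obtain ⟨j, rfl⟩ := mem_zpowers_of_prime_card W.syl.card hu (g' := v)
      have : κ' u = r := by simp [κ', κ₀, hg, ← h9, r']
      simp only [map_zpow, this]
      exact (hw.zpow_right j).symm))
  have := Fintype.ofFinite (Multiplicative (ZMod p))
  have hψ := irr_isCharacter ψ
  have hd := ((hχ.res K).degree_le_of_ip_ne_zero ψ W.mem).trans_lt (Nat.lt_of_succ_lt_succ
    (show charDegree χ.1 + 1 < p - 1 + 1 by have := F.lt; omega))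
  obtain ⟨f, h11, h12⟩ := W.exists_fix (by omega)
  have hθ := isCharacter_res_sub_fixPart hκ hχ
  have hp0 : (p : ℂ) ≠ 0 := Nat.cast_ne_zero.2 hp.out.ne_zero
  have h13 : ∀ (w : K) (hw : (w : G) ∈ Subgroup.normalizer (κ'.range : Set G)) (c : ℂ),
      (∀ k, ψ.1 (w * k) = c * ψ.1 k) →
      (res (Subgroup.normalizer (κ'.range : Set G)) χ.1 - fixPart κ' χ.1 : _ → ℂ) ⟨w, hw⟩ =
        c * (charDegree ψ.1 - f) := fun w hw c h => by
    have h14 : ∀ v, χ.1 (κ' v * w) = c * ψ.1 (κ v) + (χ.1 w - ψ.1 w) := fun v => by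
      have h15 : χ.1 (κ' v * w) - ψ.1 (κ₀ v * w) = χ.1 w - ψ.1 w :=
        apply_mul_of_mem_ker (W.le_ker (κ₀ v).2) w
      rw [← h15, hψ.isClassFunction.mul_comm, h, show ψ.1 (κ₀ v) = ψ.1 (κ v) from
        hψ.isClassFunction (κ v) g]
      ring
    have h15 := h 1
    rw [mul_one, irr_apply_one] at h15
    simp only [Pi.sub_apply, res_apply, fixPart, h14, Finset.sum_add_distrib, ← Finset.mul_sum, h11,
      Finset.sum_const, Finset.card_univ, ← Nat.card_eq_fintype_card, W.syl.card, nsmul_eq_mul, h15]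
    field_simp
    ring
  have h14 : charDegree (res _ χ.1 - fixPart κ' χ.1) = charDegree ψ.1 - f :=
    charDegree_eq_of_apply_one (by
      rw [Nat.cast_sub (by have := hp.out.two_le; omega)]
      exact (h13 1 (one_mem _) 1 (by simp)).trans (one_mul _))
  let y' : K := ⟨y, Subgroup.mem_centralizer_singleton_iff.2 rfl⟩
  obtain ⟨c, h15, h16, -⟩ := exists_scalar hψ (center_le_irr_center ψ (x := y')
    (Subgroup.mem_center_iff.2 fun x => Subtype.ext
      (show (x : G) * y = y * x from Subgroup.mem_centralizer_singleton_iff.1 x.2)))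
  have h17 := hθ.commutator_mem_ker_of_mem_center (z := ⟨y, h10 y hc⟩) (by
    rw [hθ.mem_center_iff, h13 y' _ c (by simpa using h16 1), norm_mul,
      norm_eq_one_of_pow_eq_one' (orderOf_pos _).ne' h15, one_mul, h14,
      ← Nat.cast_sub (by have := hp.out.two_le; omega), Complex.norm_natCast])
    ⟨x, h10 x (F.comm hP.isPGroup x hx r hr)⟩
  set q := ⁅(⟨y, h10 y hc⟩ : Subgroup.normalizer (κ'.range : Set G)),
    (⟨x, h10 x (F.comm hP.isPGroup x hx r hr)⟩ : Subgroup.normalizer (κ'.range : Set G))⁆ with hq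
  have h18 : (q : G) = y * x * y⁻¹ * x⁻¹ := rfl
  obtain ⟨t, ht⟩ := exists_isEig (isCharacter_fixPart' hκ hχ) q
  have h19 := (isEig_replicate (χ := res _ χ.1 - fixPart κ' χ.1) (n := charDegree ψ.1 - f)
    one_ne_zero fun k => by
    rw [hθ.mem_ker_iff.1 (pow_mem h17 k), hθ.apply_one, h14, one_pow, one_mul]).add ht
  rw [sub_add_cancel] at h19
  have h20 := F.eq_one_of_count (x := q) (isPElt_of_mem hP.isPGroup (h18 ▸ mul_mem
    (conj_mem_of_mem_normalizer (h3 y hc) hx) (inv_mem hx))) (h19.congr fun _ => rfl) (c := 1) (by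
      rw [Multiset.count_add, Multiset.count_replicate_self]; omega)
  exact h7 (Subgroup.mem_centralizer_singleton_iff.2
    (mul_inv_eq_iff_eq_mul.1 (mul_inv_eq_one.1 (h18 ▸ h20))).symm)

theorem not_sq_dvd (hr : pPrimeResidual p G = ⊤) : ¬ p ^ 2 ∣ Nat.card G := fun h => by
  obtain ⟨P, hP⟩ := exists_isSylowIn p (⊤ : Subgroup G)
  have h1 : p ^ 2 ∣ Nat.card P := by
    rw [hP.card_eq, Subgroup.card_top]
    exact pow_dvd_pow _ ((hp.out.pow_dvd_iff_le_factorization Nat.card_pos.ne').1 h)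
  obtain ⟨A, _, _, ι, hι, rfl⟩ := exists_comm_param (F.comm hP.isPGroup)
  have := Fintype.ofFinite A
  refine F.lt.not_ge (le_degree_succ_of_TI hι (Subgroup.disjoint_def.2 fun {x} hx hx' =>
    F.eq_one_of_mem_center (isPElt_of_mem hP.isPGroup hx) hx') (fun x hx u hu h2 g v hv h3 => ?_)
    (fun K _ hK => pPrimeResidual_eq_top_iff.1 hr K inferInstance
      (by simpa using hP.not_dvd_relIndex_of_le hK))
    (Nat.le_of_dvd Nat.card_pos (card_range_of_injective hι ▸ h1)) χ F.ne)
  refine inv_mem_iff.1 (F.free hP ⟨v, rfl⟩ ((map_ne_one_iff ι hι).2 hv)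
    (F.centralizer_le hP h1 hx ⟨u, rfl⟩ ((map_ne_one_iff ι hι).2 hu) h2
      (Subgroup.mem_centralizer_singleton_iff.2 ?_)))
  simpa [mul_assoc] using (h3.conj g).symm.eq

end FeitMin

theorem feit_aux (n : ℕ) : ∀ (G : Type u) [Group G] [Finite G] (χ : G → ℂ), IsCharacter G χ →
    ker χ = ⊥ → charDegree χ + 1 < p → Nat.card G + charDegree χ = n →
      ¬ p ^ 2 ∣ (pCore p G).index := by
  induction n using Nat.strong_induction_on with
  | _ n ih =>
  intro G _ _ χ hχ hk hd hn h
  have hsub : ∀ H : Subgroup G, H ≠ ⊤ → ¬ p ^ 2 ∣ (pCore p H).index := fun H hH =>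
    ih _ (by have := card_lt_of_ne_top hH; rw [charDegree_res]; omega) H _ (hχ.res H)
      (by rw [hχ.ker_res, hk]; simp) hd rfl
  have hquo : ∀ θ : G → ℂ, (hθ : IsCharacter G θ) → charDegree θ ≤ charDegree χ →
      (charDegree θ < charDegree χ ∨ ker θ ≠ ⊥) → haveI := hθ.ker_normal
      ¬ p ^ 2 ∣ (pCore p (G ⧸ ker θ)).index := fun θ hθ h1 h2 => by
    have := hθ.ker_normal
    obtain ⟨η, h3, h4, h5⟩ := exists_faithful_quotient hθ _ rfl
    have h6 : charDegree η = charDegree θ :=
      charDegree_eq_of_apply_one (by rw [← hθ.apply_one]; exact (congrFun h5 1).symm)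
    have h7 := Nat.le_of_dvd Nat.card_pos (Subgroup.card_quotient_dvd_card (ker θ))
    exact ih _ (by rcases h2 with h | h; omega; have := card_quotient_lt h; omega) _ η h3 h4
      (by omega) rfl
  have hr : pPrimeResidual p G = ⊤ := by
    by_contra h1
    have h2 : pCore p G ≤ pPrimeResidual p G := le_pPrimeResidual_of_isPGroup (isPGroup_pCore p G)
    rw [← Subgroup.relIndex_mul_index h2] at h
    refine hsub _ h1 ((((Nat.Prime.coprime_iff_not_dvd hp.out).2
      (not_dvd_index_pPrimeResidual p G)).pow_left 2).dvd_of_dvd_mul_right h |>.trans ?_)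
    rw [Subgroup.relIndex, show (pCore p G).subgroupOf _ = pCore p (pPrimeResidual p G) from
      Subgroup.map_injective (Subgroup.subtype_injective _) (by
        rw [Subgroup.subgroupOf_map_subtype, map_subtype_pCore])]
  have hpG : ¬ IsPGroup p G := fun h1 => by
    rw [pCore_eq_top_iff.2 h1, Subgroup.index_top, Nat.dvd_one, Nat.pow_eq_one] at h
    exact hp.out.one_lt.ne' (by simpa using h)
  have hsm : ∀ θ : G → ℂ, (hθ : IsCharacter G θ) → 2 * charDegree θ ≤ charDegree χ →
      charDegree θ < charDegree χ → haveI := hθ.ker_normal; IsPGroup p (G ⧸ ker θ) :=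
    fun θ hθ h1 h2 => by
      have := hθ.ker_normal
      obtain ⟨η, h3, h4, h5⟩ := exists_faithful_quotient hθ _ rfl
      have h6 : charDegree η = charDegree θ :=
      charDegree_eq_of_apply_one (by rw [← hθ.apply_one]; exact (congrFun h5 1).symm)
      by_cases h7 : p ∣ (pCore p (G ⧸ ker θ)).index
      · obtain ⟨S, ι, ψ, W⟩ := exists_linCore h3 h4 (by omega) h7 (hquo θ hθ h2.le (Or.inl h2))
        have := W.big
        have := h3.degree_le_of_ip_ne_zero ψ W.mem
        omega
      · have := pPrimeResidual_le h7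
        rw [← map_pPrimeResidual_of_surjective (QuotientGroup.mk'_surjective _), hr,
          Subgroup.map_top_of_surjective _ (QuotientGroup.mk'_surjective _), top_le_iff] at this
        exact pCore_eq_top_iff.1 this
  have hred : ∀ θ η : G → ℂ, IsCharacter G θ → IsCharacter G η → χ = θ + η →
      0 < charDegree η → charDegree η ≤ charDegree θ → False := fun θ η hθ hη e h1 h2 => by
    have h3 : charDegree χ = charDegree θ + charDegree η := charDegree_eq_of_apply_one (by
      rw [e, Pi.add_apply, hθ.apply_one, hη.apply_one, Nat.cast_add])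
    have := hθ.ker_normal
    have := hη.ker_normal
    have h4 := hsm η hη (by omega) (by omega)
    refine hquo θ hθ (by omega) (Or.inl (by omega)) (h.trans ?_)
    rw [← index_comap_mk']
    refine Subgroup.index_dvd_of_le (le_pCore fun g => ?_)
    obtain ⟨a, ha⟩ := isPGroup_pCore p _ ⟨_, g.2⟩
    obtain ⟨b, hb⟩ := h4 (QuotientGroup.mk' _ (g : G))
    refine ⟨a + b, Subtype.ext (Subgroup.mem_bot.1 ?_)⟩
    rw [← hk, e, hθ.ker_add hη, SubgroupClass.coe_pow]
    constructor
    · rw [pow_add, pow_mul]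
      exact pow_mem ((QuotientGroup.eq_one_iff _).1 (congrArg Subtype.val ha)) _
    · rw [pow_add, mul_comm, pow_mul]
      exact pow_mem ((QuotientGroup.eq_one_iff _).1 hb) _
  obtain ⟨ψ, h1⟩ := hχ.exists_irr_ip_ne_zero (by
    rintro rfl
    refine hpG fun g => ⟨0, ?_⟩
    rw [pow_zero, pow_one, ← Subgroup.mem_bot, ← hk]
    exact fun _ => rfl)
  have h2 := hχ.degree_eq_sub_irr_add ψ h1
  have h3 := hχ.sub_irr ψ h1
  have h4 := irr_degree_pos ψ
  obtain rfl : χ = ψ.1 := by
    refine hχ.eq_irr_of_ip_ne_zero_of_degree_le ψ h1 ?_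
    by_contra h5
    rcases le_total (charDegree ψ.1) (charDegree (χ - ψ.1)) with h6 | h6
    · exact hred _ _ h3 (irr_isCharacter ψ) (sub_add_cancel _ _).symm h4 h6
    · exact hred _ _ (irr_isCharacter ψ) h3 (add_sub_cancel _ _).symm (by omega) h6
  have h5 : pCore p G = ⊥ := by
    by_contra h5
    obtain ⟨z, hz⟩ := exists_prime_orderOf_dvd_card' p
      (dvd_card_of_isPGroup_of_ne_bot (isPGroup_pCore p G) h5)
    rw [← Subgroup.orderOf_coe] at hz
    obtain ⟨φ, h6, h7, h8⟩ := exists_irr_ker_isPGroup hp.out ψ hk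
      (Nat.not_dvd_of_pos_of_lt h4 (by omega)) (Subgroup.centralizer_eq_top_iff_subset.1
        (eq_top_iff.2 (hr ▸ residual_le_centralizer_pCore hχ hk (by omega))) z.2) hz
    refine hquo φ.1 (irr_isCharacter φ) h6.le (Or.inr fun h9 => ?_) ?_
    · rw [h9, Subgroup.mem_bot] at h7
      rw [h7, orderOf_one] at hz
      exact hp.out.one_lt.ne hz
    · rwa [← index_comap_mk', comap_mk'_pCore _ h8]
  refine FeitMin.not_sq_dvd ⟨hk, hd, fun h6 => hpG ?_, h5, hsub⟩ hr
    (by rwa [h5, Subgroup.index_bot] at h)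
  have h7 := (irr_commutator_le_ker_iff ψ).2 h6
  obtain ⟨P⟩ : Nonempty (Sylow p G) := inferInstance
  have : (P : Subgroup G).Normal :=
    Subgroup.Normal.of_commutator_le _ (h7.trans (hk.le.trans bot_le))
  exact isPGroup_top_iff.1 (pPrimeResidual_eq_top_iff.1 hr _ this P.not_dvd_index ▸ P.isPGroup')

/-- Feit's theorem: in a linear group of degree at most `p - 2`, `|P : O_p(G)| ≤ p`. -/
theorem feit_not_sq_dvd {χ : G → ℂ} (hχ : IsCharacter G χ) (hk : ker χ = ⊥)
    (hd : charDegree χ + 1 < p) : ¬ p ^ 2 ∣ (pCore p G).index :=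
  feit_aux _ G χ hχ hk hd rfl

end BT
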