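import Cfsg.Agent.Lib.Block.E8
import Cfsg.Agent.Lib.Block.AbFree

/-!
# Abelian `2`-defect groups with free inertial action: all heights vanish
-/

set_option autoImplicit false
set_option linter.unusedSectionVars false

namespace BT

open Cfsg CT GT Subgroup Matrix

theorem fh_proj_eq {X O : Type*} [Fintype X] [Fintype O] [DecidableEq X] [DecidableEq O]
    (C : Matrix X X ℤ) (W : Matrix O X ℤ) (K : Matrix O O ℤ) {q l : ℤ} (h1 : Cᵀ = C)
    (hK : Kᵀ = K) (h2 : C * C = q • C) (h3 : C.trace = q * l) (h4 : K * (W * Wᵀ) = q • 1)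
    (h5 : W * C = 0) (h6 : (Fintype.card X : ℤ) = l + Fintype.card O) :
    C = q • 1 - Wᵀ * K * W := by
  have h7 : C * Wᵀ = 0 := by rw [← h1, ← transpose_mul, h5, transpose_zero]
  have h8 : Wᵀ * K * W * C = 0 := by rw [Matrix.mul_assoc, h5, Matrix.mul_zero]
  have h9 : C * (Wᵀ * K * W) = 0 := by
    rw [← Matrix.mul_assoc, ← Matrix.mul_assoc, h7, Matrix.zero_mul, Matrix.zero_mul]
  have h10 : Wᵀ * K * W * (Wᵀ * K * W) = q • (Wᵀ * K * W) := by
    calc _ = Wᵀ * (K * (W * Wᵀ)) * K * W := by simp only [Matrix.mul_assoc]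
      _ = _ := by rw [h4, Matrix.mul_smul, Matrix.mul_one, Matrix.smul_mul, Matrix.smul_mul]
  have h11 : (Wᵀ * K * W).trace = q * Fintype.card O := by
    rw [Matrix.mul_assoc, trace_mul_comm, Matrix.mul_assoc, h4, trace_smul, trace_one, smul_eq_mul]
  have h12 : (Wᵀ * K * W)ᵀ = Wᵀ * K * W := by
    simp only [transpose_mul, transpose_transpose, hK, Matrix.mul_assoc]
  generalize Wᵀ * K * W = N at h8 h9 h10 h11 h12 ⊢
  obtain ⟨D, hD⟩ : ∃ D, D = q • (1 : Matrix X X ℤ) - N - C := ⟨_, rfl⟩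
  have h13 : Dᵀ = D := by rw [hD, transpose_sub, transpose_sub, transpose_smul, transpose_one, h1, h12]
  have h14 : D * D = q • D := by
    simp only [hD, Matrix.sub_mul, Matrix.mul_sub, Matrix.smul_mul, Matrix.mul_smul,
      Matrix.one_mul, Matrix.mul_one, h2, h8, h9, h10]
    module
  have h15 : ∑ x, ∑ y, D x y * D x y = 0 := by
    have : (D * Dᵀ).trace = 0 := by
      rw [h13, h14, trace_smul, hD, trace_sub, trace_sub, h3, h11, trace_smul, trace_one, h6,
        smul_eq_mul, smul_eq_mul]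
      ring
    exact this
  refine (sub_eq_zero.1 (hD.symm.trans ?_)).symm
  ext x y
  exact mul_self_eq_zero.1 ((Finset.sum_eq_zero_iff_of_nonneg fun _ _ => mul_self_nonneg _).1
    ((Finset.sum_eq_zero_iff_of_nonneg fun _ _ => Finset.sum_nonneg fun _ _ =>
      mul_self_nonneg _).1 h15 x (Finset.mem_univ _)) y (Finset.mem_univ _))

theorem fh_arith {X O : Type*} [Fintype X] [Fintype O] [DecidableEq O]
    (C : X → X → ℤ) (w : O → X → ℤ) {q l e : ℤ} (h1 : ∀ x y, C x y = C y x)
    (h2 : ∀ x y, ∑ z, C x z * C y z = q * C x y) (h3 : ∑ x, C x x = q * l)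
    (h4 : ∀ i j, ∑ x, w i x * w j x = e + if i = j then 1 else 0)
    (h5 : ∀ i y, ∑ x, w i x * C x y = 0) (h6 : (Fintype.card X : ℤ) = l + Fintype.card O)
    (h7 : Fintype.card O * e + 1 = q) (h8 : 2 ∣ q)
    (hev : ∀ F : X → ℤ, (∀ y, ∑ x, F x * C x y = q * F y) → 2 ∣ ∑ x, F x)
    {x₀ : X} (h0 : ¬ 2 ∣ C x₀ x₀) (x : X) : ¬ 2 ∣ C x x := by
  classical
  have key : ∀ x y, C x y = q * (if x = y then 1 else 0) - q * ∑ i, w i x * w i y +
      e * ((∑ i, w i x) * ∑ i, w i y) := fun x y => by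
    have := fh_proj_eq (Matrix.of C) (Matrix.of w) (Matrix.of fun i j => q * (if i = j then 1 else 0) - e)
      (q := q) (l := l) (Matrix.ext fun x y => h1 y x) (Matrix.ext fun i j => by simp [eq_comm])
      (Matrix.ext fun x y => by simpa [Matrix.mul_apply, h1 _ y] using h2 x y) h3
      (Matrix.ext fun i j => by
        simp only [Matrix.mul_apply, of_apply, transpose_apply, h4, sub_mul, mul_add,
          Finset.sum_add_distrib, Finset.sum_sub_distrib, Matrix.smul_apply, one_apply]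
        simp
        split_ifs <;> linear_combination -e * h7) (Matrix.ext fun i y => h5 i y) h6
    rw [show C x y = _ from congrFun (congrFun this x) y]
    simp only [Matrix.sub_apply, Matrix.smul_apply, one_apply, Matrix.mul_apply, of_apply,
      transpose_apply, mul_sub, sub_mul, Finset.sum_sub_distrib, smul_eq_mul]
    simp [Finset.mul_sum, Finset.sum_mul]
    simp only [mul_comm, mul_left_comm, mul_assoc]
    ring
  obtain ⟨s, hs⟩ : ∃ s : X → ℤ, ∀ x, ∑ i, w i x = s x := ⟨_, fun _ => rfl⟩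
  simp only [hs] at key
  have he : ¬ 2 ∣ e := fun h => by
    have := h.mul_left (Fintype.card O : ℤ)
    omega
  have h9 : ∀ x, 2 ∣ C x x ↔ 2 ∣ s x := fun x => by
    rw [key, ← mul_sub, dvd_add_right (h8.mul_right _), Int.prime_two.dvd_mul,
      Int.prime_two.dvd_mul, or_self, or_iff_right he]
  have h10 : ∀ i, 2 ∣ ∑ y, w i y := fun i => by
    have h11 : 2 ∣ ∑ y, (w i y * w i y - w i y) := Finset.dvd_sum fun y _ => by
      rw [← mul_sub_one]; exact (Int.even_mul_pred_self _).two_dvd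
    rw [Finset.sum_sub_distrib, h4, if_pos rfl] at h11
    omega
  obtain ⟨a, ha⟩ : ∃ a : O → ℤ, ∀ i, a i = s x * w i x₀ - s x₀ * w i x := ⟨_, fun _ => rfl⟩
  have ha0 : ∑ i, a i = 0 := by
    simp only [ha, Finset.sum_sub_distrib, ← Finset.mul_sum, hs]; ring
  obtain ⟨F, hF⟩ : ∃ F : X → ℤ, ∀ y, F y = (if y = x₀ then s x else 0) - (if y = x then s x₀ else 0)
    - ∑ i, a i * w i y := ⟨_, fun _ => rfl⟩
  have h12 : ∀ j, ∑ y, F y * w j y = 0 := fun j => by
    simp only [hF, sub_mul, Finset.sum_sub_distrib, Finset.sum_mul, ite_mul, zero_mul,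
      Finset.sum_ite_eq', Finset.mem_univ, if_true]
    rw [Finset.sum_comm]
    simp only [mul_assoc, ← Finset.mul_sum, h4, mul_add, Finset.sum_add_distrib,
      ← Finset.sum_mul, ha0]
    simp [ha]
  have h13 := hev F fun y => by
    have h14 : ∑ z, F z * s z = 0 := by
      simp only [← hs, Finset.mul_sum]
      rw [Finset.sum_comm]
      simp only [h12, Finset.sum_const_zero]
    have h15 : ∑ z, F z * ∑ i, w i z * w i y = 0 := by
      simp only [Finset.mul_sum, ← mul_assoc]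
      rw [Finset.sum_comm]
      simp only [← Finset.sum_mul, h12, zero_mul, Finset.sum_const_zero]
    rw [Finset.sum_congr rfl (g := fun z => q * (if z = y then F z else 0) -
      q * (F z * ∑ i, w i z * w i y) + e * s y * (F z * s z)) fun z _ => by
        rw [key]; split_ifs <;> ring]
    simp only [Finset.sum_add_distrib, Finset.sum_sub_distrib, ← Finset.mul_sum, h14, h15]
    simp
  simp only [hF, Finset.sum_sub_distrib, Finset.sum_ite_eq', Finset.mem_univ, if_true] at h13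
  rw [Finset.sum_comm] at h13
  have h16 : 2 ∣ ∑ i, ∑ y, a i * w i y := Finset.dvd_sum fun i _ => by
    rw [← Finset.mul_sum]; exact (h10 i).mul_left _
  rw [h9] at h0 ⊢
  omega

variable {M : Ideal AlgInt} {hM : IsPModular 2 M}
variable {G : Type*} [Group G] [Finite G] {A : Type*} [CommGroup A] [Finite A]

namespace AbPar

variable {B : Set (IrrCharacter G)} {m : SPair hM G} {ι : A →* G} {E : Subgroup (MulAut A)}
  (h : AbPar B m ι E)
include h

theorem exists_not_isConj_sq [Nontrivial A] : ∃ u : A, ∀ x ∈ m.Q, ¬ IsConj (ι u) (x ^ 2) := by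
  obtain ⟨u, hu⟩ := Monoid.exists_orderOf_eq_exponent (Monoid.ExponentExists.of_finite (G := A))
  refine ⟨u, fun x hx h1 => ?_⟩
  obtain ⟨a, rfl⟩ := h.exists_eq hx
  obtain ⟨c, hc⟩ := isConj_iff.1 h1
  have h2 : orderOf (a ^ 2) = orderOf u := by
    rw [← orderOf_injective ι h.inj, ← orderOf_injective ι h.inj u, map_pow, ← hc, orderOf_conj']
  have h3 := Nat.le_of_dvd (Monoid.exponent_pos.2 .of_finite) (Monoid.order_dvd_exponent a)
  have h4 := Monoid.one_lt_exponent (G := A)
  obtain ⟨k, hk⟩ := (IsPGroup.iff_orderOf.1 h.pgroup) a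
  cases k with
  | zero =>
    rw [pow_zero, orderOf_eq_one_iff] at hk
    rw [hk, one_pow, orderOf_one] at h2
    omega
  | succ k =>
    rw [orderOf_pow' _ two_ne_zero, hk, Nat.gcd_eq_right (dvd_pow_self 2 k.succ_ne_zero)] at h2
    omega

/-- The parity theorem for abelian defect groups. -/
theorem two_dvd_sum [Nontrivial A] (n : IrrCharacter G → ℤ)
    (h0 : ∀ ψ ∈ B, ∑ χ ∈ bset B, n χ * cm 2 B χ.1 ψ.1 = 2 ^ blockDefect 2 B * n ψ) :
    (2 : ℤ) ∣ ∑ χ ∈ bset B, n χ := by
  obtain ⟨u, hu⟩ := h.exists_not_isConj_sq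
  exact two_dvd_sum_of_cm hM h.max.block h.max.isDefectGroup (h.mem_Q u)
    (fun _ hx => h.ab hx _ (h.mem_Q u)) hu n h0

/-- Height zero for abelian `2`-defect groups with free inertial action. -/
theorem height_eq_zero_of_free [Nontrivial A] (hf : ∀ u ≠ 1, stab E u = ⊥) :
    ∀ χ ∈ B, blockHeight 2 B χ.1 = 0 := by
  classical
  intro χ hχ
  have S := h.abSet
  have hB := h.max.block
  replace hf : ∀ σ ∈ inert ι m.e, ∀ u ≠ 1, σ u = u → σ = 1 :=
    fun _ hσ u hu h1 => mem_bot.1 ((hf u hu).le ⟨h.eq_inert.ge hσ, h1⟩)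
  have := Fintype.ofFinite B
  let O := MulAction.orbitRel.Quotient (inert ι m.e) (HatNe A)
  have := Fintype.ofFinite O
  have hO : Nat.card O * _ = _ := card_orbits_of_free hf
  have hA := Finite.one_lt_card (α := A)
  obtain ⟨w, κ, h1, h2, -⟩ := S.exists_free_gram hf
  have hk : _ = _ + Nat.card O := S.card_eq_blockRank_add_of_free hf
  have hq : Nat.card A = 2 ^ blockDefect 2 B := h.card_eq.symm.trans h.max.card_eq
  have hs : ∀ F : IrrCharacter G → ℤ, ∑ χ : B, F χ = ∑ χ ∈ bset B, F χ := fun F =>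
    (Finset.sum_subtype (bset B) (fun _ => mem_bset) F).symm
  obtain ⟨ζ, hζ, h0⟩ := exists_height_zero hM hB
  have key := fh_arith (fun χ ψ : B => cm 2 B χ.1.1 ψ.1.1) w (q := 2 ^ blockDefect 2 B)
    (l := blockRank 2 B) (fun _ _ => cm_comm_irr B _ _)
    (fun x y => (hs fun z => cm 2 B x.1.1 z.1 * cm 2 B y.1.1 z.1).trans
      (sum_cm_mul_cm hM hB x.2 y.2)) ((hs fun z => cm 2 B z.1 z.1).trans (sum_cm_self hM hB)) h1
    (fun i y => by
      have h3 : ∑ x : B, (w i x : ℂ) • pRegularPart 2 x.1.1 = 0 := funext fun g => by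
        rw [Finset.sum_apply]
        by_cases hg : 2 ∣ orderOf g
        · simp [pRegularPart_of_dvd _ hg]
        · simpa [pRegularPart_of_not_dvd _ hg] using h2 i g hg
      have h4 := congrArg (fun θ => ((2 : ℕ) : ℂ) ^ blockDefect 2 B * ip θ y.1.1) h3
      simp only [ip_sum_left, ip_smul_left, Finset.mul_sum, ip_zero_left, mul_zero] at h4
      rw [← Int.cast_inj (α := ℂ), Int.cast_sum, Int.cast_zero, ← h4]
      exact Finset.sum_congr rfl fun x _ => by rw [Int.cast_mul, cm_cast_irr x.2, mul_left_comm])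
    (by rw [← Nat.card_eq_fintype_card, ← Nat.card_eq_fintype_card]; exact_mod_cast hk)
    (by
      rw [← Nat.card_eq_fintype_card]
      exact_mod_cast (show Nat.card O * Nat.card (inert ι m.e) + 1 = 2 ^ blockDefect 2 B by omega))
    (dvd_pow_self 2 fun h5 => by rw [h5] at hq; omega)
    (fun F hF => by
      have h5 : ∀ x : B, (if hx : x.1 ∈ B then F ⟨x.1, hx⟩ else 0) = F x := fun x => dif_pos x.2
      have h6 := h.two_dvd_sum (fun χ => if hx : χ ∈ B then F ⟨χ, hx⟩ else 0) fun ψ hψ => by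
        rw [← hs, dif_pos hψ, ← hF]
        simp only [h5]
      rwa [← hs, Finset.sum_congr rfl fun x _ => h5 x] at h6)
    (x₀ := ⟨ζ, hζ⟩) (fun h5 => by simpa [h0] using (dvd_cm_iff hM hB hζ hζ).1 h5) ⟨χ, hχ⟩
  by_contra h5
  exact key ((dvd_cm_iff hM hB hχ hχ).2 (.inl h5))

end AbPar

end BT
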