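import Cfsg.Agent.Lib.Block.K5Odd
import Cfsg.Agent.Lib.Block.K6Num3
import Cfsg.Agent.Lib.Block.B21

/-!
# Principal blocks with six characters do not have rank three (odd primes)
-/

set_option autoImplicit false
set_option linter.unusedSectionVars false

namespace BT.K5

open Cfsg CT GT Subgroup
open scoped ComplexConjugate

theorem k6_sq_cases {x : ℤ} (h : x * x ≤ 3) : x = -1 ∨ x = 0 ∨ x = 1 := by
  have : x ≤ 1 := by nlinarith
  have : -1 ≤ x := by nlinarith
  omega

theorem k6_single3 {x y z : ℤ} (h : x * x + y * y + z * z = 1) (a b c : ℤ) :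
    ∃ v r, a * a + b * b + c * c = (x * a + y * b + z * c) * (x * a + y * b + z * c) + v * v + r * r := by
  have hx := mul_self_nonneg x
  have hy := mul_self_nonneg y
  have hz := mul_self_nonneg z
  rcases k6_sq_cases (x := x) (by omega) with rfl | rfl | rfl <;>
  rcases k6_sq_cases (x := y) (by omega) with rfl | rfl | rfl <;>
  rcases k6_sq_cases (x := z) (by omega) with rfl | rfl | rfl <;>
  first
    | omega
    | exact ⟨b, c, by ring1⟩
    | exact ⟨a, c, by ring1⟩
    | exact ⟨a, b, by ring1⟩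

theorem k6_not_sum {s v r : ℤ} (h : 3 * (s * s) + v * v + r * r = 24) : False := by
  have h1 : s ≤ 2 := by nlinarith [mul_self_nonneg v, mul_self_nonneg r]
  have h2 : -2 ≤ s := by nlinarith [mul_self_nonneg v, mul_self_nonneg r]
  have h3 : v ≤ 4 := by nlinarith [mul_self_nonneg s, mul_self_nonneg r]
  have h4 : -4 ≤ v := by nlinarith [mul_self_nonneg s, mul_self_nonneg r]
  have h5 : r ≤ 4 := by nlinarith [mul_self_nonneg s, mul_self_nonneg v]
  have h6 : -4 ≤ r := by nlinarith [mul_self_nonneg s, mul_self_nonneg v]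
  interval_cases s <;> interval_cases v <;> interval_cases r <;> omega

theorem k6_f1 {σ τ xa xb xc xd xe ya yb yc yd ye : ℤ} (hσ : σ * σ = 1) (hτ : τ * τ = 1)
    (h1 : xa * xa + xb * xb + xc * xc + xd * xd + xe * xe = 2) (h2 : xa * σ + xb * τ = 1)
    (h3 : 1 + ya * σ + yb * τ = 0) (h4 : xa * ya + xb * yb + xc * yc + xd * yd + xe * ye = 1)
    (h5 : ya * ya + yb * yb + yc * yc + yd * yd + ye * ye = 26) : False := by
  wlog h : xb = 0 generalizing σ τ xa xb ya yb
  · have ha := mul_self_nonneg xa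
    have hb := mul_self_nonneg xb
    have hc := mul_self_nonneg xc
    have hd := mul_self_nonneg xd
    have he := mul_self_nonneg xe
    refine this hτ hσ (xa := xb) (xb := xa) (ya := yb) (yb := ya) (by linarith) (by linarith)
      (by linarith) (by linarith) (by linarith) ?_
    rcases k6_sq_cases (x := xa) (by omega) with rfl | rfl | rfl <;>
    rcases k6_sq_cases (x := xb) (by omega) with rfl | rfl | rfl <;>
    rcases k6_sq_cases (x := σ) (by omega) with rfl | rfl | rfl <;>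
    rcases k6_sq_cases (x := τ) (by omega) with rfl | rfl | rfl <;> omega
  subst h
  obtain rfl : xa = σ := by linear_combination σ * h2 - xa * hσ
  obtain ⟨v, r, h6⟩ := k6_single3 (x := xc) (y := xd) (z := xe) (by linarith) yc yd ye
  have h7 : xc * yc + xd * yd + xe * ye = 1 - xa * ya := by linarith
  have h8 : yb = -τ * (1 + ya * xa) := by linear_combination τ * h3 - yb * hτ
  rw [h7] at h6
  refine k6_not_sum (s := xa * ya) (v := v) (r := r) ?_
  subst h8
  linear_combination h5 - h6 - (1 + ya * xa) ^ 2 * hτ + ya ^ 2 * hσ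

theorem k6_chk2 : ∀ a ∈ Finset.Icc (-1 : ℤ) 1, ∀ b ∈ Finset.Icc (-1 : ℤ) 1,
    ∀ c ∈ Finset.Icc (-1 : ℤ) 1, ∀ d ∈ Finset.Icc (-1 : ℤ) 1, a * a + b * b + c * c + d * d = 3 →
    ∀ x ∈ Finset.Icc (-2 : ℤ) 2, ∀ y ∈ Finset.Icc (-2 : ℤ) 2, ∀ z ∈ Finset.Icc (-2 : ℤ) 2,
    ∀ t ∈ Finset.Icc (-2 : ℤ) 2, x * x + y * y + z * z + t * t = 4 →
      a * x + b * y + c * z + d * t = 2 →
      (a = 0 ∧ x = 0) ∨ (b = 0 ∧ y = 0) ∨ (c = 0 ∧ z = 0) ∨ (d = 0 ∧ t = 0) := by
  decide +kernel

theorem k6_mem_Icc {x r : ℤ} (n : ℤ) (hn : 0 ≤ n) (hr : 0 ≤ r) (h : x * x + r < (n + 1) * (n + 1)) :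
    x ∈ Finset.Icc (-n) n := by
  rw [Finset.mem_Icc]
  constructor <;> nlinarith

theorem k6_f2 {a b c d x y z t : ℤ} (h1 : a * a + b * b + c * c + d * d = 3)
    (h2 : x * x + y * y + z * z + t * t = 4) (h3 : a * x + b * y + c * z + d * t = 2) :
    (a = 0 ∧ x = 0) ∨ (b = 0 ∧ y = 0) ∨ (c = 0 ∧ z = 0) ∨ (d = 0 ∧ t = 0) := by
  have ha := mul_self_nonneg a
  have hb := mul_self_nonneg b
  have hc := mul_self_nonneg c
  have hd := mul_self_nonneg d
  have hx := mul_self_nonneg x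
  have hy := mul_self_nonneg y
  have hz := mul_self_nonneg z
  have ht := mul_self_nonneg t
  exact k6_chk2 a (k6_mem_Icc 1 zero_le_one le_rfl (by omega))
    b (k6_mem_Icc 1 zero_le_one le_rfl (by omega)) c (k6_mem_Icc 1 zero_le_one le_rfl (by omega))
    d (k6_mem_Icc 1 zero_le_one le_rfl (by omega)) h1
    x (k6_mem_Icc 2 zero_le_two le_rfl (by omega)) y (k6_mem_Icc 2 zero_le_two le_rfl (by omega))
    z (k6_mem_Icc 2 zero_le_two le_rfl (by omega)) t (k6_mem_Icc 2 zero_le_two le_rfl (by omega))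
    h2 h3

theorem k6_even {a b c : ℤ} (h : a * a + b * b + c * c = 24) : 2 ∣ a ∧ 2 ∣ b ∧ 2 ∣ c := by
  have key : ∀ x : ℤ, (x % 2 = 1 ∧ x * x % 4 = 1) ∨ (x % 2 = 0 ∧ x * x % 4 = 0) := fun x => by
    rw [Int.mul_emod]
    have : x % 4 = 0 ∨ x % 4 = 1 ∨ x % 4 = 2 ∨ x % 4 = 3 := by omega
    rcases this with h | h | h | h <;> rw [h] <;> omega
  have := key a
  have := key b
  have := key c
  omega

theorem k6_twelve {a b c : ℤ} (h : a * a + b * b + c * c = 12) :
    a * a = 4 ∧ b * b = 4 ∧ c * c = 4 := by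
  have ha := mul_self_nonneg a
  have hb := mul_self_nonneg b
  have hc := mul_self_nonneg c
  have h1 := Finset.mem_Icc.1 (k6_mem_Icc (x := a) 3 (by omega) le_rfl (by omega))
  have h2 := Finset.mem_Icc.1 (k6_mem_Icc (x := b) 3 (by omega) le_rfl (by omega))
  have h3 := Finset.mem_Icc.1 (k6_mem_Icc (x := c) 3 (by omega) le_rfl (by omega))
  obtain ⟨h1, h1'⟩ := h1
  obtain ⟨h2, h2'⟩ := h2
  obtain ⟨h3, h3'⟩ := h3
  interval_cases a <;> interval_cases b <;> interval_cases c <;> omega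

variable {p : ℕ} [hp : Fact p.Prime] {M : Ideal AlgInt} (hM : IsPModular p M)
variable {G : Type*} [Group G] [Finite G] {B : Set (IrrCharacter G)}
variable {n m w x y : IrrCharacter G → ℤ}

/-- An enumeration of a set of six characters containing the trivial one. -/
structure Six (B : Set (IrrCharacter G)) (a b c d e : IrrCharacter G) : Prop where
  nd : [irrOne G, a, b, c, d, e].Nodup
  mem : ∀ χ, χ ∈ B ↔ χ = irrOne G ∨ χ = a ∨ χ = b ∨ χ = c ∨ χ = d ∨ χ = e

theorem exists_six (h1 : irrOne G ∈ B) (hk : Nat.card B = 6) {a b : IrrCharacter G} (ha : a ∈ B)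
    (hb : b ∈ B) (a1 : a ≠ irrOne G) (b1 : b ≠ irrOne G) (ab : a ≠ b) :
    ∃ c d e, Six B a b c d e := by
  classical
  obtain ⟨c, d, e, cd, ce, de, h⟩ := Finset.card_eq_three.1
    (show ((((bset B).erase (irrOne G)).erase a).erase b).card = 3 by
      rw [Finset.card_erase_of_mem (by simp [hb, b1, ab.symm]),
        Finset.card_erase_of_mem (by simp [ha, a1]), Finset.card_erase_of_mem (mem_bset.2 h1),
        card_bset, hk])
  have h := fun χ => Finset.ext_iff.1 h χ
  simp only [Finset.mem_erase, mem_bset, Finset.mem_insert, Finset.mem_singleton] at h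
  have hc := (h c).2 (Or.inl rfl)
  have hd := (h d).2 (Or.inr (Or.inl rfl))
  have he := (h e).2 (Or.inr (Or.inr rfl))
  refine ⟨c, d, e, ?_, fun χ => ⟨fun hχ => ?_, ?_⟩⟩
  · simp [a1.symm, b1.symm, ab, cd, ce, de, hc.1.symm, hc.2.1.symm, hc.2.2.1.symm, hd.1.symm,
      hd.2.1.symm, hd.2.2.1.symm, he.1.symm, he.2.1.symm, he.2.2.1.symm]
  · have := (h χ).1
    tauto
  · rintro (rfl | rfl | rfl | rfl | rfl | rfl)
    exacts [h1, ha, hb, hc.2.2.2, hd.2.2.2, he.2.2.2]

theorem exists_six' (h1 : irrOne G ∈ B) (hk : Nat.card B = 6) {a : IrrCharacter G} (ha : a ∈ B)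
    (a1 : a ≠ irrOne G) : ∃ b c d e, Six B a b c d e := by
  classical
  obtain ⟨b, hb⟩ := Finset.card_pos.1 (show 0 < (((bset B).erase (irrOne G)).erase a).card by
    rw [Finset.card_erase_of_mem (by simp [ha, a1]), Finset.card_erase_of_mem (mem_bset.2 h1),
      card_bset, hk]; decide)
  simp only [Finset.mem_erase, mem_bset] at hb
  exact ⟨b, exists_six h1 hk ha hb.2.2 a1 hb.2.1 hb.1.symm⟩

namespace Six

variable {a b c d e : IrrCharacter G} (E : Six B a b c d e)
include E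

theorem ma : a ∈ B := (E.mem _).2 (by simp)
theorem mb : b ∈ B := (E.mem _).2 (by simp)
theorem mc : c ∈ B := (E.mem _).2 (by simp)
theorem md : d ∈ B := (E.mem _).2 (by simp)
theorem me : e ∈ B := (E.mem _).2 (by simp)

theorem ne : (irrOne G ≠ a ∧ irrOne G ≠ b ∧ irrOne G ≠ c ∧ irrOne G ≠ d ∧ irrOne G ≠ e) ∧
    (a ≠ b ∧ a ≠ c ∧ a ≠ d ∧ a ≠ e) ∧ (b ≠ c ∧ b ≠ d ∧ b ≠ e) ∧ (c ≠ d ∧ c ≠ e) ∧ d ≠ e := by
  simpa using E.nd

theorem sum {A : Type*} [AddCommMonoid A] (f : IrrCharacter G → A) :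
    ∑ χ ∈ bset B, f χ = f (irrOne G) + f a + f b + f c + f d + f e := by
  classical
  rw [show bset B = [irrOne G, a, b, c, d, e].toFinset from Finset.ext fun χ => by simp [E.mem],
    List.sum_toFinset _ E.nd]
  simp [add_assoc]

theorem dot_eq (n m : IrrCharacter G → ℤ) : dot B n m = n (irrOne G) * m (irrOne G) + n a * m a +
    n b * m b + n c * m c + n d * m d + n e * m e := E.sum _

end Six

theorem not_half (h1 : irrOne G ∈ B) (hc : cm p B (irrOne G).1 (irrOne G).1 < p ^ blockDefect p B)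
    {u : IrrCharacter G → ℤ} (hu : RegV p B u) (u1 : u (irrOne G) = 1)
    (h : ∀ χ ∈ B, χ ≠ irrOne G → 2 ∣ u χ) : False := by
  classical
  obtain ⟨e, he⟩ : ∃ e : IrrCharacter G → ℤ, e = fun χ => if χ = irrOne G then 1 else 0 := ⟨_, rfl⟩
  have e1 : ∀ m, dot B e m = m (irrOne G) := fun m => by simp [dot, he, h1]
  obtain ⟨n, hn⟩ : ∃ n : IrrCharacter G → ℤ, n = fun χ => (e χ - u χ) / 2 := ⟨_, rfl⟩
  have h2 : ∀ χ ∈ B, lc 2 n 0 n χ = lc 1 e (-1) u χ := fun χ hχ => by
    by_cases h3 : χ = irrOne G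
    · simp [lc, hn, he, h3, u1]
    · have := h χ hχ h3
      simp only [lc, hn, he, h3, if_false]
      omega
  have h3 : ∀ m, 2 * dot B m n = m (irrOne G) - dot B m u := fun m => by
    have := dot_congr m h2
    rw [dot_lc, dot_lc, dot_comm m e, e1] at this
    linarith
  have h4 := sing_moment (p := p) h1 n
  have h5 : ∑ χ ∈ bset B, n χ * cm p B (irrOne G).1 χ.1 = cmv p B n (irrOne G) := by
    rw [cmv, dot_comm]; rfl
  have h6 : ∑ χ ∈ bset B, ∑ ψ ∈ bset B, n χ * n ψ * cm p B χ.1 ψ.1 = dot B (cmv p B n) n := by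
    simp only [dot, cmv, cv, Finset.sum_mul]
    exact Finset.sum_congr rfl fun χ _ => Finset.sum_congr rfl fun ψ _ => by ring
  rw [h5, h6] at h4
  change _ ≤ _ * dot B n n - _ at h4
  have h7 := h3 (cv p B (irrOne G))
  have h8 := h3 (cmv p B n)
  have h9 := h3 n
  have h10 : n (irrOne G) = 0 := by simp [hn, he, u1]
  rw [hu _ h1, u1] at h7
  rw [hu.cmv_dot] at h8
  change 2 * cmv p B n (irrOne G) = cm p B _ _ - _ at h7
  rw [h10] at h4 h9
  have h11 : (p : ℤ) ^ blockDefect p B * (2 * dot B n n) = _ := congrArg _ h9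
  linarith

include hM in
theorem L3.det_dvd (hB : IsPBlock M B) (h1 : irrOne G ∈ B) (h : L3 p B w x y) {H X Y K g k : ℤ}
    (hH : dot B w w = H + 1) (hX : dot B w x = X) (hY : dot B w y = Y) (hK : dot B x x = K)
    (hg : dot B x y = g) (hk : dot B y y = k) :
    K * k - g * g + de H X K g Y k ∣ p ^ (3 * blockDefect p B) ∧
      K * k - g * g + de H X K g Y k ∣ p ^ blockDefect p B * ((H + 1) * K - X * X) := by
  have key : ∀ n, ∃ a b c, a * (H + 1) + b * X + c * Y = p ^ blockDefect p B * dot B n w ∧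
      a * X + b * K + c * g = p ^ blockDefect p B * dot B n x ∧
      a * Y + b * g + c * k = p ^ blockDefect p B * dot B n y := fun n => by
    obtain ⟨a, b, c, e⟩ := h.span _ (regV_cmv hM hB n)
    have e2 : ∀ m, dot B (cmv p B n) m = a * dot B w m + b * dot B x m + c * dot B y m :=
      fun m => by
        rw [dot_comm, dot_congr m (w := lc 1 (lc a w b x) c y) fun χ hχ => by
          rw [e χ hχ, lc, lc, one_mul], dot_comm, lc_dot, lc_dot, one_mul]
    refine ⟨a, b, c, ?_, ?_, ?_⟩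
    · rw [← h.rw.cmv_dot, e2, hH, dot_comm x, dot_comm y, hX, hY]
    · rw [← h.rx.cmv_dot, e2, hX, hK, dot_comm y, hg]
    · rw [← h.ry.cmv_dot, e2, hY, hg, hk]
  obtain ⟨e, he⟩ := exists_dual_one h1
  obtain ⟨a, b, c, a1, a2, a3⟩ := key e
  obtain ⟨n, n1, n2, n3⟩ := h.dx
  obtain ⟨a', b', c', b1, b2, b3⟩ := key n
  obtain ⟨m, m1, m2, m3⟩ := h.dy
  obtain ⟨a'', b'', c'', c1, c2, c3⟩ := key m
  simp only [he, h.w1, h.x1, h.y1, n1, n2, n3, m1, m2, m3, mul_one, mul_zero] at *
  rw [mul_comm 3, pow_mul]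
  generalize (p : ℤ) ^ blockDefect p B = q at *
  refine ⟨⟨Matrix.det !![a, b, c; a', b', c'; a'', b'', c''], ?_⟩, ⟨c'', ?_⟩⟩
  · have h2 : !![a, b, c; a', b', c'; a'', b'', c''] * !![H + 1, X, Y; X, K, g; Y, g, k] =
        !![q, 0, 0; 0, q, 0; 0, 0, q] := by
      rw [Matrix.mul_fin_three, a1, a2, a3, b1, b2, b3, c1, c2, c3]
    have h3 := congrArg Matrix.det h2
    rw [Matrix.det_mul] at h3
    simp only [Matrix.det_fin_three, Matrix.of_apply, Matrix.cons_val', Matrix.cons_val_zero,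
      Matrix.cons_val_one, Matrix.cons_val] at h3 ⊢
    unfold de
    linear_combination -h3
  · unfold de
    linear_combination (K * Y - g * X) * c1 + ((H + 1) * g - X * Y) * c2 -
      ((H + 1) * K - X * X) * c3

theorem fam_rel (h1 : irrOne G ∈ B) (hw : RegV p B w) (hx : RegV p B x) (w1 : w (irrOne G) = 1)
    (x1 : x (irrOne G) = 0) (g3 : dot B w w = 2) (g2 : dot B w x = 2) (g1 : dot B x x = 5) :
    ∃ a ∈ B, ∃ b ∈ B, a ≠ irrOne G ∧ b ≠ irrOne G ∧ a ≠ b ∧ ∃ σ τ : ℤ, σ * σ = 1 ∧ τ * τ = 1 ∧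
      ∀ n, SingV p B n → n a = σ * n (irrOne G) ∧ n b = 2 * τ * n (irrOne G) := by
  classical
  obtain ⟨a, ha, ha1, k1, -, k2⟩ := exists_of_norm_two h1 w1 g3
  have k3 := k2 x
  rw [dot_comm, g2, x1, zero_add] at k3
  have k4 : x a = 2 * w a := by linear_combination (-x a) * k1 - w a * k3
  have ma : a ∈ (bset B).erase (irrOne G) := by simp [ha, ha1]
  rw [dot, ← Finset.add_sum_erase _ _ (mem_bset.2 h1), ← Finset.add_sum_erase _ _ ma, x1] at g1
  obtain ⟨b, hb, k5, k6⟩ := exists_single (f := x) (s := ((bset B).erase (irrOne G)).erase a)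
    (by rw [k4] at g1; linear_combination g1 - 4 * k1)
  simp only [Finset.mem_erase, mem_bset] at hb
  refine ⟨a, ha, b, hb.2.2, ha1, hb.2.1, hb.1.symm, -w a, x b, by simpa using k1, k5,
    fun n hn => ?_⟩
  have t1 := hn.dot_reg hw
  have t2 := hn.dot_reg hx
  rw [k2] at t1
  rw [dot, ← Finset.add_sum_erase _ _ (mem_bset.2 h1), ← Finset.add_sum_erase _ _ ma, x1, k4,
    Finset.sum_eq_single_of_mem b (by simp [hb]) fun χ hχ e => by rw [k6 χ hχ e, mul_zero]] at t2
  exact ⟨by linear_combination w a * t1 - n a * k1,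
    by linear_combination x b * t2 - 2 * x b * t1 - n b * k5⟩

theorem k6_fs_num {σ τ m q x y z na nb nc nd ne : ℤ} (hσ : σ * σ = 1) (hτ : τ * τ = 1)
    (hm : 0 < m) (h1 : 6 * (m * m) + (x * x + y * y + z * z) = q * m)
    (h2 : na * (σ * m) + nb * (2 * τ * m) + nc * x + nd * y + ne * z = 0)
    (ha : na * na = 1 ∨ σ * m = x ∨ σ * m = y ∨ σ * m = z)
    (hb : nb * nb = 1 ∨ 2 * τ * m = x ∨ 2 * τ * m = y ∨ 2 * τ * m = z)
    (hc : nc * nc ≤ 1) (hd : nd * nd ≤ 1) (he : ne * ne ≤ 1)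
    (h0 : na * na = 1 → nb * nb = 1 → (nc * nc + nd * nd + ne * ne) % 2 = 1) :
    19 * m ≤ 3 * q ∧ ¬ (q = 27 ∧ m = 4) := by
  have hx := mul_self_nonneg x
  have hy := mul_self_nonneg y
  have hz := mul_self_nonneg z
  have e1 : σ * m * (σ * m) = m * m := by linear_combination m * m * hσ
  have e2 : 2 * τ * m * (2 * τ * m) = 4 * (m * m) := by linear_combination 4 * m * m * hτ
  have hmm := mul_pos hm hm
  have key : m * m ≤ x * x + y * y + z * z ∨ (na * na = 1 ∧ nb * nb = 1) := by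
    rcases ha with ha | ha | ha | ha
    · rcases hb with hb | hb | hb | hb
      · exact .inr ⟨ha, hb⟩
      all_goals rw [hb] at e2; exact .inl (by linarith)
    all_goals rw [ha] at e1; exact .inl (by linarith)
  clear ha hb
  rcases key with h | ⟨ha, hb⟩
  · refine ⟨le_of_mul_le_mul_right (by linarith) hm, ?_⟩
    rintro ⟨rfl, rfl⟩
    omega
  have h3 : (na * σ + 2 * (nb * τ)) % 2 = 1 := by
    rcases mul_self_eq_one_iff.1 ha with rfl | rfl <;>
      rcases mul_self_eq_one_iff.1 hσ with rfl | rfl <;> omega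
  have h4 : nc * x + nd * y + ne * z = -((na * σ + 2 * (nb * τ)) * m) := by linear_combination h2
  generalize na * σ + 2 * (nb * τ) = ε at h3 h4
  have h5 : 1 ≤ ε * ε := by
    have : ε ≠ 0 := by omega
    exact mul_self_pos.2 this
  have h6 : (nc * x + nd * y + ne * z) * (nc * x + nd * y + ne * z) ≤
      (nc * nc + nd * nd + ne * ne) * (x * x + y * y + z * z) := by
    nlinarith [mul_self_nonneg (nc * y - nd * x), mul_self_nonneg (nc * z - ne * x),
      mul_self_nonneg (nd * z - ne * y)]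
  have h7 := mul_le_mul_of_nonneg_right (show nc * nc + nd * nd + ne * ne ≤ 3 by linarith)
    (show 0 ≤ x * x + y * y + z * z by linarith)
  have h8 := mul_le_mul_of_nonneg_right h5 hmm.le
  refine ⟨le_of_mul_le_mul_right (by rw [h4] at h6; linarith) hm, ?_⟩
  rintro ⟨rfl, rfl⟩
  obtain ⟨g1, g2, g3⟩ := k6_twelve (a := x) (b := y) (c := z) (by omega)
  have h9 := h0 ha hb
  have k : ∀ t : ℤ, t * t = 4 → t = 2 ∨ t = -2 := fun t ht =>
    mul_self_eq_mul_self_iff.1 (ht.trans (by norm_num))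
  rcases k6_sq_cases (x := nc) (by omega) with rfl | rfl | rfl <;>
  rcases k6_sq_cases (x := nd) (by omega) with rfl | rfl | rfl <;>
  rcases k6_sq_cases (x := ne) (by omega) with rfl | rfl | rfl <;>
  rcases k x g1 with rfl | rfl <;> rcases k y g2 with rfl | rfl <;>
  rcases k z g3 with rfl | rfl <;> omega

theorem two_dvd_sum_nu (hb : ∀ χ ∈ B, irrBar χ ∈ B) :
    (2 : ℤ) ∣ ∑ χ ∈ bset B, (1 - nu χ * nu χ) := by
  rw [show (2 : ℤ) = (2 : ℕ) from rfl, ← ZMod.intCast_zmod_eq_zero_iff_dvd, Int.cast_sum]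
  refine Finset.sum_involution (fun χ _ => irrBar χ) (fun χ _ => ?_) (fun χ _ h => ?_)
    (fun χ h => mem_bset.2 (hb χ (mem_bset.1 h))) fun χ _ => irrBar_irrBar χ
  · rw [nu_bar, CharTwo.add_self_eq_zero]
  · exact nu_eq_zero_iff.1 (by_contra fun h0 => h (by rw [nu_mul_self h0]; simp))

theorem nu_mul_self_le (χ : IrrCharacter G) : nu χ * nu χ ≤ 1 := by
  rcases nu_cases χ with h | h | h <;> simp [h]

variable (hp2 : p ≠ 2) (hk : Nat.card (principalBlock M G) = 6)
include hM hp2 hk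

theorem fam_fs (hcq : cc p M G < p ^ blockDefect p (principalBlock M G))
    (h : ∃ a ∈ principalBlock M G, ∃ b ∈ principalBlock M G, a ≠ irrOne G ∧ b ≠ irrOne G ∧ a ≠ b ∧
      ∃ σ τ : ℤ, σ * σ = 1 ∧ τ * τ = 1 ∧ ∀ n, SingV p (principalBlock M G) n →
        n a = σ * n (irrOne G) ∧ n b = 2 * τ * n (irrOne G)) :
    19 * (p ^ blockDefect p (principalBlock M G) - cc p M G) ≤
      3 * p ^ blockDefect p (principalBlock M G) ∧
    ¬ ((p : ℤ) ^ blockDefect p (principalBlock M G) = 27 ∧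
      p ^ blockDefect p (principalBlock M G) - cc p M G = 4) := by
  obtain ⟨a, ha, b, hb, a1, b1, ab, σ, τ, hσ, hτ, h⟩ := h
  have hB : IsPBlock M (principalBlock M G) := isPBlock_principalBlock
  have h1 := irrOne_mem_principalBlock (G := G) hM
  have hFS := sum_nu2_mul_cm (G := G) hM hp2
  have hbar := bar_principal (G := G) hM
  unfold cc at *
  generalize principalBlock M G = B at *
  obtain ⟨c, d, e, E⟩ := exists_six h1 hk ha hb a1 b1 ab
  obtain ⟨⟨n1, n2, n3, n4, n5⟩, -⟩ := E.ne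
  obtain ⟨f1, f2⟩ := h _ (singV_nv hM hB h1)
  have f5 := (singV_nv hM hB h1).nv_dot h1
  have f6 := two_dvd_sum_nu hbar
  have f7 : ∀ χ ∈ B, χ ≠ irrOne G → nu χ = 0 → irrBar χ ∈ B ∧ irrBar χ ≠ χ ∧
      irrBar χ ≠ irrOne G ∧ nv p B (irrOne G) (irrBar χ) = nv p B (irrOne G) χ :=
    fun χ hχ h0 h2 => by
      have h3 : irrBar χ ≠ irrOne G := fun e => h0 (by rw [← irrBar_irrBar χ, e, irrBar_one])
      exact ⟨hbar χ hχ, nu_eq_zero_iff.1 h2, h3, by
        rw [nv_ne h3.symm, nv_ne h0.symm, cm_one_bar h1]⟩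
  rw [E.sum] at hFS f6
  simp only [← nu_cast, nu_one] at hFS f6
  have f8 : nu a * nv p B (irrOne G) a + nu b * nv p B (irrOne G) b +
      nu c * nv p B (irrOne G) c + nu d * nv p B (irrOne G) d + nu e * nv p B (irrOne G) e = 0 := by
    rw [nv_ne n1, nv_ne n2, nv_ne n3, nv_ne n4, nv_ne n5, ← Int.cast_inj (α := ℂ)]
    push_cast at hFS ⊢
    linear_combination -hFS
  rw [E.dot_eq] at f5
  rw [← nv_self] at *
  have hm : 0 < nv p B (irrOne G) (irrOne G) := by rw [nv_self]; omega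
  have f9 := f7 a ha a1
  have f10 := f7 b hb b1
  generalize nv p B (irrOne G) = v at *
  rw [f1, f2] at f5 f8
  refine k6_fs_num hσ hτ hm (x := v c) (y := v d) (z := v e)
    (by linear_combination f5 - v (irrOne G) ^ 2 * hσ - 4 * v (irrOne G) ^ 2 * hτ) f8 ?_ ?_
    (nu_mul_self_le c) (nu_mul_self_le d) (nu_mul_self_le e) fun g1 g2 => by omega
  · by_cases h0 : nu a = 0
    · obtain ⟨g1, g2, g3, g4⟩ := f9 h0
      rw [f1] at g4
      rcases (E.mem _).1 g1 with g | g | g | g | g | g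
      · exact (g3 g).elim
      · exact (g2 g).elim
      · rw [g, f2] at g4
        rcases mul_self_eq_one_iff.1 hσ with rfl | rfl <;>
          rcases mul_self_eq_one_iff.1 hτ with rfl | rfl <;> omega
      all_goals rw [g] at g4; simp [g4]
    · exact .inl (nu_mul_self h0)
  · by_cases h0 : nu b = 0
    · obtain ⟨g1, g2, g3, g4⟩ := f10 h0
      rw [f2] at g4
      rcases (E.mem _).1 g1 with g | g | g | g | g | g
      · exact (g3 g).elim
      · rw [g, f1] at g4
        rcases mul_self_eq_one_iff.1 hσ with rfl | rfl <;>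
          rcases mul_self_eq_one_iff.1 hτ with rfl | rfl <;> omega
      · exact (g2 g).elim
      all_goals rw [g] at g4; simp [g4]
    · exact .inl (nu_mul_self h0)

omit hp2 in
theorem not_form1 (hw : w (irrOne G) = 1) (hx : x (irrOne G) = 0) (hy : y (irrOne G) = 0)
    (h1 : dot (principalBlock M G) w w = 3) (h2 : dot (principalBlock M G) w x = 3)
    (h3 : dot (principalBlock M G) x x = 6) (h4 : dot (principalBlock M G) x y = 3)
    (h5 : dot (principalBlock M G) w y = 0) (h6 : dot (principalBlock M G) y y = 30) : False := by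
  classical
  have h0 := irrOne_mem_principalBlock (G := G) hM
  generalize principalBlock M G = B at *
  have h7 := h1
  rw [dot, ← Finset.add_sum_erase _ _ (mem_bset.2 h0), hw] at h7
  obtain ⟨a, ha, a0⟩ := Finset.exists_ne_zero_of_sum_ne_zero
    (show ∑ χ ∈ (bset B).erase (irrOne G), w χ * w χ ≠ 0 by omega)
  rw [← Finset.add_sum_erase _ _ ha] at h7
  have h8 : 0 ≤ ∑ χ ∈ ((bset B).erase (irrOne G)).erase a, w χ * w χ :=
    Finset.sum_nonneg fun _ _ => mul_self_nonneg _
  have h9 := mul_self_nonneg (w a)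
  have ha1 : w a * w a = 1 := by
    rcases k6_sq_cases (x := w a) (by omega) with h | h | h <;> simp_all
  obtain ⟨b, hb, hb1, -⟩ := exists_single (f := w) (s := ((bset B).erase (irrOne G)).erase a)
    (by omega)
  simp only [Finset.mem_erase, mem_bset] at ha hb
  obtain ⟨c, d, e, E⟩ := exists_six h0 hk ha.2 hb.2.2 ha.1 hb.2.1 hb.1.symm
  rw [E.dot_eq] at h1 h2 h3 h4 h5 h6
  simp only [hw, hx, hy] at h1 h2 h3 h4 h5 h6
  have hc := mul_self_nonneg (w c)
  have hd := mul_self_nonneg (w d)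
  have he := mul_self_nonneg (w e)
  have hc : w c = 0 := mul_self_eq_zero.1 (by omega)
  have hd : w d = 0 := mul_self_eq_zero.1 (by omega)
  have he : w e = 0 := mul_self_eq_zero.1 (by omega)
  simp only [hc, hd, he] at h2 h5
  exact k6_f1 ha1 hb1 (xa := x a - w a) (xb := x b - w b) (xc := x c) (xd := x d) (xe := x e)
    (ya := y a - (x a - w a)) (yb := y b - (x b - w b)) (yc := y c - x c) (yd := y d - x d)
    (ye := y e - x e) (by linear_combination h3 - 2 * h2 + ha1 + hb1)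
    (by linear_combination h2 - ha1 - hb1) (by linear_combination h5 - h2 + ha1 + hb1)
    (by linear_combination h4 - h5 - h3 + 2 * h2 - ha1 - hb1)
    (by linear_combination h6 - 2 * h4 + 2 * h5 + h3 - 2 * h2 + ha1 + hb1)

omit hp2 in
theorem not_form2 (L : L3 p (principalBlock M G) w x y)
    (h1 : dot (principalBlock M G) w w = 2) (h2 : dot (principalBlock M G) w x = 1)
    (h3 : dot (principalBlock M G) x x = 4) (h4 : dot (principalBlock M G) x y = 1)
    (h5 : dot (principalBlock M G) w y = -1) (h6 : dot (principalBlock M G) y y = 5) : False := by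
  have hB : IsPBlock M (principalBlock M G) := isPBlock_principalBlock
  have h0 := irrOne_mem_principalBlock (G := G) hM
  have h7 := blockHeight_irrOne_principal (G := G) hM
  generalize principalBlock M G = B at *
  obtain ⟨a, ha, a1, k1, k2, -⟩ := exists_of_norm_two h0 L.w1 h1
  obtain ⟨b, c, d, e, E⟩ := exists_six' h0 hk ha a1
  obtain ⟨⟨n1, n2, n3, n4, n5⟩, ⟨m1, m2, m3, m4⟩, -⟩ := E.ne
  have hb := k2 b E.mb n2.symm m1.symm
  have hc := k2 c E.mc n3.symm m2.symm
  have hd := k2 d E.md n4.symm m3.symm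
  have he := k2 e E.me n5.symm m4.symm
  rw [E.dot_eq] at h2 h3 h4 h5 h6
  simp only [L.w1, L.x1, L.y1, hb, hc, hd, he, mul_zero, zero_mul, add_zero, zero_add]
    at h2 h3 h4 h5 h6
  have g1 : x a = w a := by linear_combination w a * h2 - x a * k1
  have g2 : y a = -w a := by linear_combination w a * h5 - y a * k1
  rw [g1] at h3 h4
  rw [g2] at h4 h6
  obtain ⟨r, s, t, g⟩ := L.span _ (regV_cv hM hB h0)
  have key : ∀ χ ∈ B, w χ = 0 → ¬ (x χ = 0 ∧ y χ = 0) := fun χ hχ g3 g4 =>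
    cm_ne_zero hM hB h0 hχ h7 ((g χ hχ).trans (by simp [g3, g4.1, g4.2]))
  rcases k6_f2 (a := x b) (b := x c) (c := x d) (d := x e) (x := y b) (y := y c) (z := y d)
    (t := y e) (by linarith) (by linarith) (by linarith) with g3 | g3 | g3 | g3
  exacts [key b E.mb hb g3, key c E.mc hc g3, key d E.md hd g3, key e E.me he g3]

omit hp2 in
theorem not_form3 (hcq : cc p M G < p ^ blockDefect p (principalBlock M G))
    (rw' : RegV p (principalBlock M G) w) (ry : RegV p (principalBlock M G) y)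
    (hw : w (irrOne G) = 1) (hx : x (irrOne G) = 0) (hy : y (irrOne G) = 0)
    (h1 : dot (principalBlock M G) w w = 2) (h2 : dot (principalBlock M G) w x = 1)
    (h3 : dot (principalBlock M G) x x = 2) (h4 : dot (principalBlock M G) x y = 1)
    (h5 : dot (principalBlock M G) w y = -1) (h6 : dot (principalBlock M G) y y = 29) : False := by
  classical
  have h0 := irrOne_mem_principalBlock (G := G) hM
  unfold cc at hcq
  generalize principalBlock M G = B at *
  obtain ⟨a, ha, a1, k1, k2, k3⟩ := exists_of_norm_two h0 hw h1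
  have g0 := k3 x
  rw [dot_comm, h2, hx, zero_add] at g0
  have g1 : x a = w a := by linear_combination -w a * g0 - x a * k1
  have h7 := h3
  have ma : a ∈ (bset B).erase (irrOne G) := by simp [ha, a1]
  rw [dot, ← Finset.add_sum_erase _ _ (mem_bset.2 h0), ← Finset.add_sum_erase _ _ ma, hx, g1] at h7
  obtain ⟨b, hb, k5, -⟩ := exists_single (f := x) (s := ((bset B).erase (irrOne G)).erase a)
    (by linarith)
  simp only [Finset.mem_erase, mem_bset] at hb
  obtain ⟨c, d, e, E⟩ := exists_six h0 hk ha hb.2.2 a1 hb.2.1 hb.1.symm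
  obtain ⟨⟨n1, n2, n3, n4, n5⟩, ⟨m1, m2, m3, m4⟩, -⟩ := E.ne
  have hb := k2 b E.mb n2.symm m1.symm
  have hc := k2 c E.mc n3.symm m2.symm
  have hd := k2 d E.md n4.symm m3.symm
  have he := k2 e E.me n5.symm m4.symm
  rw [E.dot_eq] at h3 h4 h5 h6
  simp only [hw, hx, hy, hb, hc, hd, he, g1, mul_zero, zero_mul, add_zero, zero_add]
    at h3 h4 h5 h6
  have g2 : y a = -w a := by linear_combination w a * h5 - y a * k1
  have xc := mul_self_nonneg (x c)
  have xd := mul_self_nonneg (x d)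
  have xe := mul_self_nonneg (x e)
  have xc : x c = 0 := mul_self_eq_zero.1 (by omega)
  have xd : x d = 0 := mul_self_eq_zero.1 (by omega)
  have xe : x e = 0 := mul_self_eq_zero.1 (by omega)
  rw [xc, xd, xe, g2] at h4
  have g3 : y b = 2 * x b := by linear_combination x b * h4 - y b * k5 + x b * k1
  rw [g2, g3] at h6
  obtain ⟨g4, g5, g6⟩ := k6_even (a := y c) (b := y d) (c := y e)
    (by linear_combination h6 - k1 - 4 * k5)
  refine not_half h0 hcq (rw'.lc ry 1 1) (by simp [lc, hw, hy]) fun χ hχ h => ?_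
  rcases (E.mem _).1 hχ with rfl | rfl | rfl | rfl | rfl | rfl
  · exact (h rfl).elim
  · simp [lc, g2]
  · simp [lc, g3, hb]
  · simpa [lc, hc] using g4
  · simpa [lc, hd] using g5
  · simpa [lc, he] using g6

theorem six_three_aux (hl : blockRank p (principalBlock M G) = 3)
    (h2 : 2 ≤ blockDefect p (principalBlock M G))
    (h25 : 25 ≤ p ^ blockDefect p (principalBlock M G))
    (h : (p = 3 ∧ 19 * (p : ℤ) ^ blockDefect p (principalBlock M G) ≤ 27 * cc p M G) ∨
      (p ≠ 3 ∧ 4 * (p : ℤ) ^ blockDefect p (principalBlock M G) ≤ 5 * cc p M G)) : False := by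
  have hB : IsPBlock M (principalBlock M G) := isPBlock_principalBlock
  have h1 := irrOne_mem_principalBlock (G := G) hM
  have hcp := not_dvd_cc (G := G) hM
  have hcq : cc p M G < p ^ blockDefect p (principalBlock M G) :=
    (cm_self_le hM hB h1).lt_of_ne fun e => hcp (by
      rw [cc, e]; exact dvd_pow_self _ (by omega))
  obtain ⟨w, x, y, L, e1, e2, e3, e4, e5, e6⟩ := exists_L3 hM hB h1 hl
  obtain ⟨n, -, hn, -⟩ := L.dx
  have hK := dot_self_pos (hn.trans_ne one_ne_zero)
  have hD : 0 < dot (principalBlock M G) x x * dot (principalBlock M G) y y -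
    dot (principalBlock M G) x y * dot (principalBlock M G) x y := by nlinarith
  obtain ⟨f1, f2, f3⟩ := L.tern hM hB h1 (H := dot _ w w - 1) (by ring) rfl rfl rfl rfl rfl hD
  obtain ⟨f4, f5⟩ := L.det_dvd hM hB h1 (H := dot _ w w - 1) (by ring) rfl rfl rfl rfl rfl
  change cc p M G * _ = _ at f3
  have hq : (25 : ℤ) ≤ p ^ blockDefect p (principalBlock M G) := by exact_mod_cast h25
  have h11 : ∀ k : ℕ, p ^ blockDefect p (principalBlock M G) ≠ 2 * k := fun k h =>
    hp2 ((Nat.prime_dvd_prime_iff_eq Nat.prime_two hp.out).1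
      (Nat.prime_two.dvd_of_dvd_pow ⟨k, h⟩)).symm
  have h12 := h11 8
  have h13 := h11 16
  have h18 : ((p ^ blockDefect p (principalBlock M G) : ℕ) : ℤ) =
    (p : ℤ) ^ blockDefect p (principalBlock M G) := by push_cast; rfl
  have fam : dot (principalBlock M G) x x = 5 → dot (principalBlock M G) w x = 2 →
      dot (principalBlock M G) w w - 1 = 1 → False := fun g1 g2 g3 => by
    obtain ⟨g4, g5⟩ := fam_fs hM hp2 hk hcq (fam_rel h1 L.rw L.rx L.w1 L.x1 (by omega) g2 g1)
    rcases tern hp.out h2 (by omega) e1 e2 e3 hK e4 e5 e6 f1 f2 f3 hcp hcq (by omega) with g | g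
    · rcases g.2.2.2 with g | g
      · rw [g1, g2, g3] at f2 f3
        rw [g1] at hD
        exact fam_num hp.out h2 (by omega) hD f2 f3 hcp g g4
      · simp only [List.mem_cons, Prod.mk.injEq, List.not_mem_nil, or_false] at g
        omega
    · simp only [List.mem_cons, Prod.mk.injEq, List.not_mem_nil, or_false] at g
      omega
  rcases h with ⟨h3, h⟩ | ⟨h3, h⟩
  · subst h3
    rcases tern' chk3_three hp.out hp2 h25 e1 e2 e3 hK e4 e5 e6 f1 f2 f3 hcp hcq h (by linarith)
      f4 f5 with g | g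
    · exact fam g.1 g.2.1 g.2.2
    simp only [List.mem_cons, Prod.mk.injEq, List.not_mem_nil, or_false] at g
    rcases g with ⟨g1, g2, g3, g4, g5, g6⟩ | ⟨g1, g2, g3, g4, g5, g6⟩ | ⟨g1, g2, g3, g4, g5, g6⟩ |
      ⟨g1, g2, g3, g4, g5, g6⟩ | ⟨g1, g2, g3, g4, g5, g6⟩
    · exact not_form3 hM hk hcq L.rw L.ry L.w1 L.x1 L.y1 (by omega) g2 g3 g4 g5 g6
    · exact not_form3 hM hk hcq L.rw (L.rx.lc L.ry 1 (-1)) L.w1 L.x1 (by simp [lc, L.x1, L.y1])
        (by omega) g2 g3 (by rw [dot_lc]; omega) (by rw [dot_lc]; omega)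
        (by rw [dot_lc, lc_dot, lc_dot, dot_comm y x]; omega)
    · exact not_form2 hM hk L (by omega) g2 g3 g4 g5 g6
    · exact not_form1 hM hk L.w1 L.x1 L.y1 (by omega) g2 g3 g4 g5 g6
    · exact not_form1 hM hk (y := lc 1 x (-1) y) L.w1 L.x1 (by simp [lc, L.x1, L.y1])
        (by omega) g2 g3 (by rw [dot_lc]; omega) (by rw [dot_lc]; omega)
        (by rw [dot_lc, lc_dot, lc_dot, dot_comm y x]; omega)
  rcases tern hp.out h2 (by omega) e1 e2 e3 hK e4 e5 e6 f1 f2 f3 hcp hcq (by omega) with g | g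
  · exact fam g.1 g.2.1 g.2.2.1
  simp only [List.mem_cons, Prod.mk.injEq, List.not_mem_nil, or_false] at g
  have g1 : p ^ blockDefect p (principalBlock M G) = 25 := by omega
  obtain rfl : p = 5 := ((Nat.prime_dvd_prime_iff_eq Nat.prime_five hp.out).1
    (Nat.prime_five.dvd_of_dvd_pow (g1 ▸ (by decide : 5 ∣ 25)))).symm
  rcases tern' chk3_five hp.out hp2 h25 e1 e2 e3 hK e4 e5 e6 f1 f2 f3 hcp hcq (by omega)
    (by omega) f4 f5 with g' | g'
  · exact fam g'.1 g'.2.1 g'.2.2
  simp only [List.mem_cons, Prod.mk.injEq, List.not_mem_nil, or_false] at g'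
  obtain ⟨g2, -, -, -, g3, g4⟩ := g'
  have := (fam_fs hM hp2 hk hcq (fam_rel h1 L.rw L.ry L.w1 L.y1 (by omega) g3 g4)).1
  omega

omit hp2 hk in
theorem cc_le_three {u : G} (hu : IsPElt p u) (hu1 : u ≠ 1) (hc : ∀ g, Commute u g)
    (hl : blockRank p (principalBlock M G) = 3) {e : ℕ}
    (he : (Nat.card G).factorization p = e + 3) (h3 : p = 3) (he1 : 1 ≤ e) :
    27 * cc p M G ≤ 23 * p ^ (e + 2) := by
  have hB : IsPBlock M (principalBlock M G) := isPBlock_principalBlock
  have h1 := irrOne_mem_principalBlock (G := G) hM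
  have hcp := not_dvd_cc (G := G) hM
  obtain ⟨w, x, y, L, e1, e2, e3, e4, e5, e6⟩ := exists_L3 hM hB h1 hl
  obtain ⟨n, -, hn, -⟩ := L.dx
  have hK := dot_self_pos (hn.trans_ne one_ne_zero)
  obtain ⟨f1, f2, f3⟩ := L.tern hM hB h1 (H := dot _ w w - 1) (by ring) rfl rfl rfl rfl rfl
    (by nlinarith)
  obtain ⟨h, hh⟩ := dvd_dot hM hu hu1 hc hB L.rw L.rw
  obtain ⟨X, hX⟩ := dvd_dot hM hu hu1 hc hB L.rw L.rx
  obtain ⟨Y, hY⟩ := dvd_dot hM hu hu1 hc hB L.rw L.ry
  obtain ⟨K, hK'⟩ := dvd_dot hM hu hu1 hc hB L.rx L.rx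
  obtain ⟨g, hg⟩ := dvd_dot hM hu hu1 hc hB L.rx L.ry
  obtain ⟨k, hk⟩ := dvd_dot hM hu hu1 hc hB L.ry L.ry
  change cc p M G * _ = _ at f3
  rw [blockDefect_principal hM, he] at f3
  have h4 := cc_cast (G := G) hM
  have h5 := (mul_le_mul_of_nonneg_right (show (p : ℝ) ≤ orderOf u by
    exact_mod_cast Nat.le_of_dvd (orderOf_pos u) (hu.dvd_orderOf hu1)) mass_nonneg).trans
    (orderOf_mul_mass_le hu hc)
  rw [he, pow_succ, mul_assoc] at h4
  have h6 : (cc p M G : ℝ) ≤ p ^ (e + 2) := h4 ▸ mul_le_of_le_one_right (by positivity) h5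
  have h7 : cc p M G < p ^ (e + 2) := lt_of_le_of_ne (by exact_mod_cast h6) fun h4 =>
    hcp (h4 ▸ dvd_pow_self _ (by omega))
  subst h3
  simp only [hh, hX, hY, hK', hg, hk, Nat.cast_ofNat] at *
  have t1 : ∀ a b c d : ℤ, |3 * a * (3 * b) - 3 * c * (3 * d)| = 9 * |a * b - c * d| :=
    fun a b c d => by
      rw [show 3 * a * (3 * b) - 3 * c * (3 * d) = 9 * (a * b - c * d) by ring, abs_mul]; rfl
  rw [t1] at e6 f1 f2
  have h27 : 3 ^ 3 ≤ 3 ^ (e + 2) := Nat.pow_le_pow_right (by omega) (by omega)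
  by_contra h8
  have h9 : ((3 ^ (e + 2) : ℕ) : ℤ) = 3 ^ (e + 2) := by push_cast; rfl
  have h10 : 3 ∣ 3 ^ (e + 2) := dvd_pow_self _ (by omega)
  rcases tern (H := h - 1) (X := X) (Y := Y) (K := K) (G := g) (m := k) (c := cc 3 M G)
    (d := e + 2) Nat.prime_three (by omega) (by omega) (by omega) (by omega) (by omega) (by omega)
    (by omega) (by omega) (by linarith) (by linarith) (by linarith)
    (mul_left_cancel₀ (show (27 : ℤ) ≠ 0 by decide) (by
      unfold de at f3 ⊢; push_cast; linear_combination f3)) hcp h7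
    (by push_cast; omega) with g | g
  · rcases g.2.2.2 with g | g
    · push_cast at g; omega
    · simp only [List.mem_cons, Prod.mk.injEq, List.not_mem_nil, or_false] at g
      push_cast at g; omega
  · simp only [List.mem_cons, Prod.mk.injEq, List.not_mem_nil, or_false] at g
    omega

omit hk in
theorem ms_le_three (h3 : p = 3) {z : G} (hz : IsPElt p z) (hz1 : z ≠ 1) {e : ℕ}
    (he : fq p z = e + 3) (hr : rk p M z = 2 ∨ rk p M z = 3) :
    27 * ms p z ≤ 8 - 3 * (3 - rk p M z : ℝ) := by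
  have h7 := cc_cast (G := centralizer ({z} : Set G)) hM
  have h8 := not_dvd_cc (G := centralizer ({z} : Set G)) hM
  rw [show (Nat.card (centralizer ({z} : Set G))).factorization p = e + 3 from he] at h7
  change _ = _ * ms p z at h7
  have h0 : (0 : ℝ) < p ^ (e + 3) := pow_pos (Nat.cast_pos.2 hp.out.pos) _
  have h1 : (1 : ℤ) ≤ 3 ^ e := one_le_pow₀ (by omega)
  refine le_of_mul_le_mul_left ?_ h0
  rw [mul_left_comm, ← h7]
  rcases hr with hr | hr
  · obtain ⟨-, h, g, k, a, b, -, -, -, e1, e2, e3, e4, e5, e6, e7, e8⟩ :=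
      rank_two_central hM (sf_pelt hz) (sf_ne hz1) (sf_comm z) hr (e := e + 1) he
    subst h3
    have h6 := two_three6 e1 e2 e3 e4 e5 e6 e7 (cc_pos hM) e8 rfl
      (by push_cast; rw [pow_succ, pow_succ]; omega) h8
    have h9 : 27 * cc 3 M (centralizer ({z} : Set G)) ≤ 3 ^ (e + 3) * 5 := by
      push_cast at h6
      simp only [pow_succ] at h6 ⊢
      omega
    have h10 : (27 * cc 3 M (centralizer ({z} : Set G)) : ℝ) ≤ 3 ^ (e + 3) * 5 := by
      exact_mod_cast h9
    rw [hr]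
    push_cast
    linarith
  · have h9 : 27 * cc p M (centralizer ({z} : Set G)) ≤ p ^ (e + 3) * 8 := by
      rcases e.eq_zero_or_pos with rfl | he1
      · have h4 := mul_le_mul_of_nonneg_left (mul_ms_le hz hz1) (show (0 : ℝ) ≤ 9 by norm_num)
        subst h3
        have h5 : (cc 3 M (centralizer ({z} : Set G)) : ℝ) ≤ 9 := by
          rw [h7]; push_cast at h4 ⊢; linarith
        have h6 : cc 3 M (centralizer ({z} : Set G)) ≤ 9 := by exact_mod_cast h5
        push_cast at h8 ⊢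
        omega
      · have h4 := cc_le_three hM (sf_pelt hz) (sf_ne hz1) (sf_comm z) hr he h3 he1
        subst h3
        push_cast at h4 ⊢
        simp only [pow_succ] at h4 ⊢
        omega
    have h10 : (27 * cc p M (centralizer ({z} : Set G)) : ℝ) ≤ p ^ (e + 3) * 8 := by
      exact_mod_cast h9
    rw [hr]
    push_cast
    linarith

/-- A principal block with six characters for an odd prime and defect group of order at least
`25` and not of prime order does not have rank three. -/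
theorem six_rank_ne_three (h2 : 2 ≤ blockDefect p (principalBlock M G))
    (h25 : 25 ≤ p ^ blockDefect p (principalBlock M G)) :
    blockRank p (principalBlock M G) ≠ 3 := fun hl => by
  classical
  obtain ⟨X, R⟩ := exists_reps p G
  have h4 := R.card_eq hM
  have h5 := R.cc_add hM
  have hd := blockDefect_principal (G := G) hM
  have h6 : ∀ x ∈ X, 3 * p * ms p x ≤ rk p M x := fun x hx =>
    ms_le_odd hM hp2 (hd ▸ h2) (R.pelt x hx) (R.ne x hx)
  have h7 : ∑ x ∈ X, rk p M x = 3 := by omega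
  have h0 : (0 : ℝ) < p ^ (Nat.card G).factorization p := pow_pos (Nat.cast_pos.2 hp.out.pos) _
  refine six_three_aux hM hp2 hk hl h2 h25 ?_
  rw [hd] at h2 h25 ⊢
  by_cases h3 : p = 3
  · refine .inl ⟨h3, ?_⟩
    have h8 : 3 ≤ (Nat.card G).factorization p := by
      by_contra h
      have := Nat.pow_le_pow_right hp.out.pos (show (Nat.card G).factorization p ≤ 2 by omega)
      rw [h3] at this h25
      omega
    obtain ⟨z, hz, -, hz2⟩ := R.exists_major (by omega)
    obtain ⟨e, he⟩ := Nat.exists_eq_add_of_le' (hz2 ▸ h8 : 3 ≤ fq p z)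
    rw [← Finset.add_sum_erase _ _ hz] at h5 h7
    have h9 : 3 * p * ∑ x ∈ X.erase z, ms p x ≤ (∑ x ∈ X.erase z, rk p M x : ℕ) := by
      rw [Finset.mul_sum, Nat.cast_sum]
      exact Finset.sum_le_sum fun x hx => h6 x (Finset.mem_of_mem_erase hx)
    have h10 : (rk p M z : ℝ) + (∑ x ∈ X.erase z, rk p M x : ℕ) = 3 := by exact_mod_cast h7
    have h11 : (p : ℝ) = 3 := by exact_mod_cast h3
    have h12 : 27 * ms p z ≤ 8 - 3 * (3 - rk p M z : ℝ) := by
      have := rk_pos hM z
      rcases (show rk p M z = 1 ∨ rk p M z = 2 ∨ rk p M z = 3 by omega) with h | h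
      · have h13 := ms_of_rk_one hM h
        have h14 := ms_nonneg (p := p) z
        have h15 : (1 : ℝ) ≤ 3 ^ e := one_le_pow₀ (by norm_num)
        rw [he, pow_add, h11] at h13
        rw [h]
        push_cast
        nlinarith
      · exact ms_le_three hM hp2 h3 (R.pelt z hz) (R.ne z hz) he h
    rw [h11] at h9
    have h13 : 27 * (ms p z + ∑ x ∈ X.erase z, ms p x) ≤ 8 := by linarith
    have h14 := mul_le_mul_of_nonneg_left h13 h0.le
    rw [← Int.cast_le (R := ℝ)]
    push_cast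
    linarith
  · refine .inr ⟨h3, ?_⟩
    have h9 : 3 * p * ∑ x ∈ X, ms p x ≤ (∑ x ∈ X, rk p M x : ℕ) := by
      rw [Finset.mul_sum, Nat.cast_sum]
      exact Finset.sum_le_sum h6
    have h10 : 5 ≤ p := by
      have := hp.out.eq_two_or_odd
      have := hp.out.two_le
      omega
    have h11 : (5 : ℝ) ≤ p := by exact_mod_cast h10
    have h12 : 0 ≤ ∑ x ∈ X, ms p x := Finset.sum_nonneg fun x _ => ms_nonneg x
    rw [h7] at h9
    have h13 : 5 * ∑ x ∈ X, ms p x ≤ 1 := by
      push_cast at h9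
      nlinarith
    have h14 := mul_le_mul_of_nonneg_left h13 h0.le
    rw [← Int.cast_le (R := ℝ)]
    push_cast
    linarith

end BT.K5
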