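import Cfsg.Agent.Lib.Block.K6Sing
import Cfsg.Agent.Lib.Block.K6Three

/-!
# A single class of rank two: the local form of minimum six
-/

set_option autoImplicit false
set_option linter.unusedSectionVars false

namespace BT.K5

open Cfsg CT GT Subgroup

set_option synthInstance.maxSize 4000 in
theorem half_chk : ∀ a ∈ Finset.Icc (-4 : ℤ) 3, ∀ b ∈ Finset.Icc (-4 : ℤ) 3, |a - b| ≤ 4 →
    -4 ≤ a + b → ∀ c ∈ Finset.Icc (-4 : ℤ) 3, |a - c| ≤ 4 → -4 ≤ a + c → |b - c| ≤ 4 →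
    -4 ≤ b + c → ∀ d ∈ Finset.Icc (-4 : ℤ) 3, |a - d| ≤ 4 → -4 ≤ a + d → |b - d| ≤ 4 →
    -4 ≤ b + d → |c - d| ≤ 4 → -4 ≤ c + d → ∀ e ∈ Finset.Icc (-4 : ℤ) 3, |a - e| ≤ 4 →
    -4 ≤ a + e → |b - e| ≤ 4 → -4 ≤ b + e → |c - e| ≤ 4 → -4 ≤ c + e → |d - e| ≤ 4 →
    -4 ≤ d + e → a + b + c + d + e = -3 → a * a + b * b + c * c + d * d + e * e ≠ 15 := by
  decide +kernel

/-- The pair conditions for `m = 9`. -/
def HalfP (a b : ℤ) : Prop :=
  |a - b| + (a - b) * (a - b) ≤ 108 ∧ |18 + (a + b)| + 36 + (a + b) * (a + b) ≤ 108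

theorem HalfP.le {a b : ℤ} (h : HalfP (2 * a + 1) (2 * b + 1)) : |a - b| ≤ 4 ∧ -4 ≤ a + b := by
  obtain ⟨h1, h2⟩ := h
  constructor
  · rw [show 2 * a + 1 - (2 * b + 1) = 2 * (a - b) by ring, abs_mul, abs_two,
      mul_mul_mul_comm, ← abs_mul_abs_self (a - b)] at h1
    nlinarith [abs_nonneg (a - b)]
  · by_contra h
    nlinarith [le_abs_self (18 + (2 * a + 1 + (2 * b + 1)))]

theorem half_nine {a b c d e : ℤ} (ha : Odd a) (hb : Odd b) (hc : Odd c) (hd : Odd d) (he : Odd e)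
    (h1 : 1 + a + b + c + d + e = 0) (h2 : 1 + a * a + b * b + c * c + d * d + e * e = 54)
    (ab : HalfP a b) (ac : HalfP a c) (ad : HalfP a d) (ae : HalfP a e) (bc : HalfP b c)
    (bd : HalfP b d) (be : HalfP b e) (cd : HalfP c d) (ce : HalfP c e) (de : HalfP d e) :
    False := by
  obtain ⟨a, rfl⟩ := ha
  obtain ⟨b, rfl⟩ := hb
  obtain ⟨c, rfl⟩ := hc
  obtain ⟨d, rfl⟩ := hd
  obtain ⟨e, rfl⟩ := he
  have h3 : a * a + b * b + c * c + d * d + e * e = 15 := by nlinarith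
  have k : ∀ {x r : ℤ}, 0 ≤ r → x * x + r = 15 → x ∈ Finset.Icc (-4 : ℤ) 3 := fun h h' =>
    Finset.mem_Icc.2 ⟨by nlinarith, by nlinarith⟩
  have a0 := mul_self_nonneg a
  have b0 := mul_self_nonneg b
  have c0 := mul_self_nonneg c
  have d0 := mul_self_nonneg d
  have e0 := mul_self_nonneg e
  exact half_chk a (k (r := b * b + c * c + d * d + e * e) (by omega) (by omega)) b
    (k (r := a * a + c * c + d * d + e * e) (by omega) (by omega)) ab.le.1 ab.le.2 c
    (k (r := a * a + b * b + d * d + e * e) (by omega) (by omega)) ac.le.1 ac.le.2 bc.le.1 bc.le.2 d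
    (k (r := a * a + b * b + c * c + e * e) (by omega) (by omega)) ad.le.1 ad.le.2 bd.le.1 bd.le.2
    cd.le.1 cd.le.2 e (k (r := a * a + b * b + c * c + d * d) (by omega) (by omega)) ae.le.1
    ae.le.2 be.le.1 be.le.2 ce.le.1 ce.le.2 de.le.1 de.le.2 (by omega) h3

theorem half_cs (s1 s2 s3 s4 s5 a b c d e : ℤ) :
    (s1 * a + s2 * b + s3 * c + s4 * d + s5 * e) ^ 2 ≤
      (s1 * s1 + s2 * s2 + s3 * s3 + s4 * s4 + s5 * s5) *
        (a * a + b * b + c * c + d * d + e * e) := by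
  nlinarith [sq_nonneg (s1 * b - s2 * a), sq_nonneg (s1 * c - s3 * a), sq_nonneg (s1 * d - s4 * a),
    sq_nonneg (s1 * e - s5 * a), sq_nonneg (s2 * c - s3 * b), sq_nonneg (s2 * d - s4 * b),
    sq_nonneg (s2 * e - s5 * b), sq_nonneg (s3 * d - s4 * c), sq_nonneg (s3 * e - s5 * c),
    sq_nonneg (s4 * e - s5 * d)]

theorem half_fs {j : ℕ} (hj : 2 ≤ j) {m s1 s2 s3 s4 s5 a b c d e : ℤ} (hm : m = 3 ^ j)
    (ha : Odd a) (hb : Odd b) (hc : Odd c) (hd : Odd d) (he : Odd e)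
    (h2 : 1 + a * a + b * b + c * c + d * d + e * e = 6 * m) (k1 : s1 * s1 ≤ 1) (k2 : s2 * s2 ≤ 1)
    (k3 : s3 * s3 ≤ 1) (k4 : s4 * s4 ≤ 1) (k5 : s5 * s5 ≤ 1)
    (h3 : (s1 * s1 + s2 * s2 + s3 * s3 + s4 * s4 + s5 * s5) % 2 = 1)
    (h4 : m * (s1 + s2 + s3 + s4 + s5) + (s1 * a + s2 * b + s3 * c + s4 * d + s5 * e) = 0) :
    m = 9 := by
  have h5 := half_cs s1 s2 s3 s4 s5 a b c d e
  have par : ∀ x : ℤ, x * x % 2 = x % 2 := fun x => by
    rcases Int.emod_two_eq_zero_or_one x with h | h <;> simp [Int.mul_emod, h]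
  have h6 : (s1 + s2 + s3 + s4 + s5) % 2 = 1 := by
    have := par s1; have := par s2; have := par s3; have := par s4; have := par s5
    omega
  rw [show s1 * a + s2 * b + s3 * c + s4 * d + s5 * e = -(m * (s1 + s2 + s3 + s4 + s5)) by
    linarith, show a * a + b * b + c * c + d * d + e * e = 6 * m - 1 by linarith, neg_sq,
    mul_pow] at h5
  have h7 : 1 ≤ (s1 + s2 + s3 + s4 + s5) ^ 2 :=
    sq_pos_of_ne_zero (a := s1 + s2 + s3 + s4 + s5) fun h => by omega
  have h8 : 9 ≤ m := hm ▸ (pow_le_pow_right₀ (by norm_num) hj : (3 : ℤ) ^ 2 ≤ 3 ^ j)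
  have h9 : m < 81 := by nlinarith
  have h10 : j < 4 := (pow_lt_pow_iff_right₀ (show (1 : ℤ) < 3 by norm_num)).1 (hm ▸ h9)
  interval_cases j
  · exact hm
  exfalso
  obtain rfl : m = 27 := hm
  have h11 : s1 * s1 + s2 * s2 + s3 * s3 + s4 * s4 + s5 * s5 = 5 := by nlinarith
  have h12 : (s1 + s2 + s3 + s4 + s5) ^ 2 = 1 := by nlinarith
  have key : ∀ {s t : ℤ}, s * s = 1 → Odd t → ∃ r, s * t = 2 * r + 1 ∧
      t * t = 4 * (r * r) + 4 * r + 1 := fun {s t} hs ht => by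
    obtain ⟨r, hr⟩ := (Int.odd_mul.1 (hs ▸ odd_one)).1.mul ht
    exact ⟨r, hr, by linear_combination (s * t + 2 * r + 1) * hr - t * t * hs⟩
  obtain ⟨r1, a1, b1⟩ := key (show s1 * s1 = 1 by omega) ha
  obtain ⟨r2, a2, b2⟩ := key (show s2 * s2 = 1 by omega) hb
  obtain ⟨r3, a3, b3⟩ := key (show s3 * s3 = 1 by omega) hc
  obtain ⟨r4, a4, b4⟩ := key (show s4 * s4 = 1 by omega) hd
  obtain ⟨r5, a5, b5⟩ := key (show s5 * s5 = 1 by omega) he
  have := par r1; have := par r2; have := par r3; have := par r4; have := par r5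
  rcases sq_eq_one_iff.1 h12 with h | h <;> omega

variable {G : Type*} [Group G] [Finite G]

namespace Sing2

section
variable {p : ℕ} [hp : Fact p.Prime] {M : Ideal AlgInt} (hM : IsPModular p M)
  {x y : IrrCharacter G → ℤ} {h g c : ℤ} {i j : ℕ} (D : Sing2 p M x y h g c i j)
include hM D

/-- The moment inequality on the singular side. -/
theorem mom {n : IrrCharacter G → ℤ} (n1 : n (irrOne G) = 0) {A B : ℤ}
    (hA : dot (principalBlock M G) x n = A) (hB : dot (principalBlock M G) y n = B) :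
    |c * A + g * B| + (c * (A * A) + 2 * g * (A * B) + h * (B * B)) ≤
      p ^ (i + j) * dot (principalBlock M G) n n := by
  have h1 := irrOne_mem_principalBlock (G := G) hM
  have h2 := abs_cmv_le (p := p) h1 n
  rw [D.cmv_dot, D.cmv_eq n h1, D.x1, D.y1, n1, hA, hB, mul_zero, mul_zero, add_zero, mul_one,
    zero_sub, abs_neg] at h2
  linarith

theorem mom_pair {a b : IrrCharacter G} (ha : a ∈ principalBlock M G)
    (hb : b ∈ principalBlock M G) (a1 : irrOne G ≠ a) (b1 : irrOne G ≠ b) (ab : a ≠ b)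
    (α β : ℤ) {A B : ℤ} (hA : α * x a + β * x b = A) (hB : α * y a + β * y b = B) :
    |c * A + g * B| + (c * (A * A) + 2 * g * (A * B) + h * (B * B)) ≤
      p ^ (i + j) * (α * α + β * β) := by
  classical
  have k : ∀ v, dot (principalBlock M G) v (lc α (fun ψ => if ψ = a then 1 else 0) β
      fun ψ => if ψ = b then 1 else 0) = α * v a + β * v b := fun v => by
    rw [dot_lc]; simp [dot, ha, hb]
  have h2 := D.mom hM (by simp [lc, a1, b1]) ((k x).trans hA) ((k y).trans hB)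
  rw [k] at h2
  simpa [lc, ab, ab.symm] using h2

theorem cm_one {a : IrrCharacter G} (ha : a ∈ principalBlock M G) (a1 : irrOne G ≠ a) :
    cm p (principalBlock M G) (irrOne G).1 a.1 = -(c * x a + g * y a) := by
  have h2 := D.nv _ (irrOne_mem_principalBlock (G := G) hM) a ha
  rw [nv_ne a1, D.x1, D.y1] at h2
  linear_combination -h2

theorem mom_lt {a : IrrCharacter G} (ha : a ∈ principalBlock M G) (a1 : irrOne G ≠ a)
    (h0 : (p ^ (i + j) - c) * (p ^ (i + j) - (c * (x a * x a) + 2 * g * (x a * y a) +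
      h * (y a * y a))) ≠ (c * x a + g * y a) ^ 2) :
    |c * x a + g * y a| + (c * (x a * x a) + 2 * g * (x a * y a) + h * (y a * y a)) <
      p ^ (i + j) := by
  classical
  have hB : IsPBlock M (principalBlock M G) := isPBlock_principalBlock
  have h1 := irrOne_mem_principalBlock (G := G) hM
  have k : ∀ v, dot (principalBlock M G) v (fun ψ => if ψ = a then 1 else 0) = v a := fun v => by
    simp [dot, ha]
  have h3 := D.nv a ha a ha
  rw [nv_self, ← D.hd] at h3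
  have h4 := D.cm_one hM ha a1
  have h2 := abs_cmv_lt (p := p) (n := fun ψ => if ψ = a then 1 else 0) h1
    ((regV_cv hM hB ha).lc (regV_cv hM hB h1) (cc p M G)
      (-cm p (principalBlock M G) (irrOne G).1 a.1))
    (by rw [lc, cv, cv, cm_comm_irr _ a, cc]; ring) (by
      rw [dot_comm, k, lc, cv, cv, h4, D.cc_eq hM]
      exact fun e => h0 (by linear_combination e + (p ^ (i + j) - c) * h3))
  rw [D.cmv_dot, D.cmv_eq _ h1, D.x1, D.y1, k, k, k, if_neg a1, if_pos rfl, mul_zero, mul_zero,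
    add_zero, mul_one, zero_sub, abs_neg] at h2
  linarith

end

theorem halfP {M : Ideal AlgInt} (hM : IsPModular 3 M) [Fact (Nat.Prime 3)]
    {x y : IrrCharacter G → ℤ} {g : ℤ} {j : ℕ} (D : Sing2 3 M x y 2 g 5 1 j)
    (hq : ((3 : ℕ) : ℤ) ^ (1 + j) = 3 * 9) (hg : g * g = 1) {χ ψ : IrrCharacter G}
    (u1 : χ ∈ principalBlock M G) (u2 : ψ ∈ principalBlock M G) (u3 : irrOne G ≠ χ)
    (u4 : irrOne G ≠ ψ) (u5 : χ ≠ ψ) (u6 : x χ * x χ = 1) (u7 : x ψ * x ψ = 1) :
    HalfP (2 * (g * x χ * y χ) + 1) (2 * (g * x ψ * y ψ) + 1) := by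
  have v1 := D.mom_pair hM u1 u2 u3 u4 u5 (x χ) (-x ψ) (A := 0) (by linarith) rfl
  have v2 := D.mom_pair hM u1 u2 u3 u4 u5 (x χ) (x ψ) (A := 2) (by linarith) rfl
  rw [hq, neg_mul_neg, u6, u7] at v1
  rw [hq, u6, u7] at v2
  generalize hA : g * x χ * y χ = A
  generalize hB : g * x ψ * y ψ = B
  have w1 : g * (x χ * y χ + -x ψ * y ψ) = A - B := by rw [← hA, ← hB]; ring
  have w2 : g * (x χ * y χ + x ψ * y ψ) = A + B := by rw [← hA, ← hB]; ring
  have w3 : (x χ * y χ + -x ψ * y ψ) * (x χ * y χ + -x ψ * y ψ) = (A - B) * (A - B) := by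
    rw [← w1]; linear_combination -(x χ * y χ + -x ψ * y ψ) ^ 2 * hg
  have w4 : (x χ * y χ + x ψ * y ψ) * (x χ * y χ + x ψ * y ψ) = (A + B) * (A + B) := by
    rw [← w2]; linear_combination -(x χ * y χ + x ψ * y ψ) ^ 2 * hg
  rw [w1, w3] at v1
  rw [w2, w4, mul_assoc 2 g, mul_left_comm g, w2] at v2
  constructor
  · rw [show 2 * A + 1 - (2 * B + 1) = 2 * (5 * 0 + (A - B)) by ring, abs_mul, abs_two]
    linarith
  · rw [show 18 + (2 * A + 1 + (2 * B + 1)) = 2 * (5 * 2 + (A + B)) by ring, abs_mul, abs_two]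
    linarith

theorem not_half_form {M : Ideal AlgInt} (hM : IsPModular 3 M) [Fact (Nat.Prime 3)]
    {x y : IrrCharacter G → ℤ} {g c : ℤ} {j : ℕ} (D : Sing2 3 M x y 2 g c 1 j)
    (hk : Nat.card (principalBlock M G) = 6) (hj : 2 ≤ j) : False := by
  have h1 := irrOne_mem_principalBlock (G := G) hM
  obtain ⟨m, hm⟩ : ∃ m : ℤ, m = 3 ^ j := ⟨_, rfl⟩
  have hq : ((3 : ℕ) : ℤ) ^ (1 + j) = 3 * m := by rw [hm, pow_add]; norm_num
  have hl := D.loc
  have h9 : 9 ≤ m := hm ▸ (pow_le_pow_right₀ (by norm_num) hj : (3 : ℤ) ^ 2 ≤ 3 ^ j)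
  have ho : Odd m := hm ▸ Odd.pow ⟨1, rfl⟩
  rw [Nat.cast_ofNat, ← hm] at hl
  have hg : g * g = 1 := by
    obtain ⟨r, hr⟩ := ho
    obtain ⟨g1, g2⟩ := abs_lt.1 D.hg
    interval_cases g <;> omega
  have hc : 2 * c = m + 1 := by linarith
  have xx := D.xx
  have xy := D.xy
  have yy := D.yy
  norm_num at xx xy yy
  by_cases h4 : ∃ a ∈ principalBlock M G, x a * x a = 4
  · obtain ⟨a, ha, h4⟩ := h4
    have a1 : irrOne G ≠ a := by rintro rfl; simp [D.x1] at h4
    obtain ⟨ε, hε, e2⟩ : ∃ ε : ℤ, ε * ε = 1 ∧ x a = 2 * ε := by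
      rcases mul_self_eq_mul_self_iff.1 (show x a * x a = 2 * 2 from h4) with h | h
      exacts [⟨1, rfl, h⟩, ⟨-1, rfl, h.trans (by norm_num)⟩]
    obtain ⟨t, ht⟩ : ∃ t, t = 1 + ε * g * y a := ⟨_, rfl⟩
    have f1 : c * x a + g * y a = ε * (m + t) := by
      rw [e2, ht]; linear_combination ε * hc - g * y a * hε
    have f2 : c * (x a * x a) + 2 * g * (x a * y a) + 2 * (y a * y a) = 2 * m + 2 * (t * t) := by
      rw [h4, e2, ht]
      linear_combination 2 * hc - 2 * (y a * y a) * (g * g) * hε - 2 * (y a * y a) * hg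
    have f3 : |ε * (m + t)| = |m + t| := by
      rcases mul_self_eq_one_iff.1 hε with rfl | rfl
      exacts [by rw [one_mul], by rw [neg_one_mul, abs_neg]]
    have f4 := D.mom_lt hM ha a1
    rw [f1, f2, f3, hq, mul_pow, sq ε, hε] at f4
    by_cases h0 : t = 0
    · subst h0
      have := f4 (by nlinarith)
      nlinarith [le_abs_self (m + 0)]
    · classical
      have f5 := D.mom hM (n := fun ψ => if ψ = a then 1 else 0) (if_neg a1) (A := x a)
        (B := y a) (by simp [dot, ha]) (by simp [dot, ha])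
      rw [f1, f2, f3, hq, show dot (principalBlock M G) (fun ψ => if ψ = a then 1 else 0)
        (fun ψ => if ψ = a then 1 else 0) = 1 by simp [dot, ha]] at f5
      have := le_abs_self (m + t)
      rcases lt_or_gt_of_ne h0 with h | h <;> nlinarith
  push Not at h4
  have hFS := sum_nu2_mul_cm (G := G) hM (by norm_num)
  have f6 := two_dvd_sum_nu (bar_principal (G := G) hM)
  obtain ⟨a, ha, a1⟩ : ∃ a ∈ principalBlock M G, a ≠ irrOne G := by
    obtain ⟨a, ha, a1⟩ := Finset.exists_mem_ne (s := bset (principalBlock M G))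
      (by rw [card_bset, hk]; norm_num) (irrOne G)
    exact ⟨a, mem_bset.1 ha, a1⟩
  obtain ⟨b, c', d, e, E⟩ := exists_six' h1 hk ha a1
  obtain ⟨⟨n1, n2, n3, n4, n5⟩, ⟨ab, ac, ad, ae⟩, ⟨bc, bd, be⟩, ⟨cd, ce⟩, de⟩ := E.ne
  rw [E.sum] at hFS f6
  simp only [← nu_cast, nu_one, D.cm_one hM E.ma n1, D.cm_one hM E.mb n2, D.cm_one hM E.mc n3,
    D.cm_one hM E.md n4, D.cm_one hM E.me n5] at hFS f6
  have f8 : nu a * (c * x a + g * y a) + nu b * (c * x b + g * y b) +
      nu c' * (c * x c' + g * y c') + nu d * (c * x d + g * y d) + nu e * (c * x e + g * y e) =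
        0 := by
    rw [← Int.cast_inj (α := ℂ)]
    push_cast at hFS ⊢
    linear_combination -hFS
  rw [E.dot_eq, D.x1] at xx xy
  rw [E.dot_eq, D.y1] at yy
  rw [D.y1] at xy
  have k1 : ∀ χ ∈ principalBlock M G, x χ * x χ ≤ 5 → x χ * x χ ≤ 1 := fun χ hχ h => by
    have := h4 χ hχ
    have g1 : -2 ≤ x χ := by nlinarith
    have g2 : x χ ≤ 2 := by nlinarith
    generalize x χ = r at *
    interval_cases r <;> omega
  have a0 := mul_self_nonneg (x a)
  have b0 := mul_self_nonneg (x b)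
  have c0 := mul_self_nonneg (x c')
  have d0 := mul_self_nonneg (x d)
  have e0 := mul_self_nonneg (x e)
  have a2 := k1 a E.ma (by omega)
  have b2 := k1 b E.mb (by omega)
  have c2 := k1 c' E.mc (by omega)
  have d2 := k1 d E.md (by omega)
  have e2 := k1 e E.me (by omega)
  have a3 : x a * x a = 1 := by omega
  have b3 : x b * x b = 1 := by omega
  have c3 : x c' * x c' = 1 := by omega
  have d3 : x d * x d = 1 := by omega
  have e3 : x e * x e = 1 := by omega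
  have od : ∀ χ, Odd (2 * (g * x χ * y χ) + 1) := fun χ => ⟨_, rfl⟩
  have sq1 : ∀ χ, x χ * x χ = 1 → nu χ * x χ * (nu χ * x χ) = nu χ * nu χ := fun χ h => by
    linear_combination nu χ * nu χ * h
  have s1 : 1 + (2 * (g * x a * y a) + 1) + (2 * (g * x b * y b) + 1) + (2 * (g * x c' * y c') + 1)
      + (2 * (g * x d * y d) + 1) + (2 * (g * x e * y e) + 1) = 0 := by
    linear_combination 2 * g * xy - 6 * hg
  have s2 : 1 + (2 * (g * x a * y a) + 1) * (2 * (g * x a * y a) + 1) +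
      (2 * (g * x b * y b) + 1) * (2 * (g * x b * y b) + 1) +
      (2 * (g * x c' * y c') + 1) * (2 * (g * x c' * y c') + 1) +
      (2 * (g * x d * y d) + 1) * (2 * (g * x d * y d) + 1) +
      (2 * (g * x e * y e) + 1) * (2 * (g * x e * y e) + 1) = 6 * m := by
    linear_combination 4 * g * xy - 12 * hg + 4 * yy + 6 * hc +
      4 * (y a * y a + y b * y b + y c' * y c' + y d * y d + y e * y e) * hg +
      4 * (g * g) * (y a * y a * a3 + y b * y b * b3 + y c' * y c' * c3 + y d * y d * d3 +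
        y e * y e * e3)
  obtain rfl := half_fs hj hm (s1 := nu a * x a) (s2 := nu b * x b) (s3 := nu c' * x c')
    (s4 := nu d * x d) (s5 := nu e * x e) (od a) (od b) (od c') (od d) (od e) s2
    ((sq1 a a3).trans_le (nu_mul_self_le a)) ((sq1 b b3).trans_le (nu_mul_self_le b))
    ((sq1 c' c3).trans_le (nu_mul_self_le c')) ((sq1 d d3).trans_le (nu_mul_self_le d))
    ((sq1 e e3).trans_le (nu_mul_self_le e))
    (by rw [sq1 a a3, sq1 b b3, sq1 c' c3, sq1 d d3, sq1 e e3]; omega)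
    (by linear_combination 2 * f8 - (nu a * x a + nu b * x b + nu c' * x c' + nu d * x d +
      nu e * x e) * hc + 2 * g * (nu a * y a * a3 + nu b * y b * b3 + nu c' * y c' * c3 +
        nu d * y d * d3 + nu e * y e * e3))
  obtain rfl : c = 5 := by omega
  have P := fun {χ ψ} => D.halfP hM hq hg (χ := χ) (ψ := ψ)
  exact half_nine (od a) (od b) (od c') (od d) (od e) s1 (by linarith)
    (P E.ma E.mb n1 n2 ab a3 b3) (P E.ma E.mc n1 n3 ac a3 c3) (P E.ma E.md n1 n4 ad a3 d3)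
    (P E.ma E.me n1 n5 ae a3 e3) (P E.mb E.mc n2 n3 bc b3 c3) (P E.mb E.md n2 n4 bd b3 d3)
    (P E.mb E.me n2 n5 be b3 e3) (P E.mc E.md n3 n4 cd c3 d3) (P E.mc E.me n3 n5 ce c3 e3)
    (P E.md E.me n4 n5 de d3 e3)

end Sing2

end BT.K5
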