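import Cfsg.Agent.Lib.Block.K6Sing
import Cfsg.Agent.Lib.Block.K6Three

/-!
# Six characters, one class of `p`-elements: the configuration of order `125`
-/

set_option autoImplicit false
set_option linter.unusedSectionVars false

namespace BT.K5

open Cfsg CT GT Subgroup

set_option synthInstance.maxSize 4000 in
theorem kill_chk1 : ∀ a ∈ Finset.Icc (0 : ℤ) 11, ∀ s ∈ Finset.Icc (0 : ℤ) 7,
    ∀ t ∈ Finset.Icc (0 : ℤ) 7, ∀ v ∈ Finset.Icc (0 : ℤ) 7,
    a * a + 2 * (s * s + t * t + v * v) = 123 → a = 9 ∨ ∃ i ∈ [(0 : ℤ), 1], ∃ j ∈ [(0 : ℤ), 1],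
    ∃ k ∈ [(0 : ℤ), 1, 2, 3], ∃ l ∈ [(0 : ℤ), 1, 2, 3], ∃ m ∈ [(0 : ℤ), 1, 2, 3],
      250 * (i * i + j * j + k * k + l * l + m * m) < 2 * ((i + j) * a + 2 * (k * s + l * t + m * v)) +
        ((i + j) * a + 2 * (k * s + l * t + m * v)) ^ 2 + 125 * (i - j) ^ 2 := by
  decide +kernel

set_option synthInstance.maxSize 4000 in
theorem kill_chk2 : ∀ s ∈ Finset.Icc (-4 : ℤ) 4, ∀ t ∈ Finset.Icc (-4 : ℤ) 4,
    ∀ v ∈ Finset.Icc (-4 : ℤ) 4, s * s + t * t + v * v = 21 → ∀ A ∈ [(9 : ℤ), -9],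
    ∀ B ∈ [(9 : ℤ), -9], ∀ na ∈ [(1 : ℤ), -1, 0], ∀ nb ∈ [(1 : ℤ), -1, 0], ∀ nc ∈ [(1 : ℤ), -1, 0],
    ∀ nd ∈ [(1 : ℤ), -1, 0], ∀ ne ∈ [(1 : ℤ), -1, 0],
    na * A + nb * B + nc * (2 * s) + nd * (2 * t) + ne * (2 * v) = 0 →
    (nc = 0 → s = t ∨ s = v) → (nd = 0 → t = s ∨ t = v) → (ne = 0 → v = s ∨ v = t) → False := by
  decide +kernel

theorem exists_sgn (x : ℤ) : ∃ σ : ℤ, σ * σ = 1 ∧ σ * x = |x| := by
  rcases le_total 0 x with h | h
  exacts [⟨1, rfl, by rw [abs_of_nonneg h, one_mul]⟩, ⟨-1, rfl, by rw [abs_of_nonpos h]; ring⟩]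

theorem kill_num {A B s t v ε η na nb nc nd ne : ℤ} (hε : ε * ε = 1) (hη : η * η = 1)
    (h1 : ε * A + η * B = 0) (h2 : A * A + B * B + 4 * (s * s + t * t + v * v) = 246)
    (hm : ∀ i j k l m : ℤ, 2 * (i * A + j * B + 2 * (k * s + l * t + m * v)) +
      (i * A + j * B + 2 * (k * s + l * t + m * v)) ^ 2 + 125 * (ε * i + η * j) ^ 2 ≤
        250 * (i * i + j * j + k * k + l * l + m * m))
    (ha : na = 1 ∨ na = -1 ∨ na = 0) (hb : nb = 1 ∨ nb = -1 ∨ nb = 0)
    (hc : nc = 1 ∨ nc = -1 ∨ nc = 0) (hd : nd = 1 ∨ nd = -1 ∨ nd = 0)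
    (he : ne = 1 ∨ ne = -1 ∨ ne = 0)
    (fs : na * A + nb * B + nc * (2 * s) + nd * (2 * t) + ne * (2 * v) = 0)
    (pc : nc = 0 → 2 * s = A ∨ 2 * s = B ∨ s = t ∨ s = v)
    (pd : nd = 0 → 2 * t = A ∨ 2 * t = B ∨ t = s ∨ t = v)
    (pe : ne = 0 → 2 * v = A ∨ 2 * v = B ∨ v = s ∨ v = t) : False := by
  have h3 : A = -(ε * η * B) := by linear_combination ε * h1 - A * hε
  have h4 : B * B = A * A := by
    rw [h3]; linear_combination (-(η * η * B * B)) * hε - B * B * hη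
  obtain ⟨σ, a1, a2⟩ := exists_sgn A
  obtain ⟨σ₁, s1, s2⟩ := exists_sgn s
  obtain ⟨σ₂, t1, t2⟩ := exists_sgn t
  obtain ⟨σ₃, v1, v2⟩ := exists_sgn v
  have b1 := mul_self_nonneg A
  have b2 := mul_self_nonneg s
  have b3 := mul_self_nonneg t
  have b4 := mul_self_nonneg v
  have ab : ∀ {x n : ℤ}, 0 ≤ n → x * x < (n + 1) * (n + 1) → |x| ∈ Finset.Icc 0 n := fun hn h =>
    Finset.mem_Icc.2 ⟨abs_nonneg _, abs_le.2 (Finset.mem_Icc.1
      (k6_mem_Icc _ hn le_rfl (by rwa [add_zero])))⟩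
  rcases kill_chk1 |A| (ab (by norm_num) (by omega)) |s| (ab (by norm_num) (by omega)) |t|
    (ab (by norm_num) (by omega)) |v| (ab (by norm_num) (by omega))
    (by simp only [abs_mul_abs_self]; omega) with h | ⟨i, -, j, -, k, -, l, -, m, -, h⟩
  · have h5 : A = 9 ∨ A = -9 := (abs_eq (by norm_num)).1 h
    have h6 : A * A = 81 := by rcases h5 with h5 | h5 <;> rw [h5] <;> rfl
    have h7 : B = 9 ∨ B = -9 := mul_self_eq_mul_self_iff.1 (h4.trans h6)
    exact kill_chk2 s (k6_mem_Icc 4 (by norm_num) le_rfl (by omega)) t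
      (k6_mem_Icc 4 (by norm_num) le_rfl (by omega)) v (k6_mem_Icc 4 (by norm_num) le_rfl (by omega))
      (by omega) A (by simpa using h5) B (by simpa using h7) na (by simpa using ha) nb
      (by simpa using hb) nc (by simpa using hc) nd (by simpa using hd) ne (by simpa using he) fs
      (fun h => by have := pc h; omega) (fun h => by have := pd h; omega)
      fun h => by have := pe h; omega
  · have h5 := hm (σ * i) (-(ε * η * σ * j)) (σ₁ * k) (σ₂ * l) (σ₃ * m)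
    rw [show σ * i * A + -(ε * η * σ * j) * B + 2 * (σ₁ * k * s + σ₂ * l * t + σ₃ * m * v) =
      (i + j) * |A| + 2 * (k * |s| + l * |t| + m * |v|) by
        rw [← a2, ← s2, ← t2, ← v2]; linear_combination (-(σ * j)) * h3,
      show ε * (σ * i) + η * -(ε * η * σ * j) = ε * σ * (i - j) by
        linear_combination (-(ε * σ * j)) * hη, mul_pow, mul_pow, sq ε, sq σ, hε, a1,
      show σ * i * (σ * i) + -(ε * η * σ * j) * -(ε * η * σ * j) + σ₁ * k * (σ₁ * k) +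
        σ₂ * l * (σ₂ * l) + σ₃ * m * (σ₃ * m) = i * i + j * j + k * k + l * l + m * m by
        linear_combination (i * i + j * j) * a1 + (η * η * σ * σ * j * j) * hε +
          (σ * σ * j * j) * hη + k * k * s1 + l * l * t1 + m * m * v1] at h5
    linarith

variable {p : ℕ} [hp : Fact p.Prime] {M : Ideal AlgInt} (hM : IsPModular p M)
variable {G : Type*} [Group G] [Finite G]
include hM

theorem Sing2.kill {x y : IrrCharacter G → ℤ} {h g c : ℤ} {i j : ℕ} (D : Sing2 p M x y h g c i j)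
    (hk : Nat.card (principalBlock M G) = 6) (h5 : p = 5) (hi : i = 2) (hj : j = 1) (hc : c = 2)
    (hy : ∀ χ ∈ principalBlock M G, 5 ∣ y χ) : False := by
  classical
  subst h5 hi hj hc
  have hB : IsPBlock M (principalBlock M G) := isPBlock_principalBlock
  have h1 := irrOne_mem_principalBlock (G := G) hM
  have hFS := sum_nu2_mul_cm (G := G) hM (by norm_num)
  have hbar := bar_principal (G := G) hM
  have g1 : g * g = 1 := by
    have h2 := D.loc
    have h3 : -1 ≤ g ∧ g ≤ 1 := abs_le.1 (by linarith [D.hg2])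
    obtain rfl | rfl | rfl : g = -1 ∨ g = 0 ∨ g = 1 := by omega
    exacts [rfl, by norm_num at h2; omega, rfl]
  obtain rfl : h = 3 := by have := D.loc; norm_num at this; omega
  have yy := D.yy
  have sq : ∀ χ ∈ principalBlock M G, y χ ≠ 0 → 25 ≤ y χ * y χ := fun χ hχ h0 => by
    obtain ⟨k, hk⟩ := hy χ hχ
    have : k ≠ 0 := by rintro rfl; exact h0 hk
    rw [hk]
    nlinarith [mul_self_pos.2 this]
  obtain ⟨a, ha, a0⟩ : ∃ a ∈ principalBlock M G, y a ≠ 0 := by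
    by_contra! h
    rw [dot, Finset.sum_eq_zero fun χ hχ => by rw [h χ (mem_bset.1 hχ), mul_zero]] at yy
    norm_num at yy
  have a1 : a ≠ irrOne G := by rintro rfl; exact a0 D.y1
  obtain ⟨b, hb, ab, b0⟩ : ∃ b ∈ principalBlock M G, a ≠ b ∧ y b ≠ 0 := by
    by_contra! h
    rw [dot, Finset.sum_eq_single a (fun χ hχ e => by rw [h χ (mem_bset.1 hχ) e.symm, mul_zero])
      fun h => (h (mem_bset.2 ha)).elim] at yy
    norm_num at yy
    have h2 : -7 ≤ y a ∧ y a ≤ 7 := by constructor <;> nlinarith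
    obtain ⟨k, hk⟩ := hy a ha
    obtain rfl | rfl | rfl : k = -1 ∨ k = 0 ∨ k = 1 := by omega
    all_goals rw [hk] at yy; norm_num at yy
  have b1 : b ≠ irrOne G := by rintro rfl; exact b0 D.y1
  obtain ⟨c, d, e, E⟩ := exists_six h1 hk ha hb a1 b1 ab
  have xx := D.xx
  have xy := D.xy
  rw [E.dot_eq] at xx xy yy
  rw [D.y1] at xy yy
  rw [D.x1] at xx
  have q1 := sq a ha a0
  have q2 := sq b hb b0
  have q3 := mul_self_nonneg (y c)
  have q4 := mul_self_nonneg (y d)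
  have q5 := mul_self_nonneg (y e)
  norm_num at xx xy yy
  have c0 : y c = 0 := mul_self_eq_zero.1 (by omega)
  have d0 : y d = 0 := mul_self_eq_zero.1 (by omega)
  have e0 : y e = 0 := mul_self_eq_zero.1 (by omega)
  obtain ⟨ε, hε⟩ := hy a ha
  obtain ⟨η, hη⟩ := hy b hb
  have r1 : ε * ε = 1 := by have : y a * y a = 25 := by omega
                            rw [hε] at this; linarith
  have r2 : η * η = 1 := by have : y b * y b = 25 := by omega
                            rw [hη] at this; linarith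
  have nn : ∀ χ ∈ principalBlock M G,
      K5.nv 5 (principalBlock M G) (irrOne G) χ = 2 * x χ + g * y χ :=
    fun χ hχ => (D.nv _ h1 _ hχ).trans (by rw [D.x1, D.y1]; ring)
  have bar : ∀ χ ∈ principalBlock M G, χ ≠ irrOne G → nu χ = 0 → ∃ ψ, ψ ≠ χ ∧
      (ψ = a ∨ ψ = b ∨ ψ = c ∨ ψ = d ∨ ψ = e) ∧ 2 * x χ + g * y χ = 2 * x ψ + g * y ψ :=
    fun χ hχ h0 h2 => by
      have h3 : irrBar χ ≠ irrOne G := fun e => h0 (by rw [← irrBar_irrBar χ, e, irrBar_one])
      refine ⟨irrBar χ, nu_eq_zero_iff.1 h2, ((E.mem _).1 (hbar χ hχ)).resolve_left h3, ?_⟩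
      rw [← nn _ hχ, ← nn _ (hbar χ hχ), nv_ne h3.symm, nv_ne h0.symm, cm_one_bar h1]
  obtain ⟨⟨n1, n2, n3, n4, n5⟩, ⟨-, m2, m3, m4⟩, ⟨m5, m6, m7⟩, ⟨m8, m9⟩, m10⟩ := E.ne
  rw [E.sum] at hFS
  simp only [← nu_cast, nu_one] at hFS
  rw [c0, d0, e0, hε, hη] at xy
  refine kill_num (A := 2 * x a + g * y a) (B := 2 * x b + g * y b) (s := x c) (t := x d)
    (v := x e) r1 r2 ?_ ?_ (fun i j k l m => ?_) (nu_cases a) (nu_cases b) (nu_cases c) (nu_cases d)
    (nu_cases e) ?_ (fun h => ?_) (fun h => ?_) fun h => ?_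
  · rw [hε, hη]
    refine mul_left_cancel₀ (show (5 : ℤ) ≠ 0 by norm_num) ?_
    linear_combination 2 * xy + 25 * g * r1 + 25 * g * r2
  · rw [hε, hη]
    linear_combination 4 * xx + 4 * g * xy + (25 * ε * ε + 25 * η * η - 100) * g1 + 25 * r1 + 25 * r2
  · obtain ⟨w, w1, wa, wb, wc, wd, we⟩ : ∃ w : IrrCharacter G → ℤ, w (irrOne G) = 0 ∧ w a = i ∧
        w b = j ∧ w c = k ∧ w d = l ∧ w e = m :=
      ⟨fun χ => if χ = a then i else if χ = b then j else if χ = c then k else if χ = d then l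
        else if χ = e then m else 0, by simp [n1, n2, n3, n4, n5], by simp, by simp [ab.symm],
        by simp [m2.symm, m5.symm], by simp [m3.symm, m6.symm, m8.symm],
        by simp [m4.symm, m7.symm, m9.symm, m10.symm]⟩
    have h2 := (abs_le.1 (abs_cmv_le (p := 5) h1 w)).1
    rw [D.cmv_dot, D.cmv_eq w h1] at h2
    simp only [E.dot_eq, w1, wa, wb, wc, wd, we, D.x1, D.y1, c0, d0, e0, hε, hη] at h2 ⊢
    norm_num at h2
    have h3 : (5 * ε * i + 5 * η * j) ^ 2 * (g * g) = (5 * ε * i + 5 * η * j) ^ 2 := by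
      rw [g1, mul_one]
    linarith
  · have h2 := nn c E.mc
    have h3 := nn d E.md
    have h4 := nn e E.me
    rw [c0, mul_zero, add_zero] at h2
    rw [d0, mul_zero, add_zero] at h3
    rw [e0, mul_zero, add_zero] at h4
    rw [← nn a ha, ← nn b hb, ← h2, ← h3, ← h4, nv_ne n1, nv_ne n2, nv_ne n3, nv_ne n4, nv_ne n5,
      ← Int.cast_inj (α := ℂ)]
    push_cast at hFS ⊢
    linear_combination -hFS
  · obtain ⟨ψ, h2, rfl | rfl | rfl | rfl | rfl, h3⟩ := bar c E.mc n3.symm h <;>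
      simp only [c0, d0, e0, mul_zero, add_zero] at h3 <;> first | omega | exact (h2 rfl).elim
  · obtain ⟨ψ, h2, rfl | rfl | rfl | rfl | rfl, h3⟩ := bar d E.md n4.symm h <;>
      simp only [c0, d0, e0, mul_zero, add_zero] at h3 <;> first | omega | exact (h2 rfl).elim
  · obtain ⟨ψ, h2, rfl | rfl | rfl | rfl | rfl, h3⟩ := bar e E.me n5.symm h <;>
      simp only [c0, d0, e0, mul_zero, add_zero] at h3 <;> first | omega | exact (h2 rfl).elim

end BT.K5
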