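import Cfsg.Agent.Lib.Block.K5TwoB
import Cfsg.Agent.Lib.Grp.PairCls

/-!
# Principal `2`-blocks with `k - l ≤ 2`
-/

set_option autoImplicit false
set_option linter.unusedSectionVars false

namespace BT.K5

open Cfsg CT GT Subgroup

variable {G : Type*} [Group G] [Finite G]

theorem nilp_of_isConj {p : ℕ} [Fact p.Prime] {x y : G} (h : IsConj x y)
    (hy : HasNormalPComplement p (centralizer ({y} : Set G))) :
    HasNormalPComplement p (centralizer ({x} : Set G)) := by
  obtain ⟨g, rfl⟩ := isConj_iff.1 h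
  refine hasNormalPComplement_of_le (hasNormalPComplement_map hy (MulAut.conj g⁻¹).toMonoidHom) ?_
  intro a ha
  refine ⟨g * a * g⁻¹, mem_centralizer_singleton_iff.2 ?_, by simp [mul_assoc]⟩
  calc g * a * g⁻¹ * (g * x * g⁻¹) = g * (a * x) * g⁻¹ := by group
    _ = _ := by rw [mem_centralizer_singleton_iff.1 ha]; group

theorem Reps.nilp {p : ℕ} [Fact p.Prime] {M : Ideal AlgInt} (hM : IsPModular p M) {X : Finset G}
    (R : Reps p X) (h : ∀ x ∈ X, rk p M x = 1) (u : G) (hu : IsPElt p u) (h1 : u ≠ 1) :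
    HasNormalPComplement p (centralizer ({u} : Set G)) := by
  obtain ⟨x, hx, e⟩ := R.exists_conj hu h1
  exact nilp_of_isConj e (hasNormalPComplement_of_blockRank_principal hM (h x hx))

theorem exists_invol_pow {y : G} (hy : IsPElt 2 y) (h1 : y ≠ 1) :
    ∃ n : ℕ, y ^ n ≠ 1 ∧ y ^ n * y ^ n = 1 := by
  obtain ⟨c, hc⟩ := hy.dvd_orderOf h1
  have := orderOf_pos y
  exact ⟨c, pow_ne_one_of_lt_orderOf (by omega) (by omega), by
    rw [← pow_add, ← two_mul, ← hc, pow_orderOf_eq_one]⟩

/-- If `k - l ≤ 2` and the Sylow `2`-subgroups are not elementary abelian, they have order at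
most eight. -/
theorem Reps.fact_le_three {M : Ideal AlgInt} (hM : IsPModular 2 M) {X : Finset G}
    (R : Reps 2 X) (h : ∑ x ∈ X, rk 2 M x ≤ 2) {y : G} (hy : IsPElt 2 y) (hy1 : y * y ≠ 1) :
    (Nat.card G).factorization 2 ≤ 3 := by
  classical
  have h1 : y ≠ 1 := by rintro rfl; simp at hy1
  obtain ⟨n, hn1, hn2⟩ := exists_invol_pow hy h1
  obtain ⟨v, hv, ev⟩ := R.exists_conj hy h1
  obtain ⟨z, hz, ez⟩ := R.exists_conj (hy.pow n) hn1
  have sq : ∀ {a b : G}, IsConj a b → (a * a = 1 ↔ b * b = 1) := fun {a b} e => by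
    rw [← sq, ← sq, ← orderOf_dvd_iff_pow_eq_one, ← orderOf_dvd_iff_pow_eq_one,
      orderOf_eq_of_isConj e]
  have hzv : z ≠ v := fun e => hy1 ((sq ev).2 (e ▸ (sq ez).1 hn2))
  have hs : ∀ w ∈ X, w ≠ z → w ≠ v → False := fun w hw a b => by
    have := (Finset.sum_le_sum_of_subset (s := {w, z, v}) (f := rk 2 M)
      (by simp [Finset.insert_subset_iff, hw, hz, hv])).trans h
    rw [Finset.sum_insert (by simp [a, b]), Finset.sum_pair hzv] at this
    have := rk_pos hM w
    have := rk_pos hM z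
    have := rk_pos hM v
    omega
  have h2 := (Finset.sum_le_sum_of_subset (s := {z, v}) (f := rk 2 M)
    (by simp [Finset.insert_subset_iff, hz, hv])).trans h
  rw [Finset.sum_pair hzv] at h2
  have := rk_pos hM z
  have := rk_pos hM v
  refine PairCls.factorization_le_three hy hy1 (fun a ha a1 => ?_) (R.nilp hM fun x hx => ?_)
  · obtain ⟨w, hw, e⟩ := R.exists_conj ha (by rintro rfl; simp at a1)
    by_contra hc
    exact hs w hw (fun e' => a1 ((sq e).2 (e' ▸ (sq ez).1 hn2))) fun e' =>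
      hc (e.trans (e' ▸ ev.symm))
  · by_contra hc
    exact hs x hx (by rintro rfl; omega) (by rintro rfl; omega)

end BT.K5
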