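import Cfsg.Agent.Lib.Block.K6TwoF
import Cfsg.Agent.Lib.Block.K6Three
import Cfsg.Agent.Lib.Block.K6TNum
import Cfsg.Agent.Lib.Block.K6TwoFour

/-!
# Principal `2`-blocks with six characters: three sections of rank one
-/

set_option autoImplicit false
set_option linter.unusedSectionVars false

namespace BT.K6T

open Cfsg CT GT Subgroup BT.K5
open scoped ComplexConjugate

variable {M : Ideal AlgInt} (hM : IsPModular 2 M) {G : Type*} [Group G] [Finite G]

theorem exists_gauss {θ : G → ℂ} (hθ : IsCharacter G θ) {u : G} (h4 : u ^ 4 = 1) :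
    ∃ r s : ℤ, θ u = r + s * Complex.I ∧ (2 : ℤ) ∣ r + s - charDegree θ := by
  obtain ⟨ε, h1, h2, -⟩ := hθ.exists_eigenvalues u
  have h3 : ∀ i, ∃ r s : ℤ, ε i = r + s * Complex.I ∧ (2 : ℤ) ∣ r + s - 1 := fun i => by
    obtain ⟨k, hk⟩ := orderOf_dvd_of_pow_eq_one h4
    have h5 : ε i ^ 4 = 1 := by rw [hk, pow_mul, h1, one_pow]
    have h6 : (ε i - Complex.I) * (ε i + Complex.I) * ((ε i - 1) * (ε i + 1)) = 0 := by
      linear_combination h5 - (ε i ^ 2 - 1) * Complex.I_sq
    rcases mul_eq_zero.1 h6 with h7 | h7 <;> rcases mul_eq_zero.1 h7 with h7 | h7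
    · exact ⟨0, 1, by simpa using sub_eq_zero.1 h7, by norm_num⟩
    · exact ⟨0, -1, by simpa using eq_neg_of_add_eq_zero_left h7, by norm_num⟩
    · exact ⟨1, 0, by simpa using sub_eq_zero.1 h7, by norm_num⟩
    · exact ⟨-1, 0, by simpa using eq_neg_of_add_eq_zero_left h7, by norm_num⟩
  choose r s hr hs using h3
  have h5 := h2 1
  simp only [pow_one] at h5
  refine ⟨∑ i, r i, ∑ i, s i, ?_, ?_⟩
  · rw [h5, Finset.sum_congr rfl fun i _ => hr i, Finset.sum_add_distrib, ← Finset.sum_mul]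
    push_cast; rfl
  · have := Finset.dvd_sum fun i (_ : i ∈ Finset.univ) => hs i
    simpa [Finset.sum_sub_distrib, Finset.sum_add_distrib] using this

variable (M) in
/-- An integral column of norm `2 ^ a`. -/
structure Col (n : IrrCharacter G → ℤ) (a : ℕ) : Prop where
  sing : SingV 2 (principalBlock M G) n
  one : n (irrOne G) = 1
  norm : dot (principalBlock M G) n n = 2 ^ a
  par : ∀ χ ∈ principalBlock M G, (2 : ℤ) ∣ n χ ↔ (2 : ℤ) ∣ charDegree χ.1

include hM

theorem col_of_secV {u : G} {n : IrrCharacter G → ℤ} (D : SecV 2 M u n) : Col M n (fq 2 u) :=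
  ⟨D.sing hM, D.one, by simpa using D.norm hM, fun χ hχ => by
    simpa using (D.par hM hχ).trans (dvd_cm_one_iff hM hχ)⟩

omit hM in
theorem exists_secV {u : G} (hu : IsPElt 2 u) (h1 : u ≠ 1) (hr : rk 2 M u = 1)
    (h : ∀ k : ℕ, k.Coprime (orderOf u) → IsConj u (u ^ k)) : ∃ n, SecV 2 M u n := by
  choose n hn using fun χ : IrrCharacter G => (irr_isCharacter χ).isGen.exists_int_of_isConj h
  exact ⟨n, hu, h1, hr, hn⟩

theorem exists_cols {u z : G} {δ : IrrCharacter G → ℤ} (Z : SecV 2 M z δ) (hu : IsPElt 2 u)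
    (h1 : u ≠ 1) (hr : rk 2 M u = 1) (h4 : u ^ 4 = 1) (hn : ¬ IsConj u u⁻¹) (hz : ¬ IsConj z u) :
    ∃ U V, Col M U (fq 2 u) ∧ Col M V (fq 2 u) ∧ dot (principalBlock M G) U V = 0 ∧
      dot (principalBlock M G) δ U = 0 ∧ dot (principalBlock M G) δ V = 0 := by
  have hB : IsPBlock M (principalBlock M G) := isPBlock_principalBlock
  choose r s hrs hp using fun χ : IrrCharacter G => exists_gauss (irr_isCharacter χ) h4
  have hi : ∀ χ : IrrCharacter G, conj (χ.1 u⁻¹) = r χ + s χ * Complex.I := fun χ => by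
    rw [(irr_isCharacter χ).apply_inv, Complex.conj_conj, hrs]
  have hc : ∀ χ : IrrCharacter G, conj (χ.1 u) = r χ - s χ * Complex.I := fun χ => by
    rw [hrs]; simp [sub_eq_add_neg]
  have k : ∀ g, bker (principalBlock M G) g u = comb (principalBlock M G) r g -
      comb (principalBlock M G) s g * Complex.I ∧ bker (principalBlock M G) g u⁻¹ =
      comb (principalBlock M G) r g + comb (principalBlock M G) s g * Complex.I := fun g => by
    simp only [bker_def, comb_apply, hi, hc, Finset.sum_mul, ← Finset.sum_add_distrib,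
      ← Finset.sum_sub_distrib]
    exact ⟨Finset.sum_congr rfl fun _ _ => by ring, Finset.sum_congr rfl fun _ _ => by ring⟩
  have kv : ∀ (g : G) (n m : IrrCharacter G → ℤ), (∀ χ, χ.1 g = n χ + m χ * Complex.I) → ∀ t,
      comb (principalBlock M G) t g = dot (principalBlock M G) t n +
        dot (principalBlock M G) t m * Complex.I := fun g n m h t => by
    simp only [comb_apply, dot, h, Int.cast_sum, Int.cast_mul, Finset.sum_mul,
      ← Finset.sum_add_distrib]
    exact Finset.sum_congr rfl fun _ _ => by ring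
  have reg : ∀ g, ¬ 2 ∣ orderOf g → comb (principalBlock M G) r g = 0 ∧
      comb (principalBlock M G) s g = 0 := fun g hg => by
    obtain ⟨a, b⟩ := k g
    rw [bker_eq_zero_of_regular hM hB hg (hu.dvd_orderOf h1)] at a
    rw [bker_eq_zero_of_regular hM hB hg (by rw [orderOf_inv]; exact hu.dvd_orderOf h1)] at b
    exact ⟨by linear_combination -(a + b) / 2, mul_right_cancel₀ Complex.I_ne_zero
      (by linear_combination (a - b) / 2)⟩
  have sr : SingV 2 (principalBlock M G) r :=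
    singV_of_ip hM hB (fun g hg => (reg g hg).1) fun _ => ip_comb_irr r
  have ss : SingV 2 (principalBlock M G) s :=
    singV_of_ip hM hB (fun g hg => (reg g hg).2) fun _ => ip_comb_irr s
  obtain ⟨a1, a2⟩ := k u
  rw [bker_principal_self_of_nilpotent hM rfl hu
    (hasNormalPComplement_of_blockRank_principal hM hr), kv u r s hrs, kv u r s hrs] at a1
  rw [bker_eq_zero_of_not_isConj hM hB (by rwa [hu.pPart_eq, hu.inv.pPart_eq]), kv u r s hrs,
    kv u r s hrs] at a2
  have a3 := (k z).1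
  rw [bker_eq_zero_of_not_isConj hM hB (by rwa [hu.pPart_eq, Z.pelt.pPart_eq]),
    kv z δ 0 (by simp [Z.val]), kv z δ 0 (by simp [Z.val])] at a3
  have z0 : ∀ t, dot (principalBlock M G) t 0 = 0 := fun t => by simp [dot]
  rw [z0, z0] at a3
  have b1 : ((2 ^ fq 2 u : ℤ) : ℝ) = dot (principalBlock M G) r r +
      dot (principalBlock M G) s s := by
    have := congrArg Complex.re a1
    simp only [Nat.cast_ofNat] at this
    rw [show ((2 : ℂ) ^ (Nat.card (centralizer ({u} : Set G))).factorization 2) =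
      ((2 ^ fq 2 u : ℤ) : ℂ) by push_cast; rfl] at this
    simpa only [Complex.intCast_re, Complex.sub_re, Complex.add_re, Complex.mul_re, Complex.I_re,
      Complex.I_im, Complex.intCast_im, Complex.add_im, Complex.mul_im, mul_zero, mul_one, sub_zero,
      add_zero, zero_add, zero_sub, sub_neg_eq_add] using this
  have b2 := congrArg Complex.re a2
  have b3 := congrArg Complex.im a2
  have b4 := congrArg Complex.re a3
  have b5 := congrArg Complex.im a3
  simp at b2 b3 b4 b5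
  rw [dot_comm s r] at b3
  norm_cast at b1 b2 b3 b4 b5
  have o := hrs (irrOne G)
  rw [irrOne_apply] at o
  have o1 := congrArg Complex.re o
  have o2 := congrArg Complex.im o
  simp at o1 o2
  norm_cast at o1 o2
  have col : ∀ ε : ℤ, ε = 1 ∨ ε = -1 → Col M (lc 1 r ε s) (fq 2 u) := fun ε hε =>
    ⟨sr.lc ss 1 ε, by simp [lc, ← o1, ← o2], by
      rw [dot_lc, lc_dot, lc_dot, dot_comm s r]
      rcases hε with rfl | rfl <;> push_cast at b1 <;> linarith, fun χ _ => by
      have := hp χ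
      simp only [lc]
      rcases hε with rfl | rfl <;> omega⟩
  refine ⟨_, _, col 1 (.inl rfl), col (-1) (.inr rfl), ?_, ?_, ?_⟩
  · rw [dot_lc, lc_dot, lc_dot, dot_comm s r]; linarith
  · rw [dot_lc, dot_comm δ r, dot_comm δ s]; linarith
  · rw [dot_lc, dot_comm δ r, dot_comm δ s]; linarith

section Cols

variable (hk : Nat.card (principalBlock M G) = 6) {d : ℕ}
  (hd : (Nat.card G).factorization 2 = d) {z : G} {δ : IrrCharacter G → ℤ} (Z : SecV 2 M z δ)
  (zq : fq 2 z = d)
include hd Z zq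

theorem ne_zero {χ : IrrCharacter G} (hχ : χ ∈ principalBlock M G) : δ χ ≠ 0 := fun h => by
  refine principal_apply_ne_zero_of_nilpotent hM rfl Z.pelt
    (hasNormalPComplement_of_blockRank_principal hM Z.rk) (fun h2 => ?_) hχ (by rw [Z.val, h]; simp)
  have h3 := (centralizer ({z} : Set G)).index_mul_card
  have h4 := Nat.prime_two.factorization_pos_of_dvd index_ne_zero_of_finite h2
  rw [← h3, Nat.factorization_mul index_ne_zero_of_finite Nat.card_pos.ne', Finsupp.add_apply] at hd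
  unfold fq at zq
  omega

include hk

theorem exists_sorted (h3 : 3 ≤ d) : ∃ e f a b c, Six (principalBlock M G) e f a b c ∧
    δ e % 4 = 2 ∧ δ f % 4 = 0 ∧ δ f ≠ 0 ∧ δ a % 2 = 1 ∧ δ b % 2 = 1 ∧ δ c % 2 = 1 := by
  have h1 := irrOne_mem_principalBlock (G := G) hM
  have hn := (col_of_secV hM Z).norm
  obtain ⟨t, ht⟩ : (8 : ℤ) ∣ 2 ^ fq 2 z := pow_dvd_pow (2 : ℤ) (zq ▸ h3)
  have key : ∀ {e f a b c}, Six (principalBlock M G) e f a b c →
      (1 + δ e * δ e + δ f * δ f + δ a * δ a + δ b * δ b + δ c * δ c) % 8 = 0 := fun E => by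
    rw [E.dot_eq, Z.one] at hn
    omega
  obtain ⟨x, hx, x1⟩ : ∃ x ∈ principalBlock M G, x ≠ irrOne G := by
    by_contra! h
    have : Subsingleton (principalBlock M G) :=
      ⟨fun a b => Subtype.ext ((h _ a.2).trans (h _ b.2).symm)⟩
    have := Finite.card_le_one_iff_subsingleton.2 this
    omega
  obtain ⟨x2, x3, x4, x5, E⟩ := exists_six' h1 hk hx x1
  have k := key E
  have s1 := sq8 (δ x)
  have s2 := sq8 (δ x2)
  have s3 := sq8 (δ x3)
  have s4 := sq8 (δ x4)
  have s5 := sq8 (δ x5)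
  obtain ⟨e, he, e2⟩ : ∃ e ∈ principalBlock M G, δ e % 4 = 2 := by
    by_contra! h
    have := h _ E.ma
    have := h _ E.mb
    have := h _ E.mc
    have := h _ E.md
    have := h _ E.me
    omega
  obtain ⟨f, hf, f2⟩ : ∃ e ∈ principalBlock M G, δ e % 4 = 0 := by
    by_contra! h
    have := h _ E.ma
    have := h _ E.mb
    have := h _ E.mc
    have := h _ E.md
    have := h _ E.me
    omega
  obtain ⟨a, b, c, F⟩ := exists_six h1 hk he hf (by rintro rfl; rw [Z.one] at e2; omega)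
    (by rintro rfl; rw [Z.one] at f2; omega) (by rintro rfl; omega)
  have := key F
  have := sq8 (δ e)
  have := sq8 (δ f)
  have := sq8 (δ a)
  have := sq8 (δ b)
  have := sq8 (δ c)
  exact ⟨e, f, a, b, c, F, e2, f2, ne_zero hM hd Z zq hf, by omega, by omega, by omega⟩

theorem five_le (h3 : 3 ≤ d) : 5 ≤ d := by
  obtain ⟨e, f, a, b, c, E, he, hf, hf0, ha, hb, hc⟩ := exists_sorted hM hk hd Z zq h3
  have hn := (col_of_secV hM Z).norm
  rw [E.dot_eq, Z.one, zq] at hn
  obtain ⟨h1, h2⟩ := sq_ge he hf hf0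
  have := odd_sq_ge ha
  have := odd_sq_ge hb
  have := odd_sq_ge hc
  by_contra h
  have := pow_le_pow_right₀ (show (1 : ℤ) ≤ 2 by norm_num) (show d ≤ 4 by omega)
  omega

omit hk hd zq in
theorem Col.emod {U : IrrCharacter G → ℤ} {i : ℕ} (C : Col M U i) {χ : IrrCharacter G}
    (hχ : χ ∈ principalBlock M G) : U χ % 2 = δ χ % 2 := by
  have := C.par χ hχ
  have := (col_of_secV hM Z).par χ hχ
  omega

variable {U V : IrrCharacter G → ℤ} {i j : ℕ} (CU : Col M U i) (CV : Col M V j)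
  (uv : dot (principalBlock M G) U V = 0) (zu : dot (principalBlock M G) δ U = 0)
  (zv : dot (principalBlock M G) δ V = 0)
include CU CV uv zu zv

theorem not_eight (h5 : 5 ≤ d) (hi : i = 3) (hj : j = 3) : False := by
  obtain ⟨e, f, a, b, c, E, he, hf, hf0, ha, hb, hc⟩ := exists_sorted hM hk hd Z zq (by omega)
  have hn := (col_of_secV hM Z).norm
  have hu := CU.norm
  have hv := CV.norm
  simp only [E.dot_eq, Z.one, CU.one, CV.one, zq, hi, hj, mul_one] at hn hu hv uv zu zv
  have p := fun {χ} (h : χ ∈ principalBlock M G) => CU.emod hM Z h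
  have q := fun {χ} (h : χ ∈ principalBlock M G) => CV.emod hM Z h
  exact no88 he hf hf0 ha hb hc (by have := p E.ma; omega) (by have := p E.mb; omega)
    ((p E.mc).trans ha) ((p E.md).trans hb) ((p E.me).trans hc) (by have := q E.ma; omega)
    (by have := q E.mb; omega) ((q E.mc).trans ha) ((q E.md).trans hb) ((q E.me).trans hc)
    (by rw [hn]; exact pow_dvd_pow (2 : ℤ) h5) hu hv uv zu zv

omit hd in
theorem fam_sq {a b : IrrCharacter G} (ha : a ∈ principalBlock M G) (hb : b ∈ principalBlock M G)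
    (a1 : a ≠ irrOne G) (b1 : b ≠ irrOne G) (ab : a ≠ b) {σ τ : ℤ} (hσ : σ * σ = 1)
    (hτ : τ * τ = 1) (h : ∀ n, SingV 2 (principalBlock M G) n →
      n a = σ * n (irrOne G) ∧ n b = 2 * τ * n (irrOne G)) :
    ∃ D : ℤ, D * D = 2 ^ d * 2 ^ i * 2 ^ j - 6 * (2 ^ d * 2 ^ i + 2 ^ d * 2 ^ j + 2 ^ i * 2 ^ j) := by
  obtain ⟨c, e, f, E⟩ := exists_six (irrOne_mem_principalBlock hM) hk ha hb a1 b1 ab
  have hn := (col_of_secV hM Z).norm
  have hu := CU.norm
  have hv := CV.norm
  obtain ⟨z1, z2⟩ := h _ (Z.sing hM)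
  obtain ⟨u1, u2⟩ := h _ CU.sing
  obtain ⟨v1, v2⟩ := h _ CV.sing
  simp only [E.dot_eq, Z.one, CU.one, CV.one, zq, mul_one, z1, z2, u1, u2, v1, v2]
    at hn hu hv uv zu zv
  exact gram (x := δ c) (y := δ e) (z := δ f) (x' := U c) (y' := U e) (z' := U f) (x'' := V c)
    (y'' := V e) (z'' := V f) (by linear_combination hn - hσ - 4 * hτ)
    (by linear_combination hu - hσ - 4 * hτ) (by linear_combination hv - hσ - 4 * hτ)
    (by linear_combination zu - hσ - 4 * hτ) (by linear_combination zv - hσ - 4 * hτ)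
    (by linear_combination uv - hσ - 4 * hτ)

theorem not_exc (h5 : d = 5) (hi : i = 4) (hj : j = 3) (bu : ∀ χ, U (irrBar χ) = U χ)
    (bv : ∀ χ, V (irrBar χ) = V χ) {t : ℤ} (ht : t = 0 ∨ t = 2)
    (n1 : dot (principalBlock M G) nu δ = 6 - 2 * t) (n2 : dot (principalBlock M G) nu U = t)
    (n3 : dot (principalBlock M G) nu V = 0) : False := by
  obtain ⟨e, f, a, b, c, E, he, hf, hf0, ha, hb, hc⟩ := exists_sorted hM hk hd Z zq (by omega)
  have hn := (col_of_secV hM Z).norm
  have hu := CU.norm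
  have hv := CV.norm
  simp only [E.dot_eq, Z.one, CU.one, CV.one, zq, hi, hj, h5, mul_one, nu_one]
    at hn hu hv uv zu zv n1 n2 n3
  have p := fun {χ} (h : χ ∈ principalBlock M G) => CU.emod hM Z h
  have q := fun {χ} (h : χ ∈ principalBlock M G) => CV.emod hM Z h
  obtain ⟨z1, z2, z3, z4, z5⟩ := shape32 he hf hf0 ha hb hc hn
  obtain ⟨u1, u2, u3, u4, u5⟩ := shape16 (by have := p E.ma; omega) (by have := p E.mb; omega)
    ((p E.mc).trans ha) ((p E.md).trans hb) ((p E.me).trans hc) hu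
  obtain ⟨v1, v2, v3, v4, v5⟩ := shape8 (by have := q E.ma; omega) (by have := q E.mb; omega)
    ((q E.mc).trans ha) ((q E.md).trans hb) ((q E.me).trans hc) hv
  have bar : ∀ χ ∈ principalBlock M G, nu χ = 0 → ∃ ψ, ψ ≠ χ ∧ (ψ = e ∨ ψ = f ∨ ψ = a ∨ ψ = b ∨
      ψ = c) ∧ nu ψ = 0 ∧ δ χ = δ ψ ∧ U χ = U ψ ∧ V χ = V ψ := fun χ hχ h0 => by
    refine ⟨irrBar χ, nu_eq_zero_iff.1 h0, ((E.mem _).1 (bar_principal hM χ hχ)).resolve_left
      fun h => ?_, (nu_bar χ).trans h0, (Z.bar χ).symm, (bu χ).symm, (bv χ).symm⟩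
    rw [← nu_bar, h, nu_one] at h0
    omega
  have odd : ∀ χ ∈ principalBlock M G, δ χ % 2 = 1 → nu χ = 1 ∨ nu χ = 0 := fun χ hχ h =>
    nu_ne_neg_one hM hχ fun h2 => by
      have := (Z.par hM hχ).2 h2
      push_cast at this
      omega
  have ne : nu e = 1 ∨ nu e = -1 := by
    rcases nu_cases e with h | h | h
    exacts [.inl h, .inr h, by
      obtain ⟨ψ, h1, rfl | rfl | rfl | rfl | rfl, -, h2, -⟩ := bar e E.ma h
      exacts [(h1 rfl).elim, by omega, by omega, by omega, by omega]]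
  have nf : nu f = 1 ∨ nu f = -1 := by
    rcases nu_cases f with h | h | h
    exacts [.inl h, .inr h, by
      obtain ⟨ψ, h1, rfl | rfl | rfl | rfl | rfl, -, h2, -⟩ := bar f E.mb h
      exacts [by omega, (h1 rfl).elim, by omega, by omega, by omega]]
  refine exc_chk (δ e) (by simpa using z1) (δ f) (by simpa using z2) (δ a) (by simpa using z3)
    (δ b) (by simpa using z4) (δ c) (by simpa using z5) hn (V e) (by simpa using v1) (V f)
    (by simpa using v2) (V a) (by simpa using v3) (V b) (by simpa using v4) (V c)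
    (by simpa using v5) hv zv (nu e) (by simpa using ne) (nu f) (by simpa using nf) (nu a)
    (by simpa using odd a E.mc ha) (nu b) (by simpa using odd b E.md hb) (nu c)
    (by simpa using odd c E.me hc) n3 t (by simpa using ht) n1 (U e) (by simpa using u1) (U f)
    (by simpa using u2) (U a) (by simpa using u3) (U b) (by simpa using u4) (U c)
    (by simpa using u5) hu zu uv n2 (fun h => ?_) (fun h => ?_) fun h => ?_
  · obtain ⟨ψ, h1, rfl | rfl | rfl | rfl | rfl, h2⟩ := bar a E.mc h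
    exacts [by omega, by omega, (h1 rfl).elim, .inl h2, .inr h2]
  · obtain ⟨ψ, h1, rfl | rfl | rfl | rfl | rfl, h2⟩ := bar b E.md h
    exacts [by omega, by omega, .inl ⟨h2.1, h2.2.1.symm, h2.2.2.1.symm, h2.2.2.2.symm⟩,
      (h1 rfl).elim, .inr h2]
  · obtain ⟨ψ, h1, rfl | rfl | rfl | rfl | rfl, h2⟩ := bar c E.me h
    exacts [by omega, by omega, .inl ⟨h2.1, h2.2.1.symm, h2.2.2.1.symm, h2.2.2.2.symm⟩,
      .inr ⟨h2.1, h2.2.1.symm, h2.2.2.1.symm, h2.2.2.2.symm⟩, (h1 rfl).elim]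

omit Z zq CU CV uv zu zv hk in
theorem rank_cases (hl : blockRank 2 (principalBlock M G) = 3) (h5 : 5 ≤ d)
    (h9 : 7 * 2 ^ d ≤ 9 * cc 2 M G) :
    ((∃ a ∈ principalBlock M G, ∃ b ∈ principalBlock M G, a ≠ irrOne G ∧ b ≠ irrOne G ∧ a ≠ b ∧
      ∃ σ τ : ℤ, σ * σ = 1 ∧ τ * τ = 1 ∧ ∀ n, SingV 2 (principalBlock M G) n →
        n a = σ * n (irrOne G) ∧ n b = 2 * τ * n (irrOne G)) ∧
      (32 * cc 2 M G < 27 * 2 ^ d ∨ (d = 5 ∧ cc 2 M G = 27))) ∨ (d = 5 ∧ cc 2 M G = 25) := by
  have h32 : 32 ≤ 2 ^ d := Nat.pow_le_pow_right two_pos h5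
  have h5 : ((2 ^ d : ℕ) : ℤ) = 2 ^ d := by push_cast; rfl
  have h2 := rank_three hM isPBlock_principalBlock (irrOne_mem_principalBlock hM) hl
    ((blockDefect_principal hM).trans hd) (c := cc 2 M G) rfl (by omega) (by omega) (not_dvd_cc hM)
    (by push_cast; omega)
  have h3 : 2 ∣ 2 ^ d := dvd_pow_self _ (by omega)
  simp only [List.mem_cons, Prod.mk.injEq, List.not_mem_nil, or_false, Nat.cast_ofNat] at h2
  rcases h2 with ⟨h, h2⟩ | h2
  · exact .inl ⟨h, h2.imp_right fun h2 =>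
      ⟨Nat.pow_right_injective le_rfl (show 2 ^ d = 2 ^ 5 by omega), by omega⟩⟩
  · exact .inr ⟨Nat.pow_right_injective le_rfl (show 2 ^ d = 2 ^ 5 by omega), by omega⟩

theorem core (hl : blockRank 2 (principalBlock M G) = 3) (h5 : 5 ≤ d) {s t : ℕ} (hi : d = i + s)
    (hj : d = j + t) (hs : s ≠ 0) (j3 : 3 ≤ j) (ji : j ≤ i)
    (hc : cc 2 M G + 1 + 2 ^ s + 2 ^ t = 2 ^ d) : d = 5 ∧ i = 4 ∧ j = 3 := by
  have i4 : 4 ≤ i := by
    by_contra h
    exact not_eight hM hk hd Z zq CU CV uv zu zv h5 (by omega) (by omega)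
  have b : ∀ {m n : ℕ}, m ≤ n → (2 : ℤ) ^ m ≤ 2 ^ n := fun h => pow_le_pow_right₀ (by norm_num) h
  have e : ∀ {m n k : ℕ}, k = m + n → (2 : ℤ) ^ k = 2 ^ m * 2 ^ n := fun h => by rw [h, pow_add]
  have q := b h5
  have s1 := b (show 4 + s ≤ d by omega)
  have t1 := b (show 3 + t ≤ d by omega)
  have s2 := b (show 1 ≤ s by omega)
  have s3 := b (show s ≤ t by omega)
  rw [pow_add] at s1 t1
  rcases rank_cases hM hd hl h5 (by omega) with
    ⟨⟨a, ha, b', hb, a1, b1, ab, σ, τ, hσ, hτ, h⟩, h2⟩ | ⟨h1, h2⟩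
  · exfalso
    obtain ⟨D, hD⟩ := fam_sq hM hk Z zq CU CV uv zu zv ha hb a1 b1 ab hσ hτ h
    rcases h2 with h2 | ⟨rfl, h2⟩
    · obtain rfl : j = 3 := by
        by_contra h3
        have := b (show 4 + t ≤ d by omega)
        rw [pow_add] at this
        omega
      have t2 := e hj
      obtain rfl | rfl : i = 4 ∨ i = 5 := by
        by_contra h3
        have h4 := b (show 6 + s ≤ d by omega)
        have := b (show 7 ≤ d by omega)
        rw [pow_add] at h4
        omega
      · nlinarith [mul_self_nonneg D]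
      · have s4 := e hi
        obtain ⟨k, hk⟩ : (2 : ℤ) ∣ 2 ^ s := dvd_pow_self _ hs
        exact not_sq (D := D) (m := 2 ^ s - 3) (by omega) 4 (by rw [hD, s4]; ring)
    · obtain rfl : i = 4 := by omega
      obtain rfl : j = 4 := by
        by_contra h3
        obtain rfl : s = 1 := by omega
        obtain rfl : t = 2 := by omega
        omega
      exact not_sq (D := D) (m := 1) (by omega) 4 (by rw [hD]; norm_num)
  · subst h1
    refine ⟨rfl, by omega, ?_⟩
    by_contra h3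
    obtain rfl : s = 1 := by omega
    obtain rfl : t = 1 := by omega
    omega

end Cols

section Main

variable {X : Finset G} (R : Reps 2 X) {z u v : G}

omit hM in
theorem sq_eq_one_of_isConj {a x : G} (h : IsConj a x) (hx : x * x = 1) : a * a = 1 := by
  have := h.symm.pow 2
  rwa [sq, sq, hx, isConj_one_right] at this

omit hM in
include R in
theorem nonrat (e : ∀ x ∈ X, x = z ∨ x = u ∨ x = v) (mu : u ∈ X) (zz : z * z = 1)
    (uu : u * u ≠ 1) (h : ¬ ∀ k : ℕ, k.Coprime (orderOf u) → IsConj u (u ^ k)) :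
    u ^ 4 = 1 ∧ ¬ IsConj u u⁻¹ ∧ fq 2 v = fq 2 u := by
  push Not at h
  obtain ⟨k, hk, h⟩ := h
  have hu := R.pelt u mu
  have ho := hk.symm.orderOf_pow
  have h4 := four_dvd_orderOf hu uu
  have h0 := orderOf_pos u
  have h1 : IsConj (u ^ k) v := by
    obtain ⟨x, hx, h1⟩ := R.exists_conj (hu.pow k) fun h1 => by
      rw [h1, orderOf_one] at ho
      omega
    rcases e x hx with rfl | rfl | rfl
    · have := Nat.le_of_dvd two_pos
        (orderOf_dvd_of_pow_eq_one ((pow_two _).trans (sq_eq_one_of_isConj h1 zz)))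
      omega
    exacts [(h h1.symm).elim, h1]
  have h2 : u ^ 4 = 1 := by
    obtain ⟨x, hx, h2⟩ := R.exists_conj (hu.mul_of_commute hu (Commute.refl u)) uu
    rcases e x hx with rfl | rfl | rfl
    · rw [← sq_eq_one_of_isConj h2 zz]; simp [pow_succ, mul_assoc]
    · exact (not_isConj_sq hu (R.ne _ hx) h2).elim
    · obtain ⟨c, h3⟩ := h2.trans h1.symm
      have h3 := h3.orderOf_eq
      rw [ho, ← pow_two, orderOf_pow, Nat.gcd_eq_right (by omega)] at h3
      omega
  have h3 : u ^ k = u⁻¹ := by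
    have h5 : k % 4 = 1 ∨ k % 4 = 3 := by
      have : ¬ 2 ∣ k := fun h5 => by
        have := Nat.dvd_gcd h5 (show 2 ∣ orderOf u by omega)
        rw [hk] at this
        omega
      omega
    rw [pow_eq_pow_mod k h2] at h ⊢
    rcases h5 with h5 | h5 <;> rw [h5] at h ⊢
    · exact (h (by rw [pow_one])).elim
    · exact eq_inv_of_mul_eq_one_left ((pow_succ u 3).symm.trans h2)
  rw [h3] at h h1
  refine ⟨h2, h, (fq_eq_of_isConj h1).symm.trans ?_⟩
  have : centralizer ({u⁻¹} : Set G) = centralizer {u} := by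
    ext g
    simp [mem_centralizer_singleton_iff, ← commute_iff_eq]
  simp only [fq, this]

variable (hk : Nat.card (principalBlock M G) = 6) {d : ℕ}
  (hd : (Nat.card G).factorization 2 = d) (h4 : 4 ≤ d) (hr : ∀ x ∈ X, rk 2 M x = 1)
include hk hd h4 R hr

theorem three_aux [DecidableEq G] (zu : z ≠ u) (zv : z ≠ v) (uv : u ≠ v) (e : X = {z, u, v})
    (z2 : orderOf z = 2) (zq : fq 2 z = d) (le : fq 2 v ≤ fq 2 u) : False := by
  classical
  have mz : z ∈ X := by simp [e]
  have mu : u ∈ X := by simp [e]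
  have mv : v ∈ X := by simp [e]
  have mem : ∀ x ∈ X, x = z ∨ x = u ∨ x = v := fun x hx => by simpa [e] using hx
  have zz := mul_self_of_two z2
  have hs : ∀ {A : Type} [AddCommMonoid A] (f : G → A), ∑ x ∈ X, f x = f z + (f u + f v) :=
    fun f => by rw [e, Finset.sum_insert (by simp [zu, zv]), Finset.sum_pair uv]
  have hl : blockRank 2 (principalBlock M G) = 3 := by
    have := R.card_eq hM
    rw [hs, hr z mz, hr u mu, hr v mv] at this
    omega
  obtain ⟨δ, Z⟩ := exists_secV (R.pelt z mz) (R.ne z mz) (hr z mz) fun k hk => by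
    rw [← pow_mod_orderOf, z2, Nat.odd_iff.1 (Nat.coprime_two_right.1 (z2 ▸ hk)), pow_one]
  have h5 := five_le hM hk hd Z zq (by omega)
  have j3 : 3 ≤ fq 2 v := by
    by_contra h
    obtain ⟨Y, h1, h2, -⟩ := R.exists_four (by omega) mv (by omega)
    have := (Finset.card_le_card h1).trans (e ▸ Finset.card_le_three)
    omega
  have a1 := ms_of_rk_one hM (hr z mz)
  have a2 := ms_of_rk_one hM (hr u mu)
  have a3 := ms_of_rk_one hM (hr v mv)
  obtain ⟨s, hi⟩ := Nat.exists_eq_add_of_le (hd ▸ fq_le (p := 2) u)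
  obtain ⟨t, hj⟩ := Nat.exists_eq_add_of_le (hd ▸ fq_le (p := 2) v)
  have a4 := R.cc_add hM
  rw [hd, hs] at a4
  rw [zq] at a1
  push_cast at a1 a2 a3 a4
  have a5 : 2 ^ d * ms 2 u = 2 ^ s := by rw [hi, pow_add]; linear_combination 2 ^ s * a2
  have a6 : 2 ^ d * ms 2 v = 2 ^ t := by rw [hj, pow_add]; linear_combination 2 ^ t * a3
  have hc : cc 2 M G + 1 + 2 ^ s + 2 ^ t = 2 ^ d := by
    rw [← Int.cast_inj (α := ℝ)]
    push_cast
    linarith
  have n6 := not_dvd_cc (G := G) hM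
  obtain ⟨r, hr'⟩ : (32 : ℤ) ∣ 2 ^ d := pow_dvd_pow (2 : ℤ) h5
  have r0 : (0 : ℤ) < 2 ^ d := by positivity
  have s0 : s ≠ 0 := by
    rintro rfl
    have t0 : t = 0 := by
      by_contra h
      obtain ⟨k, hk⟩ : (2 : ℤ) ∣ 2 ^ t := dvd_pow_self _ h
      push_cast at n6
      omega
    subst t0
    rcases rank_cases hM hd hl h5 (by omega) with ⟨-, h | ⟨rfl, h⟩⟩ | ⟨rfl, h⟩ <;> omega
  have one : ∀ {x y : G}, y ∈ X → (∀ w ∈ X, w = z ∨ w = x ∨ w = y) → x * x = 1 → y * y = 1 :=
    fun {x y} hy h hx => by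
    by_contra yy
    have := PairCls.factorization_le_three (R.pelt y hy) yy (fun a ha aa => by
      obtain ⟨w, hw, h1⟩ := R.exists_conj ha (by rintro rfl; simp at aa)
      rcases h w hw with rfl | rfl | rfl
      exacts [(aa (sq_eq_one_of_isConj h1 zz)).elim, (aa (sq_eq_one_of_isConj h1 hx)).elim, h1])
      (R.nilp hM hr)
    omega
  have mem' : ∀ x ∈ X, x = z ∨ x = v ∨ x = u := fun x hx => (mem x hx).imp_right Or.symm
  have uu : u * u ≠ 1 := fun h => by
    have := R.fq_of_invol (by simp [e, zz, h, one mv mem h]) mu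
    omega
  have vv : v * v ≠ 1 := fun h => uu (one mu mem' h)
  have key : ∀ {x y : G}, x ∈ X → (∀ w ∈ X, w = z ∨ w = x ∨ w = y) → x * x ≠ 1 → z ≠ x →
      (fq 2 y = fq 2 x → fq 2 u = fq 2 x ∧ fq 2 v = fq 2 x) → ∃ n, SecV 2 M x n :=
    fun {x y} hx h xx zx h1 => by
    refine exists_secV (R.pelt x hx) (R.ne x hx) (hr x hx) (by_contra fun h2 => ?_)
    obtain ⟨b1, b2, b3⟩ := nonrat R h hx zz xx h2
    obtain ⟨U, V, CU, CV, c1, c2, c3⟩ := exists_cols hM Z (R.pelt x hx) (R.ne x hx) (hr x hx) b1 b2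
      fun h => zx (R.eq mz hx h)
    obtain ⟨b4, b5⟩ := h1 b3
    have := core hM hk hd Z zq CU CV c1 c2 c3 hl h5 (b4 ▸ hi) (b5 ▸ hj) s0 (b5 ▸ j3) le_rfl hc
    omega
  obtain ⟨U, DU⟩ := key mu mem uu zu fun h => ⟨rfl, h⟩
  obtain ⟨V, DV⟩ := key mv mem' vv zv fun h => ⟨h, rfl⟩
  have CU := col_of_secV hM DU
  have CV := col_of_secV hM DV
  have c1 := DU.orth hM DV fun h => uv (R.eq mu mv h)
  have c2 := Z.orth hM DU fun h => zu (R.eq mz mu h)
  have c3 := Z.orth hM DV fun h => zv (R.eq mz mv h)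
  obtain ⟨d5, i4, j3⟩ := core hM hk hd Z zq CU CV c1 c2 c3 hl h5 hi hj s0 j3 le hc
  have b1 := Z.nu_dot hM R
  have b2 := DU.nu_dot hM R
  have b3 := DV.nu_dot hM R
  have n1 : ∀ x ∈ X, ¬ IsConj (z * z) x := fun x hx h => R.ne x hx (by simpa [zz, eq_comm] using h)
  have n2 := fun x hx => not_isConj_sq (R.pelt x hx) (R.ne x hx)
  have n3 : ∀ x ∈ X, x * x ≠ 1 → IsConj (x * x) z ∨ IsConj (x * x) u ∨ IsConj (x * x) v :=
    fun x hx xx => by
    obtain ⟨w, hw, h⟩ := R.exists_conj ((R.pelt x hx).mul_of_commute (R.pelt x hx)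
      (Commute.refl x)) xx
    rcases mem w hw with rfl | rfl | rfl
    exacts [.inl h, .inr (.inl h), .inr (.inr h)]
  rw [hs, if_neg (n1 _ mz), zq, d5] at b1
  rw [hs, if_neg (n1 _ mu), if_neg (n2 _ mu), i4] at b2
  rw [hs, if_neg (n1 _ mv), if_neg (n2 _ mv), j3] at b3
  rw [i4] at a2
  rw [j3] at a3
  have n4 : ¬ IsConj (u * u) v := fun h => by
    rw [if_pos h] at b3
    have : 2 * dot (principalBlock M G) nu V = 1 := by
      rw [← Int.cast_inj (α := ℝ)]
      push_cast at b3 ⊢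
      linarith
    omega
  rw [if_neg n4] at b3
  rw [if_pos (((n3 u mu uu).resolve_right (by simp only [not_or]; exact ⟨n2 u mu, n4⟩)))] at b1
  have b4 : dot (principalBlock M G) nu V = 0 := by simpa using b3
  rcases n3 v mv vv with h | h | h
  · rw [if_pos h] at b1
    rw [if_neg fun h' => zu (R.eq mz mu (h.symm.trans h'))] at b2
    refine not_exc hM hk hd Z zq CU CV c1 c2 c3 d5 i4 j3 DU.bar DV.bar (.inl rfl) ?_
      (by simpa using b2) b4
    rw [← Int.cast_inj (α := ℝ)]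
    push_cast at b1 ⊢
    linarith
  · rw [if_pos h] at b2
    rw [if_neg fun h' => zu (R.eq mz mu (h'.symm.trans h))] at b1
    refine not_exc hM hk hd Z zq CU CV c1 c2 c3 d5 i4 j3 DU.bar DV.bar (.inr rfl) ?_ ?_ b4 <;>
      rw [← Int.cast_inj (α := ℝ)] <;> push_cast at b1 b2 ⊢ <;> linarith
  · exact n2 v mv h

end Main

/-- A principal `2`-block with six characters and defect at least four does not have exactly
three sections, all of rank one. -/
theorem three_ones (hk : Nat.card (principalBlock M G) = 6) {d : ℕ}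
    (hd : blockDefect 2 (principalBlock M G) = d) (h4 : 4 ≤ d) {X : Finset G} (R : Reps 2 X)
    (hX : X.card = 3) (hr : ∀ x ∈ X, rk 2 M x = 1) : False := by
  classical
  have hf := (blockDefect_principal hM).symm.trans hd
  obtain ⟨z, hz, z2, zq⟩ := R.exists_major (by omega)
  obtain ⟨u, v, uv, e⟩ := Finset.card_eq_two.1
    (show (X.erase z).card = 2 by rw [Finset.card_erase_of_mem hz, hX])
  have zu : z ≠ u := (Finset.ne_of_mem_erase (show u ∈ X.erase z by simp [e])).symm
  have zv : z ≠ v := (Finset.ne_of_mem_erase (show v ∈ X.erase z by simp [e])).symm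
  have e' : X = {z, u, v} := by rw [← e, Finset.insert_erase hz]
  rcases le_total (fq 2 v) (fq 2 u) with h | h
  · exact three_aux hM R hk hf h4 hr zu zv uv e' z2 (zq.trans hf) h
  · exact three_aux hM R hk hf h4 hr zv zu uv.symm (by rw [e', Finset.pair_comm]) z2
      (zq.trans hf) h

end BT.K6T
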