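import Cfsg.Agent.Lib.Block.K6TwoFour
import Cfsg.Agent.Lib.Block.StarChar

/-!
# Two classes of `2`-elements: the Sylow order is a cube
-/

set_option autoImplicit false
set_option linter.unusedSectionVars false

namespace BT.K5

open Cfsg CT GT Subgroup

variable {G : Type*} [Group G] [Finite G]

/-- `g ↦ θ(g_p)` is a generalized character. -/
theorem isGen_comp_pPart {p : ℕ} [Fact p.Prime] {θ : G → ℂ} (hθ : IsGeneralizedCharacter G θ) :
    IsGeneralizedCharacter G fun g => θ (pPart p g) := by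
  refine isGen_of_forall_nilpotent (fun g h => ?_) fun E hE => ?_
  · simp only [pPart_conj, hθ.isClassFunction _ h]
  · have := hθ.comp (E.subtype.comp (pPartHom p E))
    convert this using 1
    ext x
    simp [coe_pPart]

/-- The integrality of the multiplicity of the trivial character in `g ↦ θ(g_p)`. -/
theorem Reps.exists_int_sum {p : ℕ} [Fact p.Prime] {X : Finset G} (R : Reps p X) {θ : G → ℂ}
    (hθ : IsGeneralizedCharacter G θ) (h1 : ((θ 1).re : ℂ) = θ 1)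
    (h : ∀ x ∈ X, ((θ x).re : ℂ) = θ x) :
    ∃ k : ℤ, (θ 1).re + ∑ x ∈ X, ((θ x).re - (θ 1).re) * ms p x = k := by
  obtain ⟨k, hk⟩ := (isGen_comp_pPart (p := p) hθ).exists_int_ip (irr_isCharacter (irrOne G)).isGen
  have h2 := R.ip_pPart (fun g => (θ g).re) fun x y e => by rw [hθ.isClassFunction.of_isConj e]
  have h3 : (fun g => (((θ (pPart p g)).re : ℝ) : ℂ)) = fun g => θ (pPart p g) := funext fun g => by
    by_cases e : pPart p g = 1
    · rw [e, h1]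
    · obtain ⟨x, hx, e'⟩ := R.exists_conj (isPElt_pPart p g) e
      rw [hθ.isClassFunction.of_isConj e', h x hx]
  rw [h3, ← irrOne_val, hk] at h2
  refine ⟨k, ?_⟩
  rw [← Complex.ofReal_intCast, Complex.ofReal_inj] at h2
  rw [h2, eq_sub_of_add_eq R.sum_ms]
  simp only [sub_mul, Finset.sum_sub_distrib, ← Finset.mul_sum]
  ring

theorem cube_aux {j e : ℕ} {u v : ℤ} (hu : ¬ 2 ∣ u) (he : e ≠ 0) (hv : j ≠ 0 → ¬ 2 ∣ v)
    (h : (2 : ℤ) ^ (j + 1) ∣ 2 ^ j * u - 2 ^ e * v) : e = j := by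
  rcases lt_trichotomy e j with hl | hl | hl
  · obtain ⟨i, rfl⟩ := Nat.exists_eq_add_of_lt hl
    have h1 : (2 : ℤ) ^ e * 2 ∣ 2 ^ e * (2 ^ (i + 1) * u - v) := by
      refine Dvd.dvd.trans ⟨2 ^ (i + 1), by ring⟩ (h.trans (dvd_of_eq (by ring)))
    have h2 := (mul_dvd_mul_iff_left (by positivity)).1 h1
    refine (hv (by omega) ?_).elim
    simpa using dvd_sub (Dvd.dvd.mul_right (dvd_pow_self 2 i.succ_ne_zero) u) h2
  · exact hl
  · obtain ⟨i, rfl⟩ := Nat.exists_eq_add_of_lt hl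
    have h1 : (2 : ℤ) ^ j * 2 ∣ 2 ^ j * (u - 2 ^ (i + 1) * v) := by
      refine Dvd.dvd.trans (dvd_of_eq (by ring)) (h.trans (dvd_of_eq (by ring)))
    have h2 := (mul_dvd_mul_iff_left (by positivity)).1 h1
    refine (hu ?_).elim
    simpa using dvd_add h2 (Dvd.dvd.mul_right (dvd_pow_self 2 i.succ_ne_zero) v)

theorem pow_dvd_of_odd_mul {i : ℕ} {m a : ℤ} (hm : ¬ 2 ∣ m) (h : (2 : ℤ) ^ i ∣ m * a) :
    (2 : ℤ) ^ i ∣ a :=
  (IsCoprime.pow_left ((Int.prime_two.coprime_iff_not_dvd).2 hm)).dvd_of_dvd_mul_left h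

theorem cube_num1 {f e : ℕ} (he : e ≠ 0) {m a b : ℤ} (hm : ¬ 2 ∣ m)
    (h1 : (2 : ℤ) ^ (e + f) ∣ m * a + 2 ^ e * b)
    (h2 : (2 : ℤ) ^ (e + f) ∣ m * a ^ 2 + 2 ^ e * b ^ 2) :
    ∃ a1, a = 2 ^ e * a1 ∧ (2 : ℤ) ^ f ∣ m * a1 + b ∧ (2 : ℤ) ^ f ∣ a1 ^ 2 ∧ (2 : ℤ) ^ f ∣ b ^ 2 := by
  obtain ⟨a1, rfl⟩ : (2 : ℤ) ^ e ∣ a := pow_dvd_of_odd_mul hm (by
    simpa using dvd_sub ((pow_dvd_pow 2 (Nat.le_add_right e f)).trans h1) (dvd_mul_right (2 ^ e) b))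
  have h3 : (2 : ℤ) ^ f ∣ m * a1 + b := (mul_dvd_mul_iff_left (a := (2 : ℤ) ^ e) (by positivity)).1
    (by rw [← pow_add]; exact h1.trans (dvd_of_eq (by ring)))
  have h4 : (2 : ℤ) ^ f ∣ m * 2 ^ e * a1 ^ 2 + b ^ 2 :=
    (mul_dvd_mul_iff_left (a := (2 : ℤ) ^ e) (by positivity)).1
      (by rw [← pow_add]; exact h2.trans (dvd_of_eq (by ring)))
  have h5 : (2 : ℤ) ^ f ∣ a1 ^ 2 := by
    refine pow_dvd_of_odd_mul (m := 2 ^ e + m) (fun h => hm ?_) (pow_dvd_of_odd_mul hm ?_)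
    · simpa using dvd_sub h (dvd_pow_self 2 he)
    · exact (dvd_add h4 (h3.mul_right (m * a1 - b))).trans (dvd_of_eq (by ring))
  exact ⟨a1, rfl, h3, h5, by simpa using dvd_sub h4 (h5.mul_left (m * 2 ^ e))⟩

theorem cube_num2 {f e : ℕ} (he : e ≠ 0) {m a1 b : ℤ} (h1 : (2 : ℤ) ^ f ∣ m * a1 + b)
    (h2 : (2 : ℤ) ^ f ∣ a1 ^ 2) (h3 : (2 : ℤ) ^ f ∣ b ^ 2) (h4 : ¬ (2 : ℤ) ^ (f + 1) ∣ b ^ 2)
    (h5 : (2 : ℤ) ^ (e + f + 1) ∣ m * (2 ^ e * a1) ^ 2 + 2 ^ e * (b ^ 2 - 2 ^ e * a1)) :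
    f = 2 * e := by
  obtain ⟨j, u, hu, rfl⟩ := WfDvdMonoid.max_power_factor (a₀ := b) (x := 2)
    (by rintro rfl; simp at h4) Int.prime_two.irreducible
  have hu2 : ¬ (2 : ℤ) ∣ u ^ 2 := fun h => hu (Int.prime_two.dvd_of_dvd_pow h)
  have e1 : ((2 : ℤ) ^ j * u) ^ 2 = u ^ 2 * 2 ^ (2 * j) := by ring
  have hf : f = 2 * j := by
    rw [e1] at h3 h4
    have h6 := (pow_dvd_pow_iff two_ne_zero (by decide)).1 (pow_dvd_of_odd_mul hu2 h3)
    by_contra h7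
    exact h4 ((pow_dvd_pow 2 (by omega)).mul_left _)
  subst hf
  obtain ⟨v, rfl⟩ : (2 : ℤ) ^ j ∣ a1 := (Int.pow_dvd_pow_iff two_ne_zero).1 (by
    rwa [← pow_mul, mul_comm j])
  obtain ⟨i, rfl⟩ := Nat.exists_eq_add_one_of_ne_zero he
  refine congrArg _ (cube_aux (j := j) (v := v) hu2 he (fun hj h => hu ?_) ?_).symm
  · have h6 : (2 : ℤ) ^ j * 2 ^ j ∣ 2 ^ j * (m * v + u) :=
      (dvd_of_eq (by ring)).trans (h1.trans (dvd_of_eq (by ring)))
    simpa using dvd_sub ((dvd_pow_self 2 hj).trans ((mul_dvd_mul_iff_left (by positivity)).1 h6))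
      (h.mul_left m)
  · have h6 : (2 : ℤ) ^ (i + 1 + j) * 2 ^ (j + 1) ∣ 2 ^ (i + 1 + j) *
        (2 ^ (j + 1) * (m * 2 ^ i * v ^ 2) + (2 ^ j * u ^ 2 - 2 ^ (i + 1) * v)) :=
      (dvd_of_eq (by ring)).trans (h5.trans (dvd_of_eq (by ring)))
    exact (dvd_add_right (dvd_mul_right _ _)).1 ((mul_dvd_mul_iff_left (by positivity)).1 h6)

theorem Reps.cube {M : Ideal AlgInt} (hM : IsPModular 2 M) {X : Finset G} (R : Reps 2 X)
    [DecidableEq G] {z y : G} (e : X = {z, y}) (zy : z ≠ y) (zz : z * z = 1)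
    (zq : fq 2 z = (Nat.card G).factorization 2) (yy : IsConj (y * y) z)
    {Y : IrrCharacter G → ℤ} (D : SecV 2 M y Y) :
    ∃ s, fq 2 y = 2 * s ∧ (Nat.card G).factorization 2 = 3 * s ∧
      ∀ χ : IrrCharacter G, (2 : ℤ) ^ s ∣ Y χ - charDegree χ.1 := by
  obtain ⟨n, hn⟩ := Nat.exists_eq_add_of_le' (fq_le (p := 2) y)
  set f := fq 2 y
  set m := cc 2 M (centralizer ({z} : Set G))
  have hm : ¬ (2 : ℤ) ∣ m := not_dvd_cc hM
  have h1 : (2 : ℝ) ^ (n + f) * ms 2 z = m := by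
    rw [← hn, ← zq]
    exact_mod_cast (cc_cast hM).symm
  have h2 : (2 : ℝ) ^ (n + f) * ms 2 y = 2 ^ n := by
    have := ms_of_rk_one hM D.rk
    rw [pow_add, mul_assoc, show (2 : ℝ) ^ f * ms 2 y = 1 by exact_mod_cast this, mul_one]
  have hf : f ≠ 0 := fun h => D.ne (by
    have := orderOf_dvd_pow_fq D.pelt
    rwa [show fq 2 y = 0 from h, pow_zero, Nat.dvd_one, orderOf_eq_one_iff] at this)
  have hn0 : n ≠ 0 := by
    rintro rfl
    have h3 := R.cc_add hM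
    rw [e, Finset.sum_pair zy, hn, Nat.cast_ofNat, mul_add, h1, h2] at h3
    have h4 : cc 2 M G + (m + 2 ^ 0) = 2 ^ (0 + f) := by exact_mod_cast h3
    have h5 := not_dvd_cc (G := G) hM
    have h6 : (2 : ℤ) ∣ 2 ^ (0 + f) := dvd_pow_self 2 (by omega)
    omega
  have hT : ∀ {θ : G → ℂ}, IsGeneralizedCharacter G θ → ∀ a b c : ℤ, 2 * θ 1 = a → 2 * θ z = b →
      2 * θ y = c → (2 : ℤ) ^ (n + f + 1) ∣ m * (b - a) + 2 ^ n * (c - a) := by
    intro θ hθ a b c ha hb hc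
    have h3 : ∀ {w : ℂ} {a : ℤ}, 2 * w = a → w = ((a / 2 : ℝ) : ℂ) := fun h => by
      push_cast
      rw [← h]
      ring
    obtain ⟨k, hk⟩ := R.exists_int_sum hθ (by rw [h3 ha, Complex.ofReal_re]) (by
      simp only [e, Finset.mem_insert, Finset.mem_singleton]
      rintro x (rfl | rfl)
      · rw [h3 hb, Complex.ofReal_re]
      · rw [h3 hc, Complex.ofReal_re])
    obtain ⟨l, hl⟩ := hθ.exists_int_of_isConj (g := 1) fun k _ => by simp
    have h4 : a = 2 * l := by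
      rw [hl] at ha
      exact_mod_cast ha.symm
    rw [e, Finset.sum_pair zy, h3 ha, h3 hb, h3 hc] at hk
    simp only [Complex.ofReal_re] at hk
    refine ⟨k - l, ?_⟩
    have h5 : (m : ℝ) * (b - a) + 2 ^ n * (c - a) = 2 ^ (n + f + 1) * (k - l) := by
      rw [← h1, ← h2, ← hk, h4]
      push_cast
      ring
    exact_mod_cast h5
  choose A hA using fun χ : IrrCharacter G =>
    (irr_isCharacter χ).isGen.exists_int_of_isConj (g := z) fun k hk => by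
      have h3 : orderOf z = 2 := orderOf_eq_prime (by rwa [sq]) (R.ne z (by simp [e]))
      obtain ⟨i, rfl⟩ := Nat.coprime_two_right.1 (h3 ▸ hk)
      rw [pow_succ, pow_mul, sq, zz, one_pow, one_mul]
  have key : ∀ χ : IrrCharacter G, ∃ a1 : ℤ, (2 : ℤ) ^ f ∣ m * a1 + (Y χ - charDegree χ.1) ∧
      (2 : ℤ) ^ f ∣ a1 ^ 2 ∧ (2 : ℤ) ^ f ∣ (Y χ - charDegree χ.1) ^ 2 ∧
      (2 : ℤ) ^ (n + f + 1) ∣ m * (2 ^ n * a1) ^ 2 +
        2 ^ n * ((Y χ - charDegree χ.1) ^ 2 - 2 ^ n * a1) := fun χ => by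
    have hχ := irr_isCharacter χ
    have e1 : χ.1 1 = ((charDegree χ.1 : ℤ) : ℂ) := by rw [irr_apply_one]; rfl
    generalize (charDegree χ.1 : ℤ) = d at e1
    have t1 := hT hχ.isGen (2 * d) (2 * A χ) (2 * Y χ) (by simp [e1]) (by simp [hA])
      (by simp [D.val])
    have t2 := hT (hχ.mul hχ).isGen (2 * d ^ 2) (2 * A χ ^ 2) (2 * Y χ ^ 2) (by simp [e1, sq])
      (by simp [hA, sq]) (by simp [D.val, sq])
    have t3 := hT hχ.alt2.isGen (d ^ 2 - d) (A χ ^ 2 - d) (Y χ ^ 2 - A χ)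
      (by simp only [alt2, mul_one, e1]; push_cast; ring)
      (by simp only [alt2, zz, e1, hA]; push_cast; ring)
      (by simp only [alt2, hχ.isGen.isClassFunction.of_isConj yy, D.val, hA]; push_cast; ring)
    have s1 : (2 : ℤ) ^ (n + f) ∣ m * (A χ - d) + 2 ^ n * (Y χ - d) :=
      (mul_dvd_mul_iff_right two_ne_zero).1 (t1.trans (dvd_of_eq (by ring)))
    have s2 : (2 : ℤ) ^ (n + f) ∣ m * (A χ - d) ^ 2 + 2 ^ n * (Y χ - d) ^ 2 :=
      (mul_dvd_mul_iff_right two_ne_zero).1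
        ((dvd_sub t2 (t1.mul_left (2 * d))).trans (dvd_of_eq (by ring)))
    obtain ⟨a1, a2, a3, a4, a5⟩ := cube_num1 hn0 hm s1 s2
    refine ⟨a1, a3, a4, a5, ?_⟩
    rw [← a2]
    exact (dvd_sub t3 (t1.mul_left d)).trans (dvd_of_eq (by ring))
  obtain ⟨χ, hχ⟩ : ∃ χ : IrrCharacter G, ¬ (2 : ℤ) ^ (f + 1) ∣ (Y χ - charDegree χ.1) ^ 2 := by
    by_contra h
    push Not at h
    have h3 := Finset.dvd_sum (s := bset (principalBlock M G)) fun χ _ => h χ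
    have h4 := D.norm hM
    have h5 := (D.sing hM).dot_reg (regV_degree hM)
    have h6 : 2 ^ (f + 1) ∣ ∑ χ ∈ bset (principalBlock M G), charDegree χ.1 ^ 2 := by
      by_cases h0 : ∑ χ ∈ bset (principalBlock M G), charDegree χ.1 ^ 2 = 0
      · exact h0 ▸ dvd_zero _
      rw [Nat.prime_two.pow_dvd_iff_le_factorization h0,
        factorization_sum_degree_sq hM isPBlock_principalBlock, blockDefect_principal hM]
      omega
    have h7 : ∑ χ ∈ bset (principalBlock M G), (Y χ - charDegree χ.1) ^ 2 =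
        2 ^ f + ((∑ χ ∈ bset (principalBlock M G), charDegree χ.1 ^ 2 : ℕ) : ℤ) := by
      rw [dot] at h4 h5
      rw [← show _ = (2 : ℤ) ^ f from h4, ← sub_zero (_ + _), ← mul_zero 2, ← h5, Nat.cast_sum,
        Finset.mul_sum, ← Finset.sum_add_distrib, ← Finset.sum_sub_distrib]
      exact Finset.sum_congr rfl fun χ _ => by push_cast; ring
    rw [h7, dvd_add_left (by exact_mod_cast h6), pow_dvd_pow_iff two_ne_zero (by decide)] at h3
    omega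
  obtain ⟨a1, a2, a3, a4, a5⟩ := key χ
  have h3 := cube_num2 hn0 a2 a3 a4 hχ a5
  refine ⟨n, h3, by omega, fun ψ => (Int.pow_dvd_pow_iff two_ne_zero).1 ?_⟩
  obtain ⟨-, -, -, b4, -⟩ := key ψ
  rwa [← pow_mul, mul_comm n, ← h3]

end BT.K5
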