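import Cfsg.Agent.Lib.Block.K6Sm

/-!
# Bases of the regular vectors in rank four
-/

set_option autoImplicit false
set_option linter.unusedSectionVars false

namespace BT.K5

open Cfsg CT Subgroup

variable {p : ℕ} [hp : Fact p.Prime] {M : Ideal AlgInt} (hM : IsPModular p M)
variable {G : Type*} [Group G] [Finite G] {B : Set (IrrCharacter G)}
variable {w x y u : IrrCharacter G → ℤ}

/-- A basis of the regular vectors in rank four. -/
structure L4 (p : ℕ) (B : Set (IrrCharacter G)) (w x y u : IrrCharacter G → ℤ) : Prop where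
  w1 : w (irrOne G) = 1
  x1 : x (irrOne G) = 0
  y1 : y (irrOne G) = 0
  u1 : u (irrOne G) = 0
  rw : RegV p B w
  rx : RegV p B x
  ry : RegV p B y
  ru : RegV p B u
  span : ∀ m, RegV p B m → ∃ a b c d, ∀ χ ∈ B, m χ = a * w χ + b * x χ + c * y χ + d * u χ
  dx : ∃ n, dot B n w = 0 ∧ dot B n x = 1 ∧ dot B n y = 0 ∧ dot B n u = 0
  dy : ∃ n, dot B n w = 0 ∧ dot B n x = 0 ∧ dot B n y = 1 ∧ dot B n u = 0
  du : ∃ n, dot B n w = 0 ∧ dot B n x = 0 ∧ dot B n y = 0 ∧ dot B n u = 1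

/-- Every integer quadruple is the list of scalar products of an integer vector. -/
theorem L4.exists_dual (h1 : irrOne G ∈ B) (h : L4 p B w x y u) (a b c d : ℤ) :
    ∃ n, dot B n w = a ∧ dot B n x = b ∧ dot B n y = c ∧ dot B n u = d := by
  obtain ⟨e, he⟩ := exists_dual_one h1
  obtain ⟨n1, a1, a2, a3, a4⟩ := h.dx
  obtain ⟨n2, b1, b2, b3, b4⟩ := h.dy
  obtain ⟨n3, c1, c2, c3, c4⟩ := h.du
  refine ⟨lc 1 (lc a e b n1) 1 (lc c n2 d n3), ?_, ?_, ?_, ?_⟩ <;>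
    simp [lc_dot, h.w1, h.x1, h.y1, h.u1, *]

/-- Triangular moves with signs. -/
theorem L4.tri (h1 : irrOne G ∈ B) (h : L4 p B w x y u) (a b c r s t : ℤ) {δ ε ζ : ℤ}
    (hδ : δ * δ = 1) (hε : ε * ε = 1) (hζ : ζ * ζ = 1) :
    L4 p B (lc 1 (lc 1 w a x) 1 (lc b y c u)) (lc 0 w δ x) (lc r x ε y) (lc 1 (lc s x t y) ζ u) := by
  have key : ∀ n0 n1 n2 n3 : ℤ, ∃ n, dot B n (lc 1 (lc 1 w a x) 1 (lc b y c u)) = n0 ∧
      dot B n (lc 0 w δ x) = n1 ∧ dot B n (lc r x ε y) = n2 ∧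
      dot B n (lc 1 (lc s x t y) ζ u) = n3 := fun n0 n1 n2 n3 => by
    obtain ⟨n, e1, e2, e3, e4⟩ := h.exists_dual h1 (n0 - a * (δ * n1) - b * (ε * (n2 - r * δ * n1))
      - c * (ζ * (n3 - s * δ * n1 - t * (ε * (n2 - r * δ * n1))))) (δ * n1)
      (ε * (n2 - r * δ * n1)) (ζ * (n3 - s * δ * n1 - t * (ε * (n2 - r * δ * n1))))
    refine ⟨n, ?_, ?_, ?_, ?_⟩ <;> simp only [dot_lc, e1, e2, e3, e4]
    · ring
    · linear_combination n1 * hδ
    · linear_combination (n2 - r * δ * n1) * hε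
    · linear_combination (n3 - s * δ * n1 - t * (ε * (n2 - r * δ * n1))) * hζ
  refine ⟨by simp [lc, h.w1, h.x1, h.y1, h.u1], by simp [lc, h.x1], by simp [lc, h.x1, h.y1],
    by simp [lc, h.x1, h.y1, h.u1], (h.rw.lc h.rx _ _).lc (h.ry.lc h.ru _ _) _ _,
    h.rw.lc h.rx _ _, h.rx.lc h.ry _ _, (h.rx.lc h.ry _ _).lc h.ru _ _, fun m hm => ?_,
    key _ _ _ _, key _ _ _ _, key _ _ _ _⟩
  obtain ⟨m0, m1, m2, m3, e⟩ := h.span m hm
  refine ⟨m0, δ * (m1 - m0 * a - ζ * (m3 - m0 * c) * s -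
    ε * (m2 - m0 * b - ζ * (m3 - m0 * c) * t) * r), ε * (m2 - m0 * b - ζ * (m3 - m0 * c) * t),
    ζ * (m3 - m0 * c), fun χ hχ => ?_⟩
  simp only [e χ hχ, lc]
  linear_combination (-(m1 - m0 * a - ζ * (m3 - m0 * c) * s -
    ε * (m2 - m0 * b - ζ * (m3 - m0 * c) * t) * r) * x χ) * hδ -
    ((m2 - m0 * b - ζ * (m3 - m0 * c) * t) * y χ) * hε - ((m3 - m0 * c) * u χ) * hζ

theorem L4.swap_xy (h : L4 p B w x y u) : L4 p B w y x u :=
  ⟨h.w1, h.y1, h.x1, h.u1, h.rw, h.ry, h.rx, h.ru, fun m hm => by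
    obtain ⟨a, b, c, d, e⟩ := h.span m hm
    exact ⟨a, c, b, d, fun χ hχ => by rw [e χ hχ]; ring⟩, by have := h.dy; tauto,
    by have := h.dx; tauto, by have := h.du; tauto⟩

theorem L4.swap_yu (h : L4 p B w x y u) : L4 p B w x u y :=
  ⟨h.w1, h.x1, h.u1, h.y1, h.rw, h.rx, h.ru, h.ry, fun m hm => by
    obtain ⟨a, b, c, d, e⟩ := h.span m hm
    exact ⟨a, b, d, c, fun χ hχ => by rw [e χ hχ]; ring⟩, by have := h.dx; tauto,
    by have := h.du; tauto, by have := h.dy; tauto⟩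

include hM

theorem exists_L4_aux (hB : IsPBlock M B) (h1 : irrOne G ∈ B) (hl : blockRank p B = 4) :
    ∃ w x y u, L4 p B w x y u := by
  obtain ⟨ι, _, _, S, i, hi⟩ := exists_basicSet_triv hM hB h1
  obtain ⟨j, k, l, hjk, hjl, hkl, e⟩ := Finset.card_eq_three.1
    (show (Finset.univ.erase i).card = 3 by
      rw [Finset.card_erase_of_mem (Finset.mem_univ _), Finset.card_univ, S.card_eq, hl])
  have hj : j ≠ i := (Finset.mem_erase.1 (e ▸ (by simp : j ∈ ({j, k, l} : Finset ι)))).1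
  have hk : k ≠ i := (Finset.mem_erase.1 (e ▸ (by simp : k ∈ ({j, k, l} : Finset ι)))).1
  have hl' : l ≠ i := (Finset.mem_erase.1 (e ▸ (by simp : l ∈ ({j, k, l} : Finset ι)))).1
  have hd : ∀ a b, dot B (S.a a) (fun χ => S.d χ b) = if a = b then 1 else 0 := S.sum_a_mul_d
  refine ⟨fun χ => S.d χ i, fun χ => S.d χ j, fun χ => S.d χ k, fun χ => S.d χ l, by simp [hi],
    by simp [hi, hj], by simp [hi, hk], by simp [hi, hl'], regV_d hM hB S i, regV_d hM hB S j,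
    regV_d hM hB S k, regV_d hM hB S l, fun m hm => ⟨_, _, _, _, fun χ hχ => by
      rw [hm.eq_sum S hχ, ← Finset.add_sum_erase _ _ (Finset.mem_univ i), e,
        Finset.sum_insert (by simp [hjk, hjl]), Finset.sum_pair hkl, add_assoc, add_assoc]⟩,
    ⟨S.a j, ?_⟩, ⟨S.a k, ?_⟩, S.a l, ?_⟩
  · simp [hd, hj, hjk, hjl]
  · simp [hd, hk, hjk.symm, hkl]
  · simp [hd, hl', hjl.symm, hkl.symm]

/-- The contribution vector of `n` in coordinates. -/
theorem L4.cmv (hB : IsPBlock M B) (h1 : irrOne G ∈ B) (h : L4 p B w x y u)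
    (n : IrrCharacter G → ℤ) : ∃ a b c d, cmv p B n (irrOne G) = a ∧
      (∀ m, dot B (cmv p B n) m = a * dot B w m + b * dot B x m + c * dot B y m + d * dot B u m) ∧
      ∀ m, RegV p B m → a * dot B w m + b * dot B x m + c * dot B y m + d * dot B u m =
        p ^ blockDefect p B * dot B n m := by
  obtain ⟨a, b, c, d, e⟩ := h.span _ (regV_cmv hM hB n)
  have e2 : ∀ m, dot B (K5.cmv p B n) m =
      a * dot B w m + b * dot B x m + c * dot B y m + d * dot B u m := fun m => by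
    rw [dot_comm, dot_congr m (w := lc 1 (lc a w b x) 1 (lc c y d u)) fun χ hχ => by
      rw [e χ hχ, lc, lc, lc]; ring, dot_comm, lc_dot, lc_dot, lc_dot]
    ring
  exact ⟨a, b, c, d, by simpa [h.w1, h.x1, h.y1, h.u1] using e _ h1, e2,
    fun m hm => by rw [← e2, hm.cmv_dot]⟩

end BT.K5
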