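import Cfsg.Agent.Lib.Block.K6Three
import Cfsg.Agent.Lib.Block.K6TwoFour
import Cfsg.Agent.Lib.Block.KMinusL
import Cfsg.Agent.Lib.Block.AbFrob
import Cfsg.Agent.Lib.Block.AbFree
import Cfsg.Agent.Lib.Block.AbPrime
import Cfsg.Agent.Lib.Grp.PCent
import Cfsg.Agent.S4441

/-!
# Principal blocks with six characters: reduction for odd primes
-/

set_option autoImplicit false
set_option linter.unusedSectionVars false

namespace BT.K5

open Cfsg CT GT Subgroup

variable {p : ℕ} [hp : Fact p.Prime] {M : Ideal AlgInt} (hM : IsPModular p M)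
variable {G : Type*} [Group G] [Finite G]

/-- The inertial index. -/
noncomputable abbrev ie (P : Subgroup G) : ℕ :=
  (centralizer (P : Set G)).relIndex (normalizer (P : Set G))

theorem comm_of_real (hp2 : p ≠ 2) (P : Sylow p G)
    (hC : ∀ u ∈ (P : Subgroup G), u ≠ 1 → HasNormalPComplement p (centralizer ({u} : Set G)))
    {z : G} (hz : z ∈ (P : Subgroup G)) (hz1 : z ≠ 1) (hzc : ∀ g ∈ (P : Subgroup G), Commute z g)
    (h : IsConj z z⁻¹) : ∀ a ∈ (P : Subgroup G), ∀ b ∈ (P : Subgroup G), a * b = b * a := by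
  intro a ha b hb
  obtain ⟨g, hg⟩ := isConj_iff.1 h
  obtain ⟨n, hn, e⟩ := exists_mem_normalizer_conj_eq_of_mem_centralizer P (x := z) (g := g)
    (fun y hy => (hzc y hy).symm) (by rw [hg]; exact fun y hy => (hzc y hy).inv_left.symm)
  rw [hg] at e
  obtain ⟨y, hy2, hy⟩ := exists_isPElt_two_conj_eq_inv
    (x := (⟨z, le_normalizer hz⟩ : normalizer ((P : Subgroup G) : Set G)))
    (isConj_iff.2 ⟨⟨n, hn⟩, Subtype.ext e⟩)
  have hy' : (y : G) * z * (y : G)⁻¹ = z⁻¹ := congrArg Subtype.val hy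
  have hyr : IsPRegular p (y : G) := (isPElt_coe.2 hy2).isPRegular_of_ne hp2
  have h1 : (y : G) * y ∈ centralizer ((P : Subgroup G) : Set G) := by
    refine mem_centralizer_of_hasNormalPComplement (hC z hz hz1) P.isPGroup'
      (fun x hx => mem_centralizer_singleton_iff.2 (hzc x hx).symm.eq) ?_ (mul_mem y.2 y.2)
      (hyr.mul_of_commute hyr (Commute.refl _))
    rw [mem_centralizer_singleton_iff]
    calc (y : G) * y * z = y * (y * z * (y : G)⁻¹) * (y : G)⁻¹ * (y * y) := by group
      _ = (y * z * (y : G)⁻¹)⁻¹ * (y * y) := by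
          nth_rewrite 1 [hy']; group
      _ = z * (y * y) := by rw [hy', inv_inv]
  refine congrArg Subtype.val (MonoidHom.FixedPointFree.commute_all_of_involutive
    (φ := (P : Subgroup G).normalizerMonoidHom y) (fun w hw => ?_) (fun w => ?_) ⟨a, ha⟩ ⟨b, hb⟩).eq
  · by_contra hw1
    have hw' : (y : G) * w * (y : G)⁻¹ = w := congrArg Subtype.val hw
    have h2 := mem_centralizer_of_hasNormalPComplement (hC w w.2 fun e => hw1 (Subtype.ext e))
      (isPElt_of_mem_sylow P hz).isPGroup_zpowers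
      (zpowers_le.2 (mem_centralizer_singleton_iff.2 (hzc w w.2).eq)) (g := y)
      (mem_centralizer_singleton_iff.2 (mul_inv_eq_iff_eq_mul.1 hw'))
      (mem_normalizer_of_conj_mem (by
        rintro _ ⟨k, rfl⟩
        rw [← conj_zpow, hy']
        exact zpow_mem (inv_mem (mem_zpowers z)) k)) hyr
    have h3 := h2 z (mem_zpowers z)
    rw [← h3, mul_inv_cancel_right] at hy'
    have h4 : z ^ 2 = 1 := by rw [sq]; nth_rewrite 2 [hy']; exact mul_inv_cancel z
    exact hz1 ((isPElt_of_mem_sylow P hz).eq_one_of_isPRegular (isPRegular_of_pow_eq_one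
      (fun e => hp2 ((Nat.prime_dvd_prime_iff_eq hp.out Nat.prime_two).1 e)) h4))
  · apply Subtype.ext
    show (y : G) * (y * w * (y : G)⁻¹) * (y : G)⁻¹ = w
    calc (y : G) * (y * w * (y : G)⁻¹) * (y : G)⁻¹ = (y * y * w) * ((y : G) * y)⁻¹ := by group
      _ = w := by rw [← h1 w w.2, mul_inv_cancel_right]

/-- At most two classes of nontrivial `p`-elements, all with `p`-nilpotent centralizers. -/
theorem Reps.comm_of_two (hp2 : p ≠ 2) {X : Finset G} (R : Reps p X) (hX : X.card ≤ 2)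
    (hC : ∀ u : G, IsPElt p u → u ≠ 1 → HasNormalPComplement p (centralizer ({u} : Set G)))
    (P : Sylow p G) : ∀ a ∈ (P : Subgroup G), ∀ b ∈ (P : Subgroup G), a * b = b * a := by
  classical
  by_cases h0 : (Nat.card G).factorization p = 0
  · have : (P : Subgroup G) = ⊥ := card_eq_one.1 (by rw [P.card_eq_multiplicity, h0, pow_zero])
    intro a ha b _
    rw [this, mem_bot] at ha
    simp [ha]
  obtain ⟨z, hz, zo, hzc⟩ := exists_central P h0
  have z1 : z ≠ 1 := fun e => hp.out.ne_one (by rw [← zo, e, orderOf_one])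
  have zp := isPElt_of_mem_sylow P hz
  by_cases h : IsConj z z⁻¹
  · exact comm_of_real hp2 P (fun u hu => hC u (isPElt_of_mem_sylow P hu)) hz z1 hzc h
  have key : ∀ u, IsPElt p u → u ≠ 1 → ∃ g : G, u = g * z * g⁻¹ ∨ u = (g * z * g⁻¹)⁻¹ := by
    intro u hu u1
    obtain ⟨a, ha, ca⟩ := R.exists_conj zp z1
    obtain ⟨b, hb, cb⟩ := R.exists_conj zp.inv (inv_ne_one.2 z1)
    obtain ⟨c, hc, cc⟩ := R.exists_conj hu u1
    by_cases e : c = a
    · obtain ⟨g, hg⟩ := isConj_iff.1 (ca.trans (e ▸ cc.symm))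
      exact ⟨g, .inl hg.symm⟩
    by_cases e' : c = b
    · obtain ⟨g, hg⟩ := isConj_iff.1 (cb.trans (e' ▸ cc.symm))
      exact ⟨g, .inr (by rw [← hg, conj_inv])⟩
    have := Finset.two_lt_card_iff.2 ⟨a, b, c, ha, hb, hc,
      fun e => h (ca.trans (e ▸ cb.symm)), Ne.symm e, Ne.symm e'⟩
    omega
  refine PCent.comm_of_central hp2 hC (fun u hu => ?_) (fun u hu => ?_) (fun u hu hc => ?_)
    (isSylowIn_sylow P)
  · by_cases u1 : u = 1
    · exact ⟨_, isSylowIn_sylow P, fun g _ => mem_centralizer_singleton_iff.2 (by simp [u1])⟩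
    obtain ⟨g, hg⟩ := key u hu u1
    refine ⟨_, (isSylowIn_sylow P).conj_of_mem (mem_top g), ?_⟩
    rintro _ ⟨x, hx, rfl⟩
    have : Commute (g * z * g⁻¹) (g * x * g⁻¹) := (hzc x hx).conj g
    rcases hg with rfl | rfl
    · exact mem_centralizer_singleton_iff.2 this.symm
    · exact mem_centralizer_singleton_iff.2 this.inv_left.symm
  · by_cases u1 : u = 1
    · rw [u1, one_pow]
    have h1 : z ^ p = 1 := by rw [← zo, pow_orderOf_eq_one]
    obtain ⟨g, rfl | rfl⟩ := key u hu u1
    · rw [conj_pow, h1, mul_one, mul_inv_cancel]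
    · rw [inv_pow, conj_pow, h1, mul_one, mul_inv_cancel, inv_one]
  · by_contra u1
    obtain ⟨g, hg⟩ := key u hu u1
    have h1 : IsConj z (g * z * g⁻¹) := isConj_iff.2 ⟨g, rfl⟩
    have h2 : IsConj z⁻¹ (g * z * g⁻¹)⁻¹ := isConj_iff.2 ⟨g, conj_inv.symm⟩
    rcases hg with rfl | rfl
    · exact h (h1.trans (hc.trans h2.symm))
    · exact h (h1.trans ((inv_inv (g * z * g⁻¹) ▸ hc.symm).trans h2.symm))

theorem abFrob_of_nilp {A : Type*} [CommGroup A] [Finite A] {ι : A →* G}
    (hι : Function.Injective ι) (hP : IsSylowIn p ι.range ⊤)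
    (hC : ∀ u ∈ ι.range, u ≠ 1 → HasNormalPComplement p (centralizer ({u} : Set G))) :
    AbFrob p ι := ⟨hι, hP, fun u hu t ht =>
  (mem_iff_pPart_mem_and_pRegPart_mem p).2 ⟨range_le_centralizer ι (hP.mem_of_mem_normalizer
    (isPElt_pPart p t) (mem_top _) (pPart_mem p ht.2)), mem_centralizer_of_hasNormalPComplement
      (hC _ ⟨u, rfl⟩ ((map_ne_one_iff ι hι).2 hu)) hP.isPGroup ((range_le_centralizer ι).trans
        (centralizer_le (Set.singleton_subset_iff.2 ⟨u, rfl⟩))) (pRegPart_mem p ht.1)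
      (pRegPart_mem p ht.2) (isPRegular_pRegPart p t)⟩⟩

theorem exp_of_free {A : Type*} [CommGroup A] [Finite A] [Nontrivial A] (hA : IsPGroup p A)
    {E : Subgroup (MulAut A)} (h : ∀ σ ∈ E, ∀ u ≠ 1, σ u = u → σ = 1)
    (h2 : Nat.card A ≤ 2 * Nat.card E + 1) (u : A) : u ^ p = 1 := by
  obtain ⟨k, k0, hk⟩ := hA.nontrivial_iff_card.1 inferInstance
  obtain ⟨v, hv⟩ := exists_prime_orderOf_dvd_card' (G := A) p (hk ▸ dvd_pow_self p k0.ne')
  have v1 : v ≠ 1 := fun e => hp.out.ne_one (by rw [← hv, e, orderOf_one])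
  let K := (powMonoidHom p : A →* A).ker
  have h3 : Nat.card E < Nat.card K := by
    have := Fintype.ofFinite E
    have := Fintype.ofFinite K
    rw [Nat.card_eq_fintype_card, Nat.card_eq_fintype_card]
    exact Fintype.card_lt_of_injective_of_notMem (fun σ : E => (⟨σ.1 v, show σ.1 v ^ p = 1 by
      rw [← map_pow, ← hv, pow_orderOf_eq_one, map_one]⟩ : K)) (fun σ τ h' => Subtype.ext
        (eq_of_inv_mul_eq_one (h _ (mul_mem (inv_mem σ.2) τ.2) v v1 (by
          rw [MulAut.mul_apply, ← show σ.1 v = τ.1 v from congrArg Subtype.val h',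
            MulAut.inv_apply_self])))) (b := 1) fun ⟨σ, h'⟩ =>
      v1 ((map_eq_one_iff _ σ.1.injective).1 (congrArg Subtype.val h'))
  have h1 := K.card_mul_index
  have h4 : K.index = 1 := by
    have := K.index_ne_zero_of_finite
    nlinarith [Nat.pos_of_ne_zero this]
  exact (index_eq_one.1 h4).ge (mem_top u)

include hM in
/-- The numbers of characters in the free case. -/
theorem free_card (P : Sylow p G) (h0 : (P : Subgroup G) ≠ ⊥)
    (hab : ∀ a ∈ (P : Subgroup G), ∀ b ∈ (P : Subgroup G), a * b = b * a)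
    (hC : ∀ u ∈ (P : Subgroup G), u ≠ 1 → HasNormalPComplement p (centralizer ({u} : Set G))) :
    ∃ r, r * ie (P : Subgroup G) + 1 = Nat.card (P : Subgroup G) ∧
      Nat.card (principalBlock M G) = blockRank p (principalBlock M G) + r ∧
      blockRank p (principalBlock M G) ≤ ie (P : Subgroup G) ∧
      (ie (P : Subgroup G) ≤ 3 → blockRank p (principalBlock M G) = ie (P : Subgroup G)) ∧
      (r ≤ 2 → ∀ u ∈ (P : Subgroup G), u ^ p = 1) := by
  have hP := isSylowIn_sylow P
  obtain ⟨A, _, _, ι, hι, hQ⟩ := exists_comm_param hab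
  rw [← hQ] at hP hC h0 ⊢
  have F := abFrob_of_nilp hι hP hC
  obtain ⟨e, S⟩ := exists_abSet hM hι isPBlock_principalBlock
    ((isDefectGroup_principal_iff hM _).2 (isSylowIn_top_iff.1 hP))
  have hE : inert ι e = autN ι := Subgroup.ext fun σ => by rw [mem_inert, mem_autN, S.NP_principal]
  have : Nontrivial A := by
    obtain ⟨⟨_, u, rfl⟩, hu⟩ := ne_bot_iff_exists_ne_one.1 h0
    exact ⟨u, 1, fun e => hu (Subtype.ext (by simp [e]))⟩
  obtain ⟨r, h1, h2, h3, h4⟩ := S.card_of_free (hE ▸ F.free)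
  rw [hE] at h1 h3 h4
  rw [ie, ← card_autN hι, S.card_range]
  refine ⟨r, h1, h2, h3, h4, ?_⟩
  rintro hr _ ⟨u, rfl⟩
  rw [← map_pow, exp_of_free S.isPGroup_A F.free (by nlinarith), map_one]

variable (hp2 : p ≠ 2) (hk : Nat.card (principalBlock M G) = 6)
include hM hp2 hk

theorem six_two_le : 2 ≤ blockDefect p (principalBlock M G) := by
  by_contra h
  obtain ⟨P⟩ : Nonempty (Sylow p G) := inferInstance
  have hD : Nat.card (P : Subgroup G) = p ^ blockDefect p (principalBlock M G) := by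
    rw [blockDefect_principal hM]; exact P.card_eq_multiplicity
  have h0 := (exists_dvd_orderOf_of_one_lt hM (G := G) (by omega)).1
  rw [show blockDefect p (principalBlock M G) = 1 by omega, pow_one] at hD
  have := Fintype.ofFinite G
  have h1 := relIndex_centralizer_dvd_card_mulAut (P : Subgroup G)
  have := isCyclic_of_prime_card hD
  rw [IsCyclic.card_mulAut, hD, Nat.totient_prime hp.out] at h1
  obtain ⟨m, hm⟩ : ∃ m, _ = m := ⟨_, rfl⟩
  obtain ⟨X, Y, e, hXY, hX, hY, -⟩ := Cfsg.Agent.S4441.result p M hM hp2 P hD m hm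
  rw [e, Nat.card_coe_set_eq, Set.ncard_union_eq hXY, ← Nat.card_coe_set_eq,
    ← Nat.card_coe_set_eq, hX, hY] at hk
  rw [hm] at h1
  have h3 := hp.out.eq_two_or_odd
  have h4 := hp.out.two_le
  have h9 : p ≠ 9 := by rintro rfl; exact absurd hp.out (by norm_num)
  have h5 : m ≤ 6 := by omega
  interval_cases m <;> omega

theorem six_four_le (h25 : 25 ≤ p ^ blockDefect p (principalBlock M G)) :
    4 ≤ blockRank p (principalBlock M G) := by
  have h2 := six_two_le hM hp2 hk
  have hB : IsPBlock M (principalBlock M G) := isPBlock_principalBlock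
  have h1 := irrOne_mem_principalBlock (G := G) hM
  have h3 : 3 ≤ p := hp.out.two_le.lt_of_ne hp2.symm
  have hc := not_dvd_cc (G := G) hM
  have hc0 := cc_pos (G := G) hM
  obtain ⟨X, R⟩ := exists_reps p G
  have h4 := R.card_eq hM
  have h5 := R.cc_add hM
  rw [← blockDefect_principal hM] at h5
  have h6 : 3 * p * ∑ x ∈ X, ms p x ≤ (∑ x ∈ X, rk p M x : ℕ) := by
    rw [Finset.mul_sum, Nat.cast_sum]
    exact Finset.sum_le_sum fun x hx =>
      ms_le_odd hM hp2 (blockDefect_principal (G := G) hM ▸ h2) (R.pelt x hx) (R.ne x hx)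
  have h7 : 3 * p * (p ^ blockDefect p (principalBlock M G) - cc p M G) ≤
      (p : ℤ) ^ blockDefect p (principalBlock M G) * (∑ x ∈ X, rk p M x : ℕ) := by
    have := mul_le_mul_of_nonneg_left h6
      (show (0 : ℝ) ≤ p ^ blockDefect p (principalBlock M G) by positivity)
    rw [← Int.cast_le (R := ℝ)]
    push_cast at this ⊢
    nlinarith
  have h9 := blockRank_pos (p := p) ⟨_, h1⟩
  have hq : (25 : ℤ) ≤ p ^ blockDefect p (principalBlock M G) := by exact_mod_cast h25
  have h3' : (3 : ℤ) ≤ p := by exact_mod_cast h3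
  have hcq : cc p M G < p ^ blockDefect p (principalBlock M G) :=
    (cm_self_le hM hB h1).lt_of_ne fun e => hc (by
      rw [cc, e]; exact dvd_pow_self _ (by omega))
  have h10 := six_rank_ne_three hM hp2 hk h2 h25
  by_contra h11
  rcases (show blockRank p (principalBlock M G) = 1 ∨ blockRank p (principalBlock M G) = 2 by omega)
    with hl | hl
  · rw [show ∑ x ∈ X, rk p M x = 5 by omega, cc_of_rank_one hM hl] at h7
    push_cast at h7
    nlinarith
  · obtain ⟨w, x, L, e6⟩ := exists_L2 hM hB h1 hl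
    obtain ⟨a, b, e1, e2, e3, e4, e5, -⟩ := L.eqs hM hB h1
    obtain ⟨n, -, hn⟩ := L.dual
    have h10 := two_odd e1 e2 e3 e4 e5 e6 (dot_self_pos (hn.trans_ne one_ne_zero)) hc0 hcq
      (((Int.odd_coe_nat p).2 (hp.out.odd_of_ne_two hp2)).pow)
    rw [show ∑ x ∈ X, rk p M x = 4 by omega] at h7
    change 3 * cc p M G ≤ _ at h10
    obtain rfl : p = 3 := by
      by_contra h
      have h12 := hp.out.eq_two_or_odd
      have : (5 : ℤ) ≤ p := by omega
      push_cast at h7
      nlinarith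
    have h12 := two_three6 e1 e2 e3 e4 e5 e6 (dot_self_pos (hn.trans_ne one_ne_zero)) hc0 hcq
      (e := blockDefect 3 (principalBlock M G) - 1) (by rw [Nat.sub_add_cancel (by omega)]; rfl)
      (by omega) hc
    change 2 * cc 3 M G ≤ _ at h12
    push_cast at h7 h12 hq
    omega

/-- The two remaining configurations. -/
theorem six_reduce (h25 : 25 ≤ p ^ blockDefect p (principalBlock M G)) (P : Sylow p G) :
    (∃ z : G, Reps p {z} ∧ rk p M z = 2 ∧ blockRank p (principalBlock M G) = 4) ∨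
    (IsElementaryAbelian p (P : Subgroup G) ∧
      (∀ u ∈ (P : Subgroup G), u ≠ 1 → HasNormalPComplement p (centralizer ({u} : Set G))) ∧
      ∃ r, (r = 1 ∨ r = 2) ∧ r * ie (P : Subgroup G) + 1 = Nat.card (P : Subgroup G) ∧
        blockRank p (principalBlock M G) + r = 6) := by
  have h1 := six_four_le hM hp2 hk h25
  have h2 := six_two_le hM hp2 hk
  have h3 := Cfsg.Agent.S4607.rank_lt_card hM (isPBlock_principalBlock (G := G)) (by omega)
  obtain ⟨X, R⟩ := exists_reps p G
  have h4 := R.card_eq hM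
  by_cases h : ∀ x ∈ X, rk p M x = 1
  · have h5 := R.nilp hM h
    have h6 := R.comm_of_two hp2 (by
      rw [Finset.sum_congr rfl h, ← Finset.card_eq_sum_ones] at h4; omega) h5 P
    have h7 := fun u hu => h5 u (isPElt_of_mem_sylow P hu)
    obtain ⟨r, a1, a2, -, -, a3⟩ := free_card hM P (fun e => by
      have := P.card_eq_multiplicity
      rw [e, card_bot, ← blockDefect_principal hM] at this
      omega) h6 h7
    exact .inr ⟨⟨⟨⟨fun a b => Subtype.ext (h6 _ a.2 _ b.2)⟩⟩, a3 (by omega)⟩, h7, r, by omega, a1,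
      by omega⟩
  · push Not at h
    obtain ⟨z, hz, h⟩ := h
    classical
    have h5 := rk_pos hM z
    rw [← Finset.add_sum_erase _ _ hz] at h4
    have h6 : X = {z} := Finset.eq_singleton_iff_unique_mem.2 ⟨hz, fun y hy => by_contra fun e => by
      have := Finset.single_le_sum (f := rk p M) (fun _ _ => Nat.zero_le _)
        (Finset.mem_erase.2 ⟨e, hy⟩)
      have := rk_pos hM y
      omega⟩
    exact .inl ⟨z, h6 ▸ R, by omega, by omega⟩

end BT.K5
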