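import Cfsg.Agent.Lib.Block.K6QuatWrap

/-!
# Lattices of rank four with a strictly relevant vector: the finite search
-/

set_option autoImplicit false

noncomputable section

namespace BT.K6Q.H1

/-- Evaluate the argument first. -/
def fN (n : ℕ) (f : ℕ → Bool) : Bool := Nat.rec (f 0) (fun k _ => f k.succ) n

/-- Evaluate the argument first. -/
def fI (x : ℤ) (f : ℤ → Bool) : Bool :=
  Int.rec (fun n => fN n fun k => f (Int.ofNat k)) (fun n => fN n fun k => f (Int.negSucc k)) x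

theorem fI_eq (x : ℤ) (f : ℤ → Bool) : fI x f = f x := by
  rcases x with n | n <;> cases n <;> rfl

/-- A loop over `n` consecutive integers. -/
def allN (l : ℤ) (f : ℤ → Bool) (n : ℕ) : Bool :=
  Nat.rec true (fun k ih => fI (l + Int.ofNat k) f && ih) n

theorem allN_iff (l : ℤ) (f : ℤ → Bool) (n : ℕ) :
    allN l f n = true ↔ ∀ k < n, f (l + k) = true := by
  induction n with
  | zero => simp [allN]
  | succ n ih =>
    rw [Nat.forall_lt_succ_right, ← ih, and_comm, ← Bool.and_eq_true, ← fI_eq (l + n) f]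
    rfl

/-- A loop over an interval. -/
def allI (lo hi : ℤ) (f : ℤ → Bool) : Bool := fI lo fun l => allN l f (hi - l + 1).toNat

theorem allI_of {lo hi : ℤ} {f : ℤ → Bool} (h : ∀ x, f x = true) : allI lo hi f = true := by
  rw [allI, fI_eq, allN_iff]
  exact fun _ _ => h _

theorem of_allI {lo hi : ℤ} {f : ℤ → Bool} (h : allI lo hi f = true) (x : ℤ) (h1 : lo ≤ x)
    (h2 : x ≤ hi) : f x = true := by
  rw [allI, fI_eq, allN_iff] at h
  have := h (x - lo).toNat (by omega)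
  rwa [show lo + ((x - lo).toNat : ℤ) = x by omega] at this

/-- A loop over all `u` with `2 * |x + D * u| ≤ B`. -/
def near (x D B : ℤ) (f : ℤ → Bool) : Bool :=
  allI (-((B + 2 * x) / (2 * D))) ((B - 2 * x) / (2 * D)) f

theorem of_near {x D B : ℤ} {f : ℤ → Bool} (h : near x D B f = true) (hD : 0 < D) (u : ℤ)
    (hu : 2 * |x + D * u| ≤ B) : f u = true := by
  have h1 := le_abs_self (x + D * u)
  have h2 := neg_abs_le (x + D * u)
  refine of_allI h u (neg_le.1 ?_) ?_ <;>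
    exact (Int.le_ediv_iff_mul_le (by omega)).2 (by linarith)

/-- A loop over `x * p ^ k` as long as `c` holds. -/
def allP (p : ℤ) (c f : ℤ → Bool) (n : ℕ) : ℤ → Bool :=
  Nat.rec (fun _ => false) (fun _ ih x => !c x || (f x && fI (x * p) ih)) n

theorem of_allP {p : ℤ} {c f : ℤ → Bool} {n : ℕ} {x : ℤ} (h : allP p c f n x = true) (k : ℕ)
    (hk : ∀ l ≤ k, c (x * p ^ l) = true) : f (x * p ^ k) = true := by
  induction n generalizing x k with
  | zero => exact absurd h Bool.false_ne_true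
  | succ n ih =>
    have h1 : (!c x || (f x && fI (x * p) (allP p c f n))) = true := h
    have h2 := hk 0 k.zero_le
    rw [pow_zero, mul_one] at h2
    rw [h2, fI_eq, Bool.not_true, Bool.false_or, Bool.and_eq_true] at h1
    cases k with
    | zero => simpa using h1.1
    | succ k =>
      rw [pow_succ', ← mul_assoc]
      exact ih h1.2 k fun l hl => by
        rw [mul_assoc, ← pow_succ']; exact hk _ (Nat.succ_le_succ hl)

/-- Implication. -/
def imp (P : Prop) [Decidable P] (b : Bool) : Bool := !decide P || b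

theorem of_imp {P : Prop} [Decidable P] {b : Bool} (h : imp P b = true) (hP : P) : b = true := by
  simpa [imp, hP] using h

theorem imp_of {P : Prop} [Decidable P] {b : Bool} (h : P → b = true) : imp P b = true := by
  by_cases hP : P <;> simp [imp, hP, h]

/-- The moment inequalities in a box. -/
def mom (aq ab f1 f2 f3 D2 D3 A11 A12 A13 A22 A23 v1 v2 v3 : ℤ) : Bool :=
  allI (-1) 1 fun n1 => allI (-2) 2 fun n2 => allI (-3) 3 fun n3 =>
    fI (v1 * n1 + v2 * n2 + v3 * n3) fun w => fI ((2 * w + ab + D3) / (2 * D3)) fun n4 =>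
      imp (n1 ≠ f1 ∨ n2 ≠ f2 ∨ n3 ≠ f3) (imp (n1 ≠ 0 ∨ n2 ≠ 0 ∨ n3 ≠ 0 ∨ n4 ≠ 0) (decide
        (0 < aq * ad3 A11 A12 A13 A22 A23 D2 n1 n2 n3 (n1 - f1) (n2 - f2) (n3 - f3) +
          (D3 * n4 - w) * (D3 * n4 - w - ab))))

/-- The fourth column. -/
def st4 (aq ab g11 g12 f1 f2 f3 D2 D3 A11 A12 A13 A22 A23 : ℤ) : Bool :=
  near 0 1 g11 fun g14 => near (-(g12 * g14)) g11 D2 fun g24 =>
    near (A13 * g14 + A23 * g24) D2 D3 fun g34 =>
      fI (A11 * g14 + A12 * g24 + A13 * g34) fun v1 =>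
      fI (A12 * g14 + A22 * g24 + A23 * g34) fun v2 =>
      fI (A13 * g14 + A23 * g24 + D2 * g34) fun v3 =>
        imp ((aq + (v1 * g14 + v2 * g24 + v3 * g34)) % D3 = 0)
          (imp ((ab + (v1 * f1 + v2 * f2 + v3 * f3)) % D3 = 0)
            (!mom aq ab f1 f2 f3 D2 D3 A11 A12 A13 A22 A23 v1 v2 v3))

/-- The local data `b`, `c`, `g`. -/
def stb (p a1 s a r0 m : ℤ) (k : ℤ → ℤ → Bool) : Bool :=
  fI (m * r0) fun t => imp (2 * (t - s * s) ≤ s * (m + 1) ∧ 25 * (t - s * s) ≤ 3 * (a * m) * s)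
    (allI 0 s fun b => imp ((t - b * b) % s = 0) (fI ((t - b * b) / s) fun c =>
      imp (0 < c ∧ 2 * c ≤ m + 1 ∧ 25 * c ≤ 3 * (a * m) ∧ c % p ≠ 0)
        ((allI 0 (min (c / 2) (2 * m / c)) fun g =>
            imp ((m + g * g) % c = 0) (decide (m + g * g ≤ g * c))) ||
          (decide (p = 5 ∧ a = 25 ∧ m = 5 ∧ c = 2 ∧ a1 = 1) ||
            fI (a1 * (a * m)) fun aq => fI (a1 * b) fun ab => k aq ab))))

/-- The powers of `p`. -/
def stp (p a1 a D2 D3 r K : ℤ) (k : ℤ → ℤ → Bool) : Bool :=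
  allP (p * p) (fun a1 => decide (D3 % a1 = 0)) (fun a1 => fI (D3 / a1) fun s =>
    allP (p * p) (fun a => decide (3 * r * a ≤ D3 * (2 + s))) (fun a =>
      imp (a * r % a1 = 0) (fI (a * r / a1) fun r0 =>
        allP p (fun m => decide (m ≤ 20 * s * s * s ∧ a1 * (a * m) * K ≤ 25 * D3 * D3)) (fun m =>
          imp (3 * D3 * D3 ≤ 4 * D2 * (a1 * (a * m))) (stb p a1 s a r0 m k)) 30 p)) 30 a) 30 a1

/-- The third column. -/
def st3 (g11 g12 g22 f1 f2 D2 B : ℤ) : Bool :=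
  allI 0 (g11 / 2) fun g13 => near (-(g12 * g13)) g11 D2 fun g23 =>
    fI (g12 * g13 - g11 * g23) fun A23 => fI (g12 * g23 - g13 * g22) fun A13 =>
    fI (ad2 g11 g12 g22 g13 g23) fun X =>
    allI (-(-(D2 + g13 * g13) / g11)) ((B + X) / D2) fun g33 => decide (g33 ≤ 121) &&
      fI (D2 * g33 - X) fun D3 => fI (g22 * g33 - g23 * g23) fun A11 =>
      fI (g13 * g23 - g12 * g33) fun A12 => fI (g11 * g33 - g13 * g13) fun A22 =>
      allI (-10) 10 fun f3 => imp (f3 * f3 < g33)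
        (fI (D3 - ad3 A11 A12 A13 A22 A23 D2 f1 f2 f3 f1 f2 f3) fun r => imp (0 < r)
          (fI (f1 % 2) fun u1 => fI (f2 % 2) fun u2 =>
            fI (f3 - 2 * ((A13 * u1 + A23 * u2 + D2 * f3 + D2) / (2 * D2))) fun u3 =>
            fI (ad3 A11 A12 A13 A22 A23 D2 u1 u2 u3 u1 u2 u3) fun E =>
            imp (3 * 22 * D3 ≤ 25 * (3 * E + 4 * D2)) (fI (22 * D3 - 25 * E) fun K =>
              allI 1 (D3 / 2) fun p0 => fI (2 * p0 + 1) fun p => imp (p = 3 ∨ p % 3 ≠ 0)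
                (stp p 1 (p * p) D2 D3 r K
                  (fun aq ab => st4 aq ab g11 g12 f1 f2 f3 D2 D3 A11 A12 A13 A22 A23) &&
                stp p p p D2 D3 r K
                  (fun aq ab => st4 aq ab g11 g12 f1 f2 f3 D2 D3 A11 A12 A13 A22 A23)))))

/-- The first two columns. -/
def st2 (g11 g22 : ℤ) : Bool :=
  allI 0 (g11 / 2) fun g12 => fI (g11 * g22 - g12 * g12) fun D2 =>
    allI 0 2 fun f1 => imp (f1 * f1 < g11) (allI (-3) 3 fun f2 => imp (f2 * f2 < g22)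
      (imp (ad2 g11 g12 g22 f1 f2 < D2) (fI (ad2 g11 g12 g22 (f1 % 2) (f2 % 2)) fun E =>
        imp (9 * 22 * D2 ≤ 25 * (9 * E + 28 * g11)) (decide (0 < 66 * D2 - 75 * E) &&
          fI (175 * D2 * D2 / (66 * D2 - 75 * E)) fun B => st3 g11 g12 g22 f1 f2 D2 B))))

variable {q c m a1 s b r0 g11 g12 g13 g14 g22 g23 g24 g33 g34 f1 f2 f3
  D2 D3 A11 A12 A13 A22 A23 v1 v2 v3 : ℤ}

theorem not_st4 (R : Raw q c m a1 s b r0 g11 g12 g13 g14 g22 g23 g24 g33 g34 f1 f2 f3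
    D2 D3 A11 A12 A13 A22 A23 v1 v2 v3) :
    ¬ st4 (a1 * q) (a1 * b) g11 g12 f1 f2 f3 D2 D3 A11 A12 A13 A22 A23 = true := fun h => by
  have h1 := of_near (of_near (of_near h one_pos g14 (by simpa using R.b14))
    (by linarith [R.p1]) g24 (by rw [neg_add_eq_sub]; exact R.b24)) R.p2 g34 (R.ev3 ▸ R.b34)
  simp only [fI_eq, ← R.ev1, ← R.ev2, ← R.ev3] at h1
  have h2 := of_imp (of_imp h1 (Int.emod_eq_zero_of_dvd R.d44)) (Int.emod_eq_zero_of_dvd R.df4)
  have h3 : mom (a1 * q) (a1 * b) f1 f2 f3 D2 D3 A11 A12 A13 A22 A23 v1 v2 v3 = true :=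
    allI_of fun n1 => allI_of fun n2 => allI_of fun n3 => by
      rw [fI_eq, fI_eq]
      exact imp_of fun a => imp_of fun b => decide_eq_true (R.mom n1 n2 n3 _ a b)
  simp [h3] at h2

variable {p a g r K : ℤ} {k : ℤ → ℤ → Bool}
  (R : Raw (a * m) c m a1 s b r0 g11 g12 g13 g14 g22 g23 g24 g33 g34 f1 f2 f3
    D2 D3 A11 A12 A13 A22 A23 v1 v2 v3) (L : Loc a m c g a1 s r0 D3 r)
include R L

theorem of_stb (h : stb p a1 s a r0 m k = true) (hc : ¬ p ∣ c) (h3 : 25 * c ≤ 3 * (a * m)) :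
    (p = 5 ∧ a = 25 ∧ m = 5 ∧ c = 2 ∧ a1 = 1) ∨ k (a1 * (a * m)) (a1 * b) = true := by
  have hs : 0 < s := (mul_pos_iff_of_pos_left R.pa).1 (R.es ▸ R.p3)
  have e : m * r0 - b * b = c * s := by linarith [R.dv]
  have bb := mul_self_le_mul_self R.b0 R.bs
  rw [stb, fI_eq] at h
  have h1 := of_allI (of_imp h ⟨by linarith [mul_le_mul_of_nonneg_left L.c2 hs.le],
    by linarith [mul_le_mul_of_nonneg_left h3 hs.le]⟩) b R.b0 R.bs
  rw [e, fI_eq, Int.mul_ediv_cancel _ hs.ne'] at h1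
  have h2 := of_imp (of_imp h1 (Int.mul_emod_left _ _))
    ⟨L.c0, L.c2, h3, fun e => hc (Int.dvd_of_emod_eq_zero e)⟩
  simp only [Bool.or_eq_true, fI_eq, decide_eq_true_eq] at h2
  refine h2.resolve_left fun h4 => L.gh.not_ge (of_decide_eq_true (of_imp (of_allI h4 |g|
    (abs_nonneg g) (le_min ?_ ?_)) (Int.emod_eq_zero_of_dvd L.gd)))
  · exact (Int.le_ediv_iff_mul_le two_pos).2 (by linarith [L.gc])
  · exact (Int.le_ediv_iff_mul_le L.c0).2 L.gm

theorem of_stp {x y : ℤ} (h : stp p x y D2 D3 r K k = true) (hp : 1 ≤ p) (hy : 0 < y)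
    {l1 l2 l3 : ℕ} (e1 : a1 = x * (p * p) ^ l1) (e2 : a = y * (p * p) ^ l2) (e3 : m = p * p ^ l3)
    (hK : a1 * (a * m) * K ≤ 25 * D3 * D3) : stb p a1 s a r0 m k = true := by
  have hp2 : 1 ≤ p * p := by nlinarith
  have ha : 0 < a := e2 ▸ by positivity
  have h1 := of_allP h l1 fun l hl => decide_eq_true (Int.emod_eq_zero_of_dvd
    ((mul_dvd_mul_left x (pow_dvd_pow _ hl)).trans (e1 ▸ ⟨s, R.es⟩)))
  rw [← e1, fI_eq, show D3 / a1 = s by rw [R.es, Int.mul_ediv_cancel_left _ R.pa.ne']] at h1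
  have h2 := of_allP h1 l2 fun l hl => decide_eq_true (le_trans (mul_le_mul_of_nonneg_left
    (e2 ▸ mul_le_mul_of_nonneg_left (pow_le_pow_right₀ hp2 hl) hy.le) (by linarith [L.rp])) L.ar)
  rw [← e2, L.er, fI_eq, Int.mul_ediv_cancel_left _ R.pa.ne'] at h2
  have h3 := of_allP (of_imp h2 (Int.mul_emod_right _ _)) l3 fun l hl => decide_eq_true (by
    have h4 : p * p ^ l ≤ m :=
      e3 ▸ mul_le_mul_of_nonneg_left (pow_le_pow_right₀ hp hl) (by linarith)
    have h5 : 0 ≤ a1 * (a * (p * p ^ l)) := by have := R.pa; positivity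
    refine ⟨h4.trans L.m20, (le_total 0 K).elim (fun h6 => le_trans (mul_le_mul_of_nonneg_right
      (mul_le_mul_of_nonneg_left (mul_le_mul_of_nonneg_left h4 ha.le) R.pa.le) h6) hK)
      fun h6 => (mul_nonpos_of_nonneg_of_nonpos h5 h6).trans (by have := R.p3; positivity)⟩)
  rw [← e3] at h3
  exact of_imp h3 R.lov

omit R L

theorem of_st2 {p i j e : ℕ} (hp : p.Prime) (hp2 : p ≠ 2) (hi : 1 ≤ i) (hj : 1 ≤ j)
    (hc : ¬ (p : ℤ) ∣ c) (h3 : 25 * c ≤ 3 * p ^ (i + j)) (he : Even (i + e))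
    (R : Raw (p ^ (i + j)) c (p ^ j) (p ^ e) s b r0 g11 g12 g13 g14 g22 g23 g24 g33 g34 f1 f2 f3
      D2 D3 A11 A12 A13 A22 A23 v1 v2 v3)
    (D : Der (p ^ (i + j)) (p ^ e) 22 25 1 1 g11 g12 g22 f1 f2 f3 D2 D3 A11 A12 A13 A22 A23)
    (L : Loc (p ^ i) (p ^ j) c g (p ^ e) s r0 D3
      (D3 - ad3 A11 A12 A13 A22 A23 D2 f1 f2 f3 f1 f2 f3)) (h : st2 g11 g22 = true) :
    p = 5 ∧ i = 2 ∧ j = 1 ∧ c = 2 ∧ e = 0 := by
  have p1 := R.p1
  have p2 := R.p2
  have p3 := R.p3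
  have u1 := D.u1
  have u2 := D.u2
  have q1 := R.q1
  have q2 := R.q2
  have q3 := R.q3
  have hp3 : (3 : ℤ) ≤ p := by exact_mod_cast hp.two_le.lt_of_ne hp2.symm
  obtain ⟨k1, k2⟩ := D.k2 (f1 % 2) (f2 % 2) (by omega) (by omega)
  have h1 := of_allI h g12 R.a12 (by have := R.b12; omega)
  rw [fI_eq, ← R.eD2] at h1
  have h2 := of_imp (of_imp (of_allI (of_imp (of_allI h1 f1 R.f0 (by nlinarith)) q1) f2
    (by nlinarith) (by nlinarith)) q2) (by linarith [D.h2])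
  rw [fI_eq] at h2
  have h4 := of_imp h2 k1
  rw [Bool.and_eq_true, decide_eq_true_eq, fI_eq] at h4
  have h5 : D3 ≤ _ := (Int.le_ediv_iff_mul_le h4.1).2 (show _ ≤ 175 * D2 * D2 by linarith)
  have h6 := of_near (of_allI h4.2 g13 R.a13 (by have := R.b13; omega)) (by omega) g23 (by
    have := R.b23
    rwa [R.eA23, abs_sub_comm, ← neg_add_eq_sub] at this)
  rw [fI_eq, fI_eq, fI_eq, ← R.eA23, ← R.eA13] at h6
  have h7 := of_allI h6 g33 (neg_le.1 ((Int.le_ediv_iff_mul_le (by omega)).2 (by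
    linarith [R.l2, R.eA22]))) ((Int.le_ediv_iff_mul_le p2).2 (by linarith [R.eD3]))
  rw [Bool.and_eq_true, decide_eq_true_eq, fI_eq, fI_eq, fI_eq, fI_eq, ← R.eD3, ← R.eA11,
    ← R.eA12, ← R.eA22] at h7
  have h8 := of_imp (of_allI h7.2 f3 (by nlinarith [h7.1]) (by nlinarith [h7.1])) q3
  rw [fI_eq] at h8
  have h9 := of_imp h8 L.rp
  rw [fI_eq, fI_eq, fI_eq, fI_eq] at h9
  obtain ⟨k3, k4⟩ := D.k3 (f1 % 2) (f2 % 2)
    (f3 - 2 * ((A13 * (f1 % 2) + A23 * (f2 % 2) + D2 * f3 + D2) / (2 * D2))) (by omega) (by omega)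
    (by omega)
  have h10 := of_imp h9 k3
  rw [fI_eq] at h10
  obtain ⟨p0, e0⟩ := hp.odd_of_ne_two hp2
  have e0' : 2 * (p0 : ℤ) + 1 = p := by omega
  have hs : 0 < s := (mul_pos_iff_of_pos_left R.pa).1 (R.es ▸ p3)
  have hpD : (p : ℤ) ≤ D3 := by
    rcases e with _ | e
    · have h11 : (p : ℤ) ^ 2 ≤ p ^ i :=
        pow_le_pow_right₀ (by linarith) (by obtain ⟨t, ht⟩ := he; omega)
      have h12 := L.ar
      have h13 : D3 = s := by simpa using R.es
      have h14 := mul_le_mul_of_nonneg_right (Int.add_one_le_of_lt L.rp) (pow_nonneg p.cast_nonneg i)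
      by_contra h15
      nlinarith
    · exact Int.le_of_dvd p3 ((dvd_pow_self _ e.succ_ne_zero).trans ⟨s, R.es⟩)
  have h11 := of_allI h10 p0 (by omega) (by omega)
  rw [fI_eq, e0'] at h11
  have h12 := of_imp h11 (by
    by_cases h : 3 ∣ p
    · exact Or.inl (by exact_mod_cast ((Nat.prime_dvd_prime_iff_eq Nat.prime_three hp).1 h).symm)
    · exact Or.inr (by omega))
  rw [Bool.and_eq_true] at h12
  rw [pow_add] at R h3 k4
  obtain ⟨l3, rfl⟩ : ∃ l, j = l + 1 := ⟨j - 1, by omega⟩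
  have h13 := (Nat.even_or_odd' e).elim fun l1 e1 => e1.elim
    (fun e1 => of_stp R L h12.1 (by linarith) (by positivity) (l1 := l1) (l2 := i / 2 - 1)
      (by rw [e1, ← sq, ← pow_mul, one_mul])
      (by rw [← pow_succ', ← sq, ← pow_mul]; congr 1; obtain ⟨t, ht⟩ := he; omega)
      (pow_succ' _ _) k4)
    (fun e1 => of_stp R L h12.2 (by linarith) (by positivity) (l1 := l1) (l2 := i / 2)
      (by rw [e1, ← sq, ← pow_mul, pow_succ'])
      (by rw [← sq, ← pow_mul, ← pow_succ']; congr 1; obtain ⟨t, ht⟩ := he; omega)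
      (pow_succ' _ _) k4)
  obtain ⟨e1, e2, e3, e4, e5⟩ := (of_stb R L h13 hc h3).resolve_right (not_st4 R)
  obtain rfl : p = 5 := by exact_mod_cast e1
  have t : ∀ {x y : ℕ}, ((5 : ℕ) : ℤ) ^ x = 5 ^ y → x = y := fun h =>
    Nat.pow_right_injective (show 2 ≤ 5 by norm_num) (by exact_mod_cast h)
  exact ⟨rfl, t (y := 2) e2, t (y := 1) e3, e4, t (y := 0) e5⟩

end BT.K6Q.H1
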