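import Cfsg.Agent.Lib.Block.K6QuatH1

/-!
# The finite search, part A
-/

set_option autoImplicit false

namespace BT.K6Q.H1

theorem t2_2 : st2 2 2 = true := by decide +kernel

theorem t2_3 : st2 2 3 = true := by decide +kernel

theorem t2_4 : st2 2 4 = true := by decide +kernel

theorem t2_5 : st2 2 5 = true := by decide +kernel

end BT.K6Q.H1
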