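import Cfsg.Agent.Lib.Block.K6QuatH1

/-!
# The finite search, part B
-/

set_option autoImplicit false

namespace BT.K6Q.H1

theorem t2_6 : st2 2 6 = true := by decide +kernel

theorem t2_7 : st2 2 7 = true := by decide +kernel

theorem t2_8 : st2 2 8 = true := by decide +kernel

theorem t2_9 : st2 2 9 = true := by decide +kernel

theorem t2_10 : st2 2 10 = true := by decide +kernel

theorem t2_11 : st2 2 11 = true := by decide +kernel

theorem t2_12 : st2 2 12 = true := by decide +kernel

theorem t2_13 : st2 2 13 = true := by decide +kernel

end BT.K6Q.H1
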