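import Cfsg.Agent.Lib.Block.K6QuatH1

/-!
# The finite search, part C
-/

set_option autoImplicit false

namespace BT.K6Q.H1

theorem t3_3 : st2 3 3 = true := by decide +kernel

theorem t3_4 : st2 3 4 = true := by decide +kernel

theorem t3_5 : st2 3 5 = true := by decide +kernel

theorem t3_6 : st2 3 6 = true := by decide +kernel

theorem t3_7 : st2 3 7 = true := by decide +kernel

theorem t3_8 : st2 3 8 = true := by decide +kernel

theorem t3_9 : st2 3 9 = true := by decide +kernel

theorem t3_10 : st2 3 10 = true := by decide +kernel

theorem t3_11 : st2 3 11 = true := by decide +kernel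

theorem t3_12 : st2 3 12 = true := by decide +kernel

theorem t3_13 : st2 3 13 = true := by decide +kernel

end BT.K6Q.H1
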