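import Cfsg.Agent.Lib.Block.K6QuatH1

/-!
# The finite search, part E
-/

set_option autoImplicit false

namespace BT.K6Q.H1

theorem t5_5 : st2 5 5 = true := by decide +kernel

theorem t5_6 : st2 5 6 = true := by decide +kernel

theorem t5_7 : st2 5 7 = true := by decide +kernel

theorem t5_8 : st2 5 8 = true := by decide +kernel

theorem t5_9 : st2 5 9 = true := by decide +kernel

theorem t5_10 : st2 5 10 = true := by decide +kernel

theorem t5_11 : st2 5 11 = true := by decide +kernel

theorem t5_12 : st2 5 12 = true := by decide +kernel

theorem t5_13 : st2 5 13 = true := by decide +kernel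

theorem t6_6 : st2 6 6 = true := by decide +kernel

theorem t6_7 : st2 6 7 = true := by decide +kernel

theorem t6_8 : st2 6 8 = true := by decide +kernel

theorem t6_9 : st2 6 9 = true := by decide +kernel

theorem t6_10 : st2 6 10 = true := by decide +kernel

theorem t6_11 : st2 6 11 = true := by decide +kernel

theorem t6_12 : st2 6 12 = true := by decide +kernel

theorem t6_13 : st2 6 13 = true := by decide +kernel

theorem t7_7 : st2 7 7 = true := by decide +kernel

theorem t7_8 : st2 7 8 = true := by decide +kernel

theorem t7_9 : st2 7 9 = true := by decide +kernel

theorem t7_10 : st2 7 10 = true := by decide +kernel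

theorem t7_11 : st2 7 11 = true := by decide +kernel

theorem t7_12 : st2 7 12 = true := by decide +kernel

theorem t7_13 : st2 7 13 = true := by decide +kernel

end BT.K6Q.H1
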