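import Cfsg.Agent.Lib.Block.K6QuatHA
import Cfsg.Agent.Lib.Block.K6QuatHB
import Cfsg.Agent.Lib.Block.K6QuatHC
import Cfsg.Agent.Lib.Block.K6QuatHD
import Cfsg.Agent.Lib.Block.K6QuatHE

/-!
# Lattices of rank four with a strictly relevant vector
-/

set_option autoImplicit false

namespace BT.K6Q.H1

theorem st2_all {a b : ℤ} (h1 : 2 ≤ a) (h2 : a ≤ 7) (h3 : a ≤ b) (h4 : b ≤ 13) :
    st2 a b = true := by
  interval_cases a <;> interval_cases b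
  exacts [
    t2_2, t2_3, t2_4, t2_5, t2_6, t2_7, t2_8, t2_9, t2_10, t2_11, t2_12, t2_13, t3_3, t3_4, t3_5,
    t3_6, t3_7, t3_8, t3_9, t3_10, t3_11, t3_12, t3_13, t4_4, t4_5, t4_6, t4_7, t4_8, t4_9,
    t4_10, t4_11, t4_12, t4_13, t5_5, t5_6, t5_7, t5_8, t5_9, t5_10, t5_11, t5_12, t5_13, t6_6,
    t6_7, t6_8, t6_9, t6_10, t6_11, t6_12, t6_13, t7_7, t7_8, t7_9, t7_10, t7_11, t7_12, t7_13]

theorem quat {p i j : ℕ} (hp : p.Prime) {c h g : ℤ} {A Gam : Matrix (Fin 4) (Fin 4) ℤ}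
    {f : Fin 4 → ℤ} (hp2 : p ≠ 2) (hi : 1 ≤ i) (hj : 1 ≤ j) (h25 : 25 ≤ p ^ (i + j))
    (loc : c * h - g * g = p ^ j) (hg : |g| < h) (hg2 : 2 * |g| ≤ c) (hc : ¬ (p : ℤ) ∣ c)
    (hn : ¬ (p = 3 ∧ i = 1 ∧ h = 2)) (D : Dat (p ^ (i + j)) c (p ^ j) A Gam f)
    (sq : IsSquare (A.det * (p ^ i * p ^ (i + j)))) :
    p = 5 ∧ i = 2 ∧ j = 1 ∧ c = 2 ∧ A.det = 125 :=
  have h3 := loc_mass hp loc hc hp2 hi hj h25 hg hg2 hn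
  quat_of_chk hp (fun he R E L => of_st2 hp hp2 hi hj hc h3 he R E L
    (st2_all R.p1 E.u1 R.l1 E.u2)) hp2 hi hj loc hg hg2 hc h3 D sq

end BT.K6Q.H1
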