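import Mathlib

/-!
# Lattices of rank four with a strictly relevant vector: the scalar facts
-/

set_option autoImplicit false

namespace BT.K6Q

/-- Adjoint form in rank two. -/
def ad2 (g11 g12 g22 u1 u2 : ℤ) : ℤ := g22 * u1 * u1 - 2 * g12 * u1 * u2 + g11 * u2 * u2

/-- Adjoint bilinear form in rank three. -/
def ad3 (A11 A12 A13 A22 A23 A33 u1 u2 u3 w1 w2 w3 : ℤ) : ℤ :=
  (A11 * u1 + A12 * u2 + A13 * u3) * w1 + (A12 * u1 + A22 * u2 + A23 * u3) * w2 +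
    (A13 * u1 + A23 * u2 + A33 * u3) * w3

/-- The entries of a reduced Gram matrix of determinant `a1 * q`, with its minors;
`s = Gam 3 3`, `b = (Gam *ᵥ f) 3`. -/
structure Raw (q c m a1 s b r0 g11 g12 g13 g14 g22 g23 g24 g33 g34 f1 f2 f3
    D2 D3 A11 A12 A13 A22 A23 v1 v2 v3 : ℤ) : Prop where
  eD2 : D2 = g11 * g22 - g12 * g12
  eA23 : A23 = g12 * g13 - g11 * g23
  eA13 : A13 = g12 * g23 - g13 * g22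
  eA22 : A22 = g11 * g33 - g13 * g13
  eD3 : D3 = D2 * g33 - ad2 g11 g12 g22 g13 g23
  eA11 : A11 = g22 * g33 - g23 * g23
  eA12 : A12 = g13 * g23 - g12 * g33
  ev1 : v1 = A11 * g14 + A12 * g24 + A13 * g34
  ev2 : v2 = A12 * g14 + A22 * g24 + A23 * g34
  ev3 : v3 = A13 * g14 + A23 * g24 + D2 * g34
  p1 : 2 ≤ g11
  p2 : 0 < D2
  p3 : 0 < D3
  pa : 0 < a1
  f0 : 0 ≤ f1
  a12 : 0 ≤ g12
  b12 : 2 * g12 ≤ g11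
  a13 : 0 ≤ g13
  b13 : 2 * g13 ≤ g11
  b14 : 2 * |g14| ≤ g11
  b23 : 2 * |A23| ≤ D2
  b24 : 2 * |g11 * g24 - g12 * g14| ≤ D2
  b34 : 2 * |v3| ≤ D3
  l1 : g11 ≤ g22
  l2 : D2 ≤ A22
  lov : 3 * D3 * D3 ≤ 4 * D2 * (a1 * q)
  q1 : f1 * f1 < g11
  q2 : f2 * f2 < g22
  q3 : f3 * f3 < g33
  es : D3 = a1 * s
  b0 : 0 ≤ b
  bs : b ≤ s
  cc : a1 * D3 * (q - c) =
    a1 * q * ad3 A11 A12 A13 A22 A23 D2 f1 f2 f3 f1 f2 f3 + a1 * b * (a1 * b)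
  dv : c * s + b * b = m * r0
  d44 : D3 ∣ a1 * q + (v1 * g14 + v2 * g24 + v3 * g34)
  df4 : D3 ∣ a1 * b + (v1 * f1 + v2 * f2 + v3 * f3)
  bab : ∀ u1 u2 u3 : ℤ, 2 ∣ u1 - f1 → 2 ∣ u2 - f2 → 2 ∣ u3 - f3 →
    (q - c) * a1 * D3 ≤ a1 * q * ad3 A11 A12 A13 A22 A23 D2 u1 u2 u3 u1 u2 u3 + D3 * D3
  mom : ∀ n1 n2 n3 n4 : ℤ, (n1 ≠ f1 ∨ n2 ≠ f2 ∨ n3 ≠ f3) → (n1 ≠ 0 ∨ n2 ≠ 0 ∨ n3 ≠ 0 ∨ n4 ≠ 0) →
    0 < a1 * q * ad3 A11 A12 A13 A22 A23 D2 n1 n2 n3 (n1 - f1) (n2 - f2) (n3 - f3) +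
      (D3 * n4 - (v1 * n1 + v2 * n2 + v3 * n3)) *
        (D3 * n4 - (v1 * n1 + v2 * n2 + v3 * n3) - a1 * b)

/-- The inequalities that bound the search, for `ln / ld ≤ (q - c) / q < hn / hd`. -/
structure Der (q a1 ln ld hn hd g11 g12 g22 f1 f2 f3 D2 D3 A11 A12 A13 A22 A23 : ℤ) : Prop where
  u1 : g11 ≤ 7
  u2 : g22 ≤ 13
  k1 : 9 * ln * g11 * D2 ≤ ld * (9 * D2 * (f1 % 2) + 37 * g11 * g11)
  k2 : ∀ u1 u2 : ℤ, 2 ∣ u1 - f1 → 2 ∣ u2 - f2 →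
    9 * ln * D2 ≤ ld * (9 * ad2 g11 g12 g22 u1 u2 + 28 * g11) ∧
    3 * ln * D2 * D3 ≤ ld * (3 * D3 * ad2 g11 g12 g22 u1 u2 + 7 * D2 * D2)
  k3 : ∀ u1 u2 u3 : ℤ, 2 ∣ u1 - f1 → 2 ∣ u2 - f2 → 2 ∣ u3 - f3 →
    3 * ln * D3 ≤ ld * (3 * ad3 A11 A12 A13 A22 A23 D2 u1 u2 u3 u1 u2 u3 + 4 * D2) ∧
    a1 * q * (ln * D3 - ld * ad3 A11 A12 A13 A22 A23 D2 u1 u2 u3 u1 u2 u3) ≤ ld * D3 * D3
  h2 : hd * ad2 g11 g12 g22 f1 f2 < hn * D2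
  h3 : hd * ad3 A11 A12 A13 A22 A23 D2 f1 f2 f3 f1 f2 f3 < hn * D3

/-- The inequalities between the local data; `q = a * m`, `r = D3 - E3`. -/
structure Loc (a m c g a1 s r0 D3 r : ℤ) : Prop where
  c0 : 0 < c
  c2 : 2 * c ≤ m + 1
  gc : 2 * |g| ≤ c
  gm : |g| * c ≤ 2 * m
  gd : c ∣ m + |g| * |g|
  gh : |g| * c < m + |g| * |g|
  m20 : m ≤ 20 * s * s * s
  rp : 0 < r
  er : a * r = a1 * r0
  ar : 3 * r * a ≤ D3 * (2 + s)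

end BT.K6Q
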