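import Cfsg.Agent.Lib.Block.K6Sm
import Cfsg.Agent.Lib.Block.K6Three
import Cfsg.Agent.Lib.Block.K6TwoFour

/-!
# Principal `2`-blocks with six characters: heights, indicators, rank at most two
-/

set_option autoImplicit false
set_option linter.unusedSectionVars false

namespace BT.K5

open Cfsg CT GT Subgroup
open scoped ComplexConjugate

variable {M : Ideal AlgInt} (hM : IsPModular 2 M) {G : Type*} [Group G] [Finite G]
variable {B : Set (IrrCharacter G)} {a b c e f : IrrCharacter G}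

theorem Six.of_perm {a' b' c' e' f' : IrrCharacter G} (E : Six B a b c e f)
    (h : [a, b, c, e, f].Perm [a', b', c', e', f']) : Six B a' b' c' e' f' :=
  ⟨((h.cons _).nodup_iff).1 E.nd, fun χ => by
    have := h.mem_iff (a := χ)
    simp only [List.mem_cons, List.not_mem_nil, or_false] at this
    rw [E.mem, this]⟩

theorem Six.sab (E : Six B a b c e f) : Six B b a c e f := E.of_perm (.swap _ _ _)
theorem Six.sbc (E : Six B a b c e f) : Six B a c b e f := E.of_perm (.cons _ (.swap _ _ _))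
theorem Six.sce (E : Six B a b c e f) : Six B a b e c f :=
  E.of_perm (.cons _ (.cons _ (.swap _ _ _)))
theorem Six.sef (E : Six B a b c e f) : Six B a b c f e :=
  E.of_perm (.cons _ (.cons _ (.cons _ (.swap _ _ _))))

variable (M) in
/-- Enumeration with four characters of height zero, one of height one, one of larger height. -/
structure Sx1 (a b c e f : IrrCharacter G) : Prop where
  en : Six (principalBlock M G) a b c e f
  oa : ¬ 2 ∣ rw1 M a
  ob : ¬ 2 ∣ rw1 M b
  oc : ¬ 2 ∣ rw1 M c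
  oe : rw1 M e % 4 = 2
  of : rw1 M f % 4 = 0

variable (M) in
/-- Enumeration adapted to the Frobenius-Schur indicators. -/
structure Sx2 (a b c e f : IrrCharacter G) : Prop extends Sx1 M a b c e f where
  ne : nu e = 1 ∨ nu e = -1
  nf : nu f = 1 ∨ nu f = -1
  na : nu a = 1
  nbc : (nu b = 1 ∧ nu c = 1) ∨ (nu b = 0 ∧ nu c = 0 ∧ irrBar b = c)

theorem Sx1.sab (E : Sx1 M a b c e f) : Sx1 M b a c e f :=
  ⟨E.en.sab, E.ob, E.oa, E.oc, E.oe, E.of⟩

theorem Sx1.sbc (E : Sx1 M a b c e f) : Sx1 M a c b e f :=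
  ⟨E.en.sbc, E.oa, E.oc, E.ob, E.oe, E.of⟩

include hM

theorem rw1_ne_zero {χ : IrrCharacter G} (hχ : χ ∈ principalBlock M G) : rw1 M χ ≠ 0 :=
  cm_ne_zero hM isPBlock_principalBlock (irrOne_mem_principalBlock hM) hχ
    (blockHeight_irrOne_principal hM)

theorem pow_dvd_rw1_iff {χ : IrrCharacter G} (hχ : χ ∈ principalBlock M G) (k : ℕ) :
    (2 : ℤ) ^ k ∣ rw1 M χ ↔ (2 : ℤ) ^ k ∣ charDegree χ.1 := by
  have h1 := irrOne_mem_principalBlock (G := G) hM
  have h2 := pow_height_dvd_cm_right (p := 2) (irr_isCharacter (irrOne G)).isGen hχ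
  have h3 := (pow_succ_dvd_cm_iff hM isPBlock_principalBlock h1 hχ).not.2
    (not_not.2 (blockHeight_irrOne_principal hM))
  rw [blockHeight_principal_eq hM χ hχ] at h2 h3
  rw [← Nat.cast_ofNat, ← Nat.cast_pow, Int.natCast_dvd_natCast,
    Nat.prime_two.pow_dvd_iff_le_factorization (irr_degree_pos χ).ne', Nat.cast_pow]
  exact ⟨fun h => not_lt.1 fun h4 => h3 ((pow_dvd_pow _ h4).trans h),
    fun h => (pow_dvd_pow _ h).trans h2⟩

theorem Sx1.bar (E : Sx1 M a b c e f) : irrBar e = e ∧ irrBar f = f ∧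
    (irrBar a = a ∨ irrBar a = b ∨ irrBar a = c) := by
  have := odd_rw1_one (G := G) hM
  have := E.oa
  have := E.ob
  have := E.oc
  have := E.oe
  have := E.of
  have h1 := rw1_bar hM e
  have h2 := rw1_bar hM f
  have h3 := rw1_bar hM a
  refine ⟨?_, ?_, ?_⟩
  · rcases (E.en.mem _).1 (bar_principal hM e E.en.md) with h | h | h | h | h | h <;>
      first | exact h | (rw [h] at h1; omega)
  · rcases (E.en.mem _).1 (bar_principal hM f E.en.me) with h | h | h | h | h | h <;>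
      first | exact h | (rw [h] at h2; omega)
  · rcases (E.en.mem _).1 (bar_principal hM a E.en.ma) with h | h | h | h | h | h
    · exact (E.en.ne.1.1 (by rw [← irrBar_irrBar a, h, irrBar_one])).elim
    all_goals first | (simp [h]; done) | (rw [h] at h3; omega)

theorem Sx1.sx2 (E : Sx1 M a b c e f) (h : irrBar a = a) : Sx2 M a b c e f := by
  have key : ∀ {b c}, Sx1 M a b c e f → nu b = 0 → irrBar b = c := fun {b c} E h0 => by
    rcases (E.sab.bar hM).2.2 with h1 | h1 | h1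
    · exact (nu_eq_zero_iff.1 h0 h1).elim
    · exact (E.en.ne.2.1.1 (by rw [← irrBar_irrBar b, h1, h])).elim
    · exact h1
  have k2 : ∀ χ : IrrCharacter G, irrBar χ = χ → nu χ = 1 ∨ nu χ = -1 := fun χ h => by
    have := nu_eq_zero_iff.not_left.2 h
    have := nu_cases χ
    tauto
  refine ⟨E, k2 e (E.bar hM).1, k2 f (E.bar hM).2.1,
    (nu_ne_neg_one hM E.en.ma E.oa).resolve_right (nu_eq_zero_iff.not_left.2 h), ?_⟩
  rcases nu_ne_neg_one hM E.en.mb E.ob with hb | hb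
  · rcases nu_ne_neg_one hM E.en.mc E.oc with hc | hc
    · exact Or.inl ⟨hb, hc⟩
    · rw [← key E.sbc hc, nu_bar, hc] at hb
      omega
  · exact Or.inr ⟨hb, by rw [← key E hb, nu_bar, hb], key E hb⟩

theorem Sx1.exists_sx2 (E : Sx1 M a b c e f) : ∃ a b c, Sx2 M a b c e f := by
  have key : ∀ {b c}, Sx1 M a b c e f → irrBar a = b → irrBar c = c := fun {b c} E h => by
    rcases (E.sbc.sab.bar hM).2.2 with h1 | h1 | h1
    · exact h1
    · exact (E.en.ne.2.2.1.1 (by rw [← h, ← h1, irrBar_irrBar])).elim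
    · exact (E.en.ne.2.1.2.1 (by rw [← irrBar_irrBar a, h, ← h1, irrBar_irrBar])).elim
  rcases (E.bar hM).2.2 with h | h | h
  exacts [⟨_, _, _, E.sx2 hM h⟩, ⟨_, _, _, E.sbc.sab.sx2 hM (key E h)⟩,
    ⟨_, _, _, E.sab.sx2 hM (key E.sbc h)⟩]

theorem Six.rw1_sq (E : Six (principalBlock M G) a b c e f) :
    cc 2 M G * cc 2 M G + rw1 M a * rw1 M a + rw1 M b * rw1 M b + rw1 M c * rw1 M c +
      rw1 M e * rw1 M e + rw1 M f * rw1 M f = 2 ^ (Nat.card G).factorization 2 * cc 2 M G := by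
  have h1 := irrOne_mem_principalBlock (G := G) hM
  have h2 := regV_cv hM isPBlock_principalBlock h1 _ h1
  rwa [E.dot_eq, blockDefect_principal hM] at h2

variable (hk : Nat.card (principalBlock M G) = 6)
include hk

theorem three_le_fact : 3 ≤ (Nat.card G).factorization 2 := by
  by_contra h
  have h1 := card_le_pow_of_defect_le_two (G := G) hM isPBlock_principalBlock
    ((blockDefect_principal hM).trans_le (by omega))
  have := Nat.pow_le_pow_right two_pos (show (Nat.card G).factorization 2 ≤ 2 by omega)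
  rw [blockDefect_principal hM] at h1
  omega

theorem exists_sx1 : ∃ a b c e f : IrrCharacter G, Sx1 M a b c e f := by
  classical
  have h1 := irrOne_mem_principalBlock (G := G) hM
  obtain ⟨r, hr⟩ : (8 : ℤ) ∣ 2 ^ _ := pow_dvd_pow (2 : ℤ) (three_le_fact hM hk)
  have h0 := not_dvd_cc (G := G) hM
  have key : ∀ {a b c e f : IrrCharacter G}, Six (principalBlock M G) a b c e f →
      (rw1 M a * rw1 M a + rw1 M b * rw1 M b + rw1 M c * rw1 M c + rw1 M e * rw1 M e +
        rw1 M f * rw1 M f) % 8 = 7 := fun E => by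
    have h2 := E.rw1_sq hM
    have := sq8 (cc 2 M G)
    rw [hr, mul_assoc] at h2
    push_cast at h0
    omega
  have k1 : ∀ {a b c e f : IrrCharacter G}, Six (principalBlock M G) a b c e f →
      rw1 M f % 4 = 0 → ∃ a b c e, Sx1 M a b c e f := fun {a b c e f} E hf => by
    have h2 := key E
    have ha := sq8 (rw1 M a)
    have hb := sq8 (rw1 M b)
    have hc := sq8 (rw1 M c)
    have he := sq8 (rw1 M e)
    have hf := sq8 (rw1 M f)
    by_cases h4 : rw1 M e % 4 = 2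
    · exact ⟨a, b, c, e, E, by omega, by omega, by omega, h4, ‹_›⟩
    by_cases h5 : rw1 M c % 4 = 2
    · exact ⟨a, b, e, c, E.sce, by omega, by omega, by omega, h5, ‹_›⟩
    by_cases h6 : rw1 M b % 4 = 2
    · exact ⟨a, c, e, b, E.sbc.sce, by omega, by omega, by omega, h6, ‹_›⟩
    exact ⟨b, c, e, a, E.sab.sbc.sce, by omega, by omega, by omega, by omega, ‹_›⟩
  obtain ⟨a, ha⟩ := Finset.card_pos.1 (show 0 < ((bset (principalBlock M G)).erase (irrOne G)).card
    by rw [Finset.card_erase_of_mem (mem_bset.2 h1), card_bset, hk]; decide)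
  obtain ⟨b, c, e, f, E⟩ := exists_six' h1 hk (mem_bset.1 (Finset.mem_erase.1 ha).2)
    (Finset.mem_erase.1 ha).1
  have h2 := key E
  have ha := sq8 (rw1 M a)
  have hb := sq8 (rw1 M b)
  have hc := sq8 (rw1 M c)
  have he := sq8 (rw1 M e)
  have hf := sq8 (rw1 M f)
  have k2 : ∀ {a b c e f : IrrCharacter G}, Six (principalBlock M G) a b c e f →
      rw1 M f % 4 = 0 → ∃ a b c e f : IrrCharacter G, Sx1 M a b c e f := fun E h =>
    let ⟨a, b, c, e, h⟩ := k1 E h
    ⟨a, b, c, e, _, h⟩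
  rcases (show rw1 M a % 4 = 0 ∨ rw1 M b % 4 = 0 ∨ rw1 M c % 4 = 0 ∨ rw1 M e % 4 = 0 ∨
    rw1 M f % 4 = 0 by omega) with h | h | h | h | h
  exacts [k2 E.sab.sbc.sce.sef h, k2 E.sbc.sce.sef h, k2 E.sce.sef h, k2 E.sef h, k2 E h]

theorem exists_sx2 : ∃ a b c e f : IrrCharacter G, Sx2 M a b c e f :=
  let ⟨_, _, _, e, f, E⟩ := exists_sx1 hM hk
  let ⟨a, b, c, E⟩ := E.exists_sx2 hM
  ⟨a, b, c, e, f, E⟩

theorem four_le_fact : 4 ≤ (Nat.card G).factorization 2 := by
  refine (three_le_fact hM hk).lt_of_ne fun h => ?_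
  obtain ⟨a, b, c, e, f, E⟩ := exists_sx1 hM hk
  have h1 := E.en.rw1_sq hM
  have h2 := rw1_ne_zero hM E.en.me
  have h3 := E.of
  have h4 := E.oe
  rw [← h] at h1
  have k1 : ∀ x : ℤ, ¬ 2 ∣ x → 1 ≤ x * x := fun x hx =>
    mul_self_pos.2 (show x ≠ 0 by omega)
  have k2 : ∀ x : ℤ, (x ≤ -2 ∨ 2 ≤ x) → 4 ≤ x * x := fun x hx => by
    rcases hx with h | h <;> nlinarith
  have k3 : ∀ x : ℤ, (x ≤ -4 ∨ 4 ≤ x) → 16 ≤ x * x := fun x hx => by
    rcases hx with h | h <;> nlinarith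
  nlinarith [k1 _ E.oa, k1 _ E.ob, k1 _ E.oc, k2 (rw1 M e) (by omega), k3 (rw1 M f) (by omega),
    sq_nonneg (cc 2 M G - 4)]

omit hk in
theorem six_ms_le {x : G} (hx : IsPElt 2 x) (hx1 : x ≠ 1) (h : rk 2 M x = 2) (h3 : 3 ≤ fq 2 x) :
    6 * cc 2 M (centralizer ({x} : Set G)) ≤ 2 ^ fq 2 x + 2 := by
  obtain ⟨k, hk⟩ := Nat.exists_eq_add_of_le' (show 1 ≤ fq 2 x by omega)
  obtain ⟨-, h, g, k, a, b, -, -, -, e1, e2, e3, e4, e5, e6, e7⟩ :=
    rank_two_central_lt hM (sf_pelt hx) (sf_ne hx1) (sf_comm x) h hk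
  have := two_third e1 e2 e3 e4 e5 e6 e7 (cc_pos hM) rfl (not_dvd_cc hM) (by omega)
  rw [hk, pow_succ]
  push_cast at this
  linarith

omit hk in
theorem eight_ms_le {x : G} (hx : IsPElt 2 x) (hx1 : x ≠ 1) (h3 : 3 ≤ fq 2 x) :
    8 * ms 2 x ≤ rk 2 M x + if rk 2 M x = 3 then 1 else 0 := by
  have h1 := rk_pos hM x
  have h2 := mul_ms_le hx hx1
  have h4 := ms_nonneg (p := 2) x
  have h5 : (8 : ℝ) ≤ 2 ^ fq 2 x := by exact_mod_cast Nat.pow_le_pow_right two_pos h3
  push_cast at h2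
  rcases (show rk 2 M x = 1 ∨ rk 2 M x = 2 ∨ rk 2 M x = 3 ∨ 4 ≤ rk 2 M x by omega) with
    h | h | h | h
  · have := ms_of_rk_one hM h
    norm_num [h] at this ⊢
    nlinarith
  · have h6 : (6 * cc 2 M (centralizer ({x} : Set G)) : ℝ) ≤ 2 ^ fq 2 x + 2 := by
      exact_mod_cast six_ms_le hM hx hx1 h h3
    have h7 := cc_cast (G := centralizer ({x} : Set G)) hM
    change _ = _ ^ fq 2 x * ms 2 x at h7
    norm_num [h] at h7 ⊢
    nlinarith
  · norm_num [h]
    linarith
  · have : (4 : ℝ) ≤ rk 2 M x := by exact_mod_cast h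
    rw [if_neg (by omega)]
    linarith

theorem two_rank_ge {X : Finset G} (R : Reps 2 X)
    (hF : ∀ x ∈ X, fq 2 x ≤ 2 → ∃ Y, Y ⊆ X ∧ Y.card = 4 ∧ ∀ y ∈ Y, 3 ≤ fq 2 y) :
    3 ≤ blockRank 2 (principalBlock M G) := by
  classical
  by_contra hl
  have hB : IsPBlock M (principalBlock M G) := isPBlock_principalBlock
  have h1 := irrOne_mem_principalBlock (G := G) hM
  have h2 := R.card_eq hM
  have h3 := R.cc_add hM
  have h4 := four_le_fact hM hk
  have h5 := blockRank_pos (p := 2) ⟨_, h1⟩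
  have hq : (16 : ℝ) ≤ 2 ^ (Nat.card G).factorization 2 := by
    exact_mod_cast Nat.pow_le_pow_right two_pos h4
  have h6 : 3 * cc 2 M G ≤ 2 ^ (Nat.card G).factorization 2 + 1 ∧
      (blockRank 2 (principalBlock M G) = 1 → cc 2 M G = 1) := by
    refine ⟨?_, cc_of_rank_one hM⟩
    by_cases h : blockRank 2 (principalBlock M G) = 1
    · have : (16 : ℤ) ≤ 2 ^ (Nat.card G).factorization 2 := by exact_mod_cast hq
      rw [cc_of_rank_one hM h]
      omega
    obtain ⟨w, x, L, e6⟩ := exists_L2 hM hB h1 (by omega)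
    obtain ⟨u, v, e1, e2, e3, e4, e5, -⟩ := L.eqs_lt hM hB h1
    obtain ⟨n, -, hn⟩ := L.dual
    rw [blockDefect_principal hM] at e1 e4
    exact two_third e1 e2 e3 e4 e5 e6 (dot_self_pos (hn.trans_ne one_ne_zero)) (cc_pos hM) rfl
      (not_dvd_cc hM) (by omega)
  have h7 : (3 * cc 2 M G : ℝ) ≤ 2 ^ (Nat.card G).factorization 2 + 1 := by exact_mod_cast h6.1
  push_cast at h3
  suffices h : 8 * ∑ x ∈ X, ms 2 x ≤ ((∑ x ∈ X, rk 2 M x : ℕ) : ℝ) + 1 by
    by_cases h8 : blockRank 2 (principalBlock M G) = 1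
    · rw [show ∑ x ∈ X, rk 2 M x = 5 by omega] at h
      rw [h6.2 h8] at h3
      push_cast at h h3
      nlinarith
    · rw [show ∑ x ∈ X, rk 2 M x = 4 by omega] at h
      push_cast at h
      nlinarith
  have h8 : ∀ Y ⊆ X, (∀ y ∈ Y, 3 ≤ fq 2 y) →
      8 * ∑ x ∈ Y, ms 2 x ≤ ∑ x ∈ Y, ((rk 2 M x : ℝ) + if rk 2 M x = 3 then 1 else 0) :=
    fun Y hY h => by
      rw [Finset.mul_sum]
      exact Finset.sum_le_sum fun y hy => eight_ms_le hM (R.pelt y (hY hy)) (R.ne y (hY hy)) (h y hy)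
  by_cases h9 : ∀ y ∈ X, 3 ≤ fq 2 y
  · refine (h8 X le_rfl h9).trans ?_
    rw [Finset.sum_add_distrib, Finset.sum_boole, Nat.cast_sum]
    have h10 := (Finset.card_nsmul_le_sum (X.filter fun x => rk 2 M x = 3) (rk 2 M) 3
      fun x hx => (Finset.mem_filter.1 hx).2.ge).trans
      (Finset.sum_le_sum_of_subset (Finset.filter_subset _ _))
    rw [smul_eq_mul] at h10
    exact add_le_add_right (by exact_mod_cast (by omega)) _
  push Not at h9
  obtain ⟨x, hx, h9⟩ := h9
  obtain ⟨Y, hY, c4, hY3⟩ := hF x hx (by omega)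
  have xY : x ∉ Y := fun h => by have := hY3 x h; omega
  have h10 := Finset.card_nsmul_le_sum X (fun x => rk 2 M x) 1 fun x _ => rk_pos hM x
  rw [smul_eq_mul] at h10
  obtain rfl : insert x Y = X := Finset.eq_of_subset_of_card_le (Finset.insert_subset hx hY)
    (by rw [Finset.card_insert_of_notMem xY]; omega)
  have h11 : ∀ y ∈ insert x Y, rk 2 M y = 1 := fun y hy => by
    have h12 := Finset.card_nsmul_le_sum ((insert x Y).erase y) (fun x => rk 2 M x) 1
      fun x _ => rk_pos hM x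
    rw [← Finset.add_sum_erase _ _ hy] at h2
    rw [Finset.card_erase_of_mem hy, Finset.card_insert_of_notMem xY, smul_eq_mul] at h12
    have := rk_pos hM y
    omega
  have h12 := (h8 Y hY hY3).trans_eq (Finset.sum_congr (g := fun _ => (1 : ℝ)) rfl
    fun y hy => by simp [h11 y (hY hy)])
  have h13 := ms_of_rk_one hM (h11 x hx)
  have h14 : (4 : ℝ) ≤ 2 ^ fq 2 x := by
    exact_mod_cast Nat.pow_le_pow_right two_pos (two_le_fq (R.pelt x hx) (by omega))
  rw [Finset.sum_const, c4] at h12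
  rw [Finset.sum_congr rfl h11, Finset.sum_const, Finset.card_insert_of_notMem xY, c4,
    Finset.sum_insert xY]
  norm_num at h12 h13 ⊢
  nlinarith [ms_nonneg (p := 2) x]

end BT.K5
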