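import Cfsg.Agent.Lib.Block.K6TwoA
import Cfsg.Agent.Lib.Block.K6TwoN
import Cfsg.Agent.Lib.Block.K6Cube

/-!
# Principal `2`-blocks with six characters: rank three, two singular sections
-/

set_option autoImplicit false
set_option linter.unusedSectionVars false

namespace BT.K5

open Cfsg CT GT Subgroup
open scoped ComplexConjugate

variable {M : Ideal AlgInt} (hM : IsPModular 2 M) {G : Type*} [Group G] [Finite G]
include hM

theorem exists_lift_orth {z : G} (hz : orderOf z = 2)
    {w : IrrCharacter (centralizer ({z} : Set G)) → ℤ} (hw : RegV 2 (principalBlock M _) w) :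
    ∃ v, SingV 2 (principalBlock M G) v ∧ v (irrOne G) = w (irrOne _) ∧
      dot (principalBlock M G) v v = dot (principalBlock M _) w w ∧
      ∀ y d, SecV 2 M y d → ¬ IsConj z y → dot (principalBlock M G) v d = 0 := by
  have hz' : IsPElt 2 z := ⟨1, hz⟩
  have h0 := hw.comb_apply hM isPBlock_principalBlock
  have hc := (isGen_comb (principalBlock M _) w).isClassFunction
  have hl := fun χ : IrrCharacter G => ip_lft_left (u := z) rfl (irr_isClassFunction χ)
    (comb (principalBlock M _) w)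
  have hb := blockPart_lft hM rfl hz' (isInducedBlock_principal_of_eq hM rfl hz')
    (blockPart_comb w) h0
  choose v hv using fun χ : IrrCharacter G => show ∃ n : ℤ,
      ip (lft _ z (comb (principalBlock M _) w)) χ.1 = n by
    choose a ha using fun ξ : IrrCharacter (centralizer ({z} : Set G)) => show ∃ n : ℤ,
        ip ξ.1 (shift _ z χ.1) = n by
      obtain ⟨n, hn⟩ := ((irr_isCharacter χ).res _).isGen.exists_int_ip (irr_isCharacter ξ).isGen
      have h1 := irr_central_pow_eq_one ξ (mk_mem_center_of_eq_centralizer (u := z) rfl) (n := 2)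
        (Subtype.ext (by simp [← hz]))
      rw [← conj_ip, ip_shift_irr rfl, hn]
      rcases sq_eq_one_iff.1 h1 with h2 | h2 <;> rw [h2]
      exacts [⟨n, by simp⟩, ⟨-n, by simp⟩]
    exact ⟨∑ ξ ∈ bset (principalBlock M _), w ξ * a ξ, by simp [hl, ip_comb_left, ha]⟩
  refine ⟨v, singV_of_ip hM isPBlock_principalBlock (fun g hg => lft_apply_eq_zero rfl hz' h0 ?_)
    fun χ _ => hv χ, ?_, ?_, fun y d D h => ?_⟩
  · rw [pPart_eq_one_iff.2 hg, isConj_one_left]
    rintro rfl
    simp at hz
  · rw [← Int.cast_inj (α := ℂ), ← hv, hl, ← ip_comb_irr w (irrOne_mem_principalBlock hM)]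
    rfl
  · rw [← Int.cast_inj (α := ℂ), ← ip_eq_dot hb (fun χ _ => hv χ) fun χ _ => hv χ,
      ip_lft_lft rfl hz' hc h0 h0]
    exact ip_eq_dot (blockPart_comb w) (fun χ => ip_comb_irr w) fun χ => ip_comb_irr w
  · have h1 := lft_apply_eq_zero rfl hz' h0 (g := y) (by rwa [D.pelt.pPart_eq])
    rw [← hb, blockPart_apply_eq_sum_bset] at h1
    simp only [hv, D.val] at h1
    exact_mod_cast h1

theorem exists_norm_six {z : G} (hz : orderOf z = 2) (h : rk 2 M z = 2) (h6 : 6 ≤ fq 2 z)
    (h9 : 9 * 2 ^ fq 2 z < 64 * cc 2 M (centralizer ({z} : Set G))) :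
    ∃ v, SingV 2 (principalBlock M G) v ∧ v (irrOne G) = 1 ∧ dot (principalBlock M G) v v = 6 ∧
      ∀ y d, SecV 2 M y d → ¬ IsConj z y → dot (principalBlock M G) v d = 0 := by
  obtain ⟨e, he⟩ := Nat.exists_eq_add_of_le' (show 1 ≤ fq 2 z by omega)
  obtain ⟨w, h, g, k, a, b, w1, w2, w3, e1, e2, e3, e4, e5, e6, e7⟩ :=
    rank_two_central_lt hM (sf_pelt ⟨1, hz⟩) (sf_ne (by rintro rfl; simp at hz)) (sf_comm z) h he
  rw [he, pow_succ] at h9
  obtain rfl := two_big e1 e2 e3 e4 e5 e6 e7 (cc_pos hM) rfl (not_dvd_cc hM) (by omega)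
    (by push_cast; linarith)
  obtain ⟨v, v1, v2, v3, v4⟩ := exists_lift_orth hM hz w1
  exact ⟨v, v1, v2.trans w2, v3.trans w3, v4⟩

theorem SingV.moment {n : IrrCharacter G → ℤ} (hn : SingV 2 (principalBlock M G) n)
    {χ : IrrCharacter G} (hχ : χ ∈ principalBlock M G) :
    2 ^ (Nat.card G).factorization 2 * (n χ * n χ) ≤
      (2 ^ (Nat.card G).factorization 2 - |rw1 M χ|) * dot (principalBlock M G) n n := by
  classical
  have hB : IsPBlock M (principalBlock M G) := isPBlock_principalBlock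
  have h1 := abs_sum_cm_le (p := 2) (irrOne_mem_principalBlock (G := G) hM)
    fun ψ => if ψ = χ then 1 else 0
  simp only [ite_mul, one_mul, zero_mul, mul_ite, mul_one, mul_zero, Finset.sum_ite_eq',
    mem_bset, hχ, if_true] at h1
  have h2 := Finset.sum_mul_sq_le_sq_mul_sq (bset (principalBlock M G))
    (nv 2 (principalBlock M G) χ) n
  simp only [sq] at h2
  change dot _ _ _ * dot _ _ _ ≤ dot _ _ _ * dot _ _ _ at h2
  rw [hn.nv_dot hχ, (singV_nv hM hB hχ).nv_dot hχ, nv_self, blockDefect_principal hM] at h2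
  have h3 := dot_self_nonneg (B := principalBlock M G) n
  have h4 : (0 : ℤ) < 2 ^ (Nat.card G).factorization 2 := by positivity
  push_cast at h2
  refine le_trans (le_of_mul_le_mul_left (by linarith) h4) (mul_le_mul_of_nonneg_right
    (sub_le_sub_left h1 _) h3)

variable (hk : Nat.card (principalBlock M G) = 6)
include hk

theorem not_sixty_four (hd : (Nat.card G).factorization 2 = 6) (hc : cc 2 M G = 49)
    {W Y : IrrCharacter G → ℤ} {y : G} (D : SecV 2 M y Y) (hy : fq 2 y = 4)
    (h4 : ∀ χ : IrrCharacter G, (2 : ℤ) ^ 2 ∣ Y χ - charDegree χ.1)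
    (w1 : SingV 2 (principalBlock M G) W) (w2 : W (irrOne G) = 1)
    (w3 : dot (principalBlock M G) W W = 6) (w4 : dot (principalBlock M G) W Y = 0)
    (n1 : dot (principalBlock M G) nu Y = 0)
    (n2 : dot (principalBlock M G) nu (nv 2 (principalBlock M G) (irrOne G)) = 4) : False := by
  have hB : IsPBlock M (principalBlock M G) := isPBlock_principalBlock
  have h1 := irrOne_mem_principalBlock (G := G) hM
  obtain ⟨a, b, c, e, f, E⟩ := exists_sx2 hM hk
  have hN := singV_nv hM hB h1
  have y1 := D.norm hM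
  have y2 := (D.sing hM).nv_dot h1
  have w5 := w1.nv_dot h1
  have n3 := hN.nv_dot h1
  have n4 := nv_self (p := 2) (B := principalBlock M G) (irrOne G)
  have n5 := (w1.lc (D.sing hM) 16 4).lc hN 1 (-1) |>.moment hM E.en.me
  have o : ∀ χ, irrOne G ≠ χ → nv 2 (principalBlock M G) (irrOne G) χ = -rw1 M χ :=
    fun χ h => nv_ne h
  obtain ⟨⟨o1, o2, o3, o4, o5⟩, -⟩ := E.en.ne
  change _ = _ - cc 2 M G at n4
  rw [blockDefect_principal hM, hd] at y2 w5 n3 n4
  rw [hc] at n4
  rw [hy] at y1
  rw [n4] at n3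
  rw [D.one] at y2
  rw [w2] at w5
  simp only [lc_dot, dot_lc, dot_comm Y W, dot_comm Y (nv _ _ _), dot_comm W (nv _ _ _), hd, w3,
    w4, y1, y2, w5, n3, lc] at n5
  have k1 := (pow_dvd_rw1_iff hM E.en.md 2).not.1 (by have := E.oe; omega)
  have k2 := (D.par hM E.en.md).2 (show (2 : ℤ) ∣ rw1 M e by have := E.oe; omega)
  have k3 := h4 e
  simp only [E.en.dot_eq, D.one, w2, n4, nu_one, E.na] at y1 y2 w3 w4 w5 n1 n2 n3
  have := k6_q64 (νb := nu b) (νc := nu c) (ε := nu e) (δ := nu f) (yf := Y f) (ye := Y e)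
    (wa := W a) (wb := W b) (wc := W c) (we := W e) (wf := W f)
    (na := nv 2 (principalBlock M G) (irrOne G) a) (nb := nv 2 (principalBlock M G) (irrOne G) b)
    (nc := nv 2 (principalBlock M G) (irrOne G) c) (ne := nv 2 (principalBlock M G) (irrOne G) e)
    (nf := nv 2 (principalBlock M G) (irrOne G) f)
    (E.nbc.imp_right fun h => ⟨h.1, h.2.1, by rw [← h.2.2, D.bar], by
      rw [o b o2, o c o3, ← h.2.2, rw1_bar hM]⟩) E.ne E.nf ((D.par hM E.en.ma).not.2 E.oa)
    ((D.par hM E.en.mb).not.2 E.ob) ((D.par hM E.en.mc).not.2 E.oc) (by push_cast at k2; omega)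
    (by rw [o a o1, dvd_neg]; exact E.oa) (by rw [o b o2, dvd_neg]; exact E.ob)
    (by rw [o c o3, dvd_neg]; exact E.oc) (by have := E.oe; rw [o e o4]; omega)
    (by have := E.of; rw [o f o5]; omega)
    (by rw [o f o5, neg_ne_zero]; exact rw1_ne_zero hM E.en.me) (by push_cast at y1; linarith)
    (by linarith) (by push_cast at n3; linarith) (by linarith) (by push_cast at y2; linarith)
    (by push_cast at w5; linarith) (by linarith) (by push_cast at n2; linarith)
  rw [o f o5, abs_neg] at this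
  rw [o f o5] at n5
  push_cast at n5
  linarith

theorem not_two_one {X : Finset G} (R : Reps 2 X) [DecidableEq G] {z y : G} (e : X = {z, y})
    (zy : z ≠ y) (z2 : orderOf z = 2) (zq : fq 2 z = (Nat.card G).factorization 2)
    (hz : rk 2 M z = 2) (hy : rk 2 M y = 1) (yy : y * y ≠ 1) : False := by
  classical
  have hB : IsPBlock M (principalBlock M G) := isPBlock_principalBlock
  have h1 := irrOne_mem_principalBlock (G := G) hM
  have h4 := four_le_fact hM hk
  have mz : z ∈ X := by simp [e]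
  have my : y ∈ X := by simp [e]
  have mem : ∀ x ∈ X, x = z ∨ x = y := fun x hx => by simpa [e] using hx
  have zz := mul_self_of_two z2
  have hs : ∀ {A : Type} [AddCommMonoid A] (f : G → A), ∑ x ∈ X, f x = f z + f y :=
    fun f => by rw [e, Finset.sum_pair zy]
  have hl := R.card_eq hM
  have a1 := cc_cast (G := centralizer ({z} : Set G)) hM
  have a2 := ms_of_rk_one hM hy
  have a3 := six_ms_le hM ⟨1, z2⟩ (R.ne z mz) hz (by omega)
  obtain ⟨i, hi⟩ := Nat.exists_eq_add_of_le (fq_le (p := 2) y)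
  have h5 := R.cc_add hM
  change _ = _ ^ fq 2 z * ms 2 z at a1
  rw [hs] at h5 hl
  rw [zq] at a1 a3
  push_cast at a1 a2 h5
  have a4 : 2 ^ (Nat.card G).factorization 2 * ms 2 y = 2 ^ i := by
    rw [hi, pow_add]; linear_combination 2 ^ i * a2
  have a5 : cc 2 M G + cc 2 M (centralizer ({z} : Set G)) + 2 ^ i =
      2 ^ (Nat.card G).factorization 2 := by
    rw [← Int.cast_inj (α := ℝ)]
    push_cast
    linarith
  have n6 := not_dvd_cc (G := G) hM
  have n7 := not_dvd_cc (G := centralizer ({z} : Set G)) hM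
  push_cast at n6 n7
  have i0 : i ≠ 0 := by
    rintro rfl
    obtain ⟨r, hr⟩ : (16 : ℤ) ∣ _ := pow_dvd_pow (2 : ℤ) h4
    omega
  obtain ⟨Y, D⟩ := R.exists_secV hM my hy fun x hx h =>
    (mem x hx).resolve_left fun h' => by rw [h'] at h; omega
  have b6 : IsConj (y * y) z := by
    obtain ⟨x, hx, h⟩ := R.exists_conj (((R.pelt y my).mul_of_commute (R.pelt y my)
      (Commute.refl y))) yy
    rcases mem x hx with rfl | rfl
    exacts [h, (not_isConj_sq (R.pelt _ hx) (R.ne _ hx) h).elim]
  obtain ⟨s, s1, s2, s3⟩ := R.cube hM e zy zz zq b6 D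
  obtain rfl : s = i := by omega
  have nc : ¬ IsConj z y := fun h => zy (R.eq mz my h)
  have fam : 7 * 2 ^ (Nat.card G).factorization 2 ≤ 9 * cc 2 M G →
      32 * cc 2 M G < 27 * 2 ^ (Nat.card G).factorization 2 ∧
      ∀ n m, SingV 2 (principalBlock M G) n → SingV 2 (principalBlock M G) m →
        6 * (n (irrOne G) * n (irrOne G)) ≤ dot (principalBlock M G) n n ∧
        (dot (principalBlock M G) n n = 6 * (n (irrOne G) * n (irrOne G)) →
          dot (principalBlock M G) n m = 6 * (n (irrOne G) * m (irrOne G))) := fun h => by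
    have h64 : 64 ≤ 2 ^ (Nat.card G).factorization 2 :=
      Nat.pow_le_pow_right two_pos (show 6 ≤ _ by omega)
    have h2 := rank_three hM hB h1 (by omega) (blockDefect_principal hM) (c := cc 2 M G) rfl
      (by omega) (by omega) (not_dvd_cc hM) h
    simp only [List.mem_cons, Prod.mk.injEq, List.not_mem_nil, or_false, Nat.cast_ofNat] at h2
    obtain ⟨⟨a, ha, b, hb, a1, b1, ab, σ, τ, hσ, hτ, h2⟩, h3⟩ := h2.resolve_right (by omega)
    obtain ⟨c, d, f, E⟩ := exists_six h1 hk ha hb a1 b1 ab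
    refine ⟨h3.resolve_right (by omega), fun n m hn hm => ?_⟩
    have k : ∀ n m, SingV 2 (principalBlock M G) n → SingV 2 (principalBlock M G) m →
        dot (principalBlock M G) n m =
          6 * (n (irrOne G) * m (irrOne G)) + (n c * m c + n d * m d + n f * m f) :=
      fun n m hn hm => by
        rw [E.dot_eq, (h2 n hn).1, (h2 n hn).2, (h2 m hm).1, (h2 m hm).2]
        linear_combination (n (irrOne G) * m (irrOne G)) * (hσ + 4 * hτ)
    have k1 := mul_self_nonneg (n c)
    have k2 := mul_self_nonneg (n d)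
    have k3 := mul_self_nonneg (n f)
    rw [k n n hn hn, k n m hn hm]
    refine ⟨by linarith, fun h => ?_⟩
    rw [mul_self_eq_zero.1 (k1.antisymm' (by linarith)),
      mul_self_eq_zero.1 (k2.antisymm' (by linarith)),
      mul_self_eq_zero.1 (k3.antisymm' (by linarith))]
    ring
  by_cases h3 : 3 ≤ s
  · have t1 : (8 : ℤ) ≤ 2 ^ s := by exact_mod_cast Nat.pow_le_pow_right two_pos h3
    have t2 : (64 : ℤ) * 2 ^ s ≤ 2 ^ (Nat.card G).factorization 2 := by
      rw [s2, show 3 * s = s + s + s by ring, pow_add, pow_add]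
      exact mul_le_mul_of_nonneg_right (by nlinarith) (by positivity)
    obtain ⟨f1, f2⟩ := fam (by linarith)
    obtain ⟨W, w1, w2, w3, w4⟩ := exists_norm_six hM z2 hz (by omega) (by rw [zq]; linarith)
    have := (f2 W Y w1 (D.sing hM)).2 (by rw [w2, w3]; rfl)
    rw [w4 y Y D nc, w2, D.one] at this
    omega
  obtain rfl : s = 2 := by omega
  rw [s2] at a3 a5 fam
  norm_num at a3 a5 fam
  by_cases h6 : cc 2 M (centralizer ({z} : Set G)) = 11
  · obtain ⟨W, w1, w2, w3, w4⟩ := exists_norm_six hM z2 hz (by omega)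
      (by rw [zq, s2, h6]; norm_num)
    have b1 := D.nu_dot hM R
    have b2 := R.nu_dot_nv hM
    rw [hs, if_neg fun h => R.ne y my (by simpa [zz, eq_comm] using h),
      if_neg (not_isConj_sq (R.pelt y my) (R.ne y my)), add_zero, mul_zero, Int.cast_eq_zero] at b1
    rw [hs, if_pos zz, if_neg yy, zero_add, Nat.cast_ofNat, a4] at b2
    exact not_sixty_four hM hk s2 (by omega) D s1 s3 w1 w2 w3 (w4 y Y D nc) b1
      (by exact_mod_cast b2)
  · obtain ⟨f1, f2⟩ := fam (by omega)
    have hN := singV_nv hM hB h1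
    have n4 := nv_self (p := 2) (B := principalBlock M G) (irrOne G)
    have n5 := (f2 _ _ hN hN).1
    change _ = _ - cc 2 M G at n4
    rw [hN.nv_dot h1, n4, blockDefect_principal hM, s2] at n5
    have : cc 2 M G ≤ 53 := by omega
    push_cast at n5
    nlinarith

end BT.K5
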