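import Cfsg.Agent.Lib.Block.K6TwoFour
import Cfsg.Agent.Lib.Grp.Ess

/-!
# Four classes of `2`-elements when a centralizer is small
-/

set_option autoImplicit false
set_option linter.unusedSectionVars false

namespace BT.K5

open Cfsg CT GT Subgroup

variable {G : Type*} [Group G] [Finite G]

theorem four_mul_dvd_of_isConj {u v : G} (hv : orderOf v = 8) (hc : Commute u v)
    (h3 : IsConj v (v ^ 3)) (h5 : IsConj v (v ^ 5)) : orderOf u * 4 ∣ Nat.card G := by
  let φ := (zpowers v).normalizerMonoidHom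
  have hN : ∀ {g : G} {j : ℕ}, g * v * g⁻¹ = v ^ j → g ∈ normalizer (zpowers v : Set G) :=
    fun {g j} h => mem_normalizer_fintype fun n ⟨i, hi⟩ => by
      rw [← hi, ← conj_zpow, h]
      exact zpow_mem (pow_mem (mem_zpowers v) j) i
  have hφ : ∀ g : normalizer (zpowers v : Set G),
      ((φ g ⟨v, mem_zpowers v⟩ : zpowers v) : G) = g * v * (g : G)⁻¹ := fun _ => rfl
  obtain ⟨a, ha⟩ := isConj_iff.1 h3
  obtain ⟨b, hb⟩ := isConj_iff.1 h5
  have hne : ∀ {g g' : normalizer (zpowers v : Set G)} {i j : ℕ}, (g : G) * v * (g : G)⁻¹ = v ^ i →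
      (g' : G) * v * (g' : G)⁻¹ = v ^ j → i < 8 → j < 8 → i ≠ j → φ.rangeRestrict g ≠ φ.rangeRestrict g' := by
    intro g g' i j h h' hi hj hij e
    have e' : φ g = φ g' := congrArg Subtype.val e
    have h1 := hφ g
    rw [e', hφ, h, h'] at h1
    exact hij (pow_injOn_Iio_orderOf (by rwa [hv]) (by rwa [hv]) h1).symm
  have h1 : 2 < Nat.card φ.range := by
    classical
    have := Fintype.ofFinite φ.range
    rw [Nat.card_eq_fintype_card, ← Finset.card_univ, Finset.two_lt_card_iff]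
    exact ⟨φ.rangeRestrict 1, φ.rangeRestrict ⟨a, hN ha⟩, φ.rangeRestrict ⟨b, hN hb⟩,
      Finset.mem_univ _, Finset.mem_univ _, Finset.mem_univ _,
      hne (i := 1) (by simp) ha (by omega) (by omega) (by omega),
      hne (i := 1) (by simp) hb (by omega) (by omega) (by omega),
      hne ha hb (by omega) (by omega) (by omega)⟩
  have h2 : Nat.card φ.range ∣ 4 := by
    have := card_subgroup_dvd_card φ.range
    rwa [IsCyclic.card_mulAut, Nat.card_zpowers, hv] at this
  have h4 : Nat.card φ.range = 4 := by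
    have := Nat.le_of_dvd (by omega) h2
    interval_cases Nat.card φ.range <;> omega
  have hu : u * v * u⁻¹ = v ^ 1 := by rw [hc.eq, pow_one, mul_inv_cancel_right]
  have h6 : (⟨u, hN hu⟩ : normalizer (zpowers v : Set G)) ∈ φ.ker := by
    rw [normalizerMonoidHom_ker, mem_subgroupOf]
    rintro _ ⟨i, rfl⟩
    exact (hc.zpow_right i).eq.symm
  have h7 := orderOf_dvd_natCard (⟨_, h6⟩ : φ.ker)
  rw [← orderOf_coe, ← orderOf_coe] at h7
  refine (Nat.mul_dvd_mul_right h7 4).trans ?_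
  rw [← h4, ← index_ker, card_mul_index]
  exact card_subgroup_dvd_card _

theorem Reps.exists_four {X : Finset G} (R : Reps 2 X) (h4 : 4 ≤ (Nat.card G).factorization 2)
    {x : G} (hx : x ∈ X) (h : fq 2 x ≤ 2) :
    ∃ Y, Y ⊆ X ∧ Y.card = 4 ∧ ∀ y ∈ Y, 3 ≤ fq 2 y := by
  classical
  obtain ⟨P, hP⟩ := (R.pelt x hx).exists_mem_sylow
  have h1 : Nat.card (centralizer ({(⟨x, hP⟩ : (P : Subgroup G))} : Set (P : Subgroup G))) ≤ 4 := by
    obtain ⟨k, hk⟩ := IsPGroup.iff_card.1 (P.isPGroup'.to_subgroup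
      (centralizer ({(⟨x, hP⟩ : (P : Subgroup G))} : Set (P : Subgroup G))))
    have h2 : k ≤ fq 2 x := le_fq (Q := (centralizer ({(⟨x, hP⟩ : (P : Subgroup G))} :
        Set (P : Subgroup G))).map (P : Subgroup G).subtype) (by
      rintro _ ⟨g, hg, rfl⟩
      exact mem_centralizer_singleton_iff.2
        (congrArg Subtype.val (mem_centralizer_singleton_iff.1 hg))) (by
      rw [card_map_of_injective (subtype_injective _), hk])
    rw [hk]
    exact Nat.pow_le_pow_right (by omega) (h2.trans h)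
  obtain ⟨u', hu'⟩ := exists_orderOf_of_card_centralizer_le P.isPGroup' h1
  rw [← orderOf_coe, P.card_eq_multiplicity] at hu'
  have hp : IsPElt 2 (u' : G) := isPElt_of_mem_sylow P u'.2
  generalize (u' : G) = u at hu' hp
  obtain ⟨r, hr⟩ := id hp
  have h2 : (Nat.card G).factorization 2 ≤ r + 1 := by
    rw [hr, ← pow_succ'] at hu'
    exact (Nat.pow_le_pow_iff_right (by omega)).1 hu'
  obtain ⟨s, rfl⟩ : ∃ s, r = s + 3 := ⟨r - 3, by omega⟩
  have hv : orderOf (u ^ 2 ^ s) = 8 := by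
    rw [orderOf_pow_of_dvd (by positivity) (hr ▸ pow_dvd_pow 2 (by omega)), hr, pow_add,
      Nat.mul_div_cancel_left _ (by positivity)]
    rfl
  set v := u ^ 2 ^ s with hvd
  have hc : Commute u v := Commute.self_pow u _
  obtain ⟨j, hj, hj'⟩ : ∃ j, Nat.gcd 8 j = 1 ∧ ¬ IsConj v (v ^ j) := by
    by_contra h3
    push Not at h3
    have := four_mul_dvd_of_isConj hv hc (h3 3 rfl) (h3 5 rfl)
    rw [hr, show 4 = 2 ^ 2 from rfl, ← pow_add,
      Nat.prime_two.pow_dvd_iff_le_factorization Nat.card_pos.ne'] at this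
    omega
  have ho : ∀ i, orderOf (v ^ i) = 8 / Nat.gcd 8 i := fun i => by rw [orderOf_pow, hv]
  have key : ∀ i, 8 / Nat.gcd 8 i ≠ 1 → ∃ y ∈ X, IsConj (v ^ i) y ∧ orderOf y = 8 / Nat.gcd 8 i ∧
      3 ≤ fq 2 y := fun i hi => by
    obtain ⟨y, hy, e⟩ := R.exists_conj ((hp.pow _).pow i) fun e => hi (by
      rw [← ho, orderOf_eq_one_iff]; exact e)
    refine ⟨y, hy, e, by rw [← ho, orderOf_eq_of_isConj e], ?_⟩
    rw [← fq_eq_of_isConj e]
    exact le_fq (Q := zpowers u) (zpowers_le.2 (mem_centralizer_singleton_iff.2 (hc.pow_right i).eq))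
      (by rw [Nat.card_zpowers, hr]; exact pow_dvd_pow 2 (by omega))
  obtain ⟨a, a1, a2, a3, a4⟩ := key 1 (by decide)
  obtain ⟨b, b1, -, b3, b4⟩ := key 2 (by decide)
  obtain ⟨c, c1, -, c3, c4⟩ := key 4 (by decide)
  obtain ⟨d, d1, d2, d3, d4⟩ := key j (by rw [hj]; decide)
  rw [hj] at d3
  norm_num at a3 b3 c3 d3
  have ne : ∀ {y z : G}, orderOf y ≠ orderOf z → y ≠ z := fun h e => h (e ▸ rfl)
  have had : a ≠ d := fun e => hj' ((pow_one v ▸ a2).trans (e ▸ d2.symm))
  refine ⟨{a, b, c, d}, by simp [Finset.insert_subset_iff, a1, b1, c1, d1], ?_, by simp [*]⟩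
  rw [Finset.card_eq_four]
  exact ⟨a, b, c, d, ne (by omega), ne (by omega), had, ne (by omega), ne (by omega),
    ne (by omega), rfl⟩

end BT.K5
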