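import Cfsg.Agent.Lib.Lin.TISylow
import Cfsg.Agent.Lib.Char.SymSq
import Cfsg.Agent.Lib.Block.CycLB

/-!
# Lattices over a valuation subring of `ℂ` and their reductions

`Lat.Red k`: a valuation subring `O` of `ℂ` with residue field `k`.
`R.IsRed χ σ`: the `k`-representation `σ` is the reduction of an `O`-lattice affording `χ`.
-/

set_option autoImplicit false
set_option linter.unusedSectionVars false

namespace BT.Lat

open Cfsg CT Module
open scoped ComplexConjugate Kronecker Matrix MonoidAlgebra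

/-- A valuation subring of `ℂ` with residue field `k`. -/
structure Red (k : Type) [Field k] where
  O : ValuationSubring ℂ
  r : O →+* k
  surj : Function.Surjective r
  ker : ∀ c : O, r c = 0 ↔ O.valuation c < 1

/-- Pivoting: a finite spanning family contains a basis in which all members are integral. -/
theorem exists_pivot (O : ValuationSubring ℂ) {V ι : Type*} [AddCommGroup V] [Module ℂ V]
    [FiniteDimensional ℂ V] [Finite ι] (v : ι → V) (hv : ⊤ ≤ Submodule.span ℂ (Set.range v)) :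
    ∃ (τ : Fin (finrank ℂ V) → ι) (b : Basis (Fin (finrank ℂ V)) ℂ V), (∀ j, b j = v (τ j)) ∧
      ∀ i j, b.repr (v i) j ∈ O := by
  classical
  let e := Module.finBasis ℂ V
  obtain ⟨κ, a, -, h1, h2⟩ := exists_linearIndependent' ℂ v
  let b₀ := Basis.mk h2 (h1.symm ▸ hv)
  let τ₀ := a ∘ (e.indexEquiv b₀)
  have h3 : e.det (v ∘ τ₀) ≠ 0 := by
    have := (e.isUnit_det (b₀.reindex (e.indexEquiv b₀).symm)).ne_zero
    convert this using 2
    funext j
    simp [b₀, τ₀]
  obtain ⟨τ, -, hτ⟩ := Set.exists_max_image (Set.univ : Set (Fin (finrank ℂ V) → ι))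
    (fun τ => O.valuation (e.det (v ∘ τ))) (Set.toFinite _) ⟨τ₀, trivial⟩
  have h4 : 0 < O.valuation (e.det (v ∘ τ)) :=
    (zero_lt_iff.2 (O.valuation.ne_zero_iff.2 h3)).trans_le (hτ τ₀ trivial)
  have h5 : e.det (v ∘ τ) ≠ 0 := O.valuation.ne_zero_iff.1 h4.ne'
  obtain ⟨hli, hsp⟩ := e.is_basis_iff_det.2 h5.isUnit
  refine ⟨τ, Basis.mk hli hsp.ge, fun j => by simp, fun i j => ?_⟩
  have h6 := LinearMap.congr_fun (e.det_smul_mk_coord_eq_det_update hli hsp.ge j) (v i)
  rw [LinearMap.smul_apply, smul_eq_mul, Basis.coord_apply, MultilinearMap.toLinearMap_apply,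
    ← Function.comp_update] at h6
  rw [← O.valuation_le_one_iff, eq_div_of_mul_eq h5 ((mul_comm _ _).trans h6), map_div₀]
  exact div_le_one_of_le₀ (hτ _ trivial) zero_le

theorem exists_red {p : ℕ} (hp : p.Prime) :
    ∃ (k : Type) (_ : Field k) (_ : CharP k p) (_ : IsAlgClosed k), Nonempty (Red k) := by
  obtain ⟨O, hO⟩ := LG.exists_valuationSubring_prime hp
  have hr : ∀ c : O, IsLocalRing.residue O c = 0 ↔ O.valuation c < 1 := fun c =>
    (IsLocalRing.residue_eq_zero_iff c).trans (O.valuation_lt_one_iff c)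
  refine ⟨IsLocalRing.ResidueField O, inferInstance, ?_, ?_,
    ⟨⟨O, _, IsLocalRing.residue_surjective, hr⟩⟩⟩
  · refine (CharP.charP_iff_prime_eq_zero hp).2 ?_
    rw [← map_natCast (IsLocalRing.residue O), hr]
    simpa using hO
  · refine IsAlgClosed.of_exists_root _ fun q hq hi => ?_
    obtain ⟨Q, h1, h2, h3⟩ := Polynomial.lifts_and_degree_eq_and_monic
      (Polynomial.mem_lifts_of_surjective IsLocalRing.residue_surjective q) hq
    obtain ⟨z, hz⟩ := IsAlgClosed.exists_aeval_eq_zero ℂ Q (h2 ▸ (Polynomial.degree_pos_of_irreducible hi).ne')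
    obtain ⟨y, rfl⟩ := IsIntegrallyClosed.isIntegral_iff.1 (⟨Q, h3, hz⟩ : IsIntegral O z)
    refine ⟨IsLocalRing.residue O y, ?_⟩
    rw [Polynomial.aeval_algebraMap_eq_zero_iff_of_injective Subtype.val_injective,
      Polynomial.coe_aeval_eq_eval] at hz
    rw [← h1, Polynomial.eval_map, Polynomial.eval₂_hom, hz, map_zero]

section transfer

variable {K V G : Type*} [Field K] [AddCommGroup V] [Module K V] [Group G]

/-- The representation given by matrices. -/
noncomputable def matRep' {n : Type*} [Fintype n] [DecidableEq n] (ρ : G →* Matrix n n K) :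
    Representation K G (n → K) :=
  (Matrix.toLinAlgEquiv' (R := K)).toMonoidHom.comp ρ

variable (σ : Representation K G V) (H : Subgroup G) [Fintype (G ⧸ H)]

theorem apply_out {v : V} (hv : ∀ x ∈ H, σ x v = v) (g : G) : σ (g : G ⧸ H).out v = σ g v := by
  obtain ⟨h, hh⟩ := QuotientGroup.mk_out_eq_mul H g
  rw [hh, map_mul, End.mul_apply, hv h h.2]

theorem apply_smul_out {v : V} (hv : ∀ x ∈ H, σ x v = v) (g : G) (q : G ⧸ H) :
    σ (g • q).out v = σ g (σ q.out v) := by
  obtain ⟨x, rfl⟩ := QuotientGroup.mk_surjective q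
  rw [MulAction.Quotient.smul_mk, apply_out σ H hv, apply_out σ H hv, smul_eq_mul, map_mul,
    End.mul_apply]

theorem sum_out_mem_invariants {v : V} (hv : ∀ x ∈ H, σ x v = v) :
    ∑ q : G ⧸ H, σ q.out v ∈ σ.invariants := fun g => by
  rw [map_sum]
  exact Fintype.sum_equiv (MulAction.toPerm g) _ _ fun q => (apply_smul_out σ H hv g q).symm

/-- The relative trace is the identity modulo the absolute trace. -/
theorem exists_sum_out_eq [Fintype H]
    (hH : ∀ g ∉ H, (Nat.card (MulAction.stabilizer H (g : G ⧸ H)) : K) ≠ 0) {v : V}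
    (hv : ∀ x ∈ H, σ x v = v) : ∃ w, ∑ q : G ⧸ H, σ q.out v = v + ∑ x : H, σ x w := by
  classical
  have h1 : ∀ (x : H) (q : G ⧸ H), x • q = ((1 : G) : G ⧸ H) ↔ q = ((1 : G) : G ⧸ H) := by
    intro x q
    rw [smul_eq_iff_eq_inv_smul, show x⁻¹ • ((1 : G) : G ⧸ H) = ((1 : G) : G ⧸ H) from
      QuotientGroup.eq.2 (by simp)]
  obtain ⟨w, hw⟩ := exists_sum_eq_sum_of_stabilizer (k := K) (H := H) (X := G ⧸ H)
    (fun x => σ x) (fun q => if q = ((1 : G) : G ⧸ H) then 0 else σ q.out v)
    (fun x q => by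
      simp only [h1]
      split_ifs
      · rw [map_zero]
      · exact apply_smul_out σ H hv x q)
    (fun q hq => by
      obtain ⟨g, rfl⟩ := QuotientGroup.mk_surjective q
      exact hH g fun hg => hq (if_pos (QuotientGroup.eq.2 (by simpa using hg))))
  refine ⟨w, ?_⟩
  rw [← hw, ← Finset.add_sum_erase _ _ (Finset.mem_univ ((1 : G) : G ⧸ H)),
    ← Finset.add_sum_erase _ _ (Finset.mem_univ ((1 : G) : G ⧸ H)), if_pos rfl, zero_add,
    apply_out σ H hv, map_one, End.one_apply]
  exact congrArg _ (Finset.sum_congr rfl fun q hq => (if_neg (Finset.mem_erase.1 hq).1).symm)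

end transfer

namespace Red

variable {k : Type} [Field k] (R : Red k)

section sub

variable {n : Type*} [Fintype n]

/-- The reduction of the integral vectors of a subspace. -/
def sub (U : Submodule ℂ (n → ℂ)) : Submodule k (n → k) where
  carrier := {w | ∃ u : n → R.O, (fun i => (u i : ℂ)) ∈ U ∧ w = fun i => R.r (u i)}
  add_mem' := by
    rintro _ _ ⟨u, h, rfl⟩ ⟨u', h', rfl⟩
    exact ⟨u + u', U.add_mem h h', funext fun i => (map_add R.r _ _).symm⟩
  zero_mem' := ⟨0, U.zero_mem, funext fun i => (map_zero R.r).symm⟩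
  smul_mem' := by
    rintro c _ ⟨u, h, rfl⟩
    obtain ⟨c, rfl⟩ := R.surj c
    exact ⟨c • u, U.smul_mem (c : ℂ) h, funext fun i => (map_mul R.r _ _).symm⟩

theorem mem_sub {U : Submodule ℂ (n → ℂ)} {w : n → k} : w ∈ R.sub U ↔
    ∃ u : n → R.O, (fun i => (u i : ℂ)) ∈ U ∧ w = fun i => R.r (u i) := Iff.rfl

theorem linearIndependent_of_red {κ : Type*} [Finite κ] (u : κ → n → R.O)
    (h : LinearIndependent k fun j i => R.r (u j i)) :
    LinearIndependent ℂ fun j i => (u j i : ℂ) := by
  have := Fintype.ofFinite κ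
  by_contra hd
  obtain ⟨c, hc, y₀, hy₀⟩ := Fintype.not_linearIndependent_iff.1 hd
  obtain ⟨y₁, -, hy₁⟩ := Set.exists_max_image (Set.univ : Set κ) (fun y => R.O.valuation (c y))
    (Set.toFinite _) ⟨y₀, trivial⟩
  have h1 : c y₁ ≠ 0 := R.O.valuation.ne_zero_iff.1
    ((zero_lt_iff.2 (R.O.valuation.ne_zero_iff.2 hy₀)).trans_le (hy₁ y₀ trivial)).ne'
  let d : κ → R.O := fun y => ⟨c y / c y₁, (R.O.valuation_le_one_iff _).1 (by
    rw [map_div₀]; exact div_le_one_of_le₀ (hy₁ y trivial) zero_le)⟩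
  have h2 : ∀ i, ∑ y, d y * u y i = 0 := fun i => Subtype.ext (by
    have := congrFun hc i
    simp only [Finset.sum_apply, Pi.smul_apply, smul_eq_mul, Pi.zero_apply] at this
    simp [d, div_mul_eq_mul_div, ← Finset.sum_div, this])
  have h3 := Fintype.linearIndependent_iff.1 h (fun y => R.r (d y)) (funext fun i => by
    simpa [map_sum] using congrArg R.r (h2 i)) y₁
  rw [show d y₁ = 1 from Subtype.ext (div_self h1), map_one] at h3
  exact one_ne_zero h3

theorem finrank_sub (U : Submodule ℂ (n → ℂ)) : finrank k (R.sub U) = finrank ℂ U := by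
  classical
  refine le_antisymm ?_ ?_
  · let b := Module.finBasis k (R.sub U)
    choose u h1 h2 using fun j => (b j).2
    have h3 := R.linearIndependent_of_red u ((funext h2 : (R.sub U).subtype ∘ b = _) ▸
      b.linearIndependent.map' (R.sub U).subtype (Submodule.ker_subtype _))
    simpa using (LinearIndependent.of_comp (v := fun j => (⟨_, h1 j⟩ : U)) U.subtype
      h3).fintype_card_le_finrank
  · obtain ⟨τ, b, h1, h2⟩ := exists_pivot R.O (V := Dual ℂ U)
      (fun i : n => (LinearMap.proj i).comp U.subtype) (fun f _ => by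
        obtain ⟨g, rfl⟩ := LinearMap.dualMap_surjective_of_injective U.subtype_injective f
        rw [← (Pi.basisFun ℂ n).dualBasis.sum_repr g, map_sum]
        refine Submodule.sum_mem _ fun i _ => ?_
        rw [map_smul]
        refine Submodule.smul_mem _ _ (Submodule.subset_span ⟨i, ?_⟩)
        ext x
        simp)
    let e := Module.evalEquiv ℂ U
    have h3 : ∀ j i, (e.symm (b.coord j) : n → ℂ) i =
        b.repr ((LinearMap.proj i).comp U.subtype) j := fun j i =>
      Module.apply_evalEquiv_symm_apply ℂ U ((LinearMap.proj i).comp U.subtype) (b.coord j)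
    let u : _ → n → R.O := fun j i => ⟨(e.symm (b.coord j) : n → ℂ) i, h3 j i ▸ h2 i j⟩
    have h4 : ∀ j j', R.r (u j (τ j')) = if j' = j then 1 else 0 := fun j j' => by
      have : u j (τ j') = if j' = j then 1 else 0 := Subtype.ext (by
        rw [show (u j (τ j') : ℂ) = _ from h3 j (τ j'), ← h1, b.repr_self, Finsupp.single_apply]
        split_ifs <;> rfl)
      rw [this]
      split_ifs <;> simp
    have h5 : LinearIndependent k fun j => (⟨fun i => R.r (u j i), u j,
        (e.symm (b.coord j)).2, rfl⟩ : R.sub U) := by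
      refine Fintype.linearIndependent_iff.2 fun c hc j => ?_
      have := congrFun (congrArg Subtype.val hc) (τ j)
      simpa [h4] using this
    simpa using h5.fintype_card_le_finrank

theorem r_mulVec (E : Matrix n n R.O) (u : n → R.O) :
    (fun i => R.r ((E *ᵥ u) i)) = E.map R.r *ᵥ fun i => R.r (u i) :=
  funext fun i => RingHom.map_mulVec R.r E u i

theorem coe_mulVec (E : Matrix n n R.O) (u : n → R.O) :
    (fun i => ((E *ᵥ u) i : ℂ)) = E.map R.O.subtype *ᵥ fun i => (u i : ℂ) :=
  funext fun i => RingHom.map_mulVec R.O.subtype E u i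

variable [DecidableEq n]

theorem finrank_range_idem {E : Matrix n n R.O} (hE : E * E = E) :
    (finrank k (LinearMap.range (Matrix.toLin' (E.map R.r))) : ℂ) = (E.trace : R.O) := by
  have h : IsIdempotentElem (Matrix.toLin' (E.map R.O.subtype)) := by
    rw [IsIdempotentElem, Module.End.mul_eq_comp, ← Matrix.toLin'_mul, ← Matrix.map_mul, hE]
  have h1 := (LinearMap.IsIdempotentElem.isProj_range _ h).trace
  rw [Matrix.trace_toLin'_eq, ← R.finrank_sub] at h1
  rw [show ((E.trace : R.O) : ℂ) = _ from AddMonoidHom.map_trace R.O.subtype E, h1]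
  congr 1
  refine congrArg (fun U : Submodule k (n → k) => finrank k U) (Submodule.ext fun w => ⟨?_, ?_⟩)
  · rintro ⟨v, rfl⟩
    choose u hu using fun i => R.surj (v i)
    refine ⟨E *ᵥ u, ⟨_, (R.coe_mulVec E u).symm⟩, ?_⟩
    rw [R.r_mulVec, funext hu, Matrix.toLin'_apply]
  · rintro ⟨u, ⟨v, hv⟩, rfl⟩
    have h3 : (fun i => ((E *ᵥ u) i : ℂ)) = fun i => (u i : ℂ) := by
      rw [R.coe_mulVec, ← hv, ← Matrix.toLin'_apply, ← Module.End.mul_apply, h.eq]
    have h2 : E *ᵥ u = u := funext fun i => Subtype.ext (congrFun h3 i)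
    exact ⟨_, by rw [Matrix.toLin'_apply, ← R.r_mulVec, h2]⟩

theorem exists_inv {o : ℕ} (ho : (o : k) ≠ 0) : ∃ c : R.O, c * o = 1 := by
  have h1 : ¬ R.O.valuation (o : R.O) < 1 := fun h => ho (by
    rw [← map_natCast R.r, R.ker]; exact h)
  exact ((R.O.valuation_eq_one_iff _).2
    (le_antisymm (R.O.valuation_le_one _) (not_lt.1 h1))).exists_left_inv

theorem finrank_ker_mul {Y : Matrix n n R.O} {o : ℕ} (ho : (o : k) ≠ 0) (hY : Y ^ o = 1) :
    (finrank k (LinearMap.ker (Matrix.toLin' (Y.map R.r) - 1)) : ℂ) * o =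
      ∑ i ∈ Finset.range o, (((Y ^ i).trace : R.O) : ℂ) := by
  obtain ⟨c, hc⟩ := R.exists_inv ho
  set S := ∑ i ∈ Finset.range o, Y ^ i with hS
  have h1 : Y * S = S := by rw [← sub_eq_zero, ← sub_one_mul, mul_geom_sum, hY, sub_self]
  have h2 : ∀ i, Y ^ i * S = S := fun i => by
    induction i with
    | zero => simp
    | succ i ih => rw [pow_succ, mul_assoc, h1, ih]
  have h3 := R.finrank_range_idem (E := c • S) (by
    rw [smul_mul_smul_comm]
    conv_lhs => rw [hS, Finset.sum_mul, ← hS]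
    rw [Finset.sum_congr rfl fun i _ => h2 i, Finset.sum_const, Finset.card_range,
      ← Nat.cast_smul_eq_nsmul R.O, smul_smul, mul_assoc, hc, mul_one])
  have h4 : LinearMap.range (Matrix.toLin' ((c • S).map R.r)) =
      LinearMap.ker (Matrix.toLin' (Y.map R.r) - 1) := by
    refine Submodule.ext fun w => ⟨?_, fun h => ⟨w, ?_⟩⟩
    · rintro ⟨v, rfl⟩
      rw [LinearMap.mem_ker, LinearMap.sub_apply, ← LinearMap.comp_apply, ← Matrix.toLin'_mul,
        ← Matrix.map_mul, mul_smul_comm, h1, End.one_apply, sub_self]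
    · have h5 : ∀ i, (Y ^ i).map R.r *ᵥ w = w := fun i => by
        induction i with
        | zero => simp
        | succ i ih =>
          rw [pow_succ, Matrix.map_mul, ← Matrix.mulVec_mulVec,
            show Y.map R.r *ᵥ w = w from sub_eq_zero.1 h, ih]
      rw [Matrix.toLin'_apply, Matrix.map_smul' _ _ _ (map_mul R.r), Matrix.smul_mulVec,
        show S.map R.r = ∑ i ∈ Finset.range o, (Y ^ i).map R.r from map_sum R.r.mapMatrix _ _,
        Matrix.sum_mulVec, Finset.sum_congr rfl fun i _ => h5 i, Finset.sum_const,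
        Finset.card_range, ← Nat.cast_smul_eq_nsmul k, smul_smul, ← map_natCast R.r, ← map_mul, hc,
        map_one, one_smul]
  rw [← h4, h3, Matrix.trace_smul, smul_eq_mul, MulMemClass.coe_mul, mul_right_comm,
    show (c : ℂ) * o = 1 from congrArg Subtype.val hc, one_mul, hS, Matrix.trace_sum]
  simp

end sub

variable {G : Type*} [Group G]
variable {V W : Type*} [AddCommGroup V] [Module k V] [AddCommGroup W] [Module k W]

/-- `σ` is the reduction of a lattice affording `χ`. -/
def IsRed (χ : G → ℂ) (σ : Representation k G V) : Prop :=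
  ∃ (n : Type) (_ : Fintype n) (_ : DecidableEq n) (ρ : G →* Matrix n n R.O) (b : Basis n k V),
    (∀ g, (((ρ g).trace : R.O) : ℂ) = χ g) ∧ ∀ g, LinearMap.toMatrix b b (σ g) = (ρ g).map R.r

/-- The complex matrix representation of a lattice. -/
noncomputable def cx {n : Type} [Fintype n] [DecidableEq n] (ρ : G →* Matrix n n R.O) : G →* Matrix n n ℂ :=
  R.O.subtype.mapMatrix.toMonoidHom.comp ρ

theorem trace_cx {n : Type} [Fintype n] [DecidableEq n] (ρ : G →* Matrix n n R.O) (g : G) :
    (R.cx ρ g).trace = ((ρ g).trace : R.O) := (AddMonoidHom.map_trace R.O.subtype (ρ g)).symm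

variable {R} {χ ψ : G → ℂ} {σ : Representation k G V} {τ : Representation k G W}

namespace IsRed

theorem finite (h : R.IsRed χ σ) : FiniteDimensional k V := by
  obtain ⟨n, _, _, ρ, b, -, -⟩ := h
  exact Module.Finite.of_basis b

theorem isCharacter (h : R.IsRed χ σ) : IsCharacter G χ := by
  obtain ⟨n, _, _, ρ, b, h1, -⟩ := h
  rw [← funext fun g => (R.trace_cx ρ g).trans (h1 g)]
  exact isCharacter_of_matrix_rep _

theorem finrank_eq (h : R.IsRed χ σ) : finrank k V = charDegree χ := by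
  obtain ⟨n, _, _, ρ, b, h1, -⟩ := h
  rw [finrank_eq_card_basis b, eq_comm]
  exact charDegree_eq_of_apply_one (by rw [← h1, map_one, Matrix.trace_one]; simp)

theorem tprod (h : R.IsRed χ σ) (h' : R.IsRed ψ τ) : R.IsRed (χ * ψ) (σ.tprod τ) := by
  obtain ⟨n, _, _, ρ, b, h1, h2⟩ := h
  obtain ⟨m, _, _, ρ', b', h3, h4⟩ := h'
  refine ⟨n × m, inferInstance, inferInstance,
    { toFun := fun g => ρ g ⊗ₖ ρ' g
      map_one' := by rw [map_one, map_one, Matrix.one_kronecker_one]
      map_mul' := fun g g' => by rw [map_mul, map_mul, Matrix.mul_kronecker_mul] },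
    b.tensorProduct b', fun g => ?_, fun g => ?_⟩
  · simp [Matrix.trace_kronecker, h1, h3]
  · rw [Representation.tprod_apply, TensorProduct.toMatrix_map, h2, h4]
    ext i j
    simp

theorem linHom [Finite G] (h : R.IsRed χ σ) (h' : R.IsRed ψ τ) :
    R.IsRed (ψ * cbar χ) (σ.linHom τ) := by
  have h0 := h.isCharacter
  obtain ⟨n, _, _, ρ, b, h1, h2⟩ := h
  obtain ⟨m, _, _, ρ', b', h3, h4⟩ := h'
  refine ⟨m × n, inferInstance, inferInstance,
    { toFun := fun g => ρ' g ⊗ₖ (ρ g⁻¹)ᵀ
      map_one' := by rw [inv_one, map_one, map_one, Matrix.transpose_one, Matrix.one_kronecker_one]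
      map_mul' := fun g g' => by
        rw [mul_inv_rev, map_mul, map_mul, Matrix.transpose_mul, Matrix.mul_kronecker_mul] },
    b.linearMap b', fun g => ?_, fun g => ?_⟩
  · simp [Matrix.trace_kronecker, h1, h3, h0.apply_inv, cbar]
  · ext ⟨i, j⟩ ⟨i', j'⟩
    rw [LinearMap.toMatrix_apply, Basis.linearMap_repr_apply, Representation.linHom_apply,
      Basis.linearMap_apply]
    simp only [LinearMap.toMatrix_comp b b' b', LinearMap.toMatrix_comp b b b', h2, h4,
      Matrix.stdBasis_eq_single, LinearMap.toMatrix_toLin]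
    simp [Matrix.stdBasis, Matrix.mul_apply, Matrix.single_apply, ite_and]

theorem dual [Finite G] (h : R.IsRed χ σ) : R.IsRed (cbar χ) σ.dual := by
  have h0 := h.isCharacter
  obtain ⟨n, _, _, ρ, b, h1, h2⟩ := h
  refine ⟨n, inferInstance, inferInstance,
    { toFun := fun g => (ρ g⁻¹)ᵀ
      map_one' := by rw [inv_one, map_one, Matrix.transpose_one]
      map_mul' := fun g g' => by rw [mul_inv_rev, map_mul, Matrix.transpose_mul] },
    b.dualBasis, fun g => ?_, fun g => ?_⟩
  · simp [h1, h0.apply_inv, cbar]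
  · rw [Representation.dual_apply, LinearMap.toMatrix_transpose, h2]
    rfl

theorem finrank_eigenspace (h : R.IsRed χ σ) {y : G} {o : ℕ} (hy : y ^ o = 1) (ho : (o : k) ≠ 0)
    {β : R.O} (hβ : β ^ o = 1) : (finrank k (End.eigenspace (σ y) (R.r β)) : ℂ) * o =
      ∑ i ∈ Finset.range o, (β : ℂ)⁻¹ ^ i * χ (y ^ i) := by
  obtain ⟨n, _, _, ρ, b, h1, h2⟩ := h
  have h0 : o ≠ 0 := by rintro rfl; simp at ho
  have h3 : β ^ (o - 1) * β = 1 := by rw [← pow_succ, Nat.sub_add_cancel (by omega), hβ]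
  have h4 := R.finrank_ker_mul (Y := β ^ (o - 1) • ρ y) ho
    (by rw [smul_pow, ← map_pow, hy, map_one, ← pow_mul, mul_comm, pow_mul, hβ, one_pow, one_smul])
  have h5 : (β : ℂ) ^ (o - 1) = (β : ℂ)⁻¹ :=
    eq_inv_of_mul_eq_one_left (congrArg Subtype.val h3)
  simp only [smul_pow, Matrix.trace_smul, smul_eq_mul, ← map_pow, MulMemClass.coe_mul, h1,
    SubmonoidClass.coe_pow _ _, h5] at h4
  rw [← h4, ← LinearEquiv.finrank_map_eq b.equivFun]
  congr 2
  refine congrArg (fun U : Submodule k (n → k) => finrank k U) (Submodule.ext fun w => ?_)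
  obtain ⟨v, rfl⟩ := b.equivFun.surjective w
  rw [Submodule.mem_map_equiv, LinearEquiv.symm_apply_apply, End.mem_eigenspace_iff,
    LinearMap.mem_ker, LinearMap.sub_apply, sub_eq_zero, Matrix.toLin'_apply,
    Matrix.map_smul' _ _ _ (map_mul R.r), ← h2, Matrix.smul_mulVec, Basis.equivFun_apply,
    LinearMap.toMatrix_mulVec_repr, End.one_apply]
  have h6 : R.r (β ^ (o - 1)) * R.r β = 1 := by rw [← map_mul, h3, map_one]
  refine ⟨fun h => by rw [h, map_smul, Finsupp.coe_smul, smul_smul, h6, one_smul], fun h => ?_⟩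
  refine b.repr.injective (DFunLike.coe_injective ?_)
  rw [map_smul, Finsupp.coe_smul, ← h, smul_smul, mul_comm, h6, one_smul]

/-- The fixed points of a subgroup with trivial intersection property. -/
theorem ip_le [Finite G] (h : R.IsRed χ σ) (H : Subgroup G) [Fintype H]
    (hH : ∀ g ∉ H, (Nat.card (MulAction.stabilizer H (g : G ⧸ H)) : k) ≠ 0) {a c : ℕ}
    (ha : ip χ (fun _ => 1) = a) (hc : ip (res H χ) (fun _ => 1) = c) :
    c ≤ a + finrank k (LinearMap.range (∑ x : H, σ x)) := by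
  obtain ⟨n, _, _, ρ, b, h1, h2⟩ := h
  have := Fintype.ofFinite (G ⧸ H)
  let ρc := matRep (R.cx ρ)
  let ρk := matRep' (R.r.mapMatrix.toMonoidHom.comp ρ)
  have h3 : ρc.character = χ := (matRep_character _).trans
    (funext fun g => (R.trace_cx ρ g).trans (h1 g))
  have h4 : finrank ℂ ρc.invariants = a := by
    exact_mod_cast (ip_character_one ρc).symm.trans (h3 ▸ ha)
  have h5 : finrank ℂ (Representation.invariants (ρc.comp H.subtype)) = c := by
    refine Nat.cast_injective (R := ℂ) ((ip_character_one _).symm.trans ?_)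
    rw [← hc, ← h3]; rfl
  have h6 : R.sub (Representation.invariants (ρc.comp H.subtype)) ≤
      R.sub ρc.invariants ⊔ LinearMap.range (∑ x : H, ρk x) := by
    rintro _ ⟨u, hu, rfl⟩
    have h7 : ∀ x ∈ H, ρ x *ᵥ u = u := fun x hx => funext fun i => Subtype.ext
      (congrFun ((R.coe_mulVec (ρ x) u).trans (hu ⟨x, hx⟩)) i)
    obtain ⟨w, hw⟩ := exists_sum_out_eq ρk H hH (v := fun i => R.r (u i)) fun x hx =>
      (R.r_mulVec (ρ x) u).symm.trans (by rw [h7 x hx])
    rw [eq_sub_of_add_eq hw.symm]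
    refine Submodule.sub_mem _ (Submodule.mem_sup_left ⟨∑ q : G ⧸ H, ρ q.out *ᵥ u, ?_, ?_⟩)
      (Submodule.mem_sup_right ⟨w, by rw [LinearMap.sum_apply]⟩)
    · convert sum_out_mem_invariants ρc H (fun x hx => hu ⟨x, hx⟩) using 1
      funext i
      simp only [Finset.sum_apply, AddSubmonoidClass.coe_finsetSum]
      exact Finset.sum_congr rfl fun q _ => congrFun (R.coe_mulVec _ u) i
    · funext i
      simp only [Finset.sum_apply, map_sum]
      exact Finset.sum_congr rfl fun q _ => (congrFun (R.r_mulVec _ u) i).symm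
  have h8 : LinearMap.range (∑ x : H, ρk x) =
      (LinearMap.range (∑ x : H, σ x)).map b.equivFun.toLinearMap := by
    rw [← LinearMap.range_comp, ← LinearEquiv.range_comp b.equivFun (∑ x : H, ρk x)]
    congr 1
    ext1 v
    simp only [LinearMap.comp_apply, LinearMap.sum_apply, map_sum, LinearEquiv.coe_coe]
    refine Finset.sum_congr rfl fun x _ => ?_
    rw [Basis.equivFun_apply, Basis.equivFun_apply, ← LinearMap.toMatrix_mulVec_repr b b, h2]
    rfl
  have h9 := (Submodule.finrank_mono h6).trans (Submodule.finrank_add_le_finrank_add_finrank _ _)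
  rwa [R.finrank_sub, R.finrank_sub, h4, h5, h8, LinearEquiv.finrank_map_eq] at h9

end IsRed

variable (R)

theorem exists_unit_eigen {n : Type*} [Fintype n] [DecidableEq n] {F : Matrix n n R.O}
    (h : ¬ IsNilpotent (F.map R.r)) : ∃ (l : R.O) (w : n → ℂ), R.r l ≠ 0 ∧ w ≠ 0 ∧
      F.map R.O.subtype *ᵥ w = (l : ℂ) • w := by
  have h1 : F.charpoly.Splits := (IsAlgClosed.splits (F.charpoly.map R.O.subtype)
    ).of_splits_map_of_injective Subtype.val_injective fun a ha =>
      IsIntegrallyClosed.isIntegral_iff.1 (⟨_, F.charpoly_monic, by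
        have := Polynomial.isRoot_of_mem_roots ha
        rwa [Polynomial.IsRoot, Polynomial.eval_map] at this⟩ : IsIntegral R.O a)
  obtain ⟨l, hl, hl0⟩ : ∃ l ∈ F.charpoly.roots, R.r l ≠ 0 := by
    by_contra! h2
    refine h ⟨F.charpoly.roots.card, ?_⟩
    have h3 := (F.map R.r).aeval_self_charpoly
    rw [Matrix.charpoly_map, h1.eq_prod_roots_of_monic F.charpoly_monic,
      Polynomial.map_multiset_prod, Multiset.map_map, Multiset.map_congr rfl
        (g := fun _ => Polynomial.X) fun a ha => by simp [h2 a ha]] at h3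
    simpa using h3
  have h4 : End.HasEigenvalue (Matrix.toLin' (F.map R.O.subtype)) (l : ℂ) := by
    rw [End.hasEigenvalue_iff_isRoot_charpoly, Matrix.charpoly_toLin', Matrix.charpoly_map]
    exact (Polynomial.isRoot_of_mem_roots hl).map
  obtain ⟨w, hw⟩ := h4.exists_hasEigenvector
  exact ⟨l, w, hl0, hw.2, hw.apply_eq_smul⟩

variable [Finite G] {U : Type*} [AddCommGroup U] [Module ℂ U] [FiniteDimensional ℂ U]

/-- The lattice generated by a vector. -/
theorem exists_lattice (ρ : Representation ℂ G U) (hρ : ρ.IsIrreducible) {w : U} (hw : w ≠ 0) :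
    ∃ (b : Basis (Fin (finrank ℂ U)) ℂ U)
      (ρ' : G →* Matrix (Fin (finrank ℂ U)) (Fin (finrank ℂ U)) R.O) (w' : Fin (finrank ℂ U) → R.O),
      (∀ g, (ρ' g).map R.O.subtype = LinearMap.toMatrix b b (ρ g)) ∧
      (fun i => (w' i : ℂ)) = b.repr w ∧ ∀ j, ∃ g, ρ' g *ᵥ w' = Pi.single j 1 := by
  have hm : ∀ a b u, ρ a (ρ b u) = ρ (a * b) u := fun a b u => by rw [map_mul, End.mul_apply]
  obtain ⟨τ, b, h1, h2⟩ := exists_pivot R.O (fun g => ρ g w) (by
    refine (((rep_isIrreducible_iff ρ).1 hρ).2 _ (fun g v hv => ?_)).resolve_left (fun h => ?_) |>.ge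
    · refine Submodule.mem_comap.1 ((Submodule.span_le (p := Submodule.comap (ρ g) _)).2 ?_ hv)
      rintro _ ⟨x, rfl⟩
      exact Submodule.subset_span ⟨g * x, (hm _ _ _).symm⟩
    · exact hw (by simpa using Submodule.span_eq_bot.1 h _ ⟨1, rfl⟩))
  let M : G → Matrix _ _ R.O := fun g => Matrix.of fun i j =>
    ⟨LinearMap.toMatrix b b (ρ g) i j, by rw [LinearMap.toMatrix_apply, h1, hm]; exact h2 _ _⟩
  have hM : ∀ g, (M g).map R.O.subtype = LinearMap.toMatrix b b (ρ g) := fun g => rfl
  have hi : Function.Injective fun A : Matrix (Fin (finrank ℂ U)) (Fin (finrank ℂ U)) R.O =>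
    A.map R.O.subtype := Matrix.map_injective Subtype.val_injective
  refine ⟨b,
    { toFun := M
      map_one' := hi (by simp only [hM]; simp)
      map_mul' := fun x y => hi (by simp only [hM, Matrix.map_mul, map_mul, LinearMap.toMatrix_mul]) },
    fun i => ⟨b.repr w i, by simpa using h2 1 i⟩, hM, rfl, fun j => ⟨τ j, funext fun i => ?_⟩⟩
  refine Subtype.ext ((congrFun (R.coe_mulVec (M (τ j)) _) i).trans ?_)
  rw [hM, LinearMap.toMatrix_mulVec_repr, ← h1, b.repr_self, Finsupp.single_apply, Pi.single_apply]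
  simp only [eq_comm (a := i)]
  split_ifs <;> rfl

/-- Every irreducible character has a reduction with local endomorphism ring. -/
theorem exists_isRed_local [IsAlgClosed k] (χ : IrrCharacter G) :
    ∃ (n : ℕ) (σ : Representation k G (Fin n → k)), R.IsRed χ.1 σ ∧
      ∀ φ : End k (Fin n → k), (∀ g, Commute (σ g) φ) → ∃ c : k, IsNilpotent (φ - c • 1) := by
  classical
  have := Fintype.ofFinite G
  have : IsArtinianRing k[G] := IsArtinianRing.of_finite k _
  let J := Ring.jacobson k[G]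
  have : Module.Finite k (k[G] ⧸ J) :=
    Module.Finite.of_surjective (Ideal.Quotient.mkₐ k J).toLinearMap
      (Ideal.Quotient.mkₐ_surjective k J)
  obtain ⟨N, d, -, ⟨e⟩⟩ := IsSemisimpleRing.exists_algEquiv_pi_matrix_of_isAlgClosed k (k[G] ⧸ J)
  let ω := e.toAlgHom.comp (Ideal.Quotient.mkₐ k J)
  have hω : Function.Surjective ω := e.surjective.comp (Ideal.Quotient.mkₐ_surjective k J)
  have hnil : ∀ a, ω a = 0 → IsNilpotent a := fun a ha => by
    obtain ⟨m, hm⟩ : IsNilpotent J := IsSemiprimaryRing.isNilpotent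
    have := Ideal.pow_mem_pow
      (Ideal.Quotient.eq_zero_iff_mem.1 (e.injective (ha.trans (map_zero e).symm))) m
    exact ⟨m, by rwa [hm, Ideal.zero_eq_bot, Ideal.mem_bot] at this⟩
  obtain ⟨n, ρ, hρ, hχ⟩ := χ.2
  have hnt := ((rep_isIrreducible_iff ρ).1 hρ).1
  have : Nonempty (Fin (finrank ℂ (Fin n → ℂ))) := Fin.pos_iff_nonempty.1 finrank_pos
  obtain ⟨w₁, hw₁⟩ := exists_ne (0 : Fin n → ℂ)
  obtain ⟨b₁, ρ₁, -, h1, -⟩ := R.exists_lattice ρ hρ hw₁
  let σ₁ := MonoidAlgebra.lift k _ G (R.r.mapMatrix.toMonoidHom.comp ρ₁)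
  obtain ⟨i, j, f, hf, hf'⟩ : ∃ (i : Fin N) (j : Fin (d i)) (f : k[G]),
      ω f = Pi.single i (Matrix.single j j 1) ∧
      ¬ IsNilpotent (σ₁ f) := by
    by_contra! h
    choose f hf using fun x : Σ i, Fin (d i) => hω (Pi.single x.1 (Matrix.single x.2 x.2 1))
    choose m hm using fun x => h _ _ _ (hf x)
    have h2 : ω (1 - ∑ x, f x ^ (m x + 1)) = 0 := by
      rw [map_sub, map_one, map_sum, Finset.sum_congr rfl fun x _ => by
        rw [map_pow, hf, IsIdempotentElem.pow_succ_eq _ (by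
          rw [IsIdempotentElem, ← Pi.single_mul, Matrix.single_mul_single_same, mul_one])],
        Fintype.sum_sigma, sub_eq_zero]
      funext i
      rw [Finset.sum_apply, Finset.sum_eq_single i (fun i' _ h => by simp [Pi.single_eq_of_ne' h])
        (by simp)]
      simpa using (Matrix.sum_single_one (α := k) (m := Fin (d i))).symm
    have h3 := (hnil _ h2).isUnit_one_sub.map σ₁
    rw [sub_sub_cancel, map_sum, Finset.sum_eq_zero fun x _ => by
      rw [map_pow, pow_succ, hm, zero_mul]] at h3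
    exact not_isUnit_zero h3
  choose c hc using fun g => R.surj (f.coeff g)
  have hF : ∀ ρ' : G →* Matrix (Fin (finrank ℂ (Fin n → ℂ))) (Fin (finrank ℂ (Fin n → ℂ))) R.O,
      (∑ g, c g • ρ' g).map R.r =
        MonoidAlgebra.lift k _ G (R.r.mapMatrix.toMonoidHom.comp ρ') f := fun ρ' => by
    conv_rhs => rw [eq_sum_smul_single f]
    rw [map_sum, ← RingHom.mapMatrix_apply, map_sum]
    exact Finset.sum_congr rfl fun g _ => by
      simp [Matrix.map_smul' _ _ _ (map_mul R.r), hc]
  have hF' : ∀ (ρ' : G →* Matrix (Fin (finrank ℂ (Fin n → ℂ))) _ R.O) (b : Basis _ ℂ (Fin n → ℂ)),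
      (∀ g, (ρ' g).map R.O.subtype = LinearMap.toMatrix b b (ρ g)) →
      (∑ g, c g • ρ' g).map R.O.subtype =
        LinearMap.toMatrix b b (∑ g, (c g : ℂ) • ρ g) := fun ρ' b h => by
    rw [map_sum, ← RingHom.mapMatrix_apply, map_sum]
    exact Finset.sum_congr rfl fun g _ => by
      rw [RingHom.mapMatrix_apply, Matrix.map_smul' _ _ _ (map_mul R.O.subtype), h, map_smul]
      rfl
  obtain ⟨l, w₀, hl, hw₀, h2⟩ := R.exists_unit_eigen (F := ∑ g, c g • ρ₁ g) (by rwa [hF])
  obtain ⟨w, rfl⟩ := b₁.equivFun.surjective w₀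
  have h3 : (∑ g, (c g : ℂ) • ρ g) w = (l : ℂ) • w := b₁.equivFun.injective (by
    rw [map_smul, ← h2, hF' _ _ h1, Basis.equivFun_apply, Basis.equivFun_apply,
      LinearMap.toMatrix_mulVec_repr])
  obtain ⟨b, ρ', w', h4, h5, h6⟩ := R.exists_lattice ρ hρ (w := w) fun h => hw₀ (by simp [h])
  let σ := matRep' (R.r.mapMatrix.toMonoidHom.comp ρ')
  refine ⟨_, σ, ⟨_, inferInstance, inferInstance, ρ', Pi.basisFun _ _, fun g => ?_, fun g => ?_⟩,
    fun φ hφ => ?_⟩
  · rw [← hχ, ← R.trace_cx, Representation.character, LinearMap.trace_eq_matrix_trace ℂ b, ← h4]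
    rfl
  · exact LinearMap.toMatrix'_toLin' _
  let S := σ.asAlgebraHom
  set v : _ → k := fun i => R.r (w' i) with hv
  have h7 : S f v = R.r l • v := by
    have h8' : (fun i => (((∑ g, c g • ρ' g) *ᵥ w') i : ℂ)) = fun i => ((l • w') i : ℂ) := by
      rw [R.coe_mulVec, hF' _ _ h4, h5, LinearMap.toMatrix_mulVec_repr, h3, map_smul,
        Finsupp.coe_smul, ← h5]
      rfl
    have h8 : (∑ g, c g • ρ' g) *ᵥ w' = l • w' := funext fun i => Subtype.ext (congrFun h8' i)
    have h9 := R.r_mulVec (∑ g, c g • ρ' g) w'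
    rw [h8, hF] at h9
    refine Eq.trans ?_ (h9.symm.trans (funext fun i => map_mul R.r _ _))
    conv_lhs => rw [eq_sum_smul_single f]
    conv_rhs => rw [eq_sum_smul_single f]
    simp [S, σ, matRep', Matrix.sum_mulVec, Matrix.smul_mulVec, hv]
  have h8 : ∀ u, ∃ a, S a v = u := fun u => by
    choose τ hτ using h6
    refine ⟨∑ j, u j • MonoidAlgebra.single (τ j) 1, ?_⟩
    rw [map_sum, LinearMap.sum_apply]
    refine Eq.trans (Finset.sum_congr rfl fun j _ => ?_) (pi_eq_sum_univ' u).symm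
    rw [map_smul, LinearMap.smul_apply, Representation.asAlgebraHom_single_one]
    refine congrArg _ ((R.r_mulVec (ρ' (τ j)) w').symm.trans (funext fun i => ?_))
    rw [hτ, Pi.single_apply, Pi.single_apply]
    split_ifs <;> simp
  have h9 : ∀ ψ, (∀ g, Commute (σ g) ψ) → ∀ a, Commute (S a) ψ := fun ψ hψ a => by
    rw [eq_sum_smul_single a, map_sum]
    exact Commute.sum_left _ _ _ fun g _ => by
      rw [map_smul, Representation.asAlgebraHom_single_one]; exact (hψ g).smul_left _
  obtain ⟨a, ha⟩ := h8 (φ v)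
  obtain ⟨m, hm⟩ := (hnil (f * a * f - ω a i j j • f) (by
    rw [map_sub, map_smul, map_mul, map_mul, hf, sub_eq_zero]
    funext i'
    by_cases h : i' = i
    · subst h
      simp [Matrix.single_mul_mul_single]
    · simp [Pi.single_eq_of_ne h])).smul ((R.r l)⁻¹ ^ 2)
  set n' := (R.r l)⁻¹ ^ 2 • (f * a * f - ω a i j j • f)
  set ψ := φ - (ω a i j j / R.r l) • (1 : End k _)
  have hψ : ∀ g, Commute (σ g) ψ := fun g => (hφ g).sub_right ((Commute.one_right _).smul_right _)
  have h10 : ψ v = S n' v := by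
    have h11 : S f (φ v) = R.r l • φ v := by
      rw [← End.mul_apply, (h9 φ hφ f).eq, End.mul_apply, h7, map_smul]
    simp only [ψ, n', map_smul, map_sub, map_mul, LinearMap.smul_apply, LinearMap.sub_apply,
      End.mul_apply, End.one_apply, h7, ha, h11, smul_sub, smul_smul]
    congr 1
    · rw [show (R.r l)⁻¹ ^ 2 * (R.r l * R.r l) = 1 by field_simp, one_smul]
    · congr 1
      field_simp
  have h11 : ∀ m, (ψ ^ m) v = S (n' ^ m) v := fun m => by
    induction m with
    | zero => simp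
    | succ m ih =>
      rw [pow_succ', End.mul_apply, ih, ← End.mul_apply, ← (h9 ψ hψ _).eq, End.mul_apply, h10,
        pow_succ, map_mul, End.mul_apply]
  refine ⟨ω a i j j / R.r l, m, LinearMap.ext fun u => ?_⟩
  change (ψ ^ m) u = _
  obtain ⟨a, rfl⟩ := h8 u
  rw [← End.mul_apply, ← ((h9 ψ hψ a).pow_right m).eq, End.mul_apply, h11, hm]
  simp

end Red

end BT.Lat
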