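import Cfsg.Agent.Lib.Block.OneSmall
import Cfsg.Agent.Lib.Grp.SelfCentP

/-!
# The normalizer of a Sylow subgroup of prime order
-/

set_option autoImplicit false
set_option linter.unusedSectionVars false

namespace BT

open Cfsg CT GT
open scoped MonoidAlgebra ComplexConjugate Pointwise commutatorElement

variable {p : ℕ} [hp : Fact p.Prime]
variable {G : Type*} [Group G] [Finite G]
variable {A : Type*} [CommGroup A] [Finite A]

theorem isCyclic_mulAut_of_prime (hA : Nat.card A = p) : IsCyclic (MulAut A) := by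
  have := isCyclic_of_prime_card hA
  have h : IsCyclic (ZMod (Nat.card A))ˣ := by rw [hA]; infer_instance
  exact isCyclic_of_injective (IsCyclic.mulAutMulEquiv A).toMonoidHom
    (IsCyclic.mulAutMulEquiv A).injective

namespace PrimeSyl
variable {ι : A →* G} (H : PrimeSyl p ι)
include H

theorem isConj_mul {n : G} (hn : n ∈ Subgroup.normalizer (ι.range : Set G))
    (hc : n ∉ Subgroup.centralizer (ι.range : Set G)) (u : A) : IsConj n (ι u * n) := by
  have h1 : Function.Injective fun v : A => v * (conjA H.inj ⟨n, hn⟩ v)⁻¹ := fun v w h => by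
    by_contra hne
    refine hc ((conjA_eq_one_iff H.inj ⟨n, hn⟩).1 (mulAut_eq_one_of_prime H.card
      (u := w⁻¹ * v) (fun h' => hne (inv_mul_eq_one.1 h').symm) ?_))
    rw [map_mul, map_inv]
    have h2 : v * (conjA H.inj ⟨n, hn⟩ v)⁻¹ = w * (conjA H.inj ⟨n, hn⟩ w)⁻¹ := h
    rw [mul_inv_eq_iff_eq_mul] at h2
    rw [eq_inv_mul_iff_mul_eq, ← mul_assoc]
    exact h2.symm
  obtain ⟨v, rfl⟩ := Finite.injective_iff_surjective.1 h1 u
  refine isConj_iff.2 ⟨ι v, ?_⟩
  simp only [map_mul, map_inv, conjA_spec]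
  group

theorem card_mul_apply {θ : G → ℂ} (hθ : IsClassFunction G θ) [Fintype A] {n : G}
    (hn : n ∈ Subgroup.normalizer (ι.range : Set G))
    (hc : n ∉ Subgroup.centralizer (ι.range : Set G)) : ∑ u, θ (ι u * n) = p * θ n := by
  rw [Finset.sum_congr rfl fun u _ => (hθ.of_isConj (H.isConj_mul hn hc u)).symm]
  simp [← H.card]

theorem exists_gen : ∃ g ∈ Subgroup.normalizer (ι.range : Set G), ¬ p ∣ orderOf g ∧
    (∀ k : ℕ, g ^ k ∈ Subgroup.centralizer (ι.range : Set G) ↔ Nat.card (autN ι) ∣ k) ∧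
    ∀ n ∈ Subgroup.normalizer (ι.range : Set G), ∃ k : ℕ,
      ∃ c ∈ Subgroup.centralizer (ι.range : Set G), n = g ^ k * c := by
  have := isCyclic_mulAut_of_prime H.card
  obtain ⟨σ, hσ⟩ := IsCyclic.exists_generator (α := autN ι)
  obtain ⟨g₀, hg₀⟩ : σ.1 ∈ (conjA H.inj).range := (range_conjA H.inj).ge σ.2
  obtain ⟨g, hg, hr⟩ : ∃ g : Subgroup.normalizer (ι.range : Set G), conjA H.inj g = σ ∧
      ¬ p ∣ orderOf (g : G) := by
    refine ⟨pRegPart p g₀, ?_, by rw [Subgroup.orderOf_coe]; exact not_dvd_orderOf_pRegPart p g₀⟩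
    rw [← hg₀]
    conv_rhs => rw [← pPart_mul_pRegPart p g₀, map_mul, (conjA_eq_one_iff H.inj _).2
      (range_le_centralizer ι (H.mem_range (isPElt_coe.2 (isPElt_pPart p g₀)) (Subtype.prop _))),
      one_mul]
  refine ⟨g, g.2, hr, fun k => ?_, fun n hn => ?_⟩
  · rw [← Subgroup.coe_pow, ← conjA_eq_one_iff H.inj, map_pow, hg, ← orderOf_dvd_iff_pow_eq_one,
      Subgroup.orderOf_coe, orderOf_eq_card_of_forall_mem_zpowers hσ]
  · obtain ⟨k, hk⟩ := (mem_powers_iff_mem_zpowers.2 (hσ ⟨_, conjA_mem H.inj ⟨n, hn⟩⟩) :)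
    refine ⟨k, ((g : G) ^ k)⁻¹ * n, (conjA_eq_one_iff H.inj ((g ^ k)⁻¹ * ⟨n, hn⟩)).1 ?_, by group⟩
    rw [map_mul, map_inv, map_pow, hg, inv_mul_eq_one]
    exact congrArg Subtype.val hk

theorem eq_one_of_mem_range {g : G} (h : g ∈ ι.range) (hg : ¬ p ∣ orderOf g) : g = 1 :=
  (isPElt_of_mem H.syl.isPGroup h).eq_one_of_isPRegular hg

theorem cenReg_eq_bot (hC : Subgroup.centralizer (ι.range : Set G) ≤ ι.range) : cenReg p ι = ⊥ :=
  eq_bot_iff.2 fun _ hy => H.eq_one_of_mem_range (hC (H.mem_cenReg.1 hy).1) (H.mem_cenReg.1 hy).2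

end PrimeSyl

theorem exists_primeSyl_of_selfCentP {x : G} (S : SelfCentP p x) :
    ∃ (A : Type) (_ : CommGroup A) (_ : Finite A) (ι : A →* G), PrimeSyl p ι ∧
      ι.range = Subgroup.zpowers x ∧ Subgroup.centralizer (ι.range : Set G) = ι.range ∧
      Nat.card (autN ι) =
        (Subgroup.zpowers x).relIndex (Subgroup.normalizer (Subgroup.zpowers x : Set G)) := by
  obtain ⟨A, _, _, ι, H, h⟩ := exists_primeSyl S.sylow S.card_zp
  exact ⟨A, _, inferInstance, ι, H, h, by rw [h, S.cent'], by rw [card_autN H.inj, h, S.cent']⟩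

theorem PB.apply_eq_neg_one {ι : A →* G} {X : Finset (IrrCharacter G)}
    {Y : HatNe A → IrrCharacter G} {δ : IrrCharacter G → ℤ} {δ₀ : ℤ} (T : PB p ι X Y δ δ₀)
    (hC : Subgroup.centralizer (ι.range : Set G) ≤ ι.range) (he : Nat.card (autN ι) ≠ 1)
    {χ : IrrCharacter G} (hχ : charDegree χ.1 + 1 = p) {u : A} (hu : u ≠ 1) : χ.1 (ι u) = -1 := by
  have := Fintype.ofFinite A
  have h1 := T.syl.card_autN_pos
  have h0 := irr_degree_pos χ
  have h2 := Nat.le_of_dvd (by omega) T.syl.card_autN_dvd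
  by_cases hX : χ ∈ X
  · obtain ⟨f, hf⟩ := T.exists_fix_X hX
    rcases T.sign χ hX with h | h
    · rw [h] at hf
      obtain rfl | rfl | h3 : f = 0 ∨ f = 1 ∨ 2 ≤ f := by omega
      · omega
      · omega
      · nlinarith
    · rw [T.valX_range hX hu, h]; simp
  by_cases hY : ∃ l, Y l = χ
  · obtain ⟨l, rfl⟩ := hY
    obtain ⟨f, hf⟩ := T.exists_fix_Y l
    rcases T.sign₀ with h | h <;> rw [h] at hf
    · obtain rfl | rfl | h3 : f = 0 ∨ f = 1 ∨ 2 ≤ f := by omega
      · omega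
      · omega
      · have : (p : ℤ) * 2 ≤ p * f := by exact_mod_cast Nat.mul_le_mul_left p h3
        omega
    · obtain rfl | h3 : f = 0 ∨ 1 ≤ f := by omega
      · rw [T.valY_of_card_eq (by omega) l (T.syl.dvd_orderOf hu), h]; simp
      · nlinarith
  · push Not at hY
    obtain ⟨f, hf⟩ := (irr_isCharacter χ).exists_nat_sum ι
    rw [T.syl.sum_eq fun u hu => T.apply_eq_zero_of_le_ker (by simp [T.syl.cenReg_eq_bot hC]) hX
      hY hu, map_one, irr_apply_one, mul_zero, add_zero, T.syl.card] at hf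
    have h3 : charDegree χ.1 = p * f := by exact_mod_cast hf
    obtain rfl | h3 : f = 0 ∨ 1 ≤ f := by omega
    · omega
    · nlinarith

theorem detChar_of_regular {χ : G → ℂ} (hχ : IsCharacter G χ) {g : G} {t e : ℕ} (he0 : e ≠ 0)
    (he : Even e) (h : ∀ k, χ (g ^ k) = if e ∣ k then ((t * e : ℕ) : ℂ) else 0) :
    detChar χ g = (-1) ^ t := by
  have hζ := isPrimitiveRoot_zeta he0
  rw [hχ.detChar_eq_prod (ι := Fin t × Fin e) (ε := fun i => zeta e ^ (i.2 : ℕ))
    (fun i => pow_ne_zero _ (hζ.ne_zero he0)) fun k _ => ?_]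
  · rw [Fintype.prod_prod_type]
    dsimp only
    rw [Finset.prod_const, Finset.card_univ, Fintype.card_fin,
      Fin.prod_univ_eq_prod_range (fun j => zeta e ^ j), Finset.prod_pow_eq_pow_sum]
    congr 1
    obtain ⟨m, rfl⟩ := he
    have h1 : ∑ i ∈ Finset.range (m + m), i = m * (m + m - 1) := by
      have := Finset.sum_range_id_mul_two (m + m)
      nlinarith
    rw [h1, pow_mul, (hζ.pow (by omega) (by ring : m + m = m * 2)).eq_neg_one_of_two_right,
      Odd.neg_one_pow ⟨m - 1, by omega⟩]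
  · rw [h, Fintype.sum_prod_type]
    dsimp only
    rw [Finset.sum_const, Finset.card_univ, Fintype.card_fin,
      Fin.sum_univ_eq_sum_range (fun j => (zeta e ^ j) ^ k)]
    rw [Finset.sum_congr rfl fun j _ => pow_right_comm (zeta e) j k]
    split_ifs with hk
    · simp [(hζ.pow_eq_one_iff_dvd k).2 hk]
    · have h1 : zeta e ^ k ≠ 1 := mt (hζ.pow_eq_one_iff_dvd k).1 hk
      rw [geom_sum_eq h1, ← pow_mul, mul_comm k, pow_mul, hζ.pow_eq_one]
      simp

end BT
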