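import Cfsg.Agent.Lib.Block.Lat
import Cfsg.Agent.Lib.Block.OneSelf
import Cfsg.Agent.Lib.Block.CycLB2

/-!
# Graded Jordan bases; modules for groups with a Sylow subgroup of prime order

`GJ x h l m w B`: `B` is a Jordan basis for the nilpotent map `x`, with generators `m s` that are
eigenvectors of `h`.
-/

set_option autoImplicit false
set_option linter.unusedSectionVars false

namespace BT.Lat

open Cfsg CT Module Polynomial
open scoped MonoidAlgebra

universe u

section GJ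

variable {k : Type} [Field k] {V : Type u} [AddCommGroup V] [Module k V]

/-- A Jordan basis whose generators are eigenvectors of `h`. -/
structure GJ (x h : End k V) {S : Type} (l : S → ℕ) (m : S → V) (w : S → k)
    (B : Basis (Σ s, Fin (l s)) k V) : Prop where
  basis : ∀ c, B c = (x ^ (c.2 : ℕ)) (m c.1)
  nil : ∀ s, (x ^ l s) (m s) = 0
  pos : ∀ s, 0 < l s
  wt : ∀ s, h (m s) = w s • m s

variable {x h : End k V} {α : k}

theorem mul_pow_of_wt (hx : h * x = α • (x * h)) (j : ℕ) : h * x ^ j = α ^ j • (x ^ j * h) := by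
  induction j with
  | zero => simp
  | succ j ih => rw [pow_succ, ← mul_assoc, ih, smul_mul_assoc, mul_assoc, hx, mul_smul_comm,
      smul_smul, ← mul_assoc, ← pow_succ, ← pow_succ]

theorem apply_pow_of_wt (hx : h * x = α • (x * h)) {v : V} {w : k} (hv : h v = w • v) (j : ℕ) :
    h ((x ^ j) v) = (α ^ j * w) • (x ^ j) v := by
  rw [← End.mul_apply, mul_pow_of_wt hx, LinearMap.smul_apply, End.mul_apply, hv, map_smul,
    smul_smul]

theorem pow_apply_of_wt {v : V} {w : k} (hv : h v = w • v) (j : ℕ) : (h ^ j) v = w ^ j • v := by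
  induction j with
  | zero => simp
  | succ j ih => rw [pow_succ', End.mul_apply, ih, map_smul, hv, smul_smul, pow_succ]

theorem wt_pow_eq_one {o : ℕ} (ho : h ^ o = 1) {v : V} {w : k} (hv : h v = w • v) (h0 : v ≠ 0) :
    w ^ o = 1 := by
  have := pow_apply_of_wt hv o
  rw [ho, End.one_apply] at this
  exact smul_left_injective k h0 (this.symm.trans (one_smul k v).symm)

/-- The projection onto a weight space. -/
theorem exists_wt_proj {o : ℕ} (ho : h ^ o = 1) (ho' : (o : k) ≠ 0) {w : k} (hw : w ^ o = 1) :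
    ∃ E : End k V, h * E = w • E ∧ E * h = w • E ∧ (∀ v, h v = w • v → E v = v) ∧
      ∀ T : End k V, Commute h T → Commute E T := by
  have h0 : o ≠ 0 := by rintro rfl; simp at ho'
  have hw0 : w ≠ 0 := by rintro rfl; simp [h0] at hw
  have h1 : (w⁻¹ • h) ^ o = 1 := by rw [_root_.smul_pow, ho, inv_pow, hw, inv_one, one_smul]
  have h2 := mul_geom_sum (w⁻¹ • h) o
  have h3 := geom_sum_mul (w⁻¹ • h) o
  rw [h1, sub_self, sub_one_mul, sub_eq_zero, smul_mul_assoc, inv_smul_eq_iff₀ hw0] at h2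
  rw [h1, sub_self, mul_sub_one, sub_eq_zero, mul_smul_comm, inv_smul_eq_iff₀ hw0] at h3
  refine ⟨(o : k)⁻¹ • ∑ i ∈ Finset.range o, (w⁻¹ • h) ^ i, by rw [mul_smul_comm, h2, smul_comm],
    by rw [smul_mul_assoc, h3, smul_comm], fun v hv => ?_, fun T hT =>
      (Commute.sum_left _ _ _ fun i _ => (hT.smul_left _).pow_left i).smul_left _⟩
  rw [LinearMap.smul_apply, LinearMap.sum_apply, Finset.sum_congr rfl fun i _ =>
    pow_apply_of_wt (w := 1) (by rw [LinearMap.smul_apply, hv, inv_smul_smul₀ hw0, one_smul]) i]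
  simp [← Nat.cast_smul_eq_nsmul k, smul_smul, ho']

/-- A homogeneous functional that is nonzero on a given weight vector outside a stable subspace. -/
theorem exists_wt_dual {o : ℕ} (ho : h ^ o = 1) (ho' : (o : k) ≠ 0) {z : V} {w : k}
    (hz : h z = w • z) {U : Submodule k V} (hU : ∀ v ∈ U, h v ∈ U) (hzU : z ∉ U) :
    ∃ f : Dual k V, f z = 1 ∧ (∀ v ∈ U, f v = 0) ∧ ∀ v, f (h v) = w * f v := by
  obtain ⟨f, h1, h2⟩ := U.exists_dual_map_eq_bot_of_notMem hzU inferInstance
  have h0 : o ≠ 0 := by rintro rfl; simp at ho'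
  have hw := wt_pow_eq_one ho hz fun h => hzU (h ▸ U.zero_mem)
  have hw0 : w ≠ 0 := by rintro rfl; simp [h0] at hw
  have h3 : ∀ v ∈ U, f v = 0 := fun v hv => by
    simpa using h2.le (Submodule.mem_map_of_mem hv)
  have h4 : ∀ i : ℕ, ∀ v ∈ U, (h ^ i) v ∈ U := fun i v hv => by
    induction i with
    | zero => exact hv
    | succ i ih => rw [pow_succ']; exact hU _ ih
  have h5 : (w⁻¹ • h) ^ o = 1 := by rw [_root_.smul_pow, ho, inv_pow, hw, inv_one, one_smul]
  have h6 := geom_sum_mul (w⁻¹ • h) o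
  rw [h5, sub_self, mul_sub_one, sub_eq_zero, mul_smul_comm, inv_smul_eq_iff₀ hw0] at h6
  refine ⟨((o : k) * f z)⁻¹ • f ∘ₗ ∑ i ∈ Finset.range o, (w⁻¹ • h) ^ i, ?_, fun v hv => ?_,
    fun v => ?_⟩
  · rw [LinearMap.smul_apply, LinearMap.comp_apply, LinearMap.sum_apply,
      Finset.sum_congr rfl fun i _ => pow_apply_of_wt (w := 1)
        (by rw [LinearMap.smul_apply, hz, inv_smul_smul₀ hw0, one_smul]) i]
    simp only [one_pow, one_smul, Finset.sum_const, Finset.card_range, map_nsmul, nsmul_eq_mul,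
      smul_eq_mul]
    exact inv_mul_cancel₀ (mul_ne_zero ho' h1)
  · rw [LinearMap.smul_apply]
    refine smul_eq_zero_of_right _ (h3 _ ?_)
    rw [LinearMap.sum_apply]
    exact U.sum_mem fun i _ => by rw [_root_.smul_pow]; exact U.smul_mem _ (h4 i v hv)
  · simp only [LinearMap.smul_apply, LinearMap.comp_apply]
    rw [← End.mul_apply, h6, LinearMap.smul_apply, map_smul, smul_comm, smul_eq_mul]

theorem eq_zero_of_tri {l : ℕ} {m : V} (hm : (x ^ (l + 1)) m = 0) {f : Dual k V}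
    (hf : f ((x ^ l) m) = 1) {c : Fin (l + 1) → k}
    (hc : ∀ i : ℕ, f ((x ^ i) (∑ j, c j • (x ^ (j : ℕ)) m)) = 0) : c = 0 := by
  funext j
  induction j using WellFoundedLT.induction with
  | _ j ih =>
    have := hc (l - j)
    rw [map_sum, map_sum, Finset.sum_eq_single j (fun i _ hi => ?_) (by simp), map_smul,
      ← End.mul_apply, ← pow_add, Nat.sub_add_cancel j.is_le, map_smul, hf] at this
    · simpa using this
    rcases lt_or_gt_of_ne hi with h | h
    · simp [ih i h]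
    · obtain ⟨d, hd⟩ : ∃ d, l - j + i = d + (l + 1) := ⟨l - j + i - (l + 1), by omega⟩
      rw [map_smul, ← End.mul_apply, ← pow_add, hd, pow_add, End.mul_apply, hm]
      simp

theorem exists_gj_aux [IsAlgClosed k] (hα : α ≠ 0) {o : ℕ} (ho' : (o : k) ≠ 0) (n : ℕ) :
    ∀ (V : Type u) [AddCommGroup V] [Module k V] [FiniteDimensional k V] (x h : End k V),
      finrank k V = n → IsNilpotent x → h * x = α • (x * h) → h ^ o = 1 →
      ∃ (S : Type) (_ : Fintype S) (l : S → ℕ) (m : S → V) (w : S → k)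
        (B : Basis (Σ s, Fin (l s)) k V), GJ x h l m w B := by
  induction n using Nat.strong_induction_on with
  | _ n ih =>
  intro V _ _ _ x h hn hnil hx ho
  rcases subsingleton_or_nontrivial V with hV | hV
  · exact ⟨Empty, inferInstance, Empty.elim, Empty.elim, Empty.elim, Basis.empty V,
      fun c => c.1.elim, fun s => s.elim, fun s => s.elim, fun s => s.elim⟩
  obtain ⟨l, hl⟩ : ∃ l, nilpotencyClass x = l + 1 :=
    Nat.exists_eq_succ_of_ne_zero (pos_nilpotencyClass_iff.2 hnil).ne'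
  have h1 : x ^ (l + 1) = 0 := hl ▸ pow_nilpotencyClass hnil
  have h2 : x ^ l ≠ 0 := by simpa [hl] using pow_pred_nilpotencyClass hnil
  have hss : End.IsSemisimple h := End.isSemisimple_of_squarefree_aeval_eq_zero
    (X_pow_sub_one_separable_iff.2 ho').squarefree (by simp [ho])
  obtain ⟨w, m, hm, hm0⟩ : ∃ (w : k) (m : V), h m = w • m ∧ (x ^ l) m ≠ 0 := by
    by_contra! H
    refine h2 (LinearMap.ker_eq_top.1 (top_le_iff.1 (hss.iSup_eigenspace_eq_top.ge.trans ?_)))
    exact iSup_le fun w v hv => H w v (End.mem_eigenspace_iff.1 hv)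
  obtain ⟨f, hf, -, hf'⟩ := exists_wt_dual ho ho' (apply_pow_of_wt hx hm l) (U := ⊥) (by simp)
    (by simpa using hm0)
  have hm1 : (x ^ (l + 1)) m = 0 := by rw [h1]; rfl
  let φ : V →ₗ[k] Fin (l + 1) → k := LinearMap.pi fun j => f ∘ₗ x ^ (j : ℕ)
  have hφ : ∀ v, v ∈ LinearMap.ker φ ↔ ∀ i : ℕ, f ((x ^ i) v) = 0 := fun v =>
    ⟨fun H i => if hi : i < l + 1 then congrFun H ⟨i, hi⟩ else by
      rw [pow_eq_zero_of_le (not_lt.1 hi) h1]; simp, fun H => funext fun j => H j⟩
  have hli : LinearIndependent k fun j : Fin (l + 1) => (x ^ (j : ℕ)) m :=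
    Fintype.linearIndependent_iff.2 fun c hc =>
      congrFun (eq_zero_of_tri hm1 hf fun i => by simp [hc])
  have hW1 : ∀ v ∈ LinearMap.ker φ, x v ∈ LinearMap.ker φ := fun v hv => (hφ _).2 fun i => by
    rw [← End.mul_apply, ← pow_succ]; exact (hφ _).1 hv _
  have hW2 : ∀ v ∈ LinearMap.ker φ, h v ∈ LinearMap.ker φ := fun v hv => (hφ _).2 fun i => by
    have := hf' ((x ^ i) v)
    rw [(hφ _).1 hv, mul_zero, ← End.mul_apply, mul_pow_of_wt hx, LinearMap.smul_apply,
      map_smul, smul_eq_zero] at this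
    exact this.resolve_left (pow_ne_zero _ hα)
  have hd : Disjoint (Submodule.span k (Set.range fun j : Fin (l + 1) => (x ^ (j : ℕ)) m))
      (LinearMap.ker φ) := Submodule.disjoint_def.2 fun v hv hv' => by
    obtain ⟨c, rfl⟩ := (Submodule.mem_span_range_iff_exists_fun k).1 hv
    simp [eq_zero_of_tri hm1 hf ((hφ _).1 hv')]
  have h3 := φ.finrank_range_add_finrank_ker
  have h4 := (LinearMap.range φ).finrank_le
  have h5 := finrank_span_eq_card hli
  have h6 := Submodule.finrank_add_finrank_le_of_disjoint hd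
  simp only [finrank_fintype_fun_eq_card, Fintype.card_fin] at h4 h5
  have hc := (Submodule.isCompl_iff_disjoint _ _ (by omega)).2 hd
  obtain ⟨S, _, l', m', w', B', J⟩ := ih _ (by omega) (LinearMap.ker φ) (x.restrict hW1)
    (h.restrict hW2) rfl (End.isNilpotent.restrict hW1 hnil)
    (LinearMap.ext fun v => Subtype.ext (LinearMap.congr_fun hx v))
    (by rw [End.pow_restrict]; exact LinearMap.ext fun v => Subtype.ext (LinearMap.congr_fun ho v))
  have h7 : ∀ (i : ℕ) v, ((x.restrict hW1 ^ i) v : V) = (x ^ i) v := fun i v => by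
    rw [End.pow_restrict]; rfl
  let L : Unit ⊕ S → ℕ := Sum.elim (fun _ => l + 1) l'
  refine ⟨Unit ⊕ S, inferInstance, L, Sum.elim (fun _ => m) fun s => m' s,
    Sum.elim (fun _ => w) w', (((Basis.span hli).prod B').map
      (Submodule.prodEquivOfIsCompl _ _ hc)).reindex ((Equiv.sumSigmaDistrib fun s => Fin (L s)).trans
        ((Equiv.uniqueSigma _).sumCongr (Equiv.refl _))).symm, ?_, ?_, ?_, ?_⟩
  · rintro ⟨_ | s, j⟩
    · refine (Basis.reindex_apply _ _ _).trans ?_
      change Submodule.prodEquivOfIsCompl _ _ hc (((Basis.span hli).prod B') (Sum.inl j)) = _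
      have h8 : ∀ j : Fin (l + 1), (Submodule.prodEquivOfIsCompl _ _ hc
        (((Basis.span hli).prod B') (Sum.inl j)) : V) = (x ^ (j : ℕ)) m := fun j => by
          simp [Basis.span_apply]
      exact h8 j
    · refine (Basis.reindex_apply _ _ _).trans ?_
      change Submodule.prodEquivOfIsCompl _ _ hc (((Basis.span hli).prod B') (Sum.inr ⟨s, j⟩)) = _
      simp [J.basis, h7]
  · rintro (_ | s)
    · exact hm1
    · exact (h7 _ _).symm.trans (congrArg Subtype.val (J.nil s))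
  · rintro (_ | s)
    · exact l.succ_pos
    · exact J.pos s
  · rintro (_ | s)
    · exact hm
    · exact congrArg Subtype.val (J.wt s)

theorem exists_gj [IsAlgClosed k] [FiniteDimensional k V] (hα : α ≠ 0) {o : ℕ} (ho' : (o : k) ≠ 0)
    (hn : IsNilpotent x) (hx : h * x = α • (x * h)) (ho : h ^ o = 1) :
    ∃ (S : Type) (_ : Fintype S) (l : S → ℕ) (m : S → V) (w : S → k)
      (B : Basis (Σ s, Fin (l s)) k V), GJ x h l m w B :=
  exists_gj_aux hα ho' _ V x h rfl hn hx ho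

namespace GJ

variable {S : Type} {l : S → ℕ} {m : S → V} {w : S → k} {B : Basis (Σ s, Fin (l s)) k V}
  (J : GJ x h l m w B)
include J

theorem pow_eq_zero {s : S} {j : ℕ} (hj : l s ≤ j) : (x ^ j) (m s) = 0 := by
  obtain ⟨d, rfl⟩ := Nat.exists_eq_add_of_le' hj
  rw [pow_add, End.mul_apply, J.nil, map_zero]

theorem pow_eq {s : S} {j : ℕ} (hj : j < l s) : (x ^ j) (m s) = B ⟨s, j, hj⟩ := (J.basis ⟨s, j, hj⟩).symm

theorem pow_ne_zero {s : S} {j : ℕ} (hj : j < l s) : (x ^ j) (m s) ≠ 0 := J.pow_eq hj ▸ B.ne_zero _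

theorem le_of_pow_eq_zero {n : ℕ} (hn : x ^ n = 0) (s : S) : l s ≤ n :=
  not_lt.1 fun h => J.pow_ne_zero h (by rw [hn]; rfl)

theorem ext {W : Type*} [AddCommGroup W] [Module k W] {f g : V →ₗ[k] W}
    (h : ∀ s j, f ((x ^ j) (m s)) = g ((x ^ j) (m s))) : f = g :=
  B.ext fun c => by rw [J.basis, h]

theorem finrank_eq [Fintype S] : finrank k V = ∑ s, l s := by
  classical
  simp [finrank_eq_card_basis B]

theorem gen_not_mem (s : S) : m s ∉ LinearMap.range x := by
  classical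
  rintro ⟨v, hv⟩
  have h1 : B.coord ⟨s, 0, J.pos s⟩ ∘ₗ x = 0 := J.ext fun t j => by
    rw [LinearMap.comp_apply, ← End.mul_apply, ← pow_succ']
    rcases lt_or_ge (j + 1) (l t) with h | h
    · rw [J.pow_eq h, Basis.coord_apply, B.repr_self, Finsupp.single_eq_of_ne, LinearMap.zero_apply]
      exact fun h => by simpa using congrArg (fun c : Σ s, Fin (l s) => (c.2 : ℕ)) h
    · simp [J.pow_eq_zero h]
  have h2 := LinearMap.congr_fun h1 v
  rw [LinearMap.comp_apply, hv, show m s = B ⟨s, 0, J.pos s⟩ from J.pow_eq (J.pos s)] at h2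
  simp at h2

/-- The projection onto a block. -/
theorem exists_proj (hx : h * x = α • (x * h)) (s : S) : ∃ φ : End k V, Commute x φ ∧
    Commute h φ ∧ φ (m s) = m s ∧ ∀ t ≠ s, φ (m t) = 0 := by
  classical
  let φ : End k V := B.constr k fun c => if c.1 = s then B c else 0
  have h1 : ∀ t j, φ ((x ^ j) (m t)) = if t = s then (x ^ j) (m t) else 0 := fun t j => by
    rcases lt_or_ge j (l t) with h | h
    · rw [J.pow_eq h, Basis.constr_basis]
    · simp [J.pow_eq_zero h]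
  refine ⟨φ, J.ext fun t j => ?_, J.ext fun t j => ?_, by simpa using h1 s 0,
    fun t ht => by simpa [ht] using h1 t 0⟩
  · rw [End.mul_apply, End.mul_apply, h1, ← End.mul_apply x, ← pow_succ', h1]
    split_ifs
    · rw [pow_succ']; rfl
    · rw [map_zero]
  · rw [End.mul_apply, End.mul_apply, apply_pow_of_wt hx (J.wt t), map_smul, h1]
    split_ifs
    · exact apply_pow_of_wt hx (J.wt t) j
    · rw [map_zero, smul_zero]

end GJ

end GJ

section univ

variable {p : ℕ} [hp : Fact p.Prime] (k : Type) [Field k] [CharP k p]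

open Multiplicative

local notation "Zp" => Multiplicative (ZMod p)

variable (p) in
/-- A generator of the radical of `k[ℤ/p]` that is an eigenvector for all automorphisms. -/
noncomputable def xA : k[Zp] :=
  ∑ c : ZMod p, ZMod.castHom dvd_rfl k c⁻¹ • (MonoidAlgebra.of k Zp (ofAdd c) - 1)

theorem exists_of_eq (c : ZMod p) : ∃ r : k[Zp], MonoidAlgebra.of k Zp (ofAdd c) - 1 =
    ZMod.castHom dvd_rfl k c • (MonoidAlgebra.of k Zp (ofAdd 1) - 1) +
      (MonoidAlgebra.of k Zp (ofAdd 1) - 1) ^ 2 * r := by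
  obtain ⟨n, rfl⟩ := ZMod.natCast_zmod_surjective c
  induction n with
  | zero => exact ⟨0, by simp [MonoidAlgebra.one_def]⟩
  | succ n ih =>
    obtain ⟨r, hr⟩ := ih
    refine ⟨MonoidAlgebra.of k Zp (ofAdd 1) * r + n, ?_⟩
    rw [Nat.cast_succ, ofAdd_add, map_mul, eq_add_of_sub_eq hr, map_add, map_one (ZMod.castHom _ _), map_natCast,
      add_smul, one_smul, Nat.cast_smul_eq_nsmul, nsmul_eq_mul]
    ring

theorem sub_one_pow_eq : (MonoidAlgebra.of k Zp (ofAdd 1) - 1) ^ p = 0 := by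
  have : CharP k[Zp] p := charP_of_injective_algebraMap (algebraMap k k[Zp]).injective p
  rw [sub_pow_char, ← map_pow, ← ofAdd_nsmul]
  simp [MonoidAlgebra.one_def]

theorem exists_xA_eq : ∃ r : k[Zp], xA p k = (MonoidAlgebra.of k Zp (ofAdd 1) - 1) *
    (-1 + (MonoidAlgebra.of k Zp (ofAdd 1) - 1) * r) := by
  choose r hr using exists_of_eq (p := p) k
  refine ⟨∑ c : ZMod p, ZMod.castHom dvd_rfl k c⁻¹ • r c, ?_⟩
  have h1 : ∑ c : ZMod p, ZMod.castHom dvd_rfl k c⁻¹ * ZMod.castHom dvd_rfl k c = -1 := by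
    rw [Fintype.sum_eq_add_sum_compl 0, Finset.sum_congr rfl (g := fun _ => 1) fun c hc => by
      rw [← map_mul, inv_mul_cancel₀ (by simpa using hc), map_one]]
    simp [Finset.card_compl, Nat.cast_sub hp.out.one_le]
  rw [xA, Finset.sum_congr rfl fun c _ => by rw [hr, smul_add, smul_smul, ← mul_smul_comm],
    Finset.sum_add_distrib, ← Finset.sum_smul, h1, ← Finset.mul_sum, neg_smul, one_smul]
  ring

theorem exists_eq_aeval_xA (a : k[Zp]) : ∃ Q : k[X], a = aeval (xA p k) Q := by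
  obtain ⟨r, hr⟩ := exists_xA_eq (p := p) k
  set u := MonoidAlgebra.of k Zp (ofAdd 1) - 1
  have h1 : ∀ a : k[Zp], ∃ (c : k) (a' : k[Zp]), a = c • 1 + u * a' := fun a => by
    induction a using MonoidAlgebra.induction_on with
    | of g =>
      obtain ⟨r, hr⟩ := exists_of_eq k (toAdd g)
      exact ⟨1, ZMod.castHom dvd_rfl k (toAdd g) • 1 + u * r, by
        rw [one_smul, ← sub_eq_iff_eq_add', mul_add, mul_smul_comm, mul_one, ← mul_assoc, ← sq]
        exact hr⟩
    | add a b ha hb =>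
      obtain ⟨c, a', rfl⟩ := ha
      obtain ⟨d, b', rfl⟩ := hb
      exact ⟨c + d, a' + b', by rw [add_smul]; ring⟩
    | smul c a ha =>
      obtain ⟨d, a', rfl⟩ := ha
      exact ⟨c * d, c • a', by rw [smul_add, smul_smul, mul_smul_comm]⟩
  have key : ∀ i s, s + i = p → ∀ a, u ^ s * a ∈ (aeval (xA p k) : k[X] →ₐ[k] _).range := fun i => by
    induction i with
    | zero => intro s hs a; rw [add_zero] at hs; rw [hs, sub_one_pow_eq, zero_mul]; exact zero_mem _
    | succ i ih =>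
      intro s hs a
      have h2 := ih (s + 1) (by omega)
      obtain ⟨c, a', rfl⟩ := h1 a
      obtain ⟨b, hb⟩ : ∃ b, (-1 + u * r) ^ s = (-1) ^ s + u * b :=
        (sub_dvd_pow_sub_pow (-1 + u * r) (-1) s).elim fun b hb =>
          ⟨r * b, by rw [← sub_eq_iff_eq_add', hb]; ring⟩
      have h3 : u ^ s = (-1) ^ s * (xA p k ^ s - u ^ (s + 1) * b) := by
        rw [hr, mul_pow, hb]
        have : ((-1) ^ s * (-1) ^ s : k[Zp]) = 1 := by rw [← mul_pow]; simp
        linear_combination (-u ^ s) * this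
      rw [mul_add, mul_smul_comm, mul_one, ← mul_assoc, ← pow_succ]
      refine add_mem (Subalgebra.smul_mem _ ?_ _) (h2 _)
      rw [h3]
      exact mul_mem (pow_mem (neg_mem (one_mem _)) _) (sub_mem (pow_mem (AlgHom.mem_range _ |>.2 ⟨X, aeval_X _⟩) _) (h2 _))
  obtain ⟨Q, hQ⟩ := key p 0 (zero_add p) a
  exact ⟨Q, by simpa using hQ.symm⟩

theorem exists_of_eq_xA (c : Zp) : ∃ Q : k[X],
    MonoidAlgebra.of k Zp c = 1 + xA p k * aeval (xA p k) Q := by
  obtain ⟨r, hr⟩ := exists_xA_eq (p := p) k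
  obtain ⟨r', hr'⟩ := exists_of_eq k (toAdd c)
  obtain ⟨v, hv⟩ := ((Commute.all _ r).isNilpotent_mul_right
    (IsNilpotent.mk _ _ (sub_one_pow_eq (p := p) k))).isUnit_one_sub.exists_right_inv
  set u := MonoidAlgebra.of k Zp (ofAdd 1) - 1
  obtain ⟨Q, hQ⟩ := exists_eq_aeval_xA k (-v * (ZMod.castHom dvd_rfl k (toAdd c) • 1 + u * r'))
  refine ⟨Q, ?_⟩
  rw [← hQ, ← sub_eq_iff_eq_add', hr]
  refine hr'.trans ?_
  rw [Algebra.smul_def, Algebra.smul_def]
  linear_combination (-(algebraMap k k[Zp] (ZMod.castHom dvd_rfl k (toAdd c)) * u + u ^ 2 * r')) * hv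

end univ

section grp

variable {p : ℕ} [hp : Fact p.Prime] {k : Type} [Field k] [CharP k p]
variable {G : Type*} [Group G] [Finite G]
variable {V W : Type*} [AddCommGroup V] [Module k V] [AddCommGroup W] [Module k W]

open Multiplicative

local notation "Zp" => Multiplicative (ZMod p)

variable (ι : Multiplicative (ZMod p) →* G) (σ : Representation k G V) (τ : Representation k G W)

local notation "N" => Subgroup.normalizer (MonoidHom.range ι : Set G)
local notation "g₀" => ι (ofAdd 1)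

/-- The action of `xA`. -/
noncomputable def xop : End k V := MonoidAlgebra.lift k _ Zp (σ.comp ι) (xA p k)

theorem xop_eq : xop ι σ = ∑ c : ZMod p, ZMod.castHom dvd_rfl k c⁻¹ • (σ (ι (ofAdd c)) - 1) := by
  simp [xop, xA]

theorem exists_apply_eq (c : Zp) : ∃ Q : k[X], σ (ι c) = 1 + xop ι σ * aeval (xop ι σ) Q := by
  obtain ⟨Q, hQ⟩ := exists_of_eq_xA k c
  have := congrArg (MonoidAlgebra.lift k _ Zp (σ.comp ι)) hQ
  rw [MonoidAlgebra.lift_of, map_add, map_one, map_mul, ← aeval_algHom_apply] at this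
  exact ⟨Q, this⟩

theorem exists_xop_eq : ∃ w, Commute (σ g₀ - 1) w ∧ xop ι σ = (σ g₀ - 1) * w := by
  obtain ⟨r, hr⟩ := exists_xA_eq (p := p) k
  have h1 : MonoidAlgebra.lift k _ Zp (σ.comp ι) (MonoidAlgebra.of k Zp (ofAdd 1) - 1) =
      σ g₀ - 1 := by rw [map_sub, map_one (MonoidAlgebra.lift k _ Zp (σ.comp ι)), MonoidAlgebra.lift_of]; rfl
  exact ⟨MonoidAlgebra.lift k _ Zp (σ.comp ι)
    (-1 + (MonoidAlgebra.of k Zp (ofAdd 1) - 1) * r), h1 ▸ (Commute.all _ _).map _,
    by rw [xop, hr, map_mul, h1]⟩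

theorem sub_one_pow : (σ g₀ - 1) ^ p = 0 := by
  simpa using congrArg (MonoidAlgebra.lift k _ Zp (σ.comp ι)) (sub_one_pow_eq (p := p) k)

theorem xop_pow : xop ι σ ^ p = 0 := by
  obtain ⟨w, h1, h2⟩ := exists_xop_eq ι σ
  rw [h2, h1.mul_pow, sub_one_pow, zero_mul]

theorem exists_sub_one_eq (c : Zp) : ∃ w, Commute (xop ι σ) w ∧ σ (ι c) - 1 = xop ι σ * w := by
  obtain ⟨Q, hQ⟩ := exists_apply_eq ι σ c
  exact ⟨_, (commute_X Q).map (aeval (xop ι σ)) |>.symm |>.symm |> fun h => by simpa using h,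
    by rw [hQ, add_sub_cancel_left]⟩

theorem range_sub_one_pow (j : ℕ) :
    LinearMap.range ((σ g₀ - 1) ^ j) = LinearMap.range (xop ι σ ^ j) := by
  obtain ⟨w, h1, h2⟩ := exists_xop_eq ι σ
  obtain ⟨w', h3, h4⟩ := exists_sub_one_eq ι σ (ofAdd 1)
  refine le_antisymm ?_ ?_
  · rw [h4, h3.mul_pow]; exact LinearMap.range_comp_le_range _ _
  · conv_lhs => rw [h2, h1.mul_pow]
    exact LinearMap.range_comp_le_range _ _

theorem sub_one_pow_apply {c : Zp} {j : ℕ} {v : V} (h : (xop ι σ ^ j) v = 0) :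
    ((σ (ι c) - 1) ^ j) v = 0 := by
  obtain ⟨w', h3, h4⟩ := exists_sub_one_eq ι σ c
  rw [h4, h3.eq, h3.symm.mul_pow, End.mul_apply, h, map_zero]

theorem commute_xop {φ : End k V} (h : ∀ c, Commute (σ (ι c)) φ) : Commute (xop ι σ) φ := by
  rw [xop_eq]
  exact Commute.sum_left _ _ _ fun c _ => ((h _).sub_left (Commute.one_left _)).smul_left _

theorem commute_of_xop {φ : End k V} (h : Commute (xop ι σ) φ) (c : Zp) : Commute (σ (ι c)) φ := by
  obtain ⟨Q, hQ⟩ := exists_apply_eq ι σ c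
  rw [hQ]
  refine (Commute.one_left _).add_left (h.mul_left ?_)
  exact (Algebra.commute_of_mem_adjoin_singleton_of_commute (aeval_mem_adjoin_singleton k _)
    h.symm).symm

theorem xop_apply_eq_zero {v : V} (h : ∀ c, σ (ι c) v = v) : xop ι σ v = 0 := by
  simp [xop_eq, LinearMap.sum_apply, h]

theorem apply_of_xop {v : V} (h : xop ι σ v = 0) (c : Zp) : σ (ι c) v = v :=
  sub_eq_zero.1 (by simpa using sub_one_pow_apply ι σ (c := c) (j := 1) (by simpa using h))

theorem sum_eq_pow : ∑ c, σ (ι c) = (σ g₀ - 1) ^ (p - 1) := by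
  have h := (sub_one_pow_card (k := k) (A := Zp) (IsPGroup.of_card (p := p) (n := 1) (by simp))
    (σ.comp ι) (d := ofAdd 1) fun u => ⟨(toAdd u).val, by
      simp [← ofAdd_zsmul]⟩).1
  simpa using h.symm

theorem linHom_pow_mem (n : ℕ) : ∀ (l : ℕ) (β : V →ₗ[k] W) (v : V), (xop ι σ ^ l) v = 0 →
    ((σ.linHom τ g₀ - 1) ^ n) β v ∈ LinearMap.range (xop ι τ ^ (n + 1 - l)) := by
  induction n with
  | zero =>
    intro l β v hv
    rcases l with _ | l
    · rw [show v = 0 by simpa using hv]; simp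
    · simp
  | succ n ih =>
    intro l β v hv
    rcases l with _ | l
    · rw [show v = 0 by simpa using hv]; simp
    have h1 : ∀ c, (xop ι σ ^ (l + 1)) (σ (ι c) v) = 0 := fun c => by
      rw [← End.mul_apply, ← ((commute_of_xop ι σ (Commute.refl _) c).pow_right _).eq,
        End.mul_apply, hv, map_zero]
    obtain ⟨w, h2, h3⟩ := exists_sub_one_eq ι σ (ofAdd 1)⁻¹
    obtain ⟨w', h4, h5⟩ := exists_sub_one_eq ι τ (ofAdd 1)
    have h6 : ∀ γ : V →ₗ[k] W, (σ.linHom τ g₀ - 1) γ v =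
        (τ g₀ - 1) (γ (σ (ι (ofAdd 1)⁻¹) v)) + γ ((σ (ι (ofAdd 1)⁻¹) - 1) v) := fun γ => by simp
    rw [pow_succ', End.mul_apply, h6, Nat.add_sub_add_right]
    refine add_mem ?_ (ih l β _ ?_)
    · obtain ⟨y, hy⟩ := ih _ β _ (h1 (ofAdd 1)⁻¹)
      rw [← hy, h5, ← End.mul_apply, mul_assoc, ← (h4.pow_left _).eq, ← mul_assoc, ← pow_succ']
      obtain ⟨d, hd⟩ : ∃ d, n + 1 - (l + 1) + 1 = n + 1 - l + d := ⟨n + 1 - (l + 1) + 1 - (n + 1 - l), by omega⟩
      rw [hd, pow_add]
      exact ⟨_, rfl⟩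
    · rw [h3, ← End.mul_apply, ← mul_assoc, ← pow_succ, (h2.pow_left _).eq, End.mul_apply, hv,
        map_zero]

/-- Values of projective homomorphisms. -/
theorem sum_linHom_mem {H : Subgroup G} [Fintype H] (hH : ι.range ≤ H) (hι : Function.Injective ι)
    (β : V →ₗ[k] W) {l : ℕ} {v : V} (hv : (xop ι σ ^ l) v = 0) :
    (∑ n : H, σ.linHom τ n β) v ∈ LinearMap.range (xop ι τ ^ (p - l)) := by
  let _ : MulAction Zp H := MulAction.compHom H (subHom ι hH)
  rw [LinearMap.sum_apply]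
  refine LG.sum_mem_of_free (P := Zp) (LinearMap.range _).toAddSubgroup _ _ (by simp)
    (fun n _ y hy => hι ?_) fun n _ => ?_
  · simpa using congrArg Subtype.val (mul_eq_right.1 hy : subHom ι hH y = 1)
  · have h := linHom_pow_mem ι σ τ (p - 1) l (σ.linHom τ n β) v hv
    rw [Nat.sub_add_cancel hp.out.one_le, ← sum_eq_pow, LinearMap.sum_apply,
      LinearMap.sum_apply] at h
    rw [Finset.sum_congr rfl fun y _ => by rw [← End.mul_apply, ← map_mul]] at h
    exact h

/-- A generator of `N(P) / C(P)`, when `C(P) = P × Z`. -/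
structure Gen (h : G) (s : ZMod p) : Prop where
  syl : PrimeSyl p ι
  cen : cenReg p ι ≤ Subgroup.center G
  mem : h ∈ N
  reg : ¬ p ∣ orderOf h
  conj : ∀ c, h * ι (ofAdd c) * h⁻¹ = ι (ofAdd (s * c))
  ord : orderOf s = Nat.card (autN ι)
  pow_mem : ∀ j : ℕ, h ^ j ∈ Subgroup.centralizer (ι.range : Set G) ↔ Nat.card (autN ι) ∣ j
  gen : ∀ n ∈ N, ∃ (j : ℕ) (u : Zp), ∃ y ∈ cenReg p ι, n = h ^ j * (ι u * y)

variable {ι}

theorem exists_gen (H : PrimeSyl p ι) (hc : cenReg p ι ≤ Subgroup.center G) :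
    ∃ h s, Gen ι h s := by
  obtain ⟨h, h1, h2, h3, h4⟩ := H.exists_gen
  obtain ⟨s, hs⟩ := (Subgroup.mem_normalizer_iff.1 h1 _).1 ⟨ofAdd 1, rfl⟩
  have h5 : ∀ c, h * ι (ofAdd c) * h⁻¹ = ι (ofAdd (toAdd s * c)) := fun c => by
    obtain ⟨n, rfl⟩ := ZMod.natCast_zmod_surjective c
    rw [← nsmul_one, ofAdd_nsmul, map_pow, ← conj_pow, ← hs, ← map_pow, mul_smul_comm, mul_one,
      ofAdd_nsmul, ofAdd_toAdd]
  have h6 : ∀ (j : ℕ) c, h ^ j * ι (ofAdd c) * (h ^ j)⁻¹ = ι (ofAdd (toAdd s ^ j * c)) :=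
    fun j c => by
      induction j with
      | zero => simp
      | succ j ih => rw [pow_succ' h, pow_succ', mul_assoc (toAdd s), ← h5, ← ih]; group
  have h7 : ∀ j : ℕ, orderOf (toAdd s) ∣ j ↔ Nat.card (autN ι) ∣ j := fun j => by
    rw [orderOf_dvd_iff_pow_eq_one, ← h3, Subgroup.mem_centralizer_iff]
    refine ⟨fun h8 => ?_, fun h8 => ?_⟩
    · rintro _ ⟨c, rfl⟩
      exact eq_mul_inv_iff_mul_eq.1 (by simpa [h8] using (h6 j (toAdd c)).symm)
    · have := h6 j 1
      rw [← h8 _ ⟨_, rfl⟩, mul_inv_cancel_right] at this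
      simpa using (H.inj this).symm
  refine ⟨h, toAdd s, H, hc, h1, h2, h5, Nat.dvd_antisymm ((h7 _).2 dvd_rfl) ((h7 _).1 dvd_rfl),
    h3, fun n hn => ?_⟩
  obtain ⟨j, c, h7, rfl⟩ := h4 n hn
  obtain ⟨u, y, hy, rfl⟩ := H.exists_eq_mul h7
  exact ⟨j, u, y, hy, rfl⟩

end grp

end BT.Lat
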