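import Cfsg.Agent.Lib.Block.LatJ
import Cfsg.Agent.Lib.Block.OneBR

/-!
# Green correspondence and a dimension inequality for a Sylow subgroup of prime order
-/

set_option autoImplicit false
set_option linter.unusedSectionVars false

namespace BT.Lat

open Cfsg CT Module Polynomial
open scoped MonoidAlgebra ComplexConjugate TensorProduct

section lin

variable {k : Type} [Field k] {V : Type*} [AddCommGroup V] [Module k V] [FiniteDimensional k V]

theorem finrank_le_add_of_map_le (T : End k V) {F F' E : Submodule k V} (h : F.map T ≤ F')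
    (hE : F ≤ E) : finrank k F ≤ finrank k F' + finrank k ↥(LinearMap.ker T ⊓ E) := by
  rw [← (T.domRestrict F).finrank_range_add_finrank_ker, LinearMap.range_domRestrict,
    ← Submodule.finrank_map_subtype_eq F]
  refine add_le_add (Submodule.finrank_mono h) (Submodule.finrank_mono ?_)
  rintro _ ⟨v, hv, rfl⟩
  exact ⟨hv, hE v.2⟩

theorem card_le_finrank_ker {I : Type*} (B : Basis I k V) {T : End k V} {E : Submodule k V}
    (hE : ∀ v ∈ E, T v ∈ E) {I₁ : Finset I} {I' : Set I} (hd : Disjoint (I₁ : Set I) I')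
    (h1 : ∀ i ∈ I₁, B i ∈ E) (hT : ∀ i ∈ (I₁ : Set I) ∪ I', T (B i) ∈ Submodule.span k (B '' I')) :
    I₁.card ≤ finrank k ↥(LinearMap.ker T ⊓ E) := by
  have h2 := finrank_le_add_of_map_le T (F := Submodule.span k (B '' (I₁ ∪ I')) ⊓ E)
    (F' := Submodule.span k (B '' I') ⊓ E) (E := E) (by
      rintro _ ⟨v, hv, rfl⟩
      exact ⟨(show Submodule.span k (B '' (I₁ ∪ I')) ≤ (Submodule.span k (B '' I')).comap T from
        Submodule.span_le.2 (Set.forall_mem_image.2 hT)) hv.1, hE _ hv.2⟩) inf_le_right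
  have h3 := Submodule.finrank_sup_add_finrank_inf_eq (Submodule.span k (B '' I₁))
    (Submodule.span k (B '' I') ⊓ E)
  rw [((B.linearIndependent.disjoint_span_image hd).mono_right inf_le_left).eq_bot,
    finrank_bot] at h3
  have h4 : finrank k (Submodule.span k (B '' I₁)) = I₁.card := by
    rw [Set.image_eq_range]
    exact (finrank_span_eq_card (B.linearIndependent.comp _ (Subtype.val_injective
      (p := (· ∈ (I₁ : Set I)))))).trans (by simp)
  have h5 := Submodule.finrank_mono (show Submodule.span k (B '' I₁) ⊔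
    Submodule.span k (B '' I') ⊓ E ≤ Submodule.span k (B '' (I₁ ∪ I')) ⊓ E from
    sup_le (le_inf (Submodule.span_mono (Set.image_mono Set.subset_union_left))
      (Submodule.span_le.2 (Set.forall_mem_image.2 h1)))
      (inf_le_inf_right _ (Submodule.span_mono (Set.image_mono Set.subset_union_right))))
  omega

theorem finrank_range_inf_add {T h : End k V} (hc : Commute h T) {o : ℕ} (ho : h ^ o = 1)
    (ho' : (o : k) ≠ 0) {w : k} (hw : w ^ o = 1) :
    finrank k ↥(LinearMap.range T ⊓ h.eigenspace w) +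
      finrank k ↥(LinearMap.ker T ⊓ h.eigenspace w) ≤ finrank k (h.eigenspace w) := by
  obtain ⟨E, h1, -, h2, h3⟩ := exists_wt_proj ho ho' hw
  rw [← (T.domRestrict (h.eigenspace w)).finrank_range_add_finrank_ker,
    LinearMap.range_domRestrict, ← Submodule.finrank_map_subtype_eq (h.eigenspace w)]
  refine add_le_add (Submodule.finrank_mono ?_) (Submodule.finrank_mono ?_)
  · rintro _ ⟨⟨v, rfl⟩, hv⟩
    refine ⟨E v, End.mem_eigenspace_iff.2 (by rw [← End.mul_apply, h1]; rfl), ?_⟩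
    rw [← End.mul_apply, ← (h3 T hc).eq, End.mul_apply, h2 _ (End.mem_eigenspace_iff.1 hv)]
  · exact fun v hv => ⟨⟨v, hv.2⟩, hv.1, rfl⟩

theorem finrank_le_sum_eigenspace [IsAlgClosed k] {T : End k V} {e : ℕ} {α w : k}
    (hα : IsPrimitiveRoot α e) (he : (e : k) ≠ 0) (hw : w ≠ 0) (hT : T ^ e = w ^ e • 1) :
    finrank k V ≤ ∑ j ∈ Finset.range e, finrank k (T.eigenspace (w * α ^ j)) := by
  have : NeZero e := ⟨by rintro rfl; simp at he⟩
  have hss : T.IsSemisimple := End.isSemisimple_of_squarefree_aeval_eq_zero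
    (separable_X_pow_sub_C (w ^ e) he (pow_ne_zero _ hw)).squarefree
    (by simp [hT, Algebra.algebraMap_eq_smul_one, _root_.smul_pow])
  rw [← Fin.sum_univ_eq_sum_range (fun j => finrank k (T.eigenspace (w * α ^ j))),
    ← finrank_pi_fintype]
  refine LinearMap.finrank_le_finrank_of_surjective
    (f := ∑ j : Fin e, (T.eigenspace (w * α ^ (j : ℕ))).subtype ∘ₗ LinearMap.proj j)
    (LinearMap.range_eq_top.1 (top_le_iff.1 (hss.iSup_eigenspace_eq_top.ge.trans
      (iSup_le fun c v hv => ?_))))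
  rcases eq_or_ne v 0 with rfl | h0
  · exact zero_mem _
  have h1 := pow_apply_of_wt (End.mem_eigenspace_iff.1 hv) e
  rw [hT] at h1
  obtain ⟨j, hj, h2⟩ := hα.eq_pow_of_pow_eq_one (ξ := w⁻¹ * c) (by
    rw [mul_pow, ← smul_left_injective k h0 h1, inv_pow, inv_mul_cancel₀ (pow_ne_zero _ hw)])
  refine ⟨Pi.single ⟨j, hj⟩ ⟨v, by rwa [h2, mul_inv_cancel_left₀ hw]⟩, ?_⟩
  rw [LinearMap.sum_apply, Finset.sum_eq_single ⟨j, hj⟩ (fun i _ hi => by simp [hi]) (by simp)]
  simp

theorem eq_of_nilpotent {x π : End k V} (hc : Commute x π) {c a : k} (hn : IsNilpotent (π - c • 1))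
    {v : V} (hv : v ∉ LinearMap.range x) (h : π v - a • v ∈ LinearMap.range x) : a = c := by
  have key : ∀ n : ℕ, ((π - c • 1) ^ n) v - (a - c) ^ n • v ∈ LinearMap.range x := fun n => by
    induction n with
    | zero => simp
    | succ n ih =>
      obtain ⟨u, hu⟩ := ih
      rw [pow_succ', End.mul_apply, ← sub_add_cancel (((π - c • 1) ^ n) v) ((a - c) ^ n • v), ← hu,
        map_add, ← End.mul_apply, ← (hc.sub_right ((Commute.one_right x).smul_right c)).eq,
        add_sub_assoc]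
      refine add_mem ⟨_, rfl⟩ ?_
      convert Submodule.smul_mem _ ((a - c) ^ n) h using 1
      simp only [map_smul, LinearMap.sub_apply, LinearMap.smul_apply, End.one_apply]
      module
  obtain ⟨n, hn⟩ := hn
  by_contra h0
  have := key n
  rw [hn, LinearMap.zero_apply, zero_sub, neg_mem_iff,
    Submodule.smul_mem_iff _ (pow_ne_zero _ (sub_ne_zero.2 h0))] at this
  exact hv this

end lin

variable {p : ℕ} [hp : Fact p.Prime] {k : Type} [Field k] [CharP k p]
variable {G : Type*} [Group G] [Finite G]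
variable {V W : Type*} [AddCommGroup V] [Module k V] [AddCommGroup W] [Module k W]

namespace Red.IsRed

variable {R : Red k} {χ : G → ℂ} {σ : Representation k G V}

theorem exists_scalar (h : R.IsRed χ σ) {y : G} (hy : y ∈ center χ) : ∃ c : k, σ y = c • 1 := by
  obtain ⟨n, _, _, ρ, b, h1, h2⟩ := h
  rcases isEmpty_or_nonempty n with hn | ⟨⟨i⟩⟩
  · exact ⟨0, b.ext fun i => hn.elim i⟩
  rw [← funext fun g => (R.trace_cx ρ g).trans (h1 g), ← matRep_character, rep_mem_center_iff] at hy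
  obtain ⟨c, hc⟩ := hy
  have h3 : R.cx ρ y = c • 1 := Matrix.toLin'.injective (by rw [map_smul, Matrix.toLin'_one]; exact hc)
  have h4 : ρ y = ρ y i i • 1 := Matrix.ext fun a b => Subtype.ext (by
    have h5 := congrFun (congrFun h3 a) b
    have h6 := congrFun (congrFun h3 i) i
    by_cases h : a = b <;> simp_all [cx])
  refine ⟨R.r (ρ y i i), (LinearMap.toMatrix b b).injective ?_⟩
  rw [h2, map_smul, LinearMap.toMatrix_one]
  conv_lhs => rw [h4]
  rw [Matrix.map_smul' _ _ _ (map_mul R.r), Matrix.map_one _ (map_zero _) (map_one _)]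

theorem fixed (h : R.IsRed χ σ) {y : G} {o : ℕ} (hy : y ^ o ∈ CT.ker χ) : σ y ^ o = 1 ∧
    ((o : k) ≠ 0 → (finrank k (End.eigenspace (σ y) 1) : ℂ) * o =
      ∑ i ∈ Finset.range o, χ (y ^ i)) := by
  obtain ⟨n, _, _, ρ, b, h1, h2⟩ := h
  rw [← funext fun g => (R.trace_cx ρ g).trans (h1 g), ← matRep_character, rep_mem_ker_iff] at hy
  have h3 : R.cx ρ (y ^ o) = 1 := Matrix.toLin'.injective (by rw [Matrix.toLin'_one]; exact hy)
  have h4 : ρ y ^ o = 1 := by
    rw [← map_pow]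
    exact Matrix.map_injective Subtype.val_injective (h3.trans (Matrix.map_one _ rfl rfl).symm)
  refine ⟨(LinearMap.toMatrix b b).injective (by
    rw [← map_pow, h2, map_pow, h4, LinearMap.toMatrix_one]; simp), fun ho => ?_⟩
  have h5 := R.finrank_ker_mul ho h4
  simp only [← map_pow, h1] at h5
  rw [← h5, ← LinearEquiv.finrank_map_eq b.equivFun]
  congr 2
  refine congrArg (fun U : Submodule k (n → k) => finrank k U) (Submodule.ext fun w => ?_)
  obtain ⟨v, rfl⟩ := b.equivFun.surjective w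
  rw [Submodule.mem_map_equiv, LinearEquiv.symm_apply_apply, End.mem_eigenspace_iff,
    LinearMap.mem_ker, LinearMap.sub_apply, sub_eq_zero, Matrix.toLin'_apply, ← h2,
    Basis.equivFun_apply, LinearMap.toMatrix_mulVec_repr, End.one_apply, one_smul]
  exact ⟨fun h => by rw [h], fun h => b.repr.injective (DFunLike.coe_injective h)⟩

end Red.IsRed

open Multiplicative

local notation "Zp" => Multiplicative (ZMod p)

variable {ι : Multiplicative (ZMod p) →* G} (σ : Representation k G V) (τ : Representation k G W)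

local notation "N" => Subgroup.normalizer (MonoidHom.range ι : Set G)
local notation "C" => Subgroup.centralizer (MonoidHom.range ι : Set G)
local notation "e" => Nat.card (autN ι)

theorem _root_.BT.PrimeSyl.stab_ne_zero (H : PrimeSyl p ι) {K : Subgroup G} (hK : K = N) :
    ∀ g ∉ K, (Nat.card (MulAction.stabilizer K (g : G ⧸ K)) : k) ≠ 0 := fun g hg h => by
  subst hK
  obtain ⟨x, hx⟩ := exists_prime_orderOf_dvd_card' p ((CharP.cast_eq_zero_iff k p _).1 h)
  refine hg (inv_mem_iff.1 (H.mem_normalizer_of_conj (x := x)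
    (by rw [Subgroup.orderOf_coe, Subgroup.orderOf_coe, hx]) x.1.2 ?_))
  simpa using (smul_coe_eq_iff _ g x).1 x.2

theorem linHom_eq_iff {g : G} {φ : V →ₗ[k] W} :
    σ.linHom τ g φ = φ ↔ τ g ∘ₗ φ = φ ∘ₗ σ g := by
  rw [Representation.linHom_apply]
  refine ⟨fun h => ?_, fun h => ?_⟩
  · conv_rhs => rw [← h]
    ext v
    simp
  · rw [← LinearMap.comp_assoc, h]
    ext v
    simp

theorem xop_comp {φ : V →ₗ[k] W} (h : ∀ c, τ (ι c) ∘ₗ φ = φ ∘ₗ σ (ι c)) (j : ℕ) (v : V) :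
    (xop ι τ ^ j) (φ v) = φ ((xop ι σ ^ j) v) := by
  induction j with
  | zero => rfl
  | succ j ih =>
    have h1 := fun c v => LinearMap.congr_fun (h c) v
    simp only [LinearMap.comp_apply] at h1
    rw [pow_succ', pow_succ', End.mul_apply, End.mul_apply, ih]
    simp [xop_eq, LinearMap.sum_apply, h1]

theorem apply_sum_eq {H : Subgroup G} [Fintype H] {g : G} (hg : g ∈ H) (v : V) :
    σ g (∑ n : H, σ n v) = ∑ n : H, σ n v := by
  rw [map_sum, ← Equiv.sum_comp (Equiv.mulLeft (⟨g, hg⟩ : H)) fun n : H => σ n v]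
  simp

namespace Gen

variable {h : G} {s : ZMod p} (Γ : Gen ι h s)
include Γ

local notation "α" => ZMod.castHom dvd_rfl k s

theorem prim : IsPrimitiveRoot α e :=
  (Γ.ord ▸ IsPrimitiveRoot.orderOf s).map_of_injective (ZMod.castHom dvd_rfl k).injective

theorem e_ne : (e : k) ≠ 0 := fun h => Nat.not_dvd_of_pos_of_lt Γ.syl.card_autN_pos
  ((Nat.le_of_dvd (by have := hp.out.two_le; omega) Γ.syl.card_autN_dvd).trans_lt
    (Nat.sub_one_lt hp.out.ne_zero)) ((CharP.cast_eq_zero_iff k p _).1 h)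

theorem α_ne : α ≠ 0 := Γ.prim.ne_zero Γ.syl.card_autN_pos.ne'

theorem o_ne : (orderOf h : k) ≠ 0 := fun h => Γ.reg ((CharP.cast_eq_zero_iff k p _).1 h)

omit Γ in
theorem apply_pow_o : σ h ^ orderOf h = 1 := by rw [← map_pow, pow_orderOf_eq_one, map_one]

theorem pow_mem_cenReg {j : ℕ} (hj : e ∣ j) : h ^ j ∈ cenReg p ι :=
  Γ.syl.mem_cenReg.2 ⟨(Γ.pow_mem j).2 hj, fun h => Γ.reg (h.trans (orderOf_pow_dvd j))⟩

theorem pow_of_dvd {j : ℕ} (hj : e ∣ j) : α ^ j = 1 := (Γ.prim.pow_eq_one_iff_dvd j).2 hj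

theorem mul_xop : σ h * xop ι σ = α • (xop ι σ * σ h) := by
  have hs : s ≠ 0 := fun h => Γ.α_ne (k := k) (by rw [h, map_zero])
  rw [xop_eq, Finset.mul_sum, Finset.sum_mul, Finset.smul_sum,
    ← Equiv.sum_comp (Equiv.mulLeft₀ s hs) fun c => α • ((_ • (σ (ι (ofAdd c)) - 1)) * σ h)]
  refine Finset.sum_congr rfl fun c _ => ?_
  rw [Equiv.mulLeft₀_apply, ← Γ.conj, smul_mul_assoc, smul_smul, ← map_mul, mul_inv,
    mul_inv_cancel_left₀ hs, mul_smul_comm, mul_sub, sub_mul, ← map_mul, ← map_mul]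
  simp

theorem exists_gj [IsAlgClosed k] [FiniteDimensional k V] :
    ∃ (S : Type) (_ : Fintype S) (l : S → ℕ) (m : S → V) (w : S → k)
      (B : Basis (Σ s, Fin (l s)) k V), GJ (xop ι σ) (σ h) l m w B :=
  Lat.exists_gj Γ.α_ne Γ.o_ne ⟨p, xop_pow ι σ⟩ (Γ.mul_xop σ) (apply_pow_o σ)

theorem commute (hZ : ∀ y ∈ cenReg p ι, ∃ c : k, σ y = c • 1) {φ : End k V}
    (h1 : Commute (xop ι σ) φ) (h2 : Commute (σ h) φ) {n : G} (hn : n ∈ N) : Commute (σ n) φ := by
  obtain ⟨j, u, y, hy, rfl⟩ := Γ.gen n hn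
  obtain ⟨c, hc⟩ := hZ y hy
  rw [map_mul, map_mul, map_pow, hc]
  exact (h2.pow_left j).mul_left ((commute_of_xop ι σ h1 u).mul_left
    ((Commute.one_left φ).smul_left c))

theorem sum_eq [Fintype N] [Fintype C] (φ : G → ℂ) :
    ∑ n : N, φ n = ∑ i ∈ Finset.range e, ∑ c : C, φ (h ^ i * c) := by
  rw [← Finset.sum_product']
  have key : ∀ {i j : ℕ} {c d : C}, i ≤ j → j < e → h ^ i * c = h ^ j * d → i = j := by
    intro i j c d h1 h2 h3
    obtain ⟨a, rfl⟩ := Nat.exists_eq_add_of_le h1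
    rw [pow_add, mul_assoc, mul_right_inj, ← mul_inv_eq_iff_eq_mul] at h3
    have := Nat.eq_zero_of_dvd_of_lt ((Γ.pow_mem a).1 (h3 ▸ mul_mem c.2 (inv_mem d.2)))
    omega
  refine (Finset.sum_bij (fun a _ => ⟨h ^ a.1 * a.2, mul_mem (Subgroup.pow_mem _ Γ.mem _)
    (Subgroup.centralizer_le_normalizer _ a.2.2)⟩) (fun _ _ => Finset.mem_univ _) (fun a ha b hb hab => ?_)
    (fun n _ => ?_) fun _ _ => rfl).symm
  · simp only [Finset.mem_product, Finset.mem_range, Subtype.mk.injEq] at ha hb hab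
    have : a.1 = b.1 := (le_total a.1 b.1).elim (fun h => key h hb.1 hab)
      fun h => (key h ha.1 hab.symm).symm
    exact Prod.ext this (Subtype.ext (mul_left_cancel (this ▸ hab)))
  · obtain ⟨j, u, y, hy, hn⟩ := Γ.gen n n.2
    refine ⟨(j % e, ⟨h ^ (e * (j / e)) * (ι u * y), mul_mem ((Γ.pow_mem _).2 (Dvd.intro _ rfl))
      (mul_mem (range_le_centralizer ι ⟨_, rfl⟩) (Γ.syl.mem_cenReg.1 hy).1)⟩),
      Finset.mem_product.2 ⟨Finset.mem_range.2 (Nat.mod_lt _ Γ.syl.card_autN_pos),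
        Finset.mem_univ _⟩, Subtype.ext ?_⟩
    simp only [hn, ← mul_assoc, ← pow_add, Nat.mod_add_div]

theorem ip_mul {φ μ : N → ℂ} (h1 : ∀ (n c : N), c.1 ∈ C → φ (n * c) * conj (μ (n * c)) =
    φ n * conj (μ n)) : ip φ μ * e = ∑ i ∈ Finset.range e,
      φ ⟨h ^ i, Subgroup.pow_mem _ Γ.mem i⟩ * conj (μ ⟨h ^ i, Subgroup.pow_mem _ Γ.mem i⟩) := by
  have := Fintype.ofFinite N
  have := Fintype.ofFinite C
  have h2 := Γ.sum_eq fun _ => 1
  have h3 := Γ.sum_eq (extendByZero N fun n => φ n * conj (μ n))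
  simp only [Finset.sum_const, Finset.card_univ, nsmul_eq_mul, mul_one, Finset.card_range,
    ← Nat.card_eq_fintype_card] at h2
  rw [Finset.sum_congr rfl fun n _ => extendByZero_of_mem _ _ n.2, Finset.sum_congr rfl fun i _ =>
    Finset.sum_congr rfl fun (c : C) _ => (extendByZero_of_mem _ _ (mul_mem (Subgroup.pow_mem _ Γ.mem i)
      (Subgroup.centralizer_le_normalizer _ c.2))).trans (h1 ⟨h ^ i, Subgroup.pow_mem _ Γ.mem i⟩
        ⟨c, Subgroup.centralizer_le_normalizer _ c.2⟩ c.2)] at h3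
  simp only [Finset.sum_const, Finset.card_univ, nsmul_eq_mul, ← Nat.card_eq_fintype_card,
    ← Finset.mul_sum] at h3
  rw [ip_def, h3, h2]
  have := card_cast_ne_zero (G := C)
  have : (e : ℂ) ≠ 0 := Nat.cast_ne_zero.2 Γ.syl.card_autN_pos.ne'
  field_simp

theorem ip_res_mul [Fintype Zp] {F : G → ℂ} (hF : IsClassFunction G F) {f : ℂ}
    (hf : ∑ u, F (ι u) = p * f) {μ : N → ℂ} (hμ : ∀ u, subHom ι Subgroup.le_normalizer u ∈ ker μ)
    (h1 : μ 1 = 1) (hk : ∀ y : N, y.1 ∈ cenReg p ι → ∀ (g : G) (n : N),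
      F (g * y) * conj (μ (n * y)) = F g * conj (μ n)) : ip (res N F) μ * e + F 1 =
      f + ∑ i ∈ Finset.range e, F (h ^ i) * conj (μ ⟨h ^ i, Subgroup.pow_mem _ Γ.mem i⟩) := by
  obtain ⟨e', he⟩ := Nat.exists_eq_succ_of_ne_zero Γ.syl.card_autN_pos.ne'
  rw [← ip_fixPart ι F hμ, Γ.ip_mul fun n c hc => ?_,
    he, Finset.sum_range_succ', Finset.sum_range_succ', Finset.sum_congr rfl fun i hi => by
      rw [Γ.syl.fixPart_apply hF fun h => absurd (Nat.le_of_dvd i.succ_pos
        ((Γ.pow_mem _).1 h)) (by simp at hi; omega)]]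
  · simp only [pow_zero]
    rw [show (⟨1, _⟩ : N) = 1 from rfl, Γ.syl.fixPart_one hf, h1, map_one]
    ring
  · obtain ⟨u, y, hy, h2⟩ := Γ.syl.exists_eq_mul hc
    obtain ⟨v, hv⟩ := (Subgroup.mem_normalizer_iff.1 n.2 _).1 ⟨u, rfl⟩
    let y' : N := ⟨y, Subgroup.centralizer_le_normalizer _ (Γ.syl.mem_cenReg.1 hy).1⟩
    rw [show n * c = subHom ι Subgroup.le_normalizer v * (n * y') from Subtype.ext (by
      simp only [Subgroup.coe_mul, coe_subHom, h2, hv, y']; group), fixPart_mul, hμ v, fixPart,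
      fixPart, mul_assoc, mul_assoc, Finset.sum_mul, Finset.sum_mul]
    exact congrArg _ (Finset.sum_congr rfl fun a _ => by
      rw [Subgroup.coe_mul, ← mul_assoc, hk y' hy])

variable {S : Type} {l : S → ℕ} {m : S → V} {w : S → k} {B : Basis (Σ s, Fin (l s)) k V}

theorem wt_ne (J : GJ (xop ι σ) (σ h) l m w B) (a : S) : w a ≠ 0 := fun h0 => by
  have := wt_pow_eq_one (apply_pow_o σ) (J.wt a) (J.pow_ne_zero (J.pos a))
  rw [h0, zero_pow (orderOf_pos h).ne'] at this
  exact zero_ne_one this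

/-- At most one Jordan block of an indecomposable module is not free. -/
theorem eq_of_lt [FiniteDimensional k V] (J : GJ (xop ι σ) (σ h) l m w B)
    (hZ : ∀ y ∈ cenReg p ι, ∃ c : k, σ y = c • 1)
    (hloc : ∀ φ : End k V, (∀ g, Commute (σ g) φ) → ∃ c : k, IsNilpotent (φ - c • 1))
    {a b : S} (ha : l a < p) (hb : l b < p) : a = b := by
  by_contra hab
  have := Fintype.ofFinite N
  have := Fintype.ofFinite (G ⧸ N)
  obtain ⟨φ, h1, h2, h3, h4⟩ := J.exists_proj (Γ.mul_xop σ) a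
  have h5 : ∀ n ∈ N, σ.linHom σ n φ = φ := fun n hn =>
    (linHom_eq_iff σ σ).2 (Γ.commute σ hZ h1 h2 hn)
  obtain ⟨ψ, h6⟩ := exists_sum_out_eq (σ.linHom σ) N (Γ.syl.stab_ne_zero rfl) h5
  have h7 := fun g => (linHom_eq_iff σ σ).1 (sum_out_mem_invariants (σ.linHom σ) N h5 g)
  obtain ⟨c, hc⟩ := hloc _ h7
  have h8 := commute_xop ι σ fun c => h7 (ι c)
  have h9 : ∀ t, l t < p → (∑ n : N, σ.linHom σ n ψ) (m t) ∈ LinearMap.range (xop ι σ) :=
    fun t ht => by
      obtain ⟨v, hv⟩ := sum_linHom_mem ι σ σ Subgroup.le_normalizer Γ.syl.inj ψ (J.nil t)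
      rw [← hv, show p - l t = p - l t - 1 + 1 by omega, pow_succ']
      exact ⟨_, rfl⟩
  refine one_ne_zero ((eq_of_nilpotent h8 hc (J.gen_not_mem a) (a := 1) ?_).trans
    (eq_of_nilpotent h8 hc (J.gen_not_mem b) (a := 0) ?_).symm)
  · rw [h6, LinearMap.add_apply, h3, one_smul, add_sub_cancel_left]
    exact h9 a ha
  · rw [h6, LinearMap.add_apply, h4 b (Ne.symm hab), zero_smul, sub_zero, zero_add]
    exact h9 b hb

theorem finrank_range_le [Fintype S] [Fintype N] [FiniteDimensional k W]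
    (J : GJ (xop ι σ) (σ h) l m w B) : finrank k (LinearMap.range (∑ n : N, σ.linHom τ n)) ≤
      ∑ a, finrank k ↥(LinearMap.range (xop ι τ ^ (p - l a)) ⊓ End.eigenspace (τ h) (w a)) := by
  have h1 : ∀ φ ∈ LinearMap.range (∑ n : N, σ.linHom τ n), ∀ n ∈ N, τ n ∘ₗ φ = φ ∘ₗ σ n := by
    rintro _ ⟨φ, rfl⟩ n hn
    rw [← linHom_eq_iff, LinearMap.sum_apply, apply_sum_eq _ hn]
  rw [← finrank_pi_fintype]
  refine LinearMap.finrank_le_finrank_of_injective (f := LinearMap.pi fun a =>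
    LinearMap.codRestrict _ (LinearMap.applyₗ (m a) ∘ₗ Submodule.subtype _) fun φ => ⟨?_, ?_⟩)
    ((injective_iff_map_eq_zero _).2 fun φ h0 => Subtype.ext (J.ext fun a j => ?_))
  · obtain ⟨_, φ, rfl⟩ := φ
    change (∑ n : N, σ.linHom τ n) φ (m a) ∈ _
    rw [LinearMap.sum_apply]
    exact sum_linHom_mem ι σ τ Subgroup.le_normalizer Γ.syl.inj φ (J.nil a)
  · refine End.mem_eigenspace_iff.2 ((LinearMap.congr_fun (h1 _ φ.2 h Γ.mem) (m a)).trans ?_)
    rw [LinearMap.comp_apply, J.wt, map_smul]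
    rfl
  · rw [← xop_comp σ τ fun c => h1 _ φ.2 _ (Subgroup.le_normalizer ⟨c, rfl⟩),
      show φ.1 (m a) = 0 from congrArg Subtype.val (congrFun h0 a)]
    simp

theorem sum_le_finrank [Fintype S] [FiniteDimensional k W] (J : GJ (xop ι σ) (σ h) l m w B) :
    ∑ a, ∑ j ∈ Finset.range (l a), finrank k (End.eigenspace (τ h) (w a * α ^ j)) ≤
      finrank k (End.eigenspace (σ.linHom τ h) 1) := by
  classical
  have := Module.Finite.of_basis B
  rw [Finset.sum_congr rfl fun a _ => (Fin.sum_univ_eq_sum_range _ _).symm, Finset.sum_sigma',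
    Finset.univ_sigma_univ, ← finrank_pi_fintype]
  refine LinearMap.finrank_le_finrank_of_injective (f := LinearMap.codRestrict _
    ((B.constr k).toLinearMap ∘ₗ LinearMap.pi fun c => Submodule.subtype _ ∘ₗ LinearMap.proj c)
      fun u => ?_) ((injective_iff_map_eq_zero _).2 fun u h0 => funext fun c => Subtype.ext ?_)
  · rw [End.mem_eigenspace_iff, one_smul, linHom_eq_iff]
    refine B.ext fun c => ?_
    have h1 : σ h (B c) = (α ^ (c.2 : ℕ) * w c.1) • B c := by
      rw [J.basis, apply_pow_of_wt (Γ.mul_xop σ) (J.wt _)]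
    have h2 : ∀ c, B.constr k (fun c => (u c : W)) (B c) = u c := B.constr_basis k _
    change τ h (B.constr k (fun c => (u c : W)) (B c)) = B.constr k (fun c => (u c : W)) (σ h (B c))
    rw [h1, map_smul, h2, mul_comm (α ^ _)]
    exact End.mem_eigenspace_iff.1 (u c).2
  · exact (B.constr_basis k (fun c => (u c : W)) c).symm.trans
      (LinearMap.congr_fun (congrArg Subtype.val h0) (B c))

omit Γ in
theorem pow_eq_of_linHom {j : ℕ} (h1 : σ.linHom τ h ^ j = 1) {v : V} (h0 : v ≠ 0) {c : k}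
    (hv : σ h v = c • v) : τ h ^ j = c ^ j • 1 := LinearMap.ext fun u => by
  obtain ⟨f, hf⟩ := Module.Projective.exists_dual_eq_one k h0
  rw [← map_pow] at h1
  simpa [pow_apply_of_wt hv, hf] using LinearMap.congr_fun
    ((linHom_eq_iff σ τ).1 (LinearMap.congr_fun h1 (f.smulRight u))) v

variable {σ τ} {R : Red k} {β φ : G → ℂ} (hσ : R.IsRed β σ) (hτ : R.IsRed φ τ)
  (hk : cenReg p ι ≤ ker (φ * cbar β)) (J : GJ (xop ι σ) (σ h) l m w B)
include hσ hτ hk J

theorem pow_eq_smul (a : S) : τ h ^ e = w a ^ e • 1 :=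
  pow_eq_of_linHom σ τ ((hσ.linHom hτ).fixed (hk (Γ.pow_mem_cenReg dvd_rfl))).1
    (J.pow_ne_zero (J.pos a)) (J.wt a)

/-- The basic inequality. -/
theorem blau [IsAlgClosed k] [Fintype S] [Fintype Zp] (hl : ∀ a, e ∣ l a - 1) {n f : ℕ}
    (hn : ip (φ * cbar β) (fun _ => 1) = n) (hf : ∑ u, (φ * cbar β) (ι u) = p * f) :
    e * ∑ a, finrank k ↥(LinearMap.ker (xop ι τ ^ (p - l a)) ⊓ End.eigenspace (τ h) (w a)) + f ≤
      e * n + Fintype.card S * finrank k W := by
  have := Fintype.ofFinite N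
  have := hτ.finite
  have hM := hσ.linHom hτ
  obtain ⟨c, hc⟩ := (hM.isCharacter.res N).exists_nat_ip isCharacter_one
  have h1 := (hM.ip_le N (Γ.syl.stab_ne_zero rfl) hn hc).trans
    (add_le_add_right (Γ.finrank_range_le σ τ J) n)
  have h2 := Γ.ip_res_mul hM.isCharacter.isClassFunction hf (μ := fun _ => 1) (fun c g => rfl) rfl
    fun y hy g n => by rw [hM.isCharacter.isClassFunction.apply_mul_of_mem_ker (hk hy)]
  simp only [map_one, mul_one] at h2
  rw [hc, ← (hM.fixed (hk (Γ.pow_mem_cenReg dvd_rfl))).2 Γ.e_ne, hM.isCharacter.apply_one,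
    ← hM.finrank_eq] at h2
  have := hσ.finite
  rw [finrank_linearMap, J.finrank_eq, Finset.sum_mul] at h2
  have h3 := Nat.mul_le_mul_left e ((Finset.sum_le_sum fun a _ => show
      (l a - 1) / e * finrank k W + finrank k (End.eigenspace (τ h) (w a)) ≤ _ from ?_).trans
    (Γ.sum_le_finrank σ τ J))
  · have h4 := Nat.mul_le_mul_left e (Finset.sum_le_sum fun a (_ : a ∈ Finset.univ) =>
      finrank_range_inf_add (T := xop ι τ ^ (p - l a)) (h := τ h) (by
        rw [Commute, SemiconjBy, mul_pow_of_wt (Γ.mul_xop τ), Γ.pow_of_dvd, one_smul]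
        have h5 := J.pos a
        exact (show p - l a = p - 1 - (l a - 1) by omega) ▸ Nat.dvd_sub Γ.syl.card_autN_dvd (hl a))
      (apply_pow_o τ) Γ.o_ne (wt_pow_eq_one (apply_pow_o σ) (J.wt a) (J.pow_ne_zero (J.pos a))))
    have h5 : ∑ a, l a * finrank k W =
        e * ∑ a, (l a - 1) / e * finrank k W + Fintype.card S * finrank k W := by
      rw [Finset.mul_sum, ← Finset.card_univ, ← smul_eq_mul, ← Finset.sum_const,
        ← Finset.sum_add_distrib]
      refine Finset.sum_congr rfl fun a _ => ?_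
      rw [← mul_assoc, Nat.mul_div_cancel' (hl a), ← add_one_mul, Nat.sub_add_cancel (Nat.one_le_of_lt (J.pos a))]
    have h6 := Nat.mul_le_mul_left e h1
    simp only [Finset.sum_add_distrib, mul_add] at h3 h4 h6
    norm_cast at h2
    linarith
  · obtain ⟨q, hq⟩ := hl a
    rw [hq, Nat.mul_div_cancel_left _ Γ.syl.card_autN_pos,
      show l a = 1 + e * q by have := J.pos a; omega]
    clear hq
    induction q with
    | zero => rw [mul_zero, add_zero, Finset.sum_range_one, pow_zero, mul_one, zero_mul, zero_add]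
    | succ q ih =>
      have := finrank_le_sum_eigenspace Γ.prim Γ.e_ne (mul_ne_zero (Γ.wt_ne σ J a)
        (pow_ne_zero (1 + e * q) Γ.α_ne)) (T := τ h) (by
          rw [Γ.pow_eq_smul hσ hτ hk J a, mul_pow, ← pow_mul, Γ.pow_of_dvd (Dvd.intro_left _ rfl),
            mul_one])
      rw [Finset.sum_congr rfl fun j _ => by rw [mul_assoc, ← pow_add]] at this
      rw [mul_add_one, ← add_assoc, Finset.sum_range_add]
      linarith

omit hσ hτ hk

/-- Lower bound for the kernel of a power of `x` on a weight space. -/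
theorem card_le_ker [Fintype S] [FiniteDimensional k V] {j : ℕ} (hj : e ∣ j) (b : k)
    [DecidableEq k] : ∑ a, ((Finset.range (l a)).filter fun i => l a ≤ i + j ∧ w a * α ^ i = b).card
      ≤ finrank k ↥(LinearMap.ker (xop ι σ ^ j) ⊓ End.eigenspace (σ h) b) := by
  classical
  refine le_trans (le_of_eq ?_) (card_le_finrank_ker B (I' := ∅) (I₁ := Finset.univ.filter
    fun c => l c.1 ≤ c.2 + j ∧ w c.1 * α ^ (c.2 : ℕ) = b) (fun v hv => ?_) (by simp)
    (fun c hc => ?_) fun c hc => ?_)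
  · simp only [Finset.card_filter]
    rw [Finset.sum_congr rfl fun a _ => (Fin.sum_univ_eq_sum_range _ _).symm, Finset.sum_sigma',
      Finset.univ_sigma_univ]
  · rw [End.mem_eigenspace_iff] at hv ⊢
    rw [apply_pow_of_wt (Γ.mul_xop σ) hv, Γ.pow_of_dvd hj, one_mul]
  · rw [End.mem_eigenspace_iff, J.basis, apply_pow_of_wt (Γ.mul_xop σ) (J.wt _), mul_comm,
      (Finset.mem_filter.1 hc).2.2]
  · rw [J.basis, ← End.mul_apply, ← pow_add, J.pow_eq_zero (by
      simp only [Set.union_empty, Finset.coe_filter, Set.mem_ofPred_eq] at hc; omega)]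
    exact zero_mem _

omit Γ J in
theorem xop_tprod_mem {F F' : Submodule k (V ⊗[k] W)} (h0 : F' ≤ F)
    (h1 : F ≤ F'.comap ((xop ι σ).rTensor W)) (h2 : F ≤ F'.comap ((xop ι τ).lTensor V))
    {v : V ⊗[k] W} (hv : v ∈ F) : xop ι (σ.tprod τ) v ∈ F' := by
  have key : ∀ (T : End k (V ⊗[k] W)), (∀ v ∈ F, T v ∈ F') → ∀ (Q : k[X]), ∀ v ∈ F,
      (T * aeval T Q) v ∈ F' := fun T hT Q v hv =>
    hT _ (aeval_apply_smul_mem_of_le_comap hv Q T fun v hv => h0 (hT v hv))
  rw [xop_eq, LinearMap.sum_apply]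
  refine F'.sum_mem fun c _ => F'.smul_mem _ ?_
  obtain ⟨Q, hQ⟩ := exists_apply_eq ι σ (ofAdd c)
  obtain ⟨Q', hQ'⟩ := exists_apply_eq ι τ (ofAdd c)
  have h3 := key (End.rTensorAlgHom k V W (xop ι σ)) (fun v hv => h1 hv) Q
  have h4 := key (End.lTensorAlgHom k W V (xop ι τ)) (fun v hv => h2 hv) Q' v hv
  rw [aeval_algHom_apply, ← map_mul] at h3 h4
  have h5 : σ.tprod τ (ι (ofAdd c)) = End.rTensorAlgHom k V W (σ (ι (ofAdd c))) *
    End.lTensorAlgHom k W V (τ (ι (ofAdd c))) := (LinearMap.rTensor_comp_lTensor _ _ _).symm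
  convert add_mem (add_mem (h3 v hv) h4) (h3 _ (h0 h4)) using 1
  rw [h5, hQ, hQ', map_add, map_add, map_one, map_one]
  simp only [add_mul, mul_add, one_mul, mul_one, LinearMap.sub_apply, LinearMap.add_apply,
    End.mul_apply, End.one_apply]
  abel

/-- Lower bound for the kernel of a power of `x` on a weight space of a tensor product. -/
theorem sum_le_ker [Fintype S] [FiniteDimensional k V] [FiniteDimensional k W] {S' : Type}
    [Fintype S'] {l' : S' → ℕ} {m' : S' → W} {w' : S' → k} {B' : Basis (Σ s, Fin (l' s)) k W}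
    (J' : GJ (xop ι τ) (τ h) l' m' w' B') {b : k}
    (hw : σ.tprod τ h ^ e = b ^ e • 1) {r : S → S' → ℕ} (hr : ∀ a a', ∃ n₀, ∀ n, n₀ ≤ n → n < n₀ + e →
      r a a' ≤ ((Finset.range (l a)).filter fun i => i ≤ n ∧ n < i + l' a').card) :
    ∑ a, ∑ a', r a a' ≤
      finrank k ↥(LinearMap.ker (xop ι (σ.tprod τ) ^ e) ⊓ End.eigenspace (σ.tprod τ h) b) := by
  classical
  have : NeZero e := ⟨Γ.syl.card_autN_pos.ne'⟩
  let D := B.tensorProduct B'
  have hD : ∀ c, D c = (xop ι σ ^ (c.1.2 : ℕ)) (m c.1.1) ⊗ₜ (xop ι τ ^ (c.2.2 : ℕ)) (m' c.2.1) :=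
    fun c => by rw [Basis.tensorProduct_apply', J.basis, J'.basis]
  have h1 : ∀ c, σ.tprod τ h (D c) = (w c.1.1 * w' c.2.1 * α ^ (c.1.2 + c.2.2 : ℕ)) • D c :=
    fun c => by
      rw [hD, Representation.tprod_apply, TensorProduct.map_tmul,
        apply_pow_of_wt (Γ.mul_xop σ) (J.wt _), apply_pow_of_wt (Γ.mul_xop τ) (J'.wt _),
        TensorProduct.smul_tmul_smul, pow_add]
      congr 1
      ring
  have h2 : ∀ a a', ∃ n, w a * w' a' * α ^ n = b ∧
      r a a' ≤ ((Finset.range (l a)).filter fun i => i ≤ n ∧ n < i + l' a').card := fun a a' => by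
    obtain ⟨n₀, h2⟩ := hr a a'
    have h3 := pow_apply_of_wt (h1 (⟨a, 0, J.pos a⟩, ⟨a', 0, J'.pos a'⟩)) e
    rw [hw] at h3
    have h4 := smul_left_injective k (D.ne_zero _) h3
    simp only [add_zero, pow_zero, mul_one] at h4
    have h5 : w a * w' a' * α ^ n₀ ≠ 0 :=
      mul_ne_zero (mul_ne_zero (Γ.wt_ne σ J a) (Γ.wt_ne τ J' a')) (pow_ne_zero _ Γ.α_ne)
    obtain ⟨j, hj, h6⟩ := Γ.prim.eq_pow_of_pow_eq_one (ξ := (w a * w' a' * α ^ n₀)⁻¹ * b) (by
      rw [mul_pow, h4, inv_pow, mul_pow, ← pow_mul, Γ.pow_of_dvd (Dvd.intro_left _ rfl), mul_one,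
        inv_mul_cancel₀ (pow_ne_zero _ (left_ne_zero_of_mul h5))])
    exact ⟨n₀ + j, by rw [pow_add, ← mul_assoc, h6, mul_inv_cancel_left₀ h5],
      h2 _ (by omega) (by omega)⟩
  choose n hn hn' using h2
  let F : ℕ → Submodule k (V ⊗[k] W) := fun d =>
    Submodule.span k (D '' {c | n c.1.1 c.2.1 + d ≤ c.1.2 + c.2.2})
  have h3 : ∀ d a a' i j, n a a' + d ≤ i + j →
      (xop ι σ ^ i) (m a) ⊗ₜ (xop ι τ ^ j) (m' a') ∈ F d := fun d a a' i j h => by
    rcases lt_or_ge i (l a) with hi | hi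
    · rcases lt_or_ge j (l' a') with hj | hj
      · exact Submodule.subset_span ⟨(⟨a, i, hi⟩, ⟨a', j, hj⟩), h, hD _⟩
      · simp [J'.pow_eq_zero hj]
    · simp [J.pow_eq_zero hi]
  have h6 : ∀ {d d'}, d ≤ d' → F d' ≤ F d := fun h =>
    Submodule.span_mono (Set.image_mono fun c hc => (Nat.add_le_add_left h _).trans hc)
  have h4 : ∀ d, ∀ v ∈ F d, xop ι (σ.tprod τ) v ∈ F (d + 1) := fun d v hv => by
    refine xop_tprod_mem (ι := ι) (σ := σ) (τ := τ) (F := F d) (F' := F (d + 1))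
      (h6 (d.le_add_right 1)) (Submodule.span_le.2 ?_) (Submodule.span_le.2 ?_) hv
    all_goals
      rintro _ ⟨c, hc, rfl⟩
      rw [Set.mem_ofPred_eq] at hc
      rw [hD, SetLike.mem_coe, Submodule.mem_comap]
      simp only [LinearMap.rTensor_tmul, LinearMap.lTensor_tmul, ← End.mul_apply, ← pow_succ']
      exact h3 _ _ _ _ _ (by omega)
  have h5 : ∀ j, ∀ v ∈ F 0, (xop ι (σ.tprod τ) ^ j) v ∈ F j := fun j v hv => by
    induction j with
    | zero => exact hv
    | succ j ih => rw [pow_succ']; exact h4 _ _ ih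
  refine le_trans ?_ (card_le_finrank_ker D (I' := {c | n c.1.1 c.2.1 + 1 ≤ c.1.2 + c.2.2})
    (I₁ := Finset.univ.filter fun c => n c.1.1 c.2.1 = c.1.2 + c.2.2) (fun v hv => ?_)
    (Set.disjoint_left.2 fun c hc hc' => by simp at hc hc'; omega) (fun c hc => ?_)
    fun c hc => h6 (NeZero.pos e) (h5 _ _ (Submodule.subset_span ⟨c, ?_, rfl⟩)))
  · refine (Finset.sum_le_sum fun a _ => Finset.sum_le_sum fun a' _ => hn' a a').trans ?_
    rw [← Finset.sum_product', ← Finset.card_sigma]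
    refine Finset.card_le_card_of_surjOn (fun c => ⟨(c.1.1, c.2.1), c.1.2⟩) ?_
    rintro ⟨⟨a, a'⟩, i⟩ hi
    simp only [Finset.coe_sigma, Set.mem_sigma_iff, Finset.coe_filter, Finset.mem_range,
      Set.mem_ofPred_eq] at hi
    exact ⟨(⟨a, i, hi.2.1⟩, ⟨a', n a a' - i, by omega⟩), by simp; omega, rfl⟩
  · rw [End.mem_eigenspace_iff] at hv ⊢
    rw [apply_pow_of_wt (Γ.mul_xop _) hv, Γ.pow_of_dvd dvd_rfl, one_mul]
  · rw [End.mem_eigenspace_iff, h1, ← (Finset.mem_filter.1 hc).2, hn]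
  · simp only [Set.mem_union, Finset.coe_filter, Set.mem_ofPred_eq] at hc ⊢
    omega

end Gen

end BT.Lat
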