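import Cfsg.Agent.Lib.Block.OneBlau
import Cfsg.Agent.Lib.Lin.Eig
import Cfsg.Agent.S4468

/-!
# The non-`p`-closed part of a linear group of degree at most `p - 2`
-/

set_option autoImplicit false
set_option linter.unusedSectionVars false

namespace BT

open Cfsg CT GT LG
open scoped ComplexConjugate commutatorElement

variable {p : ℕ} [hp : Fact p.Prime]
variable {G : Type*} [Group G] [Finite G]

local notation "Zp" => Multiplicative (ZMod p)

theorem centralizer_le_center_of_isIrr {ψ : G → ℂ} (hψ : IsCharacter G ψ) {S : Subgroup G}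
    (h : IsIrrCharacter S (res S ψ)) : Subgroup.centralizer (S : Set G) ≤ center ψ := fun y hy => by
  have := Fintype.ofFinite S
  refine ⟨ψ y / ψ 1, fun x => ?_⟩
  have h1 := sum_conj_of_isIrr_comp hψ S.subtype h y x
  rw [Finset.sum_congr rfl (g := fun _ => ψ (y * x)) fun g _ => by
    rw [Subgroup.subtype_apply, Subgroup.mem_centralizer_iff.1 hy _ g.2, mul_inv_cancel_right],
    Finset.sum_const, Finset.card_univ, ← Nat.card_eq_fintype_card, nsmul_eq_mul] at h1
  exact mul_left_cancel₀ (card_cast_ne_zero (G := S)) (h1.trans (by ring))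

theorem comm_of_isPGroup_of_lt {χ : G → ℂ} (hχ : IsCharacter G χ) (hk : ker χ = ⊥)
    (hd : charDegree χ < p) {P : Subgroup G} (hP : IsPGroup p P) :
    ∀ x ∈ P, ∀ y ∈ P, x * y = y * x :=
  comm_of_large_primes hχ hk fun q hq h => by
    rwa [show q = p from hP.isPiNat (π := {p}) rfl q hq h]

theorem residual_le_centralizer_pCore {χ : G → ℂ} (hχ : IsCharacter G χ) (hk : ker χ = ⊥)
    (hd : charDegree χ < p) :
    pPrimeResidual p G ≤ Subgroup.centralizer (pCore p G : Set G) := by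
  obtain ⟨P⟩ : Nonempty (Sylow p G) := inferInstance
  exact pPrimeResidual_le (not_dvd_index_of_sylow_le P fun x hx =>
    Subgroup.mem_centralizer_iff.2 fun y hy =>
      comm_of_isPGroup_of_lt hχ hk hd P.isPGroup' y (pCore_le_sylow P hy) x hx)

theorem eq_one_of_mem_center_commutator {χ : G → ℂ} (hχ : IsCharacter G χ) (hk : ker χ = ⊥)
    (hd : charDegree χ < p) {z : G} (hz : IsPElt p z) (h1 : z ∈ Subgroup.center G)
    (h2 : z ∈ commutator G) : z = 1 := by
  rw [← Subgroup.mem_bot, ← hk, hχ.mem_ker_iff_forall_irr]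
  intro φ hφ
  obtain ⟨c, h3, -, h4⟩ := exists_scalar (irr_isCharacter φ) (center_le_irr_center φ h1)
  refine h4.mem_ker (irr_isCharacter φ) fun a ha => ?_
  have h5 := h4.detChar_eq (irr_isCharacter φ)
  rw [(mem_ker_detChar_iff _).1 (commutator_le_ker_detChar _ h2), Multiset.prod_replicate] at h5
  rw [Multiset.eq_of_mem_replicate ha, ← orderOf_eq_one_iff]
  exact Nat.eq_one_of_dvd_coprimes (hz.coprime_orderOf ((Nat.Prime.coprime_iff_not_dvd hp.out).2
    (Nat.not_dvd_of_pos_of_lt (irr_degree_pos φ) ((hχ.degree_le_of_ip_ne_zero φ hφ).trans_lt hd))))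
    (orderOf_dvd_of_pow_eq_one h3) (orderOf_dvd_of_pow_eq_one h5.symm)

namespace PrimeSyl
variable {A : Type*} [CommGroup A] [Finite A] {ι : A →* G} (H : PrimeSyl p ι)
include H

theorem exists_weights [Fintype A] (φ : IrrCharacter G) (hk : ker φ.1 = ⊥)
    (hd : charDegree φ.1 + 1 < p) (hnn : ¬ ι.range.Normal) :
    ∃ k : (A →* ℂˣ) → ℕ, (∀ u, φ.1 (ι u) = ∑ m, (k m : ℂ) * m u) ∧ ∑ u, φ.1 (ι u) = p * k 1 ∧
      (∀ m, k m ≤ 1) ∧ p + 2 * k 1 ≤ 2 * charDegree φ.1 + 1 := by
  classical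
  obtain ⟨k, h1, h2, -⟩ := (irr_isCharacter φ).exists_hat_mult ι
  refine ⟨k, h1, by have := h2 1; rw [H.card] at this; simpa using this, ?_⟩
  have hp0 := hp.out.pos
  by_cases h : 2 * charDegree φ.1 + 1 ≤ p
  · obtain ⟨h3, h4, -⟩ := H.faithful_small (irr_isCharacter φ) hk h hnn
    rcases H.exists_small φ hd with h5 | ⟨s, Z, l, F⟩ | h5
    · rw [hk, le_bot_iff] at h5
      exact absurd (h5 ▸ inferInstance) hnn
    swap
    · omega
    obtain rfl : s = 1 := Nat.eq_of_mul_eq_mul_right H.card_autN_pos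
      (by rw [← F.degree, one_mul, h4])
    have h6 : ∀ m, (p : ℤ) * k m =
        if ∃ σ ∈ autN ι, l.1.comp σ.toMonoidHom = m then (p : ℤ) else 0 := fun m => by
      have := h2 m
      rw [H.card, H.sum_mul_conj_of_osum (c := 1) (l := l) (fun u _ => by
        simpa [F.eq] using F.val l u), h4, irr_apply_one] at this
      refine Int.cast_injective (α := ℂ) ?_
      push_cast
      rw [← this]; ring
    have h7 := h6 1
    rw [if_neg (not_orbit_one _ l)] at h7
    refine ⟨fun m => ?_, by nlinarith⟩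
    have := h6 m
    split_ifs at this <;> nlinarith
  · obtain ⟨Z, l, F, rfl⟩ := (H.exists_co φ hk hd hnn).resolve_left h
    have h6 : ∀ m, (p : ℤ) * k m =
        p - if ∃ σ ∈ autN ι, l.1.comp σ.toMonoidHom = m then (p : ℤ) else 0 := fun m => by
      have := h2 m
      rw [H.card, H.sum_mul_conj_of_osum (c := -1) (l := l) (fun u hu => by
        simpa using F.val l u hu), irr_apply_one] at this
      refine Int.cast_injective (α := ℂ) ?_
      have h7 : (charDegree (Z l).1 : ℂ) + Nat.card (autN ι) = p := by exact_mod_cast F.deg l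
      push_cast
      rw [← this]; linear_combination h7
    have h7 := h6 1
    rw [if_neg (not_orbit_one _ l)] at h7
    have h8 := H.two_mul_card_autN_le F.lt
    have h9 := F.deg l
    refine ⟨fun m => ?_, by nlinarith⟩
    have := h6 m
    split_ifs at this <;> nlinarith

theorem isEig_nodup (φ : IrrCharacter G) (hk : ker φ.1 = ⊥)
    (hd : charDegree φ.1 + 1 < p) (hnn : ¬ ι.range.Normal) {u : A} (hu : u ≠ 1) {s : Multiset ℂ}
    (hs : IsEig φ.1 (ι u) s) : s.Nodup ∧ (2 * charDegree φ.1 + 1 ≤ p → 1 ∉ s) := by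
  classical
  have := Fintype.ofFinite A
  obtain ⟨k, h1, -, h2, h3⟩ := H.exists_weights φ hk hd hnn
  have h4 : Function.Injective fun m : A →* ℂˣ => (m u : ℂ) := fun m m' h => MonoidHom.ext fun v => by
    obtain ⟨j, rfl⟩ := mem_zpowers_of_prime_card H.card hu (g' := v)
    simp only [map_zpow, show m u = m' u from Units.ext h]
  obtain rfl := hs.unique (t := (Finset.univ.filter fun m => k m = 1).val.map fun m => (m u : ℂ))
    ⟨by simp, fun j => by
      rw [← map_pow, h1, Multiset.map_map]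
      change _ = ∑ m ∈ Finset.univ.filter fun m => k m = 1, (m u : ℂ) ^ j
      rw [Finset.sum_filter]
      refine Finset.sum_congr rfl fun m _ => ?_
      obtain h | h : k m = 0 ∨ k m = 1 := by have := h2 m; omega
      all_goals simp [h]⟩
  refine ⟨(Finset.nodup _).map h4, fun h h5 => ?_⟩
  obtain ⟨m, hm, h6⟩ := Multiset.mem_map.1 h5
  obtain rfl : m = 1 := h4 h6
  have := (Finset.mem_filter.1 hm).2
  omega

theorem perfect {χ : G → ℂ} (hχ : IsCharacter G χ) (hk : ker χ = ⊥) (hd : charDegree χ + 1 < p)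
    (hr : pPrimeResidual p G = ⊤) (hnn : ¬ ι.range.Normal) : commutator G = ⊤ := by
  by_cases h : ι.range ≤ commutator G
  · exact pPrimeResidual_eq_top_iff.1 hr _ inferInstance
      (by simpa using H.syl.not_dvd_relIndex_of_le h)
  refine absurd ⟨fun x hx g => ?_⟩ hnn
  have h1 := H.le_centralizer_of_faithful hχ hk hd (H.not_dvd_card_of_normal h)
  have h2 : g * x * g⁻¹ = ⁅g, x⁆ * x := by group
  obtain ⟨u, rfl⟩ := hx
  exact H.mem_range ((H.isPElt u).conj g) (h2 ▸ mul_mem (Subgroup.centralizer_le_normalizer _ (h1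
    (Subgroup.commutator_mem_commutator trivial trivial))) (Subgroup.le_normalizer ⟨u, rfl⟩))

end PrimeSyl

theorem PrimeSyl.le_two_mul_degree {ι : Zp →* G} (H : PrimeSyl p ι)
    (hc : pPrimeCore p G ≤ Subgroup.centralizer (ι.range : Set G))
    (hr : pPrimeResidual p G = ⊤) (hnn : ¬ ι.range.Normal) {θ : G → ℂ} (hθ : IsCharacter G θ)
    (h : ker θ ≠ ⊤) : p ≤ 2 * charDegree θ + 1 := by
  by_contra! h1
  exact h (pPrimeResidual_eq_top_iff.1 hr _ hθ.ker_normal (by
    simpa using H.syl.not_dvd_relIndex_of_le fun x hx => hθ.mem_ker_iff_forall_irr.2 fun φ hφ =>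
      H.range_le_ker_of_small hc hnn φ (by have := hθ.degree_le_of_ip_ne_zero φ hφ; omega) hx))

variable (p) in
/-- `S` is the non-`p`-closed part of the linear group `G`, and `ψ` is the constituent of `χ`
on which it acts. -/
structure LinCore (χ : G → ℂ) (S : Subgroup G) (ι : Zp →* S) (ψ : IrrCharacter G) : Prop where
  normal : S.Normal
  syl : PrimeSyl p ι
  res : pPrimeResidual p S = ⊤
  nn : ¬ ι.range.Normal
  sup : pPrimeResidual p G = S ⊔ pCore p G
  disj : Disjoint S (pCore p G)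
  cen : S ≤ Subgroup.centralizer (pCore p G : Set G)
  mem : ip χ ψ.1 ≠ 0
  irr : IsIrrCharacter S (CT.res S ψ.1)
  le_ker : S ≤ ker (χ - ψ.1)
  faith : ker (CT.res S ψ.1) = ⊥
  big : p ≤ 2 * charDegree ψ.1 + 1

theorem exists_linCore {χ : G → ℂ} (hχ : IsCharacter G χ) (hk : ker χ = ⊥)
    (hd : charDegree χ + 1 < p) (h1 : p ∣ (pCore p G).index) (h2 : ¬ p ^ 2 ∣ (pCore p G).index) :
    ∃ S ι ψ, LinCore p χ S ι ψ := by
  obtain ⟨P⟩ : Nonempty (Sylow p G) := inferInstance
  set L := pPrimeResidual p G with hL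
  set D := pCore p G with hD
  have h3 : L ≤ Subgroup.centralizer (D : Set G) := residual_le_centralizer_pCore hχ hk (by omega)
  have hDL : D ≤ L := le_pPrimeResidual_of_isPGroup (isPGroup_pCore p G)
  have h4 : Disjoint ⁅L, L⁆ D := Subgroup.disjoint_def.2 fun {z} hz hz' => by
    rw [← Subgroup.map_subtype_commutator] at hz
    obtain ⟨z, hz, rfl⟩ := hz
    exact congrArg Subtype.val (eq_one_of_mem_center_commutator (hχ.res L)
      (by rw [hχ.ker_res, hk]; simp) (by rw [charDegree_res]; omega)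
      (isPElt_coe.1 (isPElt_of_mem (isPGroup_pCore p G) hz')) (Subgroup.mem_center_iff.2 fun g =>
        Subtype.ext (Subgroup.mem_centralizer_iff.1 (h3 g.2) _ hz').symm) hz)
  have h5 : ∀ T : Subgroup G, Disjoint T D → Nat.card T * (T ⊔ D).index = D.index := fun T h =>
    Nat.eq_of_mul_eq_mul_left (Nat.card_pos (α := D)) (by
      rw [← mul_assoc, mul_comm (Nat.card D), ← card_sup_of_disjoint h, Subgroup.card_mul_index,
        Subgroup.card_mul_index])
  have h6 : p ∣ Nat.card (⁅L, L⁆ : Subgroup G) := by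
    by_contra h
    have h7 : IsPSolvable p G := by
      have : Group.IsSolvable (L ⧸ commutator L) :=
        inferInstanceAs (Group.IsSolvable (Abelianization L))
      refine isPSolvable_of_normal L (isPSolvable_of_normal (commutator L)
        (isPSolvable_of_not_dvd ?_) isPSolvable_of_isSolvable)
        (isPSolvable_of_not_dvd (not_dvd_index_pPrimeResidual p G))
      rwa [← Subgroup.card_map_of_injective L.subtype_injective, Subgroup.map_subtype_commutator]
    have := (Agent.S4468.result χ hχ (hχ.ker_eq_bot_iff.1 hk) _ rfl p hp.out h7 (by omega) P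
      fun h => (normal_sylow_iff_not_dvd_index_pCore P).1 h h1).1
    omega
  have h7 := isSylowIn_inf_of_normal P ⁅L, L⁆
  set R := (P : Subgroup G) ⊓ ⁅L, L⁆ with hR
  have h8 : Nat.card R = p := by
    have h9 := (hp.out.pow_dvd_iff_le_factorization Nat.card_pos.ne' (k := 1)).1
      (by simpa using h6)
    have h10 := mt (hp.out.pow_dvd_iff_le_factorization
      (Nat.card_pos (α := (⁅L, L⁆ : Subgroup G))).ne' (k := 2)).2 fun h =>
        h2 (h.trans (Dvd.intro _ (h5 _ h4)))
    rw [h7.card_eq, show (Nat.card (⁅L, L⁆ : Subgroup G)).factorization p = 1 by omega, pow_one]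
  set S := Subgroup.normalClosure (R : Set G) with hS
  have hSL : S ≤ ⁅L, L⁆ := Subgroup.normalClosure_le_normal inf_le_right
  have hRS : R ≤ S := Subgroup.le_normalClosure
  have h9 := (isSylowIn_subgroupOf_top_iff hRS).2 (h7.of_le hRS hSL)
  have h10 : Nat.card (R.subgroupOf S) = p := by rw [card_subgroupOf_of_le hRS, h8]
  obtain ⟨ι, hι, h11⟩ := exists_param_of_card_eq (A := Zp) (isCyclic_of_prime_card h10)
    (by rw [h10]; simp)
  have H : PrimeSyl p ι := ⟨hι, by simp, h11 ▸ h9⟩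
  have hdj : Disjoint S D := h4.mono_left hSL
  have hr : pPrimeResidual p S = ⊤ := by
    refine Subgroup.map_injective S.subtype_injective (le_antisymm (Subgroup.map_mono le_top) ?_)
    rw [← MonoidHom.range_eq_map, Subgroup.range_subtype]
    exact Subgroup.normalClosure_le_normal fun x hx =>
      ⟨⟨x, hRS hx⟩, le_pPrimeResidual_of_isPGroup h9.isPGroup hx, rfl⟩
  have hnn : ¬ ι.range.Normal := fun h => by
    have h12 := Subgroup.map_mono (f := S.subtype) (le_pCore H.syl.isPGroup)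
    rw [map_subtype_pCore, inf_comm, hdj.eq_bot, le_bot_iff,
      Subgroup.map_eq_bot_iff_of_injective _ S.subtype_injective] at h12
    have := H.card_range
    rw [h12, Subgroup.card_bot] at this
    exact hp.out.one_lt.ne this
  have hk' : ker (res S χ) = ⊥ := by rw [hχ.ker_res, hk]; simp
  have hc := H.le_centralizer_of_faithful (hχ.res S) hk' hd (not_dvd_card_pPrimeCore p S)
  have hbig := fun θ => @PrimeSyl.le_two_mul_degree _ _ _ _ _ _ H hc hr hnn θ
  have hbig' : ∀ θ, IsCharacter G θ → ¬ S ≤ ker θ → p ≤ 2 * charDegree θ + 1 := fun θ hθ h =>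
    hbig _ (hθ.res S) (by rwa [hθ.ker_res, Ne, Subgroup.subgroupOf_eq_top])
  obtain ⟨ψ, h12, h13⟩ : ∃ ψ : IrrCharacter G, ip χ ψ.1 ≠ 0 ∧ ¬ S ≤ ker ψ.1 := by
    by_contra! h
    have h12 : R ≤ ⊥ := fun x hx => hk ▸ hχ.mem_ker_iff_forall_irr.2 fun ψ hψ => h ψ hψ (hRS hx)
    rw [le_bot_iff.1 h12, Subgroup.card_bot] at h8
    exact hp.out.one_lt.ne h8
  have hψ := irr_isCharacter ψ
  have h14 := hχ.degree_eq_sub_irr_add ψ h12
  have h15 := hbig' _ hψ h13
  have h16 : S ≤ ker (χ - ψ.1) := by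
    by_contra h
    have := hbig' _ (hχ.sub_irr ψ h12) h
    omega
  refine ⟨S, ι, ψ, inferInstance, H, hr, hnn, le_antisymm (pPrimeResidual_le fun h => h2 ?_)
    (sup_le (hSL.trans (Subgroup.commutator_le_left _ _)) hDL), hdj,
    (hSL.trans (Subgroup.commutator_le_left _ _)).trans h3, h12, ?_, h16, ?_, h15⟩
  · rw [← h5 S hdj, sq]
    exact mul_dvd_mul (h8 ▸ Subgroup.card_dvd_of_le hRS) h
  · obtain ⟨φ, h17, h18⟩ : ∃ φ : IrrCharacter S, ip (res S ψ.1) φ.1 ≠ 0 ∧ ker φ.1 ≠ ⊤ := by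
      by_contra! h
      exact h13 fun x hx => by
        have := (hψ.res S).mem_ker_iff_forall_irr.2 fun φ hφ =>
          (h φ hφ).ge (Subgroup.mem_top (⟨x, hx⟩ : S))
        rwa [hψ.ker_res] at this
    have h19 := (hψ.res S).degree_eq_sub_irr_add φ h17
    have h20 := (hψ.res S).sub_irr φ h17
    have h21 := hbig _ (irr_isCharacter φ) h18
    rw [charDegree_res] at h19
    have h22 : ker (res S ψ.1 - φ.1) = ⊤ := by
      by_contra h
      have := hbig _ h20 h
      omega
    by_cases h0 : res S ψ.1 - φ.1 = 0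
    · exact sub_eq_zero.1 h0 ▸ φ.2
    obtain ⟨η, hη⟩ := h20.exists_irr_ip_ne_zero h0
    obtain rfl : η = irrOne S := (irr_ker_eq_top_iff η).1
      (eq_top_iff.2 (h22 ▸ h20.ker_le_of_ip_ne_zero η hη))
    rw [ip_sub_left, ip_irr_ne (mt (irr_ker_eq_top_iff φ).2 h18), sub_zero] at hη
    exact absurd ((irr_le_ker_iff_ip_ne_zero ψ S).2 hη) h13
  · rw [hψ.ker_res, eq_bot_iff]
    intro x hx
    have : (x : G) ∈ ker (χ - ψ.1 + ψ.1) := by
      rw [(hχ.sub_irr ψ h12).ker_add hψ]; exact ⟨h16 x.2, hx⟩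
    rw [sub_add_cancel, hk] at this
    exact Subtype.ext this

namespace LinCore
variable {χ : G → ℂ} {S : Subgroup G} {ι : Multiplicative (ZMod p) →* S} {ψ : IrrCharacter G}
  (W : LinCore p χ S ι ψ)
include W

theorem le_center : Subgroup.centralizer (S : Set G) ≤ center ψ.1 :=
  centralizer_le_center_of_isIrr (irr_isCharacter ψ) W.irr

theorem pCore_le_center : pCore p G ≤ center ψ.1 :=
  (Subgroup.le_centralizer_iff.1 W.cen).trans W.le_center

/-- Decomposition of a `p`-element. -/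
theorem exists_eq_mul {x : G} (hx : IsPElt p x) :
    ∃ (r : S) (u : Zp), IsConj (ι u) r ∧ ∃ z ∈ pCore p G, x = z * r := by
  have := W.normal
  obtain ⟨r, hr, z, hz, h⟩ := (mem_sup_of_le_normalizer_right Subgroup.le_normalizer_of_normal).1
    (W.sup ▸ mem_pPrimeResidual hx)
  have h1 : Commute z r := Subgroup.mem_centralizer_iff.1 (W.cen hr) z hz
  have h2 : IsPElt p (⟨r, hr⟩ : S) := by
    rw [isPElt_mk, eq_mul_inv_of_mul_eq h]
    exact hx.mul_of_commute (isPElt_of_mem (isPGroup_pCore p G) hz).inv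
      (h ▸ (h1.symm.mul_left (Commute.refl z)).inv_right)
  obtain ⟨g, -, u, hu⟩ := W.syl.syl.exists_conj_mem h2 trivial
  exact ⟨⟨r, hr⟩, u, (isConj_iff.2 ⟨g, hu.symm⟩).symm, z, hz, by rw [← h, h1.eq]⟩

theorem isEig_nodup (hd : charDegree ψ.1 + 1 < p) {r : S} {u : Zp} (hu : u ≠ 1)
    (h : IsConj (ι u) r) {s : Multiset ℂ} (hs : IsEig ψ.1 r s) :
    s.Nodup ∧ (2 * charDegree ψ.1 + 1 ≤ p → 1 ∉ s) :=
  W.syl.isEig_nodup ⟨_, W.irr⟩ W.faith hd W.nn hu
    (IsEig.of_isConj W.irr.isCharacter.isClassFunction (hs.congr fun _ => rfl) h.symm)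

theorem exists_fix [Fintype Zp] (hd : charDegree ψ.1 + 1 < p) :
    ∃ f : ℕ, ∑ u, ψ.1 (ι u) = p * f ∧ p + 2 * f ≤ 2 * charDegree ψ.1 + 1 := by
  obtain ⟨k, -, h1, -, h2⟩ := W.syl.exists_weights ⟨_, W.irr⟩ W.faith hd W.nn
  exact ⟨_, h1, h2⟩

theorem perfect (hd : charDegree ψ.1 + 1 < p) : commutator S = ⊤ :=
  W.syl.perfect W.irr.isCharacter W.faith hd W.res W.nn

end LinCore

end BT
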