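import Cfsg.Agent.Lib.Block.OneAux
import Cfsg.Agent.Lib.Block.ZStar
import Cfsg.Agent.Lib.Block.CoverPrin
import Cfsg.Agent.Lib.Block.BlockQuot
import Cfsg.Agent.Lib.Block.NilpExt
import Cfsg.Agent.Lib.Grp.Frob

/-!
# Principal `2`-blocks which are multiplicity free on an elementary abelian Sylow subgroup

If a Sylow `2`-subgroup `R` of `X` is elementary abelian and all characters of the principal
`2`-block are multiplicity free on `R`, then `X` is `2`-solvable.
-/

set_option autoImplicit false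
set_option linter.unusedSectionVars false

namespace BT

open Cfsg CT GT Subgroup
open scoped ComplexConjugate Pointwise commutatorElement

variable {G : Type*} [Group G] [Finite G]

theorem mf_comm {R : Subgroup G} (hR : ∀ r ∈ R, r * r = 1) {a b : G} (ha : a ∈ R) (hb : b ∈ R) :
    a * b = b * a := by
  have h : ∀ r ∈ R, r⁻¹ = r := fun r hr => inv_eq_of_mul_eq_one_right (hR r hr)
  rw [← h _ (mul_mem ha hb), mul_inv_rev, h a ha, h b hb]

theorem mf_isMulCommutative {R : Subgroup G} (hR : ∀ r ∈ R, r * r = 1) : IsMulCommutative R :=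
  ⟨⟨fun a b => Subtype.ext (mf_comm hR a.2 b.2)⟩⟩

theorem mf_isPElt {R : Subgroup G} (hR : ∀ r ∈ R, r * r = 1) {r : G} (hr : r ∈ R) :
    IsPElt 2 r := isPElt_of_pow_eq_one (k := 1) (by rw [pow_one, sq, hR r hr])

theorem mf_isPGroup {R : Subgroup G} (hR : ∀ r ∈ R, r * r = 1) : IsPGroup 2 R :=
  isPGroup_iff_forall_isPElt.2 fun _ hg => mf_isPElt hR hg

/-- The degree of an isotypic component for a subgroup of index at most two. -/
theorem mf_isotypic_degree {R B : Subgroup G} (hR : ∀ r ∈ R, r * r = 1) (hB : B ≤ R) {x : G}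
    (hx : x ∈ R) (hRB : R ≤ B ⊔ zpowers x) {θ : G → ℂ} (hθ : IsCharacter G θ)
    (hmf : ∀ l : R →* ℂˣ, mult (res R θ) (linChar l).1 ≤ 1) {l₀ : R →* ℂˣ}
    (h0 : mult (res R θ) (linChar l₀).1 = 0) [Fintype B] :
    ∃ n : ℕ, n ≤ 1 ∧ (x ∈ B → n = 0) ∧
      ∑ b : B, (l₀.comp (inclusion hB) b⁻¹ : ℂ) * θ b = Nat.card B * n := by
  classical
  have := mf_isMulCommutative hR
  have hext : ∀ l l' : R →* ℂˣ, l.comp (inclusion hB) = l'.comp (inclusion hB) →
      l ⟨x, hx⟩ = l' ⟨x, hx⟩ → l = l' := fun l l' h h' => by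
    ext1 r
    have : B ⊔ zpowers x ≤ (l.eqLocus l').map R.subtype := sup_le
      (fun b hb => ⟨⟨b, hB hb⟩, (DFunLike.congr_fun h ⟨b, hb⟩ :), rfl⟩)
      (zpowers_le.2 ⟨⟨x, hx⟩, h', rfl⟩)
    obtain ⟨r', h1, h2⟩ := this (hRB r.2)
    rwa [show r' = r from Subtype.ext h2] at h1
  have hval : ∀ l : R →* ℂˣ, l ⟨x, hx⟩ = 1 ∨ l ⟨x, hx⟩ = -1 := fun l =>
    (Units.inv_eq_self_iff _).1 (inv_eq_of_mul_eq_one_right (by
      rw [← map_mul, show (⟨x, hx⟩ : R) * ⟨x, hx⟩ = 1 from Subtype.ext (hR x hx), map_one]))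
  set S := Finset.univ.filter fun l : R →* ℂˣ =>
    l.comp (inclusion hB) = l₀.comp (inclusion hB) with hS
  have hl₀ : l₀ ∈ S := Finset.mem_filter.2 ⟨Finset.mem_univ _, rfl⟩
  refine ⟨∑ l ∈ S.erase l₀, mult (res R θ) (linChar l).1, ?_, fun hxB => ?_, ?_⟩
  · refine (Finset.sum_le_card_nsmul _ _ 1 fun l _ => hmf l).trans ?_
    rw [smul_eq_mul, mul_one]
    refine Finset.card_le_one.2 fun l hl l' hl' => ?_
    obtain ⟨h1, h2⟩ := Finset.mem_erase.1 hl
    obtain ⟨h3, h4⟩ := Finset.mem_erase.1 hl'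
    have h5 := (Finset.mem_filter.1 h2).2
    have h6 := (Finset.mem_filter.1 h4).2
    refine hext _ _ (h5.trans h6.symm) ?_
    have h7 := mt (hext _ _ h5) h1
    have h8 := mt (hext _ _ h6) h3
    rcases hval l₀ with c | c <;> rw [c] at h7 h8
    · rw [(hval l).resolve_left h7, (hval l').resolve_left h8]
    · rw [(hval l).resolve_right h7, (hval l').resolve_right h8]
  · refine Finset.sum_eq_zero fun l hl => ?_
    obtain ⟨h1, h2⟩ := Finset.mem_erase.1 hl
    have h5 := (Finset.mem_filter.1 h2).2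
    exact absurd (hext _ _ h5 (DFunLike.congr_fun h5 ⟨x, hxB⟩)) h1
  · have h1 : ∀ b : B, θ b = ∑ l : R →* ℂˣ,
        (mult (res R θ) (linChar l).1 : ℂ) * (l.comp (inclusion hB) b : ℂ) := fun b => by
      have := congrFun (hθ.res R).eq_sum_mult (inclusion hB b)
      rw [Finset.sum_apply, ← sum_linChar_of_comm] at this
      exact this
    rw [Finset.sum_erase (f := fun l : R →* ℂˣ => mult (res R θ) (linChar l).1) _ h0, Nat.cast_sum, Finset.mul_sum, Finset.sum_filter,
      Finset.sum_congr rfl fun b _ => by rw [h1 b, Finset.mul_sum], Finset.sum_comm]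
    refine Finset.sum_congr rfl fun l _ => ?_
    have := sum_apply_units_hom ((l₀.comp (inclusion hB))⁻¹ * l.comp (inclusion hB))
    have e : (l₀.comp (inclusion hB))⁻¹ * l.comp (inclusion hB) = 1 ↔
        l.comp (inclusion hB) = l₀.comp (inclusion hB) :=
      ⟨fun h => MonoidHom.ext fun b => (inv_mul_eq_one.1 (DFunLike.congr_fun h b :)).symm,
        fun h => MonoidHom.ext fun b => inv_mul_eq_one.2 (DFunLike.congr_fun h b).symm⟩
    rw [if_congr e rfl rfl] at this
    rw [Finset.sum_congr rfl fun b _ => show _ = (mult (res R θ) (linChar l).1 : ℂ) *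
      (((l₀.comp (inclusion hB))⁻¹ * l.comp (inclusion hB)) b : ℂˣ) by
        rw [MonoidHom.mul_apply, MonoidHom.inv_apply, map_inv, Units.val_mul]; ring,
      ← Finset.mul_sum, this]
    split_ifs <;> ring

theorem mf_apply_eq {B : Subgroup G} [Fintype B] (l : B →* ℂˣ) {θ : G → ℂ} {w : G}
    (h : ∀ b ∈ B, b ≠ 1 → θ (w * b) = θ b)
    (h2 : ∑ b : B, (l b⁻¹ : ℂ) * θ (w * b) = ∑ b : B, (l b⁻¹ : ℂ) * θ b) : θ w = θ 1 := by
  classical
  rw [← Finset.add_sum_erase _ _ (Finset.mem_univ 1), ← Finset.add_sum_erase _ _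
    (Finset.mem_univ 1), Finset.sum_congr rfl fun b hb => by
      rw [h b b.2 fun h' => Finset.ne_of_mem_erase hb (Subtype.ext h')]] at h2
  simpa only [inv_one, map_one, Units.val_one, one_mul, coe_one, mul_one, add_left_inj] using h2

/-- Balance for `2`-solvable centralizers. -/
theorem mf_balance {p : ℕ} [Fact p.Prime] {t b : G} (ht : IsPElt p t) (hc : t * b = b * t)
    (hs : IsPSolvable p (centralizer ({b} : Set G))) {w : G}
    (hw : w ∈ (pPrimeCore p (centralizer ({t} : Set G))).map (centralizer ({t} : Set G)).subtype)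
    (hwb : w ∈ centralizer ({b} : Set G)) :
    (⟨w, hwb⟩ : centralizer ({b} : Set G)) ∈ pPrimeCore p (centralizer ({b} : Set G)) := by
  have hY := not_dvd_card_map_pPrimeCore (p := p) (centralizer ({t} : Set G))
  have hY' := normalizer_le_normalizer_map_pPrimeCore (p := p) (centralizer ({t} : Set G))
  have hY'' := map_subtype_le (pPrimeCore p (centralizer ({t} : Set G)))
  generalize (pPrimeCore p (centralizer ({t} : Set G))).map (centralizer ({t} : Set G)).subtype =
    Y at *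
  have htb : t ∈ centralizer ({b} : Set G) := mem_centralizer_singleton_iff.2 hc
  refine le_pPrimeCore_of_normalized_by_centralizer hs (P := zpowers ⟨t, htb⟩)
    (Q := Y.subgroupOf _) ?_ ?_ ?_ ?_ hw
  · exact IsPElt.isPGroup_zpowers (isPElt_coe.1 ht)
  · rw [card_subgroupOf]
    exact fun h => hY (h.trans (card_dvd_of_le inf_le_left))
  · rw [zpowers_le, mem_centralizer_iff]
    intro y hy
    exact Subtype.ext (mem_centralizer_singleton_iff.1 (hY'' hy))
  · rw [GT.centralizer_zpowers]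
    intro c hc
    have h1 : (c : G) ∈ normalizer (Y : Set G) := hY'
      (le_normalizer (mem_centralizer_singleton_iff.2
        (congrArg Subtype.val (mem_centralizer_singleton_iff.1 hc))))
    exact mem_normalizer_iff.2 fun y => mem_normalizer_iff.1 h1 y

section
variable {M : Ideal AlgInt} (hM : IsPModular 2 M)
include hM

/-- Cores of centralizers of involutions lie in the kernel of a multiplicity free character which
is not regular on `R`. -/
theorem mf_core_le_ker {R : Subgroup G} (hR : ∀ r ∈ R, r * r = 1)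
    (hs : ∀ r ∈ R, r ≠ 1 → IsPSolvable 2 (centralizer ({r} : Set G))) {ζ : IrrCharacter G}
    (hζ : ζ ∈ principalBlock M G) (hmf : ∀ l : R →* ℂˣ, mult (res R ζ.1) (linChar l).1 ≤ 1)
    {l₀ : R →* ℂˣ} (h0 : mult (res R ζ.1) (linChar l₀).1 = 0) {t : G} (ht : t ∈ R) :
    (pPrimeCore 2 (centralizer ({t} : Set G))).map (centralizer ({t} : Set G)).subtype ≤
      ker ζ.1 := by
  classical
  have := mf_isMulCommutative hR
  set Y := (pPrimeCore 2 (centralizer ({t} : Set G))).map (centralizer ({t} : Set G)).subtype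
  have hY : ¬ 2 ∣ Nat.card Y := not_dvd_card_map_pPrimeCore _
  have hRY : R ≤ normalizer (Y : Set G) := fun r hr => normalizer_le_normalizer_map_pPrimeCore _
    (le_normalizer (mem_centralizer_singleton_iff.2 (mf_comm hR hr ht)))
  have key : ∀ B : Subgroup G, ∀ hB : B ≤ R, ∀ x ∈ R, R ≤ B ⊔ zpowers x → ∀ w ∈ Y,
      w ∈ centralizer (B : Set G) →
      (x ∈ B ∨ w ∈ ⁅centralizer (B : Set G), centralizer (B : Set G)⁆) → w ∈ ker ζ.1 := by
    intro B hB x hx hRB w hw hwB h
    have := Fintype.ofFinite B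
    obtain ⟨n, hn, hn0, hsum⟩ := mf_isotypic_degree hR hB hx hRB (irr_isCharacter ζ) hmf h0
    refine (irr_mem_ker_iff ζ).2 (mf_apply_eq (l₀.comp (inclusion hB)) (fun b hb hb1 => ?_) ?_)
    · have hwb : w ∈ centralizer ({b} : Set G) :=
        mem_centralizer_singleton_iff.2 (mem_centralizer_iff.1 hwB b hb).symm
      have := principal_apply_mul_mul_of_mem hM rfl (mf_isPElt hR (hB hb)) hζ (s := 1)
        not_dvd_orderOf_one (mf_balance (mf_isPElt hR ht) (mf_comm hR ht (hB hb))
          (hs b (hB hb) hb1) hw hwb)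
      simpa [mem_centralizer_iff.1 hwB b hb] using this
    · have ha := (irr_isCharacter ζ).isotypic (centralizer (B : Set G)).subtype B.subtype
        (l₀.comp (inclusion hB)) fun h => ⟨Equiv.refl _, fun u =>
          ⟨(mem_centralizer_iff.1 h.2 u u.2).symm, rfl⟩⟩
      have hB0 : (Nat.card B : ℂ) ≠ 0 := card_cast_ne_zero
      have hd := charDegree_eq_of_apply_one (χ := fun h : centralizer (B : Set G) =>
        (Nat.card B : ℂ)⁻¹ * ∑ u : B, (l₀.comp (inclusion hB) u⁻¹ : ℂ) *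
          ζ.1 ((centralizer (B : Set G)).subtype h * B.subtype u)) (n := n) (by
            simp only [map_one, one_mul, subtype_apply]
            rw [hsum, inv_mul_cancel_left₀ hB0])
      have hk : (⟨w, hwB⟩ : centralizer (B : Set G)) ∈ ker fun h : centralizer (B : Set G) =>
          (Nat.card B : ℂ)⁻¹ * ∑ u : B, (l₀.comp (inclusion hB) u⁻¹ : ℂ) *
            ζ.1 ((centralizer (B : Set G)).subtype h * B.subtype u) := by
        rcases Nat.le_one_iff_eq_zero_or_eq_one.1 hn with rfl | rfl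
        · rw [ha.eq_zero_of_degree_eq_zero hd]
          exact fun _ => rfl
        · refine commutator_le_ker_of_degree_one ha hd ?_
          have h' := h.resolve_left fun h => one_ne_zero (hn0 h)
          rw [← map_subtype_commutator] at h'
          obtain ⟨y, hy, rfl⟩ := h'
          exact hy
      have := ha.mem_ker_iff.1 hk
      simp only [map_one, one_mul, subtype_apply] at this
      exact mul_left_cancel₀ (inv_ne_zero hB0) this
  refine le_of_forall_centralizer_cocyclic_le hRY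
    ((mf_isPGroup hR).coprime_card hY).symm fun B hB ⟨x, hx, hRB⟩ => ?_
  have hRC : R ≤ centralizer (B : Set G) := fun r hr => mem_centralizer_iff.2 fun b hb =>
    mf_comm hR (hB hb) hr
  have hW : CoprimeAct R (Y ⊓ centralizer (B : Set G)) := coprimeAct_of_isPGroup_left
    (le_normalizer_inf hRY (hRC.trans le_normalizer)) (mf_isPGroup hR)
      fun h => hY (h.trans (card_dvd_of_le inf_le_left))
  rw [← hW.inf_centralizer_sup_commutator]
  refine sup_le (fun w hw => key R le_rfl 1 (one_mem _) le_sup_left w hw.1.1 hw.2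
    (Or.inl (one_mem _))) fun w hw => ?_
  have hw' := hW.commutator_le hw
  exact key B hB x hx hRB w hw'.1 hw'.2 (Or.inr (commutator_mono inf_le_right hRC hw))

end

/-- Strong embedding: conjugates of involutions of `R`. -/
theorem mf_conj_not_mem {R : Subgroup G} (hR : ∀ r ∈ R, r * r = 1) (hS : IsSylowIn 2 R ⊤)
    (hC : ∀ t ∈ R, t ≠ 1 → centralizer ({t} : Set G) ≤ normalizer (R : Set G)) {g : G}
    (hg : g ∉ normalizer (R : Set G)) {t : G} (ht : t ∈ R) (ht1 : t ≠ 1) : g * t * g⁻¹ ∉ R := by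
  refine fun h => hg (mem_normalizer_fintype fun r hr => ?_)
  refine hS.mem_of_mem_normalizer ((mf_isPElt hR hr).conj g) (mem_top _)
    (hC _ h (by simpa using ht1) (mem_centralizer_singleton_iff.2 ?_))
  rw [conj_mul, conj_mul, mf_comm hR hr ht]

theorem mf_isConj {R : Subgroup G} (hR : ∀ r ∈ R, r * r = 1) (hS : IsSylowIn 2 R ⊤)
    (hC : ∀ t ∈ R, t ≠ 1 → centralizer ({t} : Set G) ≤ normalizer (R : Set G))
    (hn : normalizer (R : Set G) ≠ ⊤) {s t : G} (hs : s ∈ R) (hs1 : s ≠ 1) (ht : t ∈ R)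
    (ht1 : t ≠ 1) : IsConj t s := by
  obtain ⟨g, hg⟩ := not_forall.1 (mt (eq_top_iff' _).2 hn)
  have h1 : g * t * g⁻¹ * (g * t * g⁻¹) = 1 := by rw [conj_mul, hR t ht]; simp
  refine (isConj_iff.2 ⟨g, rfl⟩).trans (isConj_of_odd_orderOf_mul (hR s hs) h1 ?_)
  by_contra h2
  obtain ⟨m, hm⟩ := Nat.not_odd_iff_even.1 h2
  obtain ⟨h3, h4, h5, h6⟩ := exists_central_invol (hR s hs) h1 (hm.trans (two_mul m).symm)
    (by have := orderOf_pos (s * (g * t * g⁻¹)); omega)
  have h7 := hS.mem_of_mem_normalizer (isPElt_of_pow_eq_one (k := 1) (by rw [pow_one, sq, h3]))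
    (mem_top _) (hC s hs hs1 (mem_centralizer_singleton_iff.2 h5))
  exact mf_conj_not_mem hR hS hC hg ht ht1 (hS.mem_of_mem_normalizer
    ((mf_isPElt hR ht).conj g) (mem_top _) (hC _ h7 h4 (mem_centralizer_singleton_iff.2 h6.symm)))

theorem mf_centralizer_le {R : Subgroup G} (hR : ∀ r ∈ R, r * r = 1) (hS : IsSylowIn 2 R ⊤)
    {t : G} (ht : t ∈ R) (hs : IsPSolvable 2 (centralizer ({t} : Set G)))
    (h : (pPrimeCore 2 (centralizer ({t} : Set G))).map (centralizer ({t} : Set G)).subtype = ⊥) :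
    centralizer ({t} : Set G) ≤ normalizer (R : Set G) ∧ centralizer (R : Set G) ≤ R := by
  have hle : R ≤ centralizer ({t} : Set G) := fun r hr =>
    mem_centralizer_singleton_iff.2 (mf_comm hR hr ht)
  rw [map_eq_bot_iff_of_injective _ (subtype_injective _)] at h
  have h4 := hS.of_le hle le_top
  have : IsMulCommutative (h4.toSylow : Subgroup (centralizer ({t} : Set G))) :=
    mf_isMulCommutative fun r hr => Subtype.ext (hR r hr)
  have h5 := (sylow_eq_pCore_of_isMulCommutative hs h h4.toSylow).trans h4.coe_toSylow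
  refine ⟨?_, fun c hc => ?_⟩
  · rw [← normal_subgroupOf_iff_le_normalizer hle, ← h5]
    infer_instance
  · have := centralizer_pCore_le hs h (x := ⟨c, mem_centralizer_singleton_iff.2
      (mem_centralizer_iff.1 hc t ht).symm⟩)
    rw [h5] at this
    exact this fun y hy => Subtype.ext (mem_centralizer_iff.1 hc y hy)

theorem mf_mult_of_const {R : Subgroup G} {θ : G → ℂ} (hθ : IsCharacter G θ) {c : ℂ}
    (h : ∀ r ∈ R, r ≠ 1 → θ r = c) (l : R →* ℂˣ) [Decidable (l = 1)] :
    (Nat.card R : ℂ) * mult (res R θ) (linChar l).1 =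
      θ 1 - c + if l = 1 then (Nat.card R : ℂ) * c else 0 := by
  classical
  have := Fintype.ofFinite R
  have h1 := sum_apply_units_hom l
  rw [← Equiv.sum_comp (Equiv.inv R), ← Finset.add_sum_erase _ _ (Finset.mem_univ 1)] at h1
  rw [← (hθ.res R).ip_eq_mult (irr_isCharacter _), ip_eq_sum_inv _ (irr_isCharacter _),
    mul_inv_cancel_left₀ card_cast_ne_zero, ← Finset.add_sum_erase _ _ (Finset.mem_univ 1),
    Finset.sum_congr rfl fun r hr => by
      rw [show res R θ r = c from h r r.2 fun h' => Finset.ne_of_mem_erase hr (Subtype.ext h')],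
    ← Finset.mul_sum]
  simp only [linChar_apply, Equiv.inv_apply, inv_one, map_one, Units.val_one] at h1 ⊢
  rw [eq_sub_of_add_eq' h1, show res R θ 1 = θ 1 from rfl]
  split_ifs <;> ring

theorem mf_mult_le {A K : Type*} [Group A] [Finite A] [Group K] [Finite K] (ι : A →* K)
    {θ : K → ℂ} (hθ : IsCharacter K θ) {ξ : IrrCharacter K} (h : ip θ ξ.1 ≠ 0) {η : A → ℂ}
    (hη : IsCharacter A η) : mult (fun a => ξ.1 (ι a)) η ≤ mult (fun a => θ (ι a)) η := by
  rw [mult_comp_eq_sum_mul ι hθ hη]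
  exact (Nat.le_mul_of_pos_left _ ((hθ.mult_pos_iff (irr_isCharacter ξ)).2 h)).trans
    (Finset.single_le_sum (f := fun χ : IrrCharacter K =>
      mult θ χ.1 * mult (fun a => χ.1 (ι a)) η) (fun _ _ => Nat.zero_le _) (Finset.mem_univ ξ))

section
variable {p : ℕ} [Fact p.Prime] {M : Ideal AlgInt} (hM : IsPModular p M)
include hM

theorem exists_liesOver_of_isInducedBlock {H : Subgroup G} {b : Set (IrrCharacter H)}
    {B : Set (IrrCharacter G)} (h : IsInducedBlock M H b B) {ξ : IrrCharacter H} (hξ : ξ ∈ b) :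
    ∃ χ ∈ B, LiesOver H χ.1 ξ.1 := by
  by_contra! h0
  refine (factorization_blockPart_ind hM h hξ (n := 0) ?_).1 rfl
  rw [blockPart_apply_eq_sum_bset, Nat.cast_zero]
  refine Finset.sum_eq_zero fun χ hχ => ?_
  rw [(irr_isCharacter ξ).ind.ip_comm (irr_isCharacter χ), not_not.1 (mt (liesOver_iff_ip_ind H
    ξ.1 (irr_isClassFunction χ)).2 (h0 χ (mem_bset.1 hχ))), zero_mul]

theorem degree_ne_card_of_principal {R : Subgroup G} (hS : IsSylowIn p R ⊤) (h1 : R ≠ ⊥)
    {ζ : IrrCharacter G} (hζ : ζ ∈ principalBlock M G) : charDegree ζ.1 ≠ Nat.card R := by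
  intro h
  refine blockDefect_principal_ne_zero hM ?_
    ((blockDefect_eq_zero_iff hM isPBlock_principalBlock hζ).2 ?_)
  · rw [← card_top]
    exact not_not.1 (mt hS.eq_bot_iff.2 h1)
  · rw [h, hS.factorization_card_eq, card_top]

theorem iInf_ker_principal : ⨅ χ : principalBlock M G, ker χ.1.1 = pPrimeCore p G := by
  refine le_antisymm ?_ (le_iInf fun χ => pPrimeCore_le_ker_of_mem_principal hM χ.2)
  have : (⨅ χ : principalBlock M G, ker χ.1.1).Normal := normal_iInf_normal fun _ => inferInstance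
  refine le_pPrimeCore' fun h => ?_
  obtain ⟨g, hg⟩ := exists_prime_orderOf_dvd_card' p h
  refine not_dvd_orderOf_of_forall_mem_ker hM isPBlock_principalBlock (g := (g : G))
    (fun χ hχ => mem_iInf.1 g.2 ⟨χ, hχ⟩) ?_
  rw [orderOf_coe, hg]

end

section
variable {M : Ideal AlgInt} (hM : IsPModular 2 M)
include hM

theorem mf_exists_mult_eq_zero {R : Subgroup G} (hR : ∀ r ∈ R, r * r = 1) (hS : IsSylowIn 2 R ⊤)
    (h1 : R ≠ ⊥) {ζ : IrrCharacter G} (hζ : ζ ∈ principalBlock M G)
    (hmf : ∀ l : R →* ℂˣ, mult (res R ζ.1) (linChar l).1 ≤ 1) :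
    ∃ l : R →* ℂˣ, mult (res R ζ.1) (linChar l).1 = 0 := by
  have := mf_isMulCommutative hR
  by_contra! h
  refine degree_ne_card_of_principal hM hS h1 hζ ?_
  rw [← charDegree_res R, ((irr_isCharacter ζ).res R).degree_eq_sum_mult, ← sum_linChar_of_comm,
    Finset.sum_congr rfl fun l _ => by
      rw [charDegree_linChar, mul_one, le_antisymm (hmf l) (Nat.pos_of_ne_zero (h l))],
    Finset.sum_const, Finset.card_univ, ← Nat.card_eq_fintype_card, smul_eq_mul, mul_one,
    Nat.card_congr linEquivOfComm, card_irr_of_isMulCommutative]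

theorem mf_card_eq_two {R : Subgroup G} (hR : ∀ r ∈ R, r * r = 1) (hS : IsSylowIn 2 R ⊤)
    (hres : pPrimeResidual 2 G = ⊤) {t : G} (ht : t ∈ R) (ht1 : t ≠ 1)
    (hc : ∀ s ∈ R, s ≠ 1 → IsConj t s)
    (hmf : ∀ ζ ∈ principalBlock M G, ∀ l : R →* ℂˣ, mult (res R ζ.1) (linChar l).1 ≤ 1) :
    Nat.card R = 2 := by
  classical
  have := mf_isMulCommutative hR
  obtain ⟨l, hl⟩ := exists_units_hom_ne_one_of_comm (G := R) (g := ⟨t, ht⟩)
    fun h => ht1 (congrArg Subtype.val h)
  have hl1 : l ≠ 1 := fun h => hl (by rw [h]; rfl)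
  have hq : (Nat.card R : ℂ) ≠ 0 := card_cast_ne_zero
  have key : ∀ ζ ∈ (bset (principalBlock M G)).erase (irrOne G), ∃ n : ℕ,
      ζ.1 1 * conj (ζ.1 t) = (1 - Nat.card R) * n := fun ζ hζ => by
    obtain ⟨h1, h2⟩ := Finset.mem_erase.1 hζ
    have h3 : ∀ r ∈ R, r ≠ 1 → ζ.1 r = ζ.1 t := fun r hr hr1 =>
      ((irr_isClassFunction ζ).of_isConj (hc r hr hr1)).symm
    have h4 := mf_mult_of_const (irr_isCharacter ζ) h3 l
    have h5 := mf_mult_of_const (irr_isCharacter ζ) h3 1
    rw [if_neg hl1, add_zero] at h4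
    rw [if_pos rfl, ← h4, ← mul_add, mul_right_inj' hq] at h5
    rw [conj_irr_of_sq ζ (hR t ht)]
    rcases Nat.le_one_iff_eq_zero_or_eq_one.1 (hmf ζ (mem_bset.1 h2) l) with a | a <;>
      rcases Nat.le_one_iff_eq_zero_or_eq_one.1 (hmf ζ (mem_bset.1 h2) 1) with b | b <;>
      rw [a] at h4 <;> rw [a, b] at h5 <;> push_cast at h4 h5
    · exact ⟨0, by rw [show ζ.1 t = 0 by linear_combination -h5]; simp⟩
    · refine absurd ((ker_irr_eq_top_iff ζ).1 (pPrimeResidual_eq_top_iff.1 hres _ inferInstance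
        fun h => hS.not_dvd (h.trans ?_))) h1
      rw [relIndex_top_right]
      refine index_dvd_of_le fun r hr => (irr_mem_ker_iff ζ).2 ?_
      by_cases hr1 : r = 1
      · rw [hr1]
      · rw [h3 r hr hr1]; linear_combination h4
    · exact ⟨1, by
        rw [show ζ.1 1 = Nat.card R - 1 by linear_combination -h4 - h5,
          show ζ.1 t = -1 by linear_combination -h5]; simp⟩
    · exact ⟨0, by rw [show ζ.1 t = 0 by linear_combination -h5]; simp⟩
  choose! n hn using key
  have h1 := bker_eq_zero_of_regular hM (isPBlock_principalBlock (M := M) (G := G))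
    not_dvd_orderOf_one ((mf_isPElt hR ht).dvd_orderOf ht1)
  rw [bker_def, ← Finset.add_sum_erase _ _ (mem_bset.2 (irrOne_mem_principalBlock hM)),
    Finset.sum_congr rfl hn, ← Finset.mul_sum, ← Nat.cast_sum, irrOne_apply, irrOne_apply,
    map_one] at h1
  generalize ∑ χ ∈ _, n χ = N at h1
  have h2 : (Nat.card R - 1 : ℤ) * N = 1 := by
    have : ((Nat.card R : ℂ) - 1) * N = 1 := by linear_combination -h1
    exact_mod_cast this
  have := Int.eq_one_of_mul_eq_one_right (by have := Nat.card_pos (α := R); omega) h2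
  omega

universe u

/-- **Multiplicity free principal blocks.** -/
theorem isPSolvable_of_multFree {A : Type*} [Group A] [Finite A] (hA : ∀ a : A, a * a = 1)
    (X : Type u) [Group X] [Finite X] : ∀ ι : A →* X, ¬ 2 ∣ ι.range.index →
      (∀ ζ ∈ principalBlock M X, ∀ l : A →* ℂˣ,
        mult (fun a => ζ.1 (ι a)) (linChar l).1 ≤ 1) → IsPSolvable 2 X := by
  refine induction_on_card (P := fun X _ _ => ∀ ι : A →* X, ¬ 2 ∣ ι.range.index →
      (∀ ζ ∈ principalBlock M X, ∀ l : A →* ℂˣ,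
        mult (fun a => ζ.1 (ι a)) (linChar l).1 ≤ 1) → IsPSolvable 2 X) ?_ X
  intro X _ _ IH ι hι hmf
  have hR : ∀ r ∈ ι.range, r * r = 1 := by
    rintro _ ⟨a, rfl⟩
    rw [← map_mul, hA, map_one]
  have hS : IsSylowIn 2 ι.range ⊤ := isSylowIn_top_iff'.2 ⟨mf_isPGroup hR, hι⟩
  have hsub : ∀ K : Subgroup X, K ≠ ⊤ → ι.range ≤ K → (∀ ξ ∈ principalBlock M K,
      ∃ ζ ∈ principalBlock M X, LiesOver K ζ.1 ξ.1) → IsPSolvable 2 K := by
    intro K hK hle h
    refine IH K (card_lt_of_ne_top hK) (ι.codRestrict K fun a => hle ⟨a, rfl⟩)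
      (fun h' => hι (h'.trans ?_)) fun ξ hξ l => ?_
    · rw [show (ι.codRestrict K fun a => hle ⟨a, rfl⟩).range = ι.range.subgroupOf K from by
        ext x
        exact ⟨fun ⟨a, ha⟩ => ⟨a, congrArg Subtype.val ha⟩, fun ⟨a, ha⟩ => ⟨a, Subtype.ext ha⟩⟩]
      exact relIndex_dvd_index_of_le hle
    · obtain ⟨ζ, hζ, hl⟩ := h ξ hξ
      exact (mf_mult_le _ ((irr_isCharacter ζ).res K) hl (irr_isCharacter _)).trans (hmf ζ hζ l)
  have hquot : ∀ (N : Subgroup X) [N.Normal], N ≠ ⊥ → IsPSolvable 2 N → IsPSolvable 2 X := by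
    intro N _ hN h
    refine isPSolvable_of_normal N h (IH _ (card_quotient_lt hN)
      ((QuotientGroup.mk' N).comp ι) (fun h' => hι (h'.trans ?_)) fun ξ hξ l =>
        hmf _ (irrComp_mem_principal hM (QuotientGroup.mk'_surjective N) hξ) l)
    rw [MonoidHom.range_comp]
    exact index_map_dvd _ (QuotientGroup.mk'_surjective N)
  by_cases hres : pPrimeResidual 2 X = ⊤
  swap
  · exact isPSolvable_of_normal _ (hsub _ hres (le_pPrimeResidual_of_isPGroup hS.isPGroup)
      fun ξ hξ => exists_principal_liesOver hM hξ)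
      (isPSolvable_of_not_dvd (not_dvd_index_pPrimeResidual 2 X))
  by_cases hO : pPrimeCore 2 X = ⊥
  swap
  · exact hquot _ hO (isPSolvable_of_not_dvd (not_dvd_card_pPrimeCore 2 X))
  by_cases h2 : pCore 2 X = ⊥
  swap
  · exact hquot _ h2 (isPSolvable_of_isPGroup (isPGroup_pCore 2 X))
  by_cases h1 : ι.range = ⊥
  · exact isPSolvable_of_not_dvd (by rwa [h1, index_bot] at hι)
  have hmf' : ∀ ζ ∈ principalBlock M X, ∀ l : ι.range →* ℂˣ,
      mult (res ι.range ζ.1) (linChar l).1 ≤ 1 := fun ζ hζ l =>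
    (mult_comp_of_surjective ι.rangeRestrict ι.rangeRestrict_surjective _ _).symm.trans_le
      (hmf ζ hζ (l.comp ι.rangeRestrict))
  have hle : ∀ t ∈ ι.range, ι.range ≤ centralizer ({t} : Set X) := fun t ht r hr =>
    mem_centralizer_singleton_iff.2 (mf_comm hR hr ht)
  have hs : ∀ t ∈ ι.range, t ≠ 1 → IsPSolvable 2 (centralizer ({t} : Set X)) := by
    intro t ht ht1
    refine hsub _ (fun h => ht1 ?_) (hle t ht) fun ξ hξ => exists_liesOver_of_isInducedBlock hM
      (isInducedBlock_principal_of_eq hM rfl (mf_isPElt hR ht)) hξ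
    have hz : zpowers t ≤ center X := zpowers_le.2 (centralizer_eq_top_iff_subset.1 h rfl)
    have : (zpowers t).Normal := ⟨fun x hx g => by rwa [mem_center_iff.1 (hz hx) g, mul_inv_cancel_right]⟩
    exact mem_bot.1 (h2 ▸ le_pCore (mf_isPElt hR ht).isPGroup_zpowers (mem_zpowers t))
  have hC : ∀ t ∈ ι.range, t ≠ 1 → centralizer ({t} : Set X) ≤ normalizer (ι.range : Set X) := by
    intro t ht ht1
    refine (mf_centralizer_le hR hS ht (hs t ht ht1) ?_).1
    rw [eq_bot_iff, ← hO, ← iInf_ker_principal (G := X) hM]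
    refine le_iInf fun ζ => ?_
    obtain ⟨l, hl⟩ := mf_exists_mult_eq_zero hM hR hS h1 ζ.2 (hmf' _ ζ.2)
    exact mf_core_le_ker hM hR hs ζ.2 (hmf' _ ζ.2) hl ht
  obtain ⟨⟨t, ht⟩, ht1⟩ := ne_bot_iff_exists_ne_one.1 h1
  replace ht1 : t ≠ 1 := fun h => ht1 (Subtype.ext h)
  have h3 := mf_card_eq_two hM hR hS hres ht ht1 (fun s hs hs1 => mf_isConj hR hS hC (fun h => by
    have := normalizer_eq_top_iff.1 h
    exact h1 (eq_bot_iff.2 (h2 ▸ le_pCore hS.isPGroup))) hs hs1 ht ht1) hmf'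
  have : IsCyclic (hS.toSylowTop : Subgroup X) := isCyclic_of_prime_card h3
  exact isPSolvable_of_hasNormalPComplement (hasNormalPComplement_two_of_isCyclic hS.toSylowTop)

end

end BT
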