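import Cfsg.Agent.Lib.Block.EqDeg
import Cfsg.Agent.Lib.Block.BlockQuot
import Cfsg.Agent.Lib.Block.CoverP
import Cfsg.Agent.Lib.Char.CliffordDeg

/-!
# Blocks with a normal defect group
-/

set_option autoImplicit false
set_option linter.unusedSectionVars false

namespace BT

open Cfsg CT GT
open scoped MonoidAlgebra ComplexConjugate Pointwise

variable {p : ℕ} [Fact p.Prime] {M : Ideal AlgInt} (hM : IsPModular p M)
variable {G : Type*} [Group G] [Finite G]

theorem mu_emb_eq {R H : Type*} [CommRing R] [Group H] [Finite H] (f : G →* H) (L : Subgroup G)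
    (a : R[L]) : mu f (emb L a) = emb (L.map f) (mu (f.subgroupMap L) a) := by
  induction a using MonoidAlgebra.induction_on with
  | of g => simp only [MonoidAlgebra.of_apply, emb_single, mu_single]; rfl
  | add x y hx hy => simp only [map_add, hx, hy]
  | smul c x hx => simp only [map_smul, hx]

theorem BIdem.mu_of_regular {H : Type*} [Group H] [Finite H] {f : G →* H} (hk : IsPGroup p f.ker)
    {L : Subgroup G} (hc : ∀ x ∈ L, IsPRegular p x → x ∈ Subgroup.centralizer (f.ker : Set G))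
    {e : (ResF hM)[G]} (he : BIdem L e) : BIdem (L.map f) (mu f e) := by
  obtain ⟨b, hb, rfl⟩ := he.exists_block hM
  have h1 : ∀ x : L, x ∈ (f.subgroupMap L).ker ↔ (x : G) ∈ f.ker := fun x => by
    rw [MonoidHom.mem_ker, MonoidHom.mem_ker, Subtype.ext_iff]; rfl
  have h2 : IsPGroup p (f.subgroupMap L).ker := fun x => by
    obtain ⟨k, hk⟩ := hk ⟨x.1, (h1 _).1 x.2⟩
    exact ⟨k, Subtype.ext (Subtype.ext (by simpa using congrArg Subtype.val hk))⟩
  have h3 := isPBlock_preimage_irrComp_of_regular hM (f.subgroupMap_surjective L) h2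
    (fun x hx y hy => Subtype.ext (hc x x.2 (isPRegular_coe.2 hx) y ((h1 y).1 hy))) hb
  rw [sidem_def, mu_emb_eq, mu_idem hM (f.subgroupMap_surjective L) (isInt_setIdem hM hb)]
  exact bIdem_sidem hM h3

/-- For a normal defect group `N_H(P, e)` controls fusion. -/
theorem Fus.exists_mul_mem_NP_of_normal {H P Q : Subgroup G} {e : (ResF hM)[G]}
    (hH : H ≤ Subgroup.normalizer (P : Set G)) {x : G} (hx : Fus p H P e Q x) :
    ∃ c ∈ H ⊓ Subgroup.centralizer (Q : Set G), x * c ∈ NP H P e := by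
  obtain ⟨hxH, f, hf, hf'⟩ := hx
  have h1 := hf'.conj (Subgroup.le_normalizer (H.inv_mem hxH))
  rw [conj_inv_smul_conj_smul, cj_inv_cj, conj_smul_eq_of_mem_normalizer (hH (H.inv_mem hxH))] at h1
  have hL : H ⊓ Subgroup.centralizer (Q : Set G) ≤
      Subgroup.normalizer ((H ⊓ Subgroup.centralizer (P : Set G) : Subgroup G) : Set G) :=
    fun y hy => normalizer_inf_le_normalizer_inf_centralizer H P
      ⟨Subgroup.le_normalizer hy.1, hH hy.1⟩
  have he := hf.right.bidem
  have hσ := he.cIdem_orbSum' hL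
  have hσP : SuppIn (Subgroup.centralizer (P : Set G) : Set G) (orbSum
      (H ⊓ Subgroup.centralizer (Q : Set G)) e) := fun g hg => (hσ.supp g hg).2
  have hfix : IsFixed P (orbSum (H ⊓ Subgroup.centralizer (Q : Set G)) e) :=
    isFixed_of_suppIn_centralizer hσP
  have h2 := (hf.br_mul_iff hσ.idem (fun g hg => (hσ.supp g hg).1) hfix (isFixed_orbSum _ _)).2
    (by rw [br_eq_self_iff.2 hσP, he.orbSum_mul hL])
  rw [h1.br_mul_iff hσ.idem (fun g hg => (hσ.supp g hg).1) hfix (isFixed_orbSum _ _),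
    br_eq_self_iff.2 hσP] at h2
  obtain ⟨c, hc, h3⟩ := mem_orbSet.1 (he.mem_orbSet_of_orbSum_mul hL h1.right.bidem
    (by rw [h2]; exact h1.right.ne_zero))
  refine ⟨c, hc, BT.mem_NP.2 ⟨H.mul_mem hxH hc.1, hH (H.mul_mem hxH hc.1), ?_⟩⟩
  rw [cj_mul, h3, ← cj_mul, mul_inv_cancel, cj_one]

theorem MaxBP.nilId_iff_of_normal {H P : Subgroup G} {b e : (ResF hM)[G]} (h : MaxBP p H P e)
    (hb : BIdem H b) (hbe : br P b * e = e) (hH : H ≤ Subgroup.normalizer (P : Set G)) :
    NilId p H b ↔ ∀ x ∈ NP H P e, IsPRegular p x → x ∈ Subgroup.centralizer (P : Set G) := by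
  refine ⟨fun hn => hn P e h.bp h.le hbe, fun hn => ?_⟩
  rw [h.nilId_iff_inner hM hb hbe]
  intro Q x hx
  obtain ⟨c, hc, h1⟩ := hx.exists_mul_mem_NP_of_normal hM hH
  rw [h.bp.NP_eq_sup hM (h.defGrp_NP hM) hn, mem_sup_of_le_normalizer_right
    ((h.defGrp_NP hM).le.trans NP_le_normalizer_inf_centralizer)] at h1
  obtain ⟨u, hu, d, hd, h2⟩ := h1
  refine ⟨u, hu, fun y hy => ?_⟩
  calc x * y * x⁻¹ = x * (y * c) * (x * c)⁻¹ := by group
    _ = u * (d * y) * d⁻¹ * u⁻¹ := by rw [hc.2 y hy, ← mul_assoc, ← h2]; group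
    _ = u * y * u⁻¹ := by rw [← hd.2 y (hx.le hM hy)]; group

include hM in
theorem blockHeight_eq_zero_of_dvd_index {B : Set (IrrCharacter G)} (hB : IsPBlock M B)
    {D : Subgroup G} (hD : IsDefectGroup p M B D) {χ : IrrCharacter G} (hχ : χ ∈ B)
    (h : charDegree χ.1 ∣ D.index) : blockHeight p B χ.1 = 0 := by
  by_contra h0
  obtain ⟨r, hr⟩ := (dvd_rdeg_iff hχ).2 h0
  have h1 := D.index_mul_card
  rw [card_defectGroup hM hB hD] at h1
  rw [← pow_mul_rdeg (p := p) hχ, hr, ← mul_assoc, ← pow_succ] at h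
  have h2 : p ^ ((Nat.card G).factorization p - blockDefect p B + 1 + blockDefect p B) ∣
      Nat.card G := by
    rw [pow_add]
    conv_rhs => rw [← h1]
    exact Nat.mul_dvd_mul_right ((Dvd.intro _ rfl).trans h) _
  have := (Nat.Prime.pow_dvd_iff_le_factorization Fact.out Nat.card_pos.ne').1 h2
  omega

include hM in
/-- Malle–Navarro: normal defect group and equal height zero degrees give a nilpotent block. -/
theorem nilpotent_of_normal_of_degree_eq {B : Set (IrrCharacter G)} (hB : IsPBlock M B)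
    {D : Subgroup G} [D.Normal] (hD : IsDefectGroup p M B D) {d : ℕ}
    (hd : ∀ χ ∈ B, blockHeight p B χ.1 = 0 → charDegree χ.1 = d) : IsNilpotentBlock p M B := by
  have hb := bIdem_top_idem hM hB
  have hD' := (isDefectGroup_iff_defGrp hM hB _).1 hD
  obtain ⟨e, he, hbe⟩ := hD'.exists_maxBP hM hb
  have hN : ∀ x : G, x ∈ Subgroup.normalizer (D : Set G) := fun x => by
    simp [Subgroup.normalizer_eq_top]
  rw [isNilpotentBlock_iff hM hB, he.nilId_iff_of_normal hM hb hbe fun x _ => hN x]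
  intro x hx hreg
  let f := QuotientGroup.mk' ⁅D, D⁆
  have hf : Function.Surjective f := QuotientGroup.mk'_surjective _
  have hker : f.ker = ⁅D, D⁆ := QuotientGroup.ker_mk' _
  have hkD : f.ker ≤ D := hker.le.trans (Subgroup.commutator_le_left D D)
  have hk : IsPGroup p f.ker := he.bp.pgroup.to_le hkD
  let L := (Subgroup.centralizer (D.map f : Set (G ⧸ ⁅D, D⁆))).comap f
  have hLreg : ∀ y ∈ L, IsPRegular p y → y ∈ Subgroup.centralizer (D : Set G) := by
    intro y hy hy'
    have h1 := coprimeAct_of_isPGroup_right (A := Subgroup.zpowers y)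
      (Subgroup.zpowers_le.2 (hN y)) he.bp.pgroup (by rwa [Nat.card_zpowers, ← isPRegular_iff])
    refine Subgroup.le_centralizer_iff.1 (h1.le_centralizer_of_commutator_le_frattini ?_)
      (Subgroup.mem_zpowers y)
    have := he.bp.pgroup.isNilpotent
    refine le_trans ?_ (Subgroup.map_mono (commutator_le_frattini (G := D)))
    rw [Subgroup.map_subtype_commutator, Subgroup.commutator_le]
    intro a ha b hb
    rw [← hker, MonoidHom.mem_ker, map_commutatorElement, commutatorElement_eq_one_iff_mul_comm]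
    exact Subgroup.zpowers_le.2 hy hb _ ⟨a, ha, rfl⟩
  have hCL : Subgroup.centralizer (D : Set G) ≤ L := by
    rintro y hy _ ⟨z, hz, rfl⟩
    rw [← map_mul, ← map_mul, hy z hz]
  have hLN : L ≤ Subgroup.normalizer (Subgroup.centralizer (D : Set G) : Set G) := fun y _ => by
    simp [Subgroup.normalizer_eq_top]
  obtain ⟨k, hk'⟩ := (exists_relIndex_eq_pow_iff_forall hLN).2 hLreg
  obtain ⟨e₁, he₁, h0⟩ := exists_bIdem_mul_ne_zero' hM L he.bp.ne_zero
  have h1 := he₁.eq_orbSum_of_relIndex_eq_pow hM hCL hLN hk' he.bp.bidem_top h0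
  have hxe := (mem_NP.1 hx).2.2
  have hLn : L.Normal := inferInstance
  have hxe₁ : cj x e₁ = e₁ := by
    rw [(he₁.cj_of_mem_normalizer (by simp [Subgroup.normalizer_eq_top])
      ).eq_orbSum_of_relIndex_eq_pow hM hCL hLN hk' he.bp.bidem_top
        (by rw [← hxe, ← map_mul]; exact (map_ne_zero_iff _ (cj_injective x)).2 h0), ← h1]
  have hbD : br D (idem hM B) = idem hM B := hb.br_eq_self hM le_top (fun y _ => hN y) he.bp.pgroup
  rw [hbD] at hbe
  have hbe₁ : idem hM B * e₁ = e₁ := by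
    rw [h1]; exact mul_orbSum_of_isFixed (hb.fixed.mono le_top) hbe
  have h2 := he₁.mu_of_regular hM hk fun y hy hy' => centralizer_anti hkD (hLreg y hy hy')
  rw [Subgroup.map_comap_eq_self_of_surjective hf] at h2
  have hbp : BP p ⊤ (D.map f) (mu f e₁) := bp_top_iff.2 ⟨he.bp.pgroup.map f, h2⟩
  obtain ⟨B', hB', hof⟩ := (SPair.ofBP hbp).exists_of
  have hof' : br (D.map f) (idem hM B') * mu f e₁ = mu f e₁ := hof
  have hDn : (D.map f).Normal := Subgroup.Normal.map inferInstance f hf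
  have h3 : B' ⊆ irrComp f hf ⁻¹' B := by
    rw [subset_preimage_irrComp_iff hM hf hB hB']
    refine ((bIdem_top_idem hM hB').prim _ (by
      simpa [Subgroup.map_top_of_surjective f hf] using hb.toCIdem.mu f)).resolve_right fun h0 => ?_
    rw [(bIdem_top_idem hM hB').br_eq_self hM le_top (Subgroup.normalizer_eq_top _).ge
      hbp.pgroup] at hof'
    apply h2.ne_zero
    rw [← hbe₁, map_mul, ← hof', ← mul_assoc, h0, zero_mul]
  have h4 := nilpotent_of_degree_eq hM hB' (d := d) fun ψ hψ => by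
    rw [← charDegree_irrComp f hf]
    refine hd _ (h3 hψ) (blockHeight_eq_zero_of_dvd_index hM hB hD (h3 hψ)
      (irr_degree_dvd_index_of_commutator_le_ker _ D fun y hy => ?_))
    rw [irr_mem_ker_iff]
    change ψ.1 (f y) = ψ.1 (f 1)
    rw [map_one, MonoidHom.mem_ker.1 (hker.ge hy)]
  refine hLreg x ((isNilpotentBlock_iff hM hB').1 h4 _ _ hbp le_top hof' (f x)
    (mem_NP.2 ⟨trivial, (Subgroup.normalizer_eq_top _).ge trivial, ?_⟩) (hreg.map f)) hreg
  rw [← mu_cj, hxe₁]

end BT
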