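import Cfsg.Agent.Lib.Block.OneSmall

/-!
# Exceptional characters of degree `p - e`
-/

set_option autoImplicit false
set_option linter.unusedSectionVars false

namespace BT

open Cfsg CT GT
open scoped ComplexConjugate

variable {p : ℕ} [hp : Fact p.Prime]
variable {G : Type*} [Group G] [Finite G]
variable {A : Type*} [CommGroup A] [Finite A] {ι : A →* G}

local notation "e" => Nat.card (autN ι)

/-- A family of exceptional characters of degree `p - e`. -/
structure Co (p : ℕ) (ι : A →* G) (Z : HatNe A → IrrCharacter G) : Prop where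
  syl : PrimeSyl p ι
  lt : Nat.card (autN ι) < p - 1
  cen : cenReg p ι ≤ Subgroup.center G
  deg : ∀ m, charDegree (Z m).1 + Nat.card (autN ι) = p
  reg : ∀ m m' g, ¬ p ∣ orderOf g → (Z m).1 g = (Z m').1 g
  val : ∀ m, ∀ u ≠ 1, (Z m).1 (ι u) = -osum (autN ι) m.1 u

theorem not_orbit_one (E : Subgroup (MulAut A)) (l : HatNe A) :
    ¬ ∃ σ ∈ E, l.1.comp σ.toMonoidHom = 1 := by
  rintro ⟨σ, -, h⟩
  exact l.2 (MonoidHom.ext fun u => by simpa using DFunLike.congr_fun h (σ⁻¹ u))

theorem apply_one_eq_zero_of_hat [Fintype A] {g : A → ℂ}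
    (h : ∀ m : A →* ℂˣ, ∑ u, (m u⁻¹ : ℂ) * g u = 0) : g 1 = 0 := by
  classical
  have := Finset.sum_eq_zero fun m (_ : m ∈ Finset.univ) => h m
  rw [Finset.sum_comm] at this
  simp only [← Finset.sum_mul, sum_hat_apply] at this
  simpa [card_cast_ne_zero] using this

namespace PrimeSyl

variable (H : PrimeSyl p ι)
include H

theorem sum_mul_conj_of_osum [Fintype A] {θ : G → ℂ} {c : ℂ} {l : HatNe A}
    (h : ∀ u ≠ 1, θ (ι u) = c * osum (autN ι) l.1 u) (m : A →* ℂˣ)
    [Decidable (∃ σ ∈ autN ι, l.1.comp σ.toMonoidHom = m)] :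
    ∑ u, θ (ι u) * conj (m u : ℂ) = θ 1 +
      c * ((if ∃ σ ∈ autN ι, l.1.comp σ.toMonoidHom = m then (p : ℂ) else 0) - e) := by
  classical
  have h2 := sum_osum_mul_conj H.card (autN ι) l.2 m
  rw [Fintype.sum_eq_add_sum_subtype_ne _ 1, osum_one] at h2
  rw [Fintype.sum_eq_add_sum_subtype_ne _ 1, Finset.sum_congr rfl
    fun (u : {v : A // v ≠ 1}) _ => by rw [h u.1 u.2, mul_assoc], ← Finset.mul_sum,
    eq_sub_of_add_eq' h2]
  simp only [map_one, Units.val_one, mul_one]
  congr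

theorem two_mul_le_of_excFree {ζ : IrrCharacter G} (hk : ker ζ.1 = ⊥)
    (hd : charDegree ζ.1 + 1 < p) (hnn : ¬ ι.range.Normal) {s : ℕ} (hs : charDegree ζ.1 = s * e) :
    2 * charDegree ζ.1 + 1 ≤ p := by
  have hχ := irr_isCharacter ζ
  have hD : ι.range ≤ pPrimeResidual p G := le_pPrimeResidual_of_isPGroup H.syl.isPGroup
  set L := pPrimeResidual p G with hL
  have H' := H.sub hD
  have hk' : ker (res L ζ.1) = ⊥ := by rw [hχ.ker_res, hk]; simp
  have hc := H'.le_centralizer_of_faithful (hχ.res L) hk' (by rw [charDegree_res]; omega)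
    (not_dvd_card_pPrimeCore p L)
  obtain ⟨ψ, hψ, h3⟩ : ∃ ψ : IrrCharacter L, ip (res L ζ.1) ψ.1 ≠ 0 ∧
      ¬ (subHom ι hD).range ≤ center ψ.1 := by
    by_contra h
    push Not at h
    have h4 : L ≤ Subgroup.normalizer (ι.range : Set G) := fun g hg =>
      Subgroup.centralizer_le_normalizer _ (Subgroup.mem_centralizer_iff.2 (by
        rintro _ ⟨u, rfl⟩
        exact (congrArg Subtype.val (Subgroup.mem_center_iff.1 (center_of_forall_constituent
          (hχ.res L) hk' (z := subHom ι hD u) fun ψ hψ => h ψ hψ ⟨u, rfl⟩) ⟨g, hg⟩)).symm))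
    have h5 := H.syl.of_le hD le_top
    exact hnn (Subgroup.normalizer_eq_top_iff.1 (eq_top_iff.2 fun g _ =>
      conj_smul_eq_iff_mem_normalizer.1 (h5.eq_of_le_normalizer h4 (h5.conj_of_mem_normalizer
        (Subgroup.le_normalizer_of_normal (Subgroup.mem_top g))))))
  have h4 := (hχ.res L).degree_le_of_ip_ne_zero ψ hψ
  rw [charDegree_res] at h4
  have h8 := Subgroup.card_le_of_le (H.autN_sub_le hD)
  obtain ⟨t, ht⟩ := H.card_autN_dvd
  have h0 := irr_degree_pos ζ
  have h1 : s < t := Nat.lt_of_mul_lt_mul_right (a := e) (by rw [mul_comm t]; omega)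
  have h2 : (s + 1) * e ≤ e * t := by rw [mul_comm e]; exact Nat.mul_le_mul_right _ h1
  rcases H'.exists_small ψ (by omega) with h | ⟨s', Z, l, F⟩ | h
  · exact absurd (h.trans (ker_le_center _)) h3
  · have h5 := F.degree
    have he : Nat.card (autN (subHom ι hD)) ≤ charDegree ψ.1 := h5 ▸ Nat.le_mul_of_pos_left _ F.pos
    have hV : cenReg p (subHom ι hD) ≤ Subgroup.center L :=
      (H'.cenReg_le_pPrimeCore F (by omega)).trans (Subgroup.centralizer_eq_top_iff_subset.1
        (H.residual_no _ inferInstance (Subgroup.le_centralizer_iff.1 hc)))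
    by_cases h6 : 2 * Nat.card (autN (subHom ι hD)) + 1 < p
    · have h7 := H'.degree_eq_one_of_excFree H.residual_no F h6 hV
      exact absurd (fun g _ => by rw [irr_mem_center_iff,
        (irr_isCharacter ψ).norm_eq_one_of_degree_one h7, h7, Nat.cast_one]) h3
    · obtain rfl : s = 1 := by
        have : s ≠ 0 := by rintro rfl; omega
        by_contra h
        have : 3 * e ≤ (s + 1) * e := Nat.mul_le_mul_right _ (by omega)
        omega
      omega
  · rw [add_one_mul] at h2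
    omega

theorem exists_co (ζ : IrrCharacter G) (hk : ker ζ.1 = ⊥) (hd : charDegree ζ.1 + 1 < p)
    (hnn : ¬ ι.range.Normal) : 2 * charDegree ζ.1 + 1 ≤ p ∨ ∃ Z l, Co p ι Z ∧ Z l = ζ := by
  classical
  have := Fintype.ofFinite A
  have hpos := irr_degree_pos ζ
  obtain ⟨M, hM⟩ := exists_pModular hp.out
  obtain ⟨b, X, Y, δ, δ₀, ξ, O⟩ := H.exists_oneStr_of_defect hM rfl (isPBlock_blockOf ζ)
    (H.blockDefect_ne_zero hM (Nat.not_dvd_of_pos_of_lt hpos (by omega)))
  have hconst : ∀ c, ¬ ∀ u ≠ 1, ζ.1 (ι u) = c := fun c h => hnn (le_bot_iff.1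
    ((H.range_le_ker_of_const (irr_isCharacter ζ) hd h).trans hk.le) ▸ inferInstance)
  rcases (O.cyc.mem_iff ζ).1 (mem_blockOf_self hM ζ) with h1 | ⟨l, rfl⟩
  · exact absurd (fun u hu => O.valX_range h1 hu) (hconst _)
  have hval : ∀ l : HatNe A, ∀ u ≠ 1, (Y l).1 (ι u) =
      -δ₀ * charDegree (ξ 1).1 * osum (autN ι) l.1 u := fun l u hu => by
    rw [O.valY l (H.dvd_orderOf hu), H.ind_apply_of_mul rfl _ l.1 (u := u) (H.dvd_orderOf hu)
      (O.range_le ⟨u, rfl⟩) fun n w hw => O.cen.apply_of_eq l.1 _ (by rw [hw, conjA_spec]),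
      irr_apply_one]
    ring
  have he : e < p - 1 := lt_of_le_of_ne (Nat.le_of_dvd (by omega) H.card_autN_dvd)
    fun h => hconst _ fun u hu => by rw [hval l u hu, osum_of_card_eq H.card _ h l.2 hu]
  have he2 := H.two_mul_card_autN_le he
  obtain ⟨k, -, hk', -⟩ := (irr_isCharacter (Y l)).exists_hat_mult ι
  have h1 : ∀ m, (p : ℤ) * k m = charDegree (Y l).1 - δ₀ * charDegree (ξ 1).1 *
      ((if ∃ σ ∈ autN ι, l.1.comp σ.toMonoidHom = m then p else 0) - e) := fun m => by
    have h3 := hk' m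
    rw [H.card, H.sum_mul_conj_of_osum (hval l), irr_apply_one] at h3
    refine Int.cast_injective (α := ℂ) ?_
    push_cast
    rw [← h3]
    ring
  have h2 := h1 1
  have h3 := h1 l.1
  rw [if_neg (not_orbit_one _ l)] at h2
  rw [if_pos ⟨1, one_mem _, rfl⟩] at h3
  have hs := irr_degree_pos (ξ 1)
  have he0 := H.card_autN_pos
  have h4 : ∀ k : ℕ, (p : ℤ) * k < p → k = 0 := fun k h => by
    by_contra h'
    nlinarith [Nat.pos_of_ne_zero h']
  rcases O.cyc.sign₀ with rfl | rfl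
  swap
  · push_cast at h2
    rw [h4 (k 1) (by nlinarith)] at h2
    exact Or.inl (H.two_mul_le_of_excFree hk hd hnn (s := charDegree (ξ 1).1) (by
      zify; push_cast at h2; linarith))
  have hs1 : charDegree (ξ 1).1 = 1 := by
    by_contra h
    have : (2 : ℤ) ≤ charDegree (ξ 1).1 := by omega
    nlinarith
  have h5 : k 1 = 1 := by
    rw [hs1] at h2
    have : k 1 ≠ 0 := fun h => by rw [h] at h2; omega
    by_contra h
    have : (p : ℤ) * 2 ≤ p * k 1 := by gcongr; omega
    omega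
  have hdeg : charDegree (Y l).1 + e = p := by rw [hs1, h5] at h2; omega
  have hval' : ∀ l : HatNe A, ∀ u ≠ 1, (Y l).1 (ι u) = -osum (autN ι) l.1 u := fun l u hu => by
    rw [hval l u hu, hs1]; simp
  refine Or.inr ⟨Y, l, ⟨H, he, fun y hy => ?_, fun m => ?_, fun m m' g hg => O.cyc.reg_eq _ _ hg,
    hval'⟩, rfl⟩
  swap
  · rw [← hdeg, charDegree_eq_of_apply_one ((O.cyc.reg_eq m l not_dvd_orderOf_one).trans
      (irr_apply_one _))]
  obtain ⟨hy1, hy2⟩ := H.mem_cenReg.1 hy
  have := Fintype.ofFinite (Subgroup.normalizer (ι.range : Set G))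
  have hyu : ∀ u, y * ι u = ι u * y := fun u =>
    (Subgroup.mem_centralizer_iff.1 hy1 _ ⟨u, rfl⟩).symm
  obtain ⟨F, h6⟩ : ∃ F : Subgroup.normalizer (ι.range : Set G) → ℂ, ∀ u ≠ 1,
      (Y l).1 (y * ι u) = ∑ n, F n * l.1 (conjA H.inj n⁻¹ u) := by
    let C := Subgroup.centralizer (ι.range : Set G)
    refine ⟨fun n => -(Nat.card C : ℂ)⁻¹ * extendByZero C (ξ 1).1 ((n : G)⁻¹ * y * n),
      fun u hu => ?_⟩
    have h5 := H.dvd_orderOf_mul hu hy1 hy2
    rw [O.valY l h5, H.ind_apply O.le_normalizer _ h5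
      (O.le_normalizer (mul_mem hy1 (O.range_le ⟨u, rfl⟩))), Finset.mul_sum, Finset.mul_sum]
    refine Finset.sum_congr rfl fun n _ => ?_
    beta_reduce
    have h6 : (n : G)⁻¹ * y * n ∈ C :=
      inv_conj_mem_of_mem_normalizer (normalizer_le_normalizer_centralizer _ n.2) hy1
    have h8 : (n : G)⁻¹ * (y * ι u) * n = ι (conjA H.inj n⁻¹ u) * ((n : G)⁻¹ * y * n) := by
      rw [conjA_spec, hyu, Subgroup.coe_inv]; group
    rw [extendByZero_of_mem _ _ (h8 ▸ mul_mem (O.range_le ⟨_, rfl⟩) h6),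
      extendByZero_of_mem _ _ h6, O.cen.val l.1 _ (y := ⟨_, h6⟩) h8 (by
        rw [← Subgroup.orderOf_coe, ← orderOf_eq_of_isConj
          (isConj_iff.2 ⟨(n : G)⁻¹, by simp⟩ : IsConj y _)]
        exact hy2)]
    push_cast
    ring
  have h7 : ∀ m : A →* ℂˣ, ∑ u, (m u⁻¹ : ℂ) * (Y l).1 (ι u) = Nat.card A * k m := fun m => by
    simp only [← hk' m, units_hom_conj, map_inv, mul_comm]
  have h8 : ∀ m : A →* ℂˣ, (¬ ∃ σ ∈ autN ι, l.1.comp σ.toMonoidHom = m) →
      ∑ u, (m u⁻¹ : ℂ) * (Y l).1 (y * ι u) = (Y l).1 y - ∑ n, F n := fun m hm => by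
    have h9 : ∑ u, (m u⁻¹ : ℂ) * ∑ n, F n * l.1 (conjA H.inj n⁻¹ u) = 0 := by
      simp only [Finset.mul_sum]
      rw [Finset.sum_comm]
      refine Finset.sum_eq_zero fun n _ => ?_
      have := sum_apply_mul_conj_hat (l.1.comp (conjA H.inj n⁻¹).toMonoidHom) m
      rw [if_neg fun h => hm ⟨_, conjA_mem _ _, h⟩] at this
      rw [← mul_zero (F n), ← this, Finset.mul_sum]
      exact Finset.sum_congr rfl fun u _ => by simp [units_hom_conj]; ring
    rw [← sub_zero (∑ u, _), ← h9, ← Finset.sum_sub_distrib,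
      Finset.sum_eq_single 1 (fun u _ hu => by rw [h6 u hu, sub_self]) (by simp)]
    simp
  have hp0 : (p : ℂ) ≠ 0 := Nat.cast_ne_zero.2 hp.out.ne_zero
  obtain ⟨w, h11, h12⟩ := (irr_isCharacter (Y l)).exists_isotypic_bound ι 1
  have h13 := (h12 y hy1).2 (by
    rw [h7, mul_right_inj' card_cast_ne_zero, Nat.cast_inj] at h11
    omega)
  rw [h8 1 (not_orbit_one _ l), H.card] at h13
  have h14 := apply_one_eq_zero_of_hat (g := fun u => p * (Y l).1 (y * ι u) -
    ((Y l).1 y - ∑ n, F n) * (Y l).1 (ι u)) fun m => by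
      simp only [mul_sub, mul_left_comm (m _ : ℂ), Finset.sum_sub_distrib, ← Finset.mul_sum, h7]
      have h15 := h1 m
      rw [hs1] at h15
      split_ifs at h15 with hm
      · have h16 : k m = 0 := h4 _ (by omega)
        rw [(irr_isCharacter (Y l)).sum_mul_eq_zero ι m (by rw [h7, h16]; simp) hy1, h16]
        simp
      · rw [h8 m hm, show k m = 1 from Nat.eq_of_mul_eq_mul_left hp.out.pos (by zify; omega),
          H.card]
        push_cast
        ring
  simp only [map_one, mul_one, sub_eq_zero] at h14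
  have h15 := congrArg norm h14
  rw [norm_mul, norm_mul, h13, Complex.norm_natCast, irr_apply_one, Complex.norm_natCast,
    mul_right_inj' (Nat.cast_ne_zero.2 hp.out.ne_zero)] at h15
  rwa [← irr_center_eq_of_faithful _ hk, irr_mem_center_iff]

end PrimeSyl

end BT
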