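import Cfsg.Agent.Lib.Block.LatN
import Cfsg.Agent.Lib.Block.OneCo
import Cfsg.Agent.Lib.Lin.TISylow

/-!
# Multiplicities of exceptional characters in products of characters of degree `p - e`
-/

set_option autoImplicit false
set_option linter.unusedSectionVars false

namespace BT.Lat

open Cfsg CT Module
open scoped ComplexConjugate

theorem block_struct {S : Type*} [Fintype S] {l : S → ℕ} {p c d : ℕ}
    (h1 : ∀ a, l a ≤ p) (h2 : ∀ a b, l a < p → l b < p → a = b) (hs : ∑ a, l a = c * p + d)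
    (hd : 0 < d) (hd' : d < p) : ∃ a₀, l a₀ = d ∧ (∀ a ≠ a₀, l a = p) ∧ Fintype.card S = c + 1 := by
  classical
  obtain ⟨a₀, h3⟩ : ∃ a, l a < p := by
    by_contra! h
    rw [Finset.sum_congr rfl fun a _ => (h1 a).antisymm (h a), Finset.sum_const, smul_eq_mul] at hs
    exact Nat.not_dvd_of_pos_of_lt hd hd' ((Nat.dvd_add_right (Dvd.intro_left c rfl)).1
      (hs ▸ Dvd.intro_left _ rfl))
  have h4 : ∀ a ≠ a₀, l a = p := fun a ha => (h1 a).antisymm (not_lt.1 fun h => ha (h2 _ _ h h3))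
  rw [Fintype.sum_eq_add_sum_compl a₀, Finset.sum_congr rfl fun a ha => h4 a (by simpa using ha),
    Finset.sum_const, smul_eq_mul, Finset.card_compl, Finset.card_singleton] at hs
  have h5 := congrArg (· % p) hs
  simp only [Nat.add_mul_mod_self_right, Nat.mul_add_mod_self_right, Nat.mod_eq_of_lt h3,
    Nat.mod_eq_of_lt hd'] at h5
  have h6 := Nat.eq_of_mul_eq_mul_right (hd.trans hd') (show (Fintype.card S - 1) * p = c * p
    by omega)
  have := Fintype.card_pos_iff.2 ⟨a₀⟩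
  exact ⟨a₀, h5, h4, by omega⟩

theorem card_window (L d n : ℕ) : min (n + 1) L - (n + 1 - d) ≤
    ((Finset.range L).filter fun i => i ≤ n ∧ n < i + d).card := by
  rw [← Nat.card_Ico]
  exact Finset.card_le_card fun i hi => by simp at hi ⊢; omega

theorem num_neg {p e t : ℕ} (hp : p.Prime) (ht : e * t + 1 = p) (h : e + 2 ≤ t) : e + 3 ≤ t := by
  refine lt_of_le_of_ne h fun h => ?_
  rw [← ht, ← h, show e * (e + 2) + 1 = (e + 1) * (e + 1) by ring, Nat.prime_mul_iff] at hp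
  have := Nat.not_prime_one
  rcases hp with ⟨h1, h2⟩ | ⟨h1, h2⟩ <;> exact this (h2 ▸ h1)

theorem num_pos {p e t n : ℕ} (hp : p.Prime) (ht : e * t + 1 = p) (h3 : 3 ≤ t) (h7 : 7 < p)
    (h1 : (p - 1) * (e - e / 2) ≤ n + e ^ 2) (h2 : n ≤ e * (t - 2)) : e + 3 ≤ t := by
  obtain ⟨t, rfl⟩ : ∃ t', t = t' + 3 := ⟨t - 3, by omega⟩
  have he : 0 < e := Nat.pos_of_ne_zero (by rintro rfl; omega)
  rw [show p - 1 = e * (t + 3) by omega] at h1
  have h10 : (t + 3) * (e - e / 2) ≤ t + 1 + e := Nat.le_of_mul_le_mul_left (by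
    change n ≤ e * (t + 1) at h2
    linarith) he
  refine num_neg hp ht ?_
  rcases Nat.lt_or_ge 2 e with h12 | h12
  · obtain ⟨b, hb⟩ : ∃ b, e - e / 2 = b + 2 := ⟨e - e / 2 - 2, by omega⟩
    rw [hb] at h10
    have : e ≤ 2 * b + 4 := by omega
    nlinarith
  · by_contra h
    have : e * t ≤ 2 * 0 := Nat.mul_le_mul h12 (by omega)
    rw [mul_add] at ht
    omega

variable {p : ℕ} [hp : Fact p.Prime]
variable {G : Type*} [Group G] [Finite G]

open Multiplicative

local notation "Zp" => Multiplicative (ZMod p)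

variable {ι : Multiplicative (ZMod p) →* G}

local notation "N" => Subgroup.normalizer (MonoidHom.range ι : Set G)
local notation "C" => Subgroup.centralizer (MonoidHom.range ι : Set G)
local notation "e" => Nat.card (autN ι)

namespace Gen

variable {h : G} {s : ZMod p} (Γ : Gen ι h s)
include Γ

theorem exists_model {k : Type} [Field k] [CharP k p] [IsAlgClosed k] (R : Red k)
    (χ : IrrCharacter G) {c d : ℕ} (hd : charDegree χ.1 = c * p + d) (h0 : 0 < d) (h1 : d < p) :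
    ∃ (n : ℕ) (σ : Representation k G (Fin n → k)) (S : Type) (_ : Fintype S) (l : S → ℕ)
      (m : S → Fin n → k) (w : S → k) (B : Basis (Σ s, Fin (l s)) k (Fin n → k)) (a₀ : S),
      R.IsRed χ.1 σ ∧ GJ (xop ι σ) (σ h) l m w B ∧ l a₀ = d ∧ (∀ a ≠ a₀, l a = p) ∧
        Fintype.card S = c + 1 := by
  obtain ⟨n, σ, h2, h3⟩ := R.exists_isRed_local χ
  obtain ⟨S, _, l, m, w, B, J⟩ := Γ.exists_gj σ
  obtain ⟨a₀, h4⟩ := block_struct (J.le_of_pow_eq_zero (xop_pow ι σ)) (fun a b =>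
    Γ.eq_of_lt σ J (fun y hy => h2.exists_scalar (center_le_irr_center χ (Γ.cen hy))) h3)
    (by rw [← J.finrank_eq, h2.finrank_eq, hd]) h0 h1
  exact ⟨n, σ, S, inferInstance, l, m, w, B, a₀, h2, J, h4⟩

theorem blau_char [Fintype Zp] {α β γ : IrrCharacter G} (hα : charDegree α.1 + e = p)
    (hβ : charDegree β.1 + e = p) {c d r : ℕ} (hγ : charDegree γ.1 = c * p + d) (h0 : 0 < d)
    (h1 : d < p) (hr : ∃ n₀, ∀ n, n₀ ≤ n → n < n₀ + e → r ≤ min (n + 1) (p - e) - (n + 1 - d))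
    (hk : cenReg p ι ≤ ker (α.1 * γ.1 * cbar β.1)) {n f : ℕ}
    (hn : ip (α.1 * γ.1 * cbar β.1) (fun _ => 1) = n)
    (hf : ∑ u, (α.1 * γ.1 * cbar β.1) (ι u) = p * f) :
    e * (c * (p - e) + r) + f ≤ e * n + (p - e) * (c * p + d) := by
  classical
  obtain ⟨k, _, _, _, ⟨R⟩⟩ := exists_red hp.out
  have he := Γ.syl.card_autN_pos
  have h2 := irr_degree_pos α
  obtain ⟨n₁, σ₁, S₁, _, l₁, m₁, w₁, B₁, a₁, R₁, J₁, h3, -, h4⟩ :=
    Γ.exists_model R α (c := 0) (d := p - e) (by omega) (by omega) (by omega)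
  obtain ⟨n₂, σ₂, S₂, _, l₂, m₂, w₂, B₂, a₂, R₂, J₂, h5, -, h6⟩ :=
    Γ.exists_model R β (c := 0) (d := p - e) (by omega) (by omega) (by omega)
  obtain ⟨n₃, σ₃, S₃, _, l₃, m₃, w₃, B₃, a₃, R₃, J₃, h7, h8, h9⟩ := Γ.exists_model R γ hγ h0 h1
  have u₁ : ∀ a, a = a₁ := fun a => Fintype.card_le_one_iff.1 h4.le a a₁
  have u₂ : ∀ a, a = a₂ := fun a => Fintype.card_le_one_iff.1 h6.le a a₂
  have h10 := Γ.blau R₂ (R₁.tprod R₃) hk J₂ (fun a => by
    rw [u₂ a, h5, show p - e - 1 = p - 1 - e by omega]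
    exact Nat.dvd_sub Γ.syl.card_autN_dvd dvd_rfl) hn hf
  have h11 := Γ.sum_le_ker J₁ J₃ (Γ.pow_eq_smul R₂ (R₁.tprod R₃) hk J₂ a₂)
    (r := fun _ a => if a = a₃ then r else p - e) fun a a' => by
      rw [u₁ a, h3]
      split_ifs with h
      · exact hr.imp fun n₀ h' n hn hn' => (h' n hn hn').trans (h ▸ h7 ▸ card_window _ _ _)
      · exact ⟨p - e - 1, fun n hn hn' => le_trans (by rw [h8 a' h]; omega) (card_window _ _ _)⟩
  rw [Fintype.sum_eq_single a₂ fun a ha => absurd (u₂ a) ha, h5, h6, Nat.sub_sub_self (by omega),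
    finrank_tensorProduct, R₁.finrank_eq, R₃.finrank_eq, hγ,
    show charDegree α.1 = p - e by omega] at h10
  rw [Fintype.sum_eq_single a₁ fun a ha => absurd (u₁ a) ha, Fintype.sum_eq_add_sum_compl a₃,
    if_pos rfl, Finset.sum_congr rfl fun a ha => if_neg (by simpa using ha), Finset.sum_const,
    Finset.card_compl, Finset.card_singleton, h9, smul_eq_mul, Nat.add_sub_cancel, add_comm] at h11
  have := Nat.mul_le_mul_left e h11
  omega

end Gen

/-- A family of exceptional characters. -/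
structure Fam (ι : Multiplicative (ZMod p) →* G) (W : HatNe (Multiplicative (ZMod p)) →
    IrrCharacter G) (δ₀ : ℤ) (a : ℕ) : Prop where
  syl : PrimeSyl p ι
  lt : Nat.card (autN ι) < p - 1
  sign : δ₀ = 1 ∨ δ₀ = -1
  deg : ∀ m, (charDegree (W m).1 : ℤ) + δ₀ * Nat.card (autN ι) = p * a
  reg : ∀ m m' g, ¬ p ∣ orderOf g → (W m).1 g = (W m').1 g
  val : ∀ m, ∀ u ≠ 1, (W m).1 (ι u) = -δ₀ * osum (autN ι) m.1 u

theorem _root_.BT.Co.fam {Z : HatNe Zp → IrrCharacter G} (F : Co p ι Z) : Fam ι Z 1 1 :=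
  ⟨F.syl, F.lt, Or.inl rfl, fun m => by have := F.deg m; omega, F.reg,
    fun m u hu => by simp [F.val m u hu]⟩

theorem _root_.BT.PB.exists_fam {X : Finset (IrrCharacter G)} {Y : HatNe Zp → IrrCharacter G}
    {δ : IrrCharacter G → ℤ} {δ₀ : ℤ} (T : PB p ι X Y δ δ₀) (he : e < p - 1) :
    ∃ a, Fam ι Y δ₀ a := by
  obtain ⟨l⟩ := T.syl.nonempty_hatNe
  obtain ⟨a, ha⟩ := T.exists_fix_Y l
  exact ⟨a, T.syl, he, T.sign₀, fun m => T.degree_eq m l ▸ ha, fun m m' g => T.reg_eq m m',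
    T.valY_range⟩

theorem sum_mul_conj_osum [Fintype Zp] {θ : G → ℂ} (hθ : IsClassFunction G θ) (l : Zp →* ℂˣ) :
    ∑ u, θ (ι u) * conj (osum (autN ι) l u) = e * ∑ u, θ (ι u) * conj (l u : ℂ) := by
  have := Fintype.ofFinite (autN ι)
  simp only [osum_eq, map_sum, Finset.mul_sum]
  rw [Finset.sum_comm, Finset.sum_congr rfl (g := fun _ => ∑ u, θ (ι u) * conj (l u : ℂ)),
    Finset.sum_const, Finset.card_univ, nsmul_eq_mul, Nat.card_eq_fintype_card, Finset.mul_sum]
  rintro ⟨σ, t, -, ht⟩ -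
  rw [← Equiv.sum_comp σ.toEquiv fun u => θ (ι u) * conj (l u : ℂ)]
  exact Finset.sum_congr rfl fun u _ => by rw [← hθ (ι u) t, ← ht]; rfl

namespace Fam

variable {W : HatNe (Multiplicative (ZMod p)) → IrrCharacter G} {δ₀ : ℤ} {a : ℕ}
  (Φ : Fam ι W δ₀ a) [Fintype (Multiplicative (ZMod p))]
include Φ

theorem sum_mul_conj {θ : G → ℂ} (hθ : IsClassFunction G θ) (l : HatNe Zp) :
    ∑ u, θ (ι u) * conj ((W l).1 (ι u)) =
      θ 1 * p * a - δ₀ * e * ∑ u, θ (ι u) * conj (l.1 u : ℂ) := by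
  classical
  have h1 : ((W l).1 1 : ℂ) + δ₀ * e = p * a := by rw [irr_apply_one]; exact_mod_cast Φ.deg l
  rw [mul_assoc (δ₀ : ℂ), ← sum_mul_conj_osum hθ, eq_sub_iff_add_eq, Finset.mul_sum,
    ← Finset.sum_add_distrib, Finset.sum_eq_single 1 (fun u _ hu => ?_) (by simp), map_one,
    osum_one, mul_assoc, ← h1, irr_apply_one]
  · simp only [Complex.conj_natCast]; ring
  · rw [Φ.val l u hu]; simp; ring

theorem sum_eq (l : HatNe Zp) : ∑ u, (W l).1 (ι u) = p * a := by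
  have h1 := Φ.sum_mul_conj isCharacter_one.isClassFunction l
  have h2 := sum_apply_mul_conj_hat 1 l.1
  rw [if_neg l.2.symm] at h2
  simp only [one_mul, MonoidHom.one_apply, Units.val_one] at h1 h2
  simpa [h2] using congrArg conj h1

theorem orbit_of_eq {l m : HatNe Zp} (h : W l = W m) :
    ∃ σ ∈ autN ι, l.1.comp σ.toMonoidHom = m.1 := by
  classical
  by_contra h1
  have h2 := Φ.syl.sum_mul_conj_of_osum (Φ.val l) m.1
  have h3 := Φ.syl.sum_mul_conj_of_osum (Φ.val m) m.1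
  rw [if_neg h1, h] at h2
  rw [if_pos ⟨1, one_mem _, rfl⟩, h2] at h3
  have : (δ₀ : ℂ) * p = 0 := by linear_combination h3
  rcases Φ.sign with rfl | rfl <;> simp [hp.out.ne_zero] at this

theorem sum_le (F : IrrCharacter G → ℕ) : ∑ l, F (W l) ≤ e * ∑ ψ ∈ bset (Set.range W), F ψ := by
  classical
  have := Fintype.ofFinite (autN ι)
  rw [Finset.sum_comp F W, show Finset.univ.image W = bset (Set.range W) by ext; simp,
    Finset.mul_sum]
  refine Finset.sum_le_sum fun ψ hψ => Nat.mul_le_mul_right _ ?_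
  obtain ⟨l, rfl⟩ := mem_bset.1 hψ
  rw [Nat.card_eq_fintype_card]
  refine Finset.card_le_card_of_surjOn (fun σ => σ.1⁻¹ • l) fun m hm => ?_
  obtain ⟨σ, h1, h2⟩ := Φ.orbit_of_eq (Finset.mem_filter.1 hm).2.symm
  exact ⟨⟨σ, h1⟩, Finset.mem_univ _, Subtype.ext h2⟩

theorem mul_sum_le {F : G → ℂ} (hF : IsCharacter G F) {K : Subgroup G} {μ : K → ℂ}
    (hμ : IsCharacter K μ) {m b : ℕ} (hm : ∀ l, m ≤ mult (res K (W l).1) μ)
    (hb : ip (res K F) μ = b) : m * ∑ l, mult F (W l).1 ≤ e * b := by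
  have h1 : b = ∑ χ : IrrCharacter G, mult F χ.1 * mult (res K χ.1) μ := by
    refine Nat.cast_injective (R := ℂ) ?_
    rw [← hb]
    conv_lhs => rw [hF.eq_sum_mult]
    simp [res_sum, res_smul, ip_sum_left, ip_smul_left,
      ((irr_isCharacter _).res K).ip_eq_mult hμ]
  rw [Finset.mul_sum]
  refine (Finset.sum_le_sum fun l _ => ?_).trans ((Φ.sum_le fun χ =>
    mult F χ.1 * mult (res K χ.1) μ).trans (Nat.mul_le_mul_left _
      (h1 ▸ Finset.sum_le_sum_of_subset (Finset.subset_univ _))))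
  rw [mul_comm]
  exact Nat.mul_le_mul_left _ (hm l)

/-- Lower bound for the number of exceptional constituents. -/
theorem sum_ge {h : G} {s : ZMod p} (Γ : Gen ι h s) {α β : IrrCharacter G}
    (hα : charDegree α.1 + e = p) (hβ : charDegree β.1 + e = p)
    (hf : ∑ u, (α.1 * cbar β.1) (ι u) = p * (p - 2 * e))
    (hk : ∀ l, cenReg p ι ≤ ker (α.1 * cbar β.1 * cbar (W l).1)) :
    (δ₀ = 1 → (p - 1) * (e - e / 2) ≤ ∑ l, mult (α.1 * cbar β.1) (W l).1 + e ^ 2) ∧
      (δ₀ = -1 → 3 * e + 1 ≤ p → e ^ 2 ≤ ∑ l, mult (α.1 * cbar β.1) (W l).1) := by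
  have hF := (irr_isCharacter α).mul (irr_isCharacter β).cbar
  obtain ⟨κ, -, h1, h2⟩ := hF.exists_hat_mult ι
  have h3 := Φ.syl.two_mul_card_autN_le Φ.lt
  have he := Φ.syl.card_autN_pos
  have h4 : (α.1 * cbar β.1) 1 = (p - e) ^ 2 := by
    rw [Pi.mul_apply, cbar_apply, irr_apply_one, irr_apply_one, Complex.conj_natCast, sq,
      show charDegree β.1 = charDegree α.1 by omega, eq_sub_of_add_eq
        (show (charDegree α.1 : ℂ) + e = p by exact_mod_cast hα)]
  have h5 : ∑ l : HatNe Zp, (κ l.1 : ℤ) = (p - e) ^ 2 - (p - 2 * e) := by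
    have h6 := h1 1
    simp only [MonoidHom.one_apply, Units.val_one, map_one, mul_one, hf, Φ.syl.card] at h6
    refine Int.cast_injective (α := ℂ) ?_
    push_cast
    rw [sum_hatNe fun l => (κ l : ℂ), ← h4, hF.apply_one, h2,
      mul_left_cancel₀ (Nat.cast_ne_zero.2 hp.out.ne_zero) h6, Nat.cast_sum]
  have key : ∀ (l : HatNe Zp) {c d r : ℕ}, charDegree (W l).1 = c * p + d → 0 < d → d < p →
      (∃ n₀, ∀ n, n₀ ≤ n → n < n₀ + e → r ≤ min (n + 1) (p - e) - (n + 1 - d)) →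
      (e : ℤ) * (c * (p - e) + r) + ((p - e) ^ 2 * a - δ₀ * e * κ l.1) ≤
        e * mult (α.1 * cbar β.1) (W l).1 + (p - e) * (c * p + d) := fun l c d r h6 h7 h8 h9 => by
    have h10 : α.1 * (irrBar (W l)).1 * cbar β.1 = α.1 * cbar β.1 * cbar (W l).1 :=
      mul_right_comm _ _ _
    obtain ⟨f, h11⟩ := (hF.mul (irr_isCharacter (W l)).cbar).exists_nat_sum ι
    have h12 := Γ.blau_char hα hβ (γ := irrBar (W l)) (charDegree_eq_of_apply_one (by
      rw [irrBar_val, cbar_apply, irr_apply_one, h6, Complex.conj_natCast])) h7 h8 h9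
      (h10 ▸ hk l) (n := mult (α.1 * cbar β.1) (W l).1) (f := f) (by
        rw [h10, ip_mul_left, ← hF.ip_eq_mult (irr_isCharacter _)]; congr; ext; simp)
      (by rw [h10, h11, Φ.syl.card])
    have h13 := Φ.sum_mul_conj hF.isClassFunction l
    rw [h1, h4, Φ.syl.card] at h13
    replace h13 := (Φ.syl.card ▸ h11).symm.trans h13
    have h14 : (f : ℤ) = (p - e) ^ 2 * a - δ₀ * e * κ l.1 := by
      refine Int.cast_injective (α := ℂ) (mul_left_cancel₀ (Nat.cast_ne_zero.2 hp.out.ne_zero) ?_)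
      push_cast
      linear_combination h13
    zify [show e ≤ p by omega] at h12
    rwa [h14] at h12
  have hc : Fintype.card (HatNe Zp) = p - 1 := by
    rw [← Nat.card_eq_fintype_card, card_hatNe, Φ.syl.card]
  refine ⟨?_, ?_⟩
  · rintro rfl
    have h6 : ∀ l : HatNe Zp, (p : ℤ) - e - (e / 2 : ℕ) ≤
        mult (α.1 * cbar β.1) (W l).1 + κ l.1 := fun l => by
      have h7 := Φ.deg l
      have h8 := irr_degree_pos (W l)
      obtain ⟨c, rfl⟩ : ∃ c, a = c + 1 := Nat.exists_eq_succ_of_ne_zero (by rintro rfl; omega)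
      have h9 := key l (c := c) (d := p - e) (r := p - e - e / 2) (by
        zify [show e ≤ p by omega]; push_cast at h7; linarith) (by omega) (by omega)
        ⟨p - e - 1 - e / 2, fun n _ _ => by omega⟩
      rw [Nat.cast_sub (by omega), Nat.cast_sub (by omega)] at h9
      refine le_of_mul_le_mul_left ?_ (Int.natCast_pos.2 he)
      push_cast at h9 ⊢
      linarith
    have h7 := Finset.sum_le_sum fun l (_ : l ∈ Finset.univ) => h6 l
    rw [Finset.sum_const, Finset.card_univ, hc, Finset.sum_add_distrib, h5, nsmul_eq_mul] at h7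
    zify [show 1 ≤ p by omega, Nat.div_le_self] at h7 ⊢
    linarith
  · rintro rfl h6
    have h7 : ∀ l : HatNe Zp, (κ l.1 : ℤ) ≤ mult (α.1 * cbar β.1) (W l).1 + (p - 2 * e) :=
      fun l => by
        have h7 := Φ.deg l
        have h9 := key l (c := a) (d := e) (r := e) (by zify; linarith) he (by omega)
          ⟨e - 1, fun n _ _ => by omega⟩
        refine le_of_mul_le_mul_left ?_ (Int.natCast_pos.2 he)
        linarith
    have h8 := Finset.sum_le_sum fun l (_ : l ∈ Finset.univ) => h7 l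
    rw [Finset.sum_add_distrib, Finset.sum_const, Finset.card_univ, hc, h5, nsmul_eq_mul] at h8
    zify [show 1 ≤ p by omega] at h8 ⊢
    linarith

theorem mult_res_eq {h : G} {s : ZMod p} (Γ : Gen ι h s) {μ : N → ℂ}
    (hμ : ∀ u, subHom ι Subgroup.le_normalizer u ∈ ker μ) (l m : HatNe Zp) :
    mult (res N (W l).1) μ = mult (res N (W m).1) μ := by
  rw [mult, mult, ← ip_fixPart ι _ hμ, ← ip_fixPart ι _ hμ]
  congr 3
  funext n
  by_cases hn : n.1 ∈ C
  · obtain ⟨u, y, hy, h1⟩ := Φ.syl.exists_eq_mul hn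
    have h2 : ∀ l, fixPart ι (W l).1 n * (W l).1 1 = a * (W l).1 y := fun l => by
      rw [fixPart, h1, ← Equiv.sum_comp (Equiv.mulRight u⁻¹), mul_assoc, Finset.sum_mul,
        Finset.sum_congr rfl (g := fun v => (W l).1 y * (W l).1 (ι v)) fun v _ => by
          rw [mul_comm, ← (irr_isCharacter _).apply_mul_of_mem_center
            (center_le_irr_center _ (Γ.cen hy)), ← Subgroup.mem_center_iff.1 (Γ.cen hy)]
          simp [← mul_assoc, ← map_mul], ← Finset.mul_sum, Φ.sum_eq, Φ.syl.card]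
      field_simp [hp.out.ne_zero]
    refine mul_right_cancel₀ (irr_apply_one_ne_zero (W l)) ?_
    rw [h2, Φ.reg l m 1 not_dvd_orderOf_one, h2, Φ.reg l m y (Φ.syl.mem_cenReg.1 hy).2]
  · rw [Φ.syl.fixPart_apply (irr_isClassFunction _) hn,
      Φ.syl.fixPart_apply (irr_isClassFunction _) hn]
    exact Φ.reg l m n fun h => hn (Φ.syl.mem_centralizer h n.2)

end Fam

theorem _root_.BT.PrimeSyl.free (H : PrimeSyl p ι) :
    ∀ y ∈ ι.range, ∀ g : G, y ≠ 1 → g⁻¹ * y * g ∈ N → g ∈ N := by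
  rintro _ ⟨u, rfl⟩ g h1 h2
  exact inv_mem_iff.1 (H.mem_normalizer_of_conj (H.dvd_orderOf (mt (by rintro rfl; simp) h1))
    (Subgroup.le_normalizer ⟨u, rfl⟩) (by simpa using h2))

theorem _root_.BT.PrimeSyl.range_le_ker_of_small (H : PrimeSyl p ι) (hc : pPrimeCore p G ≤ C)
    (hnn : ¬ ι.range.Normal) (ψ : IrrCharacter G) (hd : 2 * charDegree ψ.1 + 1 < p) :
    ι.range ≤ ker ψ.1 := by
  by_contra h
  have hK := H.not_dvd_card_of_normal h
  have hf := QuotientGroup.mk'_surjective (ker ψ.1)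
  obtain ⟨η, h1⟩ := (exists_irrComp_eq_iff _ hf ψ).2 (QuotientGroup.ker_mk' _).le
  have h2 := ker_irrComp _ hf η
  have h3 : charDegree ψ.1 = charDegree η.1 := by
    rw [← charDegree_comp (QuotientGroup.mk' (ker ψ.1)), ← irrComp_val _ hf, h1]
  rw [h1] at h2
  refine absurd ((H.comp hf (by rwa [QuotientGroup.ker_mk'])).faithful_small (irr_isCharacter η)
    (Subgroup.comap_injective hf (by rw [← h2, MonoidHom.comap_bot, QuotientGroup.ker_mk']))
    (by omega) fun h4 => hnn ⟨?_⟩).1 (by omega)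
  rintro _ ⟨u, rfl⟩ g
  obtain ⟨v, hv⟩ := h4.conj_mem _ ⟨u, rfl⟩ (QuotientGroup.mk' _ g)
  obtain ⟨z, hz, h5⟩ := (QuotientGroup.mk'_eq_mk' _).1 (hv.trans
    (by simp only [← map_inv, MonoidHom.comp_apply, ← map_mul]; rfl))
  refine H.mem_range ((H.isPElt u).conj g) (h5 ▸ mul_mem (Subgroup.le_normalizer ⟨v, rfl⟩)
    (Subgroup.centralizer_le_normalizer _ (hc (GT.le_pPrimeCore' hK hz))))

theorem Gen.commutator_le {h : G} {s : ZMod p} (Γ : Gen ι h s) :
    commutator N ≤ Subgroup.subgroupOf C N := by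
  rw [← ker_conjA Γ.syl.inj]
  have := isCyclic_mulAut_of_prime Γ.syl.card
  exact Subgroup.commutator_le.2 fun a _ b _ => by
    rw [MonoidHom.mem_ker, map_commutatorElement, commutatorElement_eq_one_iff_mul_comm]
    exact IsCyclic.commGroup.mul_comm _ _

theorem Gen.cenReg_le {h : G} {s : ZMod p} (Γ : Gen ι h s) : cenReg p ι ≤ pPrimeCore p G :=
  have : (cenReg p ι).Normal :=
    ⟨fun y hy g => by rwa [Subgroup.mem_center_iff.1 (Γ.cen hy) g, mul_inv_cancel_right]⟩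
  GT.le_pPrimeCore' fun h => by
    obtain ⟨y, hy⟩ := exists_prime_orderOf_dvd_card' p h
    exact (Γ.syl.mem_cenReg.1 y.2).2 (by rw [Subgroup.orderOf_coe, hy])

section Co

variable {Z Z' : HatNe (Multiplicative (ZMod p)) → IrrCharacter G} (F : Co p ι Z) (F' : Co p ι Z')
  [Fintype (Multiplicative (ZMod p))]
include F

theorem _root_.BT.Co.degree_fixPart (m : HatNe Zp) : charDegree (fixPart ι (Z m).1) = 1 :=
  charDegree_eq_of_apply_one (F.syl.fixPart_one (F.fam.sum_eq m))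

theorem _root_.BT.Co.norm_apply (m : HatNe Zp) {n : G} (hn : n ∈ N) (hn' : n ∉ C) :
    ‖(Z m).1 n‖ = 1 := by
  rw [← F.syl.fixPart_apply (irr_isClassFunction _) (n := ⟨n, hn⟩) hn',
    (F.syl.isCharacter_fixPart (irr_isCharacter _)).norm_eq_one_of_degree_one (F.degree_fixPart m)]

include F' in
theorem _root_.BT.Co.sum_mul_cbar {l m : HatNe Zp}
    (h : ¬ ∃ σ ∈ autN ι, l.1.comp σ.toMonoidHom = m.1) :
    ∑ u, ((Z l).1 * cbar (Z' m).1) (ι u) = p * (p - 2 * e) := by
  classical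
  have h1 := F'.fam.sum_mul_conj (irr_isClassFunction (Z l)) m
  rw [F.syl.sum_mul_conj_of_osum (F.fam.val l), if_neg h, irr_apply_one, eq_sub_of_add_eq
    (show (charDegree (Z l).1 : ℂ) + e = p by exact_mod_cast F.deg l)] at h1
  refine h1.trans ?_
  push_cast
  ring

theorem _root_.BT.Co.cenReg_le_ker (l m : HatNe Zp) : cenReg p ι ≤ ker ((Z l).1 * cbar (Z m).1) :=
  fun y hy => by
    rw [((irr_isCharacter _).mul (irr_isCharacter _).cbar).mem_ker_iff, Pi.mul_apply, Pi.mul_apply,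
      cbar_apply, cbar_apply, F.reg l m y (F.syl.mem_cenReg.1 hy).2, Complex.mul_conj',
      F.reg l m 1 not_dvd_orderOf_one, Complex.mul_conj',
      (irr_mem_center_iff _).1 (center_le_irr_center _ (F.cen hy)), irr_apply_one,
      Complex.norm_natCast]

theorem _root_.BT.Co.ip_res {h : G} {s : ZMod p} (Γ : Gen ι h s) {l m : HatNe Zp}
    (hlm : ¬ ∃ σ ∈ autN ι, l.1.comp σ.toMonoidHom = m.1) {μ : N → ℂ} (hμ : IsCharacter N μ)
    (hk : ∀ c : N, c.1 ∈ C → c ∈ ker μ) (h1 : μ 1 = 1) :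
    ip (res N ((Z l).1 * cbar (Z m).1)) μ * e = p - 2 * e - 1 + ip (fun _ => 1) μ * e := by
  have hF := ((irr_isCharacter (Z l)).mul (irr_isCharacter (Z m)).cbar).isClassFunction
  have h0 := fun u => hk (subHom ι Subgroup.le_normalizer u) (range_le_centralizer ι ⟨u, rfl⟩)
  have h2 := Γ.ip_res_mul hF (F.sum_mul_cbar F hlm) h0 h1 fun y hy g n => by
    rw [hF.apply_mul_of_mem_ker (F.cenReg_le_ker l m hy),
      hμ.isClassFunction.apply_mul_of_mem_ker (hk y (F.syl.mem_cenReg.1 hy).1)]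
  have h3 := Γ.ip_res_mul isCharacter_one.isClassFunction (f := 1)
    (by simpa using (Nat.card_eq_fintype_card).symm.trans F.syl.card) h0 h1
    fun y hy g n => by rw [hμ.isClassFunction.apply_mul_of_mem_ker (hk y (F.syl.mem_cenReg.1 hy).1)]
  obtain ⟨e', he⟩ := Nat.exists_eq_succ_of_ne_zero Γ.syl.card_autN_pos.ne'
  rw [he, Finset.sum_range_succ'] at h2 h3
  rw [Finset.sum_congr rfl fun i hi => by
    have h4 : h ^ (i + 1) ∉ C := fun h => absurd (Nat.le_of_dvd i.succ_pos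
      ((Γ.pow_mem _).1 h)) (by simp at hi; omega)
    have h5 := Subgroup.pow_mem _ Γ.mem (i + 1)
    rw [Pi.mul_apply, cbar_apply, F.reg l m _ fun h => h4 (F.syl.mem_centralizer h h5),
      Complex.mul_conj', F.norm_apply m h5 h4, Complex.ofReal_one, one_pow]] at h2
  simp only [pow_zero] at h2 h3
  rw [show (⟨1, _⟩ : N) = 1 from rfl, h1, map_one] at h2 h3
  rw [he, show ip (fun _ : N => (1 : ℂ)) μ = ip (res N fun _ => 1) μ from rfl]
  linear_combination h2 - h3

theorem _root_.BT.Co.cases {X : Finset (IrrCharacter G)} {Y : HatNe Zp → IrrCharacter G}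
    {δ : IrrCharacter G → ℤ} {δ₀ : ℤ} (T : PB p ι X Y δ δ₀) (h1 : irrOne G ∈ X)
    (hc : pPrimeCore p G ≤ C) (hnn : ¬ ι.range.Normal) {t : ℕ} (ht : e * t + 1 = p) (h3 : 3 ≤ t)
    (h7 : 7 < p) : e + 3 ≤ t ∨ (δ₀ = -1 ∧ e + 1 = t ∧ ∀ l, charDegree (Y l).1 = p + e) := by
  have H := F.syl
  have he := H.card_autN_pos
  obtain ⟨h, s, Γ⟩ := exists_gen H F.cen
  obtain ⟨a, Φ⟩ := T.exists_fam F.lt
  obtain ⟨l⟩ := H.nonempty_hatNe
  obtain ⟨m, hm⟩ := exists_not_orbit H.card (autN ι) F.lt l.1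
  have hF := (irr_isCharacter (Z l)).mul (irr_isCharacter (Z m)).cbar
  have hY : ∀ l, cenReg p ι ≤ ker (Y l).1 := fun l =>
    Γ.cenReg_le.trans (T.core _ (Or.inr ⟨l, rfl⟩))
  obtain ⟨h4, h5⟩ := Φ.sum_ge Γ (F.deg l) (F.deg m) (F.sum_mul_cbar F hm) fun l' =>
    (le_inf (F.cenReg_le_ker l m) ((hY l').trans (ker_cbar _).ge)).trans (ker_inf_le_ker_mul _ _)
  set n := ∑ l', mult ((Z l).1 * cbar (Z m).1) (Y l').1
  have hp' : (p : ℂ) = e * t + 1 := by exact_mod_cast ht.symm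
  have he' : (e : ℂ) ≠ 0 := Nat.cast_ne_zero.2 he.ne'
  have hd := Φ.deg l
  have hd' := irr_degree_pos (Y l)
  have h3' := Nat.mul_le_mul_left e h3
  have h6 : n ≤ e * (t - 2) ∨ (δ₀ = -1 ∧ a = 1 ∧ n ≤ e * (t - 1)) := by
    have hf := H.isCharacter_fixPart (irr_isCharacter (Y l))
    have hf1 := H.fixPart_one (Φ.sum_eq l)
    have hk : ∀ c : N, c.1 ∈ C → c ∈ ker (fixPart ι (Y l).1) := fun c hc => by
      obtain ⟨u, y, hy, h6⟩ := H.exists_eq_mul hc
      rw [hf.mem_ker_iff, ← fixPart_mul ι _ u 1, fixPart, fixPart, h6]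
      simp only [← mul_assoc, (irr_isClassFunction _).apply_mul_of_mem_ker (hY l hy), mul_one,
        coe_subHom]
    have h0 := fun u => range_le_centralizer ι ⟨u, rfl⟩
    by_cases h6 : ∃ μ ≠ irrOne N, ip (fixPart ι (Y l).1) μ.1 ≠ 0
    · obtain ⟨μ, h6, h8⟩ := h6
      have h9 := fun c hc => hf.ker_le_of_ip_ne_zero μ h8 (hk c hc)
      have h10 := F.ip_res Γ hm (irr_isCharacter μ) h9 (by
        rw [irr_apply_one, (irr_commutator_le_ker_iff μ).1 fun c hc => h9 c (Γ.commutator_le hc),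
          Nat.cast_one])
      rw [show ip (fun _ => 1) μ.1 = 0 from ip_irr_ne h6.symm] at h10
      refine Or.inl ((one_mul n).ge.trans (Φ.mul_sum_le hF (irr_isCharacter μ) (fun l' => ?_)
        (mul_right_cancel₀ he' ?_)))
      · rw [Φ.mult_res_eq Γ (fun u => h9 _ (h0 u)) l' l, Nat.one_le_iff_ne_zero, ← Nat.pos_iff_ne_zero,
          ((irr_isCharacter _).res _).mult_pos_iff (irr_isCharacter μ),
          ← ip_fixPart ι _ fun u => h9 _ (h0 u)]
        exact h8
      · rw [h10, hp', Nat.cast_sub (by omega)]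
        push_cast
        ring
    push Not at h6
    have h8 : ip (res N (Y l).1) (fun _ => 1) = a := by
      rw [← ip_fixPart ι _ fun u g => rfl, ← hf1, hf.isClassFunction.apply_eq_sum_irr,
        Finset.sum_eq_single (irrOne N) (fun μ _ h => by rw [h6 μ h, zero_mul])
          fun h => absurd (Finset.mem_univ _) h]
      exact (mul_one _).symm
    have h9 := F.ip_res Γ hm isCharacter_one (fun c _ g => rfl) rfl
    have h10 : a * n ≤ e * (t - 1) := Φ.mul_sum_le hF isCharacter_one (K := N) (fun l' => by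
      rw [Φ.mult_res_eq Γ (fun u g => rfl) l' l, mult_eq_of_ip_eq h8]) (mul_right_cancel₀ he' (by
        rw [h9, hp', Nat.cast_sub (by omega), ip_const_one]
        push_cast
        ring))
    obtain rfl | rfl | h11 : a = 0 ∨ a = 1 ∨ 2 ≤ a := by omega
    · obtain rfl : δ₀ = -1 := T.sign₀.resolve_left (by rintro rfl; omega)
      have h11 := T.card_eq_of_const (l := l) fun u _ => (irr_mem_ker_iff _).1
        (H.range_le_ker_of_small hc hnn (Y l) (by omega) ⟨u, rfl⟩)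
      exact absurd F.lt (by omega)
    · refine Or.inr ⟨T.sign₀.resolve_left ?_, rfl, by omega⟩
      rintro rfl
      rw [LG.ip_res_one_eq_zero_of_free (Y l) (fun h => T.not_mem l (h ▸ h1)) H.syl.isPGroup
        Subgroup.le_normalizer (by rw [H.card_range]; omega) H.free] at h8
      simp at h8
    · have := Nat.mul_le_mul_right n h11
      rw [Nat.mul_sub] at h10 ⊢
      exact Or.inl (by omega)
  rcases T.sign₀ with rfl | rfl
  · exact Or.inl (num_pos hp.out ht h3 h7 (h4 rfl) (h6.resolve_right (by omega)))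
  · have h8 := h5 rfl (by omega)
    rcases h6 with h6 | ⟨-, rfl, h6⟩
    · exact Or.inl (num_neg hp.out ht (by
        have := Nat.le_of_mul_le_mul_left ((sq e).ge.trans (h8.trans h6)) he; omega))
    · by_cases h9 : e + 1 = t
      · exact Or.inr ⟨rfl, h9, fun l => by have := Φ.deg l; omega⟩
      · exact Or.inl (num_neg hp.out ht (by
          have := Nat.le_of_mul_le_mul_left ((sq e).ge.trans (h8.trans h6)) he; omega))

end Co

end BT.Lat
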