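import Cfsg.Agent.Lib.Block.OneBlau

/-!
# A class multiplication argument for characters of degree `p - e`
-/

set_option autoImplicit false
set_option linter.unusedSectionVars false

namespace BT.Lat

open Cfsg CT
open scoped ComplexConjugate

variable {p : ℕ} [hp : Fact p.Prime]
variable {G : Type*} [Group G] [Finite G]

section central

variable {K : Subgroup G} (hK : K ≤ Subgroup.center G)

/-- The central character on a central subgroup. -/
noncomputable def cw (χ : IrrCharacter G) : K →* ℂ :=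
  ((irr_isCharacter χ).exists_monoidHom_of_le_center (hK.trans (center_le_irr_center χ))).choose

theorem cw_spec (χ : IrrCharacter G) (g : G) (z : K) : χ.1 (g * z) = cw hK χ z * χ.1 g := by
  rw [Subgroup.mem_center_iff.1 (hK z.2)]
  exact ((irr_isCharacter χ).exists_monoidHom_of_le_center
    (hK.trans (center_le_irr_center χ))).choose_spec.1 z g

theorem hom_mul_conj {K : Type*} [Group K] [Finite K] (μ : K →* ℂ) (z : K) :
    μ z * conj (μ z) = 1 := by rw [← monoidHom_apply_inv, ← map_mul, mul_inv_cancel, map_one]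

theorem sum_central [Fintype K] {θ : G → ℂ} (hθ : IsClassFunction G θ) (μ : K →* ℂ) (g : G)
    [DecidablePred fun χ => cw hK χ = μ] : ∑ y : K, θ (g * y) * conj (μ y) =
      Nat.card K * ∑ χ with cw hK χ = μ, ip θ χ.1 * χ.1 g := by
  simp only [hθ.apply_eq_sum_irr (g * _), Finset.sum_mul, cw_spec hK]
  rw [Finset.sum_comm, Finset.sum_filter, Finset.mul_sum]
  refine Finset.sum_congr rfl fun χ _ => ?_
  rw [Finset.sum_congr rfl (g := fun y => ip θ χ.1 * χ.1 g * (cw hK χ y * conj (μ y)))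
    fun y _ => by ring, ← Finset.mul_sum]
  split_ifs with h
  · simp [h, hom_mul_conj, mul_comm]
  · have := ip_irr_ne (χ := ⟨_, isIrrCharacter_of_monoidHom (cw hK χ)⟩)
      (ψ := ⟨_, isIrrCharacter_of_monoidHom μ⟩)
      fun h' => h (MonoidHom.ext (congrFun (congrArg Subtype.val h')))
    rw [ip_def, mul_eq_zero] at this
    rw [this.resolve_left (inv_ne_zero card_cast_ne_zero), mul_zero, mul_zero]

end central

local notation "Zp" => Multiplicative (ZMod p)

variable {ι : Multiplicative (ZMod p) →* G}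

local notation "N" => Subgroup.normalizer (MonoidHom.range ι : Set G)
local notation "C" => Subgroup.centralizer (MonoidHom.range ι : Set G)
local notation "e" => Nat.card (autN ι)

theorem _root_.BT.PrimeSyl.card_centralizer (H : PrimeSyl p ι) :
    Nat.card C = p * Nat.card (cenReg p ι) := by
  refine Eq.trans ?_ ((Nat.card_prod _ _).trans (congrArg (· * _) H.card))
  refine (Nat.card_eq_of_bijective (fun a : Zp × cenReg p ι => (⟨ι a.1 * a.2,
    mul_mem (range_le_centralizer ι ⟨_, rfl⟩) (H.mem_cenReg.1 a.2.2).1⟩ : C))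
      ⟨fun a b h => ?_, fun w => ?_⟩).symm
  · have h3 : ∀ a : Zp × cenReg p ι, GT.pPart p (ι a.1 * a.2) = ι a.1 := fun a =>
      GT.pPart_mul_eq (Subgroup.mem_centralizer_iff.1 (H.mem_cenReg.1 a.2.2).1 _ ⟨_, rfl⟩)
        (H.isPElt _) (H.mem_cenReg.1 a.2.2).2
    have h4 : ι a.1 * a.2 = ι b.1 * b.2 := congrArg Subtype.val h
    have h5 : ι a.1 = ι b.1 := by rw [← h3, h4, h3]
    exact Prod.ext (H.inj h5) (Subtype.ext (mul_left_cancel (h5 ▸ h4)))
  · obtain ⟨u, y, hy, h⟩ := H.exists_eq_mul w.2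
    exact ⟨(u, ⟨y, hy⟩), Subtype.ext h.symm⟩

theorem sum_conj_osum_mul {u v w : Zp}
    (h : ∀ σ ∈ autN ι, ∀ τ ∈ autN ι, σ u * τ v ≠ w) :
    ∑ l : HatNe Zp, conj (osum (autN ι) l.1 u) * conj (osum (autN ι) l.1 v) * l.1 w = -e ^ 2 := by
  classical
  have := Fintype.ofFinite (autN ι)
  simp only [osum_eq, map_sum, Finset.sum_mul_sum]
  simp only [Finset.sum_mul, units_hom_conj, ← Units.val_mul, ← map_inv (_ : Zp →* ℂˣ),
    ← map_mul]
  rw [Finset.sum_comm, Finset.sum_congr rfl fun σ _ => by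
    rw [Finset.sum_comm, Finset.sum_congr rfl fun τ _ => by
      rw [sum_hatNe_apply, if_neg fun h' => h σ σ.2 τ τ.2 (by
        rwa [← mul_inv, inv_mul_eq_one] at h')]]]
  simp [sq]

theorem sum_conj_osum_mul_self (H : PrimeSyl p ι) {w : Zp} (hw : w ≠ 1) :
    ∑ l : HatNe Zp, conj (osum (autN ι) l.1 w) * l.1 w = p - e := by
  classical
  have := Fintype.ofFinite (autN ι)
  simp only [osum_eq, map_sum, Finset.sum_mul, units_hom_conj, ← Units.val_mul,
    ← map_inv (_ : Zp →* ℂˣ), ← map_mul]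
  rw [Finset.sum_comm]
  simp only [sum_hatNe_apply, Finset.sum_sub_distrib, inv_mul_eq_one, H.card]
  rw [Finset.sum_eq_single 1 (fun σ _ h => if_neg fun h' =>
    h (Subtype.ext (mulAut_eq_one_of_prime H.card hw h'))) (by simp)]
  simp

section Co

variable {Z : HatNe (Multiplicative (ZMod p)) → IrrCharacter G} (F : Co p ι Z)
  [Fintype (Multiplicative (ZMod p))]
include F

theorem _root_.BT.Co.cw_eq (l m : HatNe Zp) : cw F.cen (Z l) = cw F.cen (Z m) :=
  MonoidHom.ext fun y => mul_right_cancel₀ (irr_apply_one_ne_zero (Z l)) (by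
    rw [← cw_spec, F.reg l m 1 not_dvd_orderOf_one, ← cw_spec, one_mul,
      F.reg l m y (F.syl.mem_cenReg.1 y.2).2])

theorem _root_.BT.Co.smul_eq {σ : MulAut Zp} (hσ : σ ∈ autN ι) (l : HatNe Zp) :
    Z (σ • l) = Z l := Subtype.ext (funext fun g => by
  by_cases hg : p ∣ orderOf g
  · obtain ⟨x, u, hu, y, hy, h⟩ := F.syl.exists_conj_eq_mul hg
    rw [← irr_isClassFunction _ g x, ← irr_isClassFunction _ g x, h, cw_spec F.cen _ _ ⟨y, hy⟩,
      cw_spec F.cen _ _ ⟨y, hy⟩, F.cw_eq _ l, F.val _ u hu, F.val _ u hu,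
      ← osum_comp (inv_mem hσ) l.1]
    rfl
  · exact F.reg _ _ g hg)

theorem _root_.BT.Co.sum_range_mul (φ : IrrCharacter G → ℂ) {u : Zp} (hu : u ≠ 1) :
    ∑ ψ ∈ bset (Set.range Z), φ ψ * ψ.1 (ι u) = -∑ l, φ (Z l) * l.1 u := by
  classical
  have := Fintype.ofFinite (autN ι)
  have h1 : ∀ φ : IrrCharacter G → ℂ, ∑ l, φ (Z l) = e • ∑ ψ ∈ bset (Set.range Z), φ ψ := fun φ => by
    rw [Finset.sum_comp φ Z, Finset.smul_sum]
    refine Finset.sum_congr (Finset.ext fun χ => by simp) fun ψ hψ => ?_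
    obtain ⟨l, rfl⟩ := mem_bset.1 hψ
    congr 1
    rw [Nat.card_eq_fintype_card, ← Finset.card_univ]
    refine (Finset.card_bij (fun σ _ => σ.1⁻¹ • l) (fun σ _ => ?_) (fun σ _ τ _ h => ?_)
      fun m hm => ?_).symm
    · simpa using F.smul_eq (inv_mem σ.2) l
    · exact Subtype.ext (mulAut_eq_of_comp_eq F.syl.card l.2 fun u =>
        congrArg (fun m : HatNe Zp => m.1 u) h)
    · obtain ⟨σ, hσ, h⟩ := F.fam.orbit_of_eq (Finset.mem_filter.1 hm).2.symm
      exact ⟨⟨σ, hσ⟩, Finset.mem_univ _, Subtype.ext h⟩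
  refine mul_left_cancel₀ (card_cast_ne_zero (G := autN ι)) ?_
  rw [← nsmul_eq_mul, ← h1 fun ψ => φ ψ * ψ.1 (ι u)]
  simp only [F.val _ u hu, osum_eq, mul_neg, Finset.mul_sum, Finset.sum_neg_distrib]
  rw [Finset.sum_comm, Finset.sum_congr rfl (g := fun _ => ∑ l, φ (Z l) * l.1 u) fun σ _ => ?_]
  · simp [Finset.mul_sum]
  · refine Fintype.sum_equiv (MulAction.toPerm σ.1⁻¹) _ _ fun l => ?_
    rw [MulAction.toPerm_apply, F.smul_eq (inv_mem σ.2), HatNe.smul_apply, inv_inv]

theorem _root_.BT.Co.exists_const {χ : IrrCharacter G} {l : HatNe Zp}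
    (h : cw F.cen χ = cw F.cen (Z l)) (h' : χ ∉ Set.range Z) :
    ∃ c : ℤ, (∀ u ≠ 1, χ.1 (ι u) = c) ∧ 0 ≤ charDegree χ.1 + (p - 1) * c := by
  classical
  have := Fintype.ofFinite G
  have := Fintype.ofFinite (cenReg p ι)
  obtain ⟨κ, h1, h2, -⟩ := (irr_isCharacter χ).exists_hat_mult ι
  have h3 : ∀ m : HatNe Zp, κ m.1 = κ l.1 := fun m => by
    have h4 : ∑ g, (χ.1 * cbar ((Z m).1 - (Z l).1)) g = 0 := by
      have := ip_sub_right χ.1 (Z m).1 (Z l).1
      rw [ip_irr_ne fun h => h' ⟨m, h.symm⟩, ip_irr_ne fun h => h' ⟨l, h.symm⟩, sub_zero, ip_def,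
        mul_eq_zero] at this
      exact this.resolve_left (inv_ne_zero card_cast_ne_zero)
    rw [← Finset.sum_filter_of_ne (p := fun g => p ∣ orderOf g) fun g _ hg => by
        by_contra h
        simp [F.reg m l g h] at hg, F.syl.sum_singular ((irr_isClassFunction χ).mul
      ((irr_isClassFunction _).sub (irr_isClassFunction _)).cbar), mul_eq_zero,
      Finset.sum_congr rfl (g := fun u => Nat.card (cenReg p ι) * (χ.1 (ι u) *
        conj (osum (autN ι) l.1 u) - χ.1 (ι u) * conj (osum (autN ι) m.1 u))) fun u hu => ?_,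
      ← Finset.mul_sum, Finset.sum_filter_of_ne fun u _ hu => by
        rintro rfl
        simp [osum_one] at hu, Finset.sum_sub_distrib, sum_mul_conj_osum (irr_isClassFunction χ),
      sum_mul_conj_osum (irr_isClassFunction χ), h2, h2, ← mul_sub, ← mul_sub] at h4
    · simpa [card_cast_ne_zero, sub_eq_zero, eq_comm, hp.out.ne_zero] using
        h4.resolve_left (Nat.cast_ne_zero.2 Subgroup.index_ne_zero_of_finite)
    · rw [Finset.sum_congr rfl (g := fun _ => χ.1 (ι u) * conj (osum (autN ι) l.1 u) -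
        χ.1 (ι u) * conj (osum (autN ι) m.1 u)) fun y _ => ?_, Finset.sum_const, Finset.card_univ,
        nsmul_eq_mul, Nat.card_eq_fintype_card]
      have hu := (Finset.mem_filter.1 hu).2
      simp only [Pi.mul_apply, cbar_apply, Pi.sub_apply, cw_spec F.cen, h, F.cw_eq m l, F.val _ u hu,
        map_sub, map_mul, map_neg]
      linear_combination (χ.1 (ι u) * conj (osum (autN ι) l.1 u) -
        χ.1 (ι u) * conj (osum (autN ι) m.1 u)) * hom_mul_conj (cw F.cen (Z l)) y
  have h4 : ∀ u ≠ 1, χ.1 (ι u) = ((κ 1 - κ l.1 : ℤ) : ℂ) := fun u hu => by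
    rw [h1, eq_add_of_sub_eq (sum_hatNe fun m => (κ m : ℂ) * m u).symm]
    simp [h3, ← Finset.mul_sum, sum_hatNe_apply, hu]
    ring
  refine ⟨_, h4, ?_⟩
  have h5 := h2 1
  simp only [MonoidHom.one_apply, Units.val_one, map_one, mul_one] at h5
  rw [F.syl.sum_eq h4, map_one, irr_apply_one, F.syl.card] at h5
  have h6 : (charDegree χ.1 + (p - 1) * (κ 1 - κ l.1) : ℤ) = p * κ 1 := by exact_mod_cast h5
  rw [h6]
  positivity

theorem _root_.BT.Co.eq_one_of_linear {χ : IrrCharacter G} (hd : charDegree χ.1 = 1)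
    (h6 : ι.range ≤ ker χ.1) (h7 : cenReg p ι ≤ ker χ.1) : χ = irrOne G := by
  have H := F.syl
  obtain ⟨l⟩ := H.nonempty_hatNe
  obtain ⟨m, hm⟩ := exists_not_orbit H.card (autN ι) F.lt l.1
  have h2 : ∀ g, p ∣ orderOf g → χ.1 g = 1 := fun g hg => by
    obtain ⟨x, u, -, y, hy, h⟩ := H.exists_conj_eq_mul hg
    rw [← irr_isClassFunction _ g x, h, (irr_mem_ker_iff χ).1 (mul_mem (h6 ⟨u, rfl⟩) (h7 hy)),
      irr_apply_one, hd, Nat.cast_one]
  have h3 : (Z l).1 * χ.1 + (Z m).1 = (Z l).1 + (Z m).1 * χ.1 := funext fun g => by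
    by_cases hg : p ∣ orderOf g
    · simp [h2 g hg]
    · simp [F.reg l m g hg, add_comm]
  have h4 := congrArg (ip · (Z l).1) h3
  simp only [ip_add_left, ip_irr_self,
    ip_irr_ne (χ := Z m) (ψ := Z l) fun h => hm (F.fam.orbit_of_eq h.symm)] at h4
  have h5 : (⟨_, (Z l).2.mul_linear (irr_isCharacter χ) hd⟩ : IrrCharacter G) = Z l := by
    by_contra h
    rw [show ip ((Z l).1 * χ.1) (Z l).1 = 0 from ip_irr_ne (χ := ⟨_, _⟩) h,
      ((irr_isCharacter _).mul (irr_isCharacter χ)).ip_eq_mult (irr_isCharacter _)] at h4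
    norm_cast at h4
    omega
  refine (irr_ker_eq_top_iff χ).1 (top_le_iff.1 ((H.syl.of_le h6 le_top).frattini_top.ge.trans
    (sup_le le_rfl fun n hn => ?_)))
  by_cases hn' : n ∈ C
  · obtain ⟨u, y, hy, rfl⟩ := H.exists_eq_mul hn'
    exact mul_mem (h6 ⟨u, rfl⟩) (h7 hy)
  · rw [irr_mem_ker_iff, irr_apply_one, hd, Nat.cast_one]
    refine (mul_eq_left₀ fun h => ?_).1 (congrFun (congrArg Subtype.val h5) n)
    simpa [h] using F.norm_apply l hn hn'

variable {X : Finset (IrrCharacter G)} {Y : HatNe (Multiplicative (ZMod p)) → IrrCharacter G}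
  {δ : IrrCharacter G → ℤ} {δ₀ : ℤ} (T : PB p ι X Y δ δ₀)
include T

theorem _root_.BT.Co.le_degree {χ : IrrCharacter G} (hχ : χ ∈ X) (h1 : χ ≠ irrOne G)
    (hδ : δ χ = 1) : p + 1 ≤ charDegree χ.1 := by
  have H := F.syl
  obtain ⟨f, hf⟩ := T.exists_fix_X hχ
  have h0 := irr_degree_pos χ
  rw [hδ] at hf
  obtain rfl | rfl | h2 : f = 0 ∨ f = 1 ∨ 2 ≤ f := by omega
  · omega
  swap
  · have : (p : ℤ) * 2 ≤ p * f := by gcongr; omega
    omega
  have hd : charDegree χ.1 = 1 := by omega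
  obtain ⟨h, s, Γ⟩ := exists_gen H F.cen
  refine absurd (F.eq_one_of_linear hd ?_ (Γ.cenReg_le.trans (T.core χ (Or.inl hχ)))) h1
  rintro _ ⟨u, rfl⟩
  rcases eq_or_ne u 1 with rfl | hu
  · rw [map_one]; exact one_mem _
  · rw [irr_mem_ker_iff, T.valX_range hχ hu, irr_apply_one, hd, hδ, Nat.cast_one, Int.cast_one]

theorem _root_.BT.Co.ineq (h1 : irrOne G ∈ X) (h0 : δ₀ = -1)
    (hd : ∀ l, charDegree (Y l).1 = p + e) (h : e ^ 2 + 1 < p) :
    (e : ℝ) ^ 2 / (p - e) - e / (p - 1) ≤ 1 + (e - 1) / (p + 1) - e ^ 2 / (p + e) := by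
  classical
  have H := F.syl
  have := Fintype.ofFinite (autN ι)
  have := Fintype.ofFinite (cenReg p ι)
  obtain ⟨u, hu⟩ := have := H.nontrivial; exists_ne (1 : Zp)
  obtain ⟨l⟩ := H.nonempty_hatNe
  obtain ⟨w, -, hw⟩ := Finset.exists_mem_notMem_of_card_lt_card (s := insert 1
    (Finset.univ.image fun a : autN ι × autN ι => a.1.1 u * a.2.1 u)) (t := Finset.univ) (by
      refine ((Finset.card_insert_le _ _).trans (Nat.succ_le_succ Finset.card_image_le)).trans_lt ?_
      simpa [← Nat.card_eq_fintype_card, sq, H.card] using h)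
  simp only [Finset.mem_insert, Finset.mem_image, Finset.mem_univ, true_and, not_or, not_exists,
    Prod.forall, Subtype.forall] at hw
  have h2 := sum_conj_osum_mul hw.2
  set O := Finset.univ.filter fun χ => cw F.cen χ = cw F.cen (Z l)
  have hO : bset (Set.range Z) ⊆ O := fun ψ hψ => by
    obtain ⟨m, rfl⟩ := mem_bset.1 hψ
    simpa [O] using F.cw_eq m l
  choose! c hc hc' using fun χ (hχ : χ ∈ O \ bset (Set.range Z)) => F.exists_const (χ := χ) (l := l)
    (by simpa [O] using (Finset.mem_sdiff.1 hχ).1) (by simpa using (Finset.mem_sdiff.1 hχ).2)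
  have hz := card_cast_ne_zero (G := cenReg p ι)
  have h3 : ∑ χ ∈ O \ bset (Set.range Z), (c χ : ℝ) ^ 2 = e := by
    have h3 := sum_central F.cen (isClassFunction_sum_irr fun χ => conj (χ.1 (ι w)))
      (cw F.cen (Z l)) (ι w)
    simp only [ip_sum_irr_left, Finset.sum_apply, Pi.smul_apply, smul_eq_mul,
      mul_comm (conj (_ : ℂ)), sum_irr_mul_conj] at h3
    rw [Finset.sum_eq_single 1 (fun y _ hy => by
      rw [if_neg fun h => hy (Subtype.ext ?_), zero_mul]
      have h4 : ι w ^ p = 1 := by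
        rw [← map_pow, orderOf_dvd_iff_pow_eq_one.1 (H.orderOf_eq hw.1).dvd, map_one]
      have h5 := h.pow p
      rw [Commute.mul_pow (Subgroup.mem_center_iff.1 (F.cen y.2) _), h4, one_mul,
        isConj_one_left] at h5
      exact orderOf_eq_one_iff.1 (((Nat.dvd_prime hp.out).1 (orderOf_dvd_of_pow_eq_one h5)).resolve_right
        fun h => (H.mem_cenReg.1 y.2).2 h.symm.dvd)) (by simp), ← Finset.sum_sdiff hO,
      Finset.sum_congr rfl (s₂ := bset _) fun ψ _ => mul_comm _ _, F.sum_range_mul _ hw.1,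
      Finset.sum_congr rfl (s₂ := _ \ _) fun χ hχ => by rw [hc χ hχ w hw.1]] at h3
    simp only [F.val _ w hw.1, map_neg, neg_mul, Finset.sum_neg_distrib, neg_neg,
      sum_conj_osum_mul_self H hw.1, OneMemClass.coe_one, mul_one, IsConj.refl, if_true, map_one,
      H.centralizer_eq hw.1, H.card_centralizer, Nat.cast_mul, mul_comm (p : ℂ), mul_right_inj' hz,
      map_intCast, ← sq] at h3
    exact_mod_cast (show ∑ χ ∈ O \ bset (Set.range Z), (c χ : ℂ) ^ 2 = e by linear_combination -h3)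
  obtain ⟨K, hK, h4⟩ : ∃ K : ℝ, 0 < K ∧ ∀ χ : IrrCharacter G, ip (clMul (ι u) (ι u)) χ.1 =
      K * (conj (χ.1 (ι u)) * conj (χ.1 (ι u)) / χ.1 1) :=
    ⟨(Subgroup.centralizer ({ι u} : Set G)).index * (Subgroup.centralizer ({ι u} : Set G)).index /
      Nat.card G, by
        have := Nat.pos_of_ne_zero (Subgroup.centralizer ({ι u} : Set G)).index_ne_zero_of_finite
        have := Nat.card_pos (α := G)
        positivity, fun χ => by rw [clMul_eq_sum, ip_sum_irr_left]; push_cast; rfl⟩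
  have h5 := sum_central F.cen (isClassFunction_clMul (ι u) (ι u)) (cw F.cen (Z l)) (ι w)
  have h6 := T.sum_cenReg (isClassFunction_clMul (ι u) (ι u)) hw.1
  have h7 : (∑ y : cenReg p ι, clMul (ι u) (ι u) (ι w * y) * conj (cw F.cen (Z l) y)).re ≤
      (∑ y : cenReg p ι, clMul (ι u) (ι u) (ι w * y)).re := by
    rw [Complex.re_sum, Complex.re_sum]
    refine Finset.sum_le_sum fun y _ => (Complex.re_le_norm _).trans (le_of_eq ?_)
    rw [norm_mul, Complex.norm_conj, (isIrrCharacter_of_monoidHom _).isCharacter.norm_eq_one_of_degree_one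
      (charDegree_eq_of_apply_one (by simp)), clMul_apply]
    simp
  have hZ : ∀ m, (Z m).1 1 = p - e := fun m => by
    rw [irr_apply_one]; exact eq_sub_of_add_eq (by exact_mod_cast F.deg m)
  rw [← Finset.sum_sdiff hO, F.sum_range_mul _ hw.1, Finset.sum_congr rfl (s₂ := _ \ _)
    (g := fun χ => ((K * (c χ ^ 3 / charDegree χ.1) : ℝ) : ℂ)) fun χ hχ => by
      rw [h4, hc χ hχ w hw.1, hc χ hχ u hu, irr_apply_one, map_intCast]; push_cast; ring,
    Finset.sum_congr rfl (s₂ := Finset.univ) (g := fun m : HatNe Zp => K / (p - e) *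
      (conj (osum (autN ι) m.1 u) * conj (osum (autN ι) m.1 u) * m.1 w)) fun m _ => by
      rw [h4, F.val m u hu, hZ, map_neg]; ring, ← Finset.mul_sum, h2] at h5
  rw [Finset.sum_congr rfl (s₂ := X) (g := fun χ => ((K * (δ χ / charDegree χ.1) : ℝ) : ℂ))
    fun χ hχ => by
      rw [h4, T.valX_range hχ hu, irr_apply_one, map_intCast]
      rcases T.sign χ hχ with h | h <;> simp [h, div_eq_mul_inv],
    Finset.sum_congr rfl (s₂ := Finset.univ) (g := fun m : HatNe Zp => K / (p + e) *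
      (conj (osum (autN ι) m.1 u) * conj (osum (autN ι) m.1 u) * m.1 w)) fun m _ => by
      rw [h4, T.valY_range m hu, irr_apply_one, hd, h0]; simp; ring, ← Finset.mul_sum, h2, h0] at h6
  rw [h5, h6] at h7
  norm_cast at h7
  rw [mul_le_mul_iff_right₀ (Nat.cast_pos.2 Nat.card_pos), ← Finset.mul_sum, ← Finset.mul_sum] at h7
  have hp1 : (1 : ℝ) < p := Nat.one_lt_cast.2 hp.out.one_lt
  have h8 : -(e / (p - 1) : ℝ) ≤ ∑ χ ∈ O \ bset (Set.range Z), (c χ ^ 3 / charDegree χ.1 : ℝ) := by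
    rw [← h3, Finset.sum_div, ← Finset.sum_neg_distrib]
    refine Finset.sum_le_sum fun χ hχ => ?_
    have h8 : (0 : ℝ) ≤ charDegree χ.1 + (p - 1) * c χ := by exact_mod_cast hc' χ hχ
    rw [← neg_div, div_le_div_iff₀ (by linarith) (Nat.cast_pos.2 (irr_degree_pos χ))]
    nlinarith [mul_nonneg (sq_nonneg (c χ : ℝ)) h8]
  have h9 : ∑ χ ∈ X, (δ χ / charDegree χ.1 : ℝ) ≤ 1 + (e - 1) / (p + 1) := by
    rw [← Finset.add_sum_erase _ _ h1, T.sign_one h1, charDegree_eq_of_apply_one (n := 1)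
      (by simp)]
    refine add_le_add (by simp) ((Finset.sum_le_card_nsmul _ _ (1 / (p + 1) : ℝ) fun χ hχ => ?_).trans
      (le_of_eq ?_))
    · obtain ⟨h9, h10⟩ := Finset.mem_erase.1 hχ
      rcases T.sign χ h10 with h | h
      · rw [h, Int.cast_one]
        exact one_div_le_one_div_of_le (by positivity) (by exact_mod_cast F.le_degree T h10 h9 h)
      · rw [h]
        exact (div_nonpos_of_nonpos_of_nonneg (by simp) (by positivity)).trans (by positivity)
    · rw [Finset.card_erase_of_mem h1, T.card_X, nsmul_eq_mul, Nat.cast_pred H.card_autN_pos]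
      ring
  refine le_of_mul_le_mul_left ?_ hK
  push_cast at h7
  linear_combination h7 + mul_le_mul_of_nonneg_left h8 hK.le + mul_le_mul_of_nonneg_left h9 hK.le

end Co

theorem num_cm {x : ℝ} (h : 3 ≤ x) : 1 + (x - 1) / (x ^ 2 + x + 1 + 1) - x ^ 2 / (x ^ 2 + x + 1 + x) <
    x ^ 2 / (x ^ 2 + x + 1 - x) - x / (x ^ 2 + x + 1 - 1) := by
  obtain ⟨y, hy, rfl⟩ : ∃ y, 0 ≤ y ∧ x = y + 3 := ⟨x - 3, by linarith, by ring⟩
  rw [← sub_pos]
  ring_nf
  field_simp
  ring_nf
  positivity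

/-- The bound for the inertial index when there are at least three classes of `p`-elements. -/
theorem _root_.BT.Co.add_three_le {Z : HatNe Zp → IrrCharacter G} (F : Co p ι Z)
    (hc : pPrimeCore p G ≤ C) (hnn : ¬ ι.range.Normal) {t : ℕ} (ht : e * t + 1 = p) (h3 : 3 ≤ t)
    (h7 : 7 < p) : e + 3 ≤ t := by
  have := Fintype.ofFinite Zp
  obtain ⟨X, Y, δ, δ₀, T, h1⟩ := F.syl.exists_pb
  refine (F.cases T h1 hc hnn ht h3 h7).resolve_right fun ⟨h2, h4, h5⟩ => ?_
  have h6 : p = e ^ 2 + e + 1 := by rw [← h4] at ht; linarith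
  have h8 : 3 ≤ e := by
    by_contra h
    have := Nat.pow_le_pow_left (show e ≤ 2 by omega) 2
    omega
  have h9 := F.ineq T h1 h2 h5 (by omega)
  rw [show (p : ℝ) = e ^ 2 + e + 1 by exact_mod_cast h6] at h9
  exact absurd h9 (num_cm (by exact_mod_cast h8)).not_ge

end BT.Lat
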