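import Cfsg.Agent.Lib.Lin.ModSmall
import Cfsg.Agent.Lib.Block.IBr
import Cfsg.Agent.Lib.Block.OneBR

/-!
# Faithful characters of degree `(p - 1) / 2`
-/

set_option autoImplicit false
set_option linter.unusedSectionVars false

namespace BT

open Cfsg CT GT
open scoped MonoidAlgebra

attribute [local irreducible] instFieldResF

variable {p : ℕ} [hp : Fact p.Prime] {M : Ideal AlgInt} {hM : IsPModular p M}
variable {G : Type*} [Group G] [Finite G]

namespace Wed
variable (W : Wed hM G)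

/-- The `i`-th simple module as an algebra map. -/
noncomputable def alg (i : Fin W.N) :
    (ResF hM)[G] →ₐ[ResF hM] Module.End (ResF hM) (Fin (W.n i) → ResF hM) :=
  (Matrix.toLinAlgEquiv' (R := ResF hM)).toAlgHom.comp ((Pi.evalAlgHom _ _ i).comp W.ρ)

/-- The `i`-th simple module as a representation. -/
noncomputable def rep (i : Fin W.N) : Representation (ResF hM) G (Fin (W.n i) → ResF hM) :=
  (W.alg i : (ResF hM)[G] →* _).comp (MonoidAlgebra.of _ G)

theorem rep_eq_one_iff {i : Fin W.N} {g : G} :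
    W.rep i g = 1 ↔ W.ρ (MonoidAlgebra.single g 1) i = 1 :=
  map_eq_one_iff (Matrix.toLinAlgEquiv' (R := ResF hM)) (EquivLike.injective _)

theorem rep_schur (i : Fin W.N) (f : Module.End (ResF hM) (Fin (W.n i) → ResF hM))
    (h : ∀ g, Commute (W.rep i g) f) : ∃ c : ResF hM, f = c • 1 := by
  obtain ⟨c, _, hc⟩ := Module.End.mem_center_iff.1 (Semigroup.mem_center_iff.2 fun f' => by
    obtain ⟨a, rfl⟩ : ∃ a, W.alg i a = f' := (Matrix.toLinAlgEquiv'.surjective.comp
      ((Function.surjective_eval i).comp W.surj)) f'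
    induction a using MonoidAlgebra.induction_on with
    | of g => exact h g
    | add a b ha hb => rw [map_add, add_mul, mul_add, ha, hb]
    | smul c a ha => rw [map_smul, smul_mul_assoc, mul_smul_comm, ha] : f ∈ _)
  exact ⟨c, hc⟩

theorem le_ker_of_forall (χ : IrrCharacter G) {K : Subgroup G} (hK : ¬ p ∣ Nat.card K)
    (h : ∀ i, W.d χ i ≠ 0 → K ≤ (W.rep i).ker) : K ≤ ker χ.1 := by
  have := Fintype.ofFinite K
  have h1 := isInt_sum' hM Finset.univ fun (k : K) _ => isInt_single_one hM (k : G)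
  have h2 := inv_natCast_mem_locRing hM hK
  have h3 := W.ev_idem_eq_sum_rank (h1.smul hM h2) (by
    rw [smul_mul_smul_comm, Finset.sum_mul, Finset.sum_congr rfl
      (g := fun _ => ∑ k : K, MonoidAlgebra.single (k : G) (1 : ℂ)) fun k _ => by
        rw [Finset.mul_sum, eq_comm, ← Equiv.sum_comp (Equiv.mulLeft k)]
        simp [MonoidAlgebra.single_mul_single],
      Finset.sum_const, ← Nat.cast_smul_eq_nsmul ℂ, smul_smul, Finset.card_univ,
      ← Nat.card_eq_fintype_card, inv_mul_cancel_right₀ card_cast_ne_zero]) χ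
  rw [(irr_isCharacter χ).le_ker_iff_ip, ip_def, irr_apply_one, W.degree_eq_sum, Nat.cast_sum]
  refine .trans (by simp) (h3.trans (Finset.sum_congr rfl fun i _ => ?_))
  by_cases hi : W.d χ i = 0
  · simp [hi]
  rw [r_def, redA_smul hM h2 h1, redA_sum hM _ _ fun k _ => isInt_single_one hM _, map_smul,
    map_sum, Pi.smul_apply, Finset.sum_apply, Finset.sum_congr rfl fun k _ => by
      rw [redA_single_one, W.rep_eq_one_iff.1 (h i hi k.2)],
    Finset.sum_const, ← Nat.cast_smul_eq_nsmul (ResF hM), smul_smul, Finset.card_univ,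
    ← Nat.card_eq_fintype_card, ← red_natCast, ← red_mul hM h2 (natCast_mem _ _),
    inv_mul_cancel₀ card_cast_ne_zero, red_one, one_smul, Matrix.rank_one, Fintype.card_fin,
    Nat.cast_mul, mul_comm]

end Wed

theorem PrimeSyl.index_normalizer_of_small {ι : Multiplicative (ZMod p) →* G} (H : PrimeSyl p ι)
    {χ : G → ℂ} (hχ : IsCharacter G χ) (hk : ker χ = ⊥) (hd : 2 * charDegree χ + 1 ≤ p)
    (hnn : ¬ ι.range.Normal) : (Subgroup.normalizer (ι.range : Set G)).index = p + 1 := by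
  obtain ⟨-, -, h1, h2, h3, -⟩ := H.faithful_small hχ hk hd hnn
  obtain ⟨M, hM⟩ := exists_isPModular hp.out
  obtain ⟨W⟩ := exists_wed hM G
  have hu : Multiplicative.ofAdd (1 : ZMod p) ≠ 1 := by simp
  obtain ⟨i, hi, hx⟩ : ∃ i, W.d ⟨χ, h2⟩ i ≠ 0 ∧ W.rep i (ι (Multiplicative.ofAdd 1)) ≠ 1 := by
    by_contra! h
    have h4 := le_pPrimeResidual_of_isPGroup H.syl.isPGroup
    refine hnn (H.syl.eq_of_le ((isPGroup_iff_forall_isPElt).2 fun g hg => ?_) le_top h4 ▸ inferInstance)
    refine pRegPart_eq_one_iff.1 (Subgroup.mem_bot.1 (hk ▸ W.le_ker_of_forall ⟨χ, h2⟩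
      (K := Subgroup.zpowers (pRegPart p g)) (by
        rw [Nat.card_zpowers]; exact not_dvd_orderOf_pRegPart p g) (fun i hi => ?_)
      (Subgroup.mem_zpowers _)))
    exact Subgroup.zpowers_le.2 (pPrimeResidual_le (Subgroup.relIndex_top_right (W.rep i).ker ▸
      H.syl.not_dvd_relIndex_of_le (H.range_le_of_mem hu (h i hi))) (pRegPart_mem p hg))
  have h5 : W.n i ≤ charDegree χ := (Nat.le_mul_of_pos_left _ (Nat.pos_of_ne_zero hi)).trans
    ((Finset.single_le_sum (f := fun i => W.d ⟨χ, h2⟩ i * W.n i) (fun _ _ => Nat.zero_le _)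
      (Finset.mem_univ i)).trans (W.degree_eq_sum ⟨χ, h2⟩).ge)
  have h6 := LG.MS.index_le ⟨H, W.rep_schur i, by simp; omega, hx, h3,
    H.le_centralizer_of_faithful hχ hk (by omega) (H.not_dvd_card_of_normal fun h => hx (h ⟨_, rfl⟩))⟩
  have h7 := H.index_normalizer_modEq
  have h8 : (Subgroup.normalizer (ι.range : Set G)).index ≠ 1 := fun h =>
    hnn (Subgroup.normalizer_eq_top_iff.1 (Subgroup.index_eq_one.1 h))
  have h0 := (Subgroup.normalizer (ι.range : Set G)).index_ne_zero_of_finite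
  have h9 := Nat.le_of_dvd (by omega) ((Nat.modEq_iff_dvd' (by omega)).1 h7.symm)
  omega

theorem PrimeSyl.nonempty_psl2_of_small {ι : Multiplicative (ZMod p) →* G} (H : PrimeSyl p ι)
    {χ : G → ℂ} (hχ : IsCharacter G χ) (hk : ker χ = ⊥) (hd : 2 * charDegree χ + 1 ≤ p)
    (hnn : ¬ ι.range.Normal) :
    Nonempty (G ⧸ Subgroup.center G ≃* Matrix.ProjectiveSpecialLinearGroup (Fin 2) (ZMod p)) := by
  obtain ⟨h1, h2, h3, -, h4, h5⟩ := H.faithful_small hχ hk hd hnn
  have hf := QuotientGroup.mk'_surjective (Subgroup.center G)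
  have hZ := H.not_dvd_card_of_normal (K := Subgroup.center G) fun h => hnn ⟨fun n hn g => by
    rwa [Subgroup.mem_center_iff.1 (h hn) g, mul_inv_cancel_right]⟩
  have H' := H.comp hf (by rwa [QuotientGroup.ker_mk'])
  set f := QuotientGroup.mk' (Subgroup.center G)
  have key : ∀ g u v, f (ι v) = f g * f (ι u) * (f g)⁻¹ → ι v = g * ι u * g⁻¹ := fun g u v h => by
    obtain ⟨z, hz, h⟩ := (QuotientGroup.mk'_eq_mk' _).1 (h.trans (by simp only [← map_inv, ← map_mul]; rfl))
    rw [← H.pPart_mul v (Subgroup.center_le_centralizer _ hz) fun h =>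
      hZ (h.trans (Subgroup.orderOf_dvd_natCard _ hz)), ← Subgroup.mem_center_iff.1 hz, h,
      pPart_conj, (H.isPElt u).pPart_eq]
  have hN : (Subgroup.normalizer ((f.comp ι).range : Set _)).comap f =
      Subgroup.normalizer (ι.range : Set G) := le_antisymm (fun g hg =>
    mem_normalizer_of_conj_mem (by
      rintro _ ⟨u, rfl⟩
      obtain ⟨v, hv⟩ := (Subgroup.mem_normalizer_iff.1 hg _).1 ⟨u, rfl⟩
      exact ⟨v, key g u v hv⟩))
    (Subgroup.map_le_iff_le_comap.1 (f.range_comp ι ▸ ι.range.le_normalizer_map f))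
  have hA : autN (f.comp ι) = autN ι := Subgroup.ext fun σ => ⟨fun ⟨t, ht, h⟩ => by
    obtain ⟨t, rfl⟩ := hf t
    exact ⟨t, hN.le ht, fun u => key t u _ (h u)⟩, fun ⟨t, ht, h⟩ =>
    ⟨f t, hN.ge ht, fun u => by simp [h u]⟩⟩
  refine H'.nonempty_psl2' (by omega) (fun q hq => ?_) (by rw [hA, h2, h1])
    (by rw [← Subgroup.index_comap_of_surjective _ hf, hN,
      H.index_normalizer_of_small hχ hk hd hnn]) (eq_top_iff.2 ?_)
  · obtain ⟨g, rfl⟩ := hf q
    obtain ⟨u, y, hy, rfl⟩ := H.exists_eq_mul (w := g) (by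
      rintro _ ⟨u, rfl⟩
      exact eq_mul_inv_iff_mul_eq.1 (key g u u (eq_mul_inv_of_mul_eq (hq _ ⟨u, rfl⟩))))
    exact ⟨u, by rw [map_mul, show f y = 1 from (QuotientGroup.eq_one_iff y).2 (h4 hy), mul_one]; rfl⟩
  obtain ⟨σ, ⟨t, -, ht⟩, h6⟩ := (autN ι).bot_or_exists_ne_one.resolve_left fun h => by
    rw [h, Subgroup.card_bot] at h2; omega
  obtain ⟨u, hu⟩ := not_forall.1 (mt MulEquiv.ext h6)
  have h7 := H.range_le_of_mem (K := commutator G) (mt mul_inv_eq_one.1 hu) (by
    rw [map_mul, map_inv, ht]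
    exact Subgroup.commutator_mem_commutator (Subgroup.mem_top t) (Subgroup.mem_top _))
  rw [commutator_def, ← MonoidHom.range_eq_top.2 hf, ← map_commutator_eq, MonoidHom.range_eq_map,
    ← h5, Subgroup.map_sup, QuotientGroup.map_mk'_self, sup_bot_eq]
  exact Subgroup.map_mono (pPrimeResidual_le (Subgroup.relIndex_top_right (commutator G) ▸
    H.syl.not_dvd_relIndex_of_le h7))

end BT
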