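import Cfsg.Agent.Lib.Block.OneSelf
import Cfsg.Agent.Lib.Grp.PSL2Rec

/-!
# A perfect group with `p + 1` self-centralizing Sylow subgroups of order `p` and inertial index
`(p - 1) / 2` is `PSL(2, p)`
-/

set_option autoImplicit false
set_option linter.unusedSectionVars false

namespace BT

open Cfsg CT GT OnePoint Multiplicative

variable {p : ℕ} [hp : Fact p.Prime]
variable {G : Type*} [Group G] [Finite G]

theorem PrimeSyl.nonempty_psl2' {ι : Multiplicative (ZMod p) →* G} (H : PrimeSyl p ι)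
    (h3 : 3 < p) (hC : Subgroup.centralizer (ι.range : Set G) ≤ ι.range)
    (he : 2 * Nat.card (autN ι) + 1 = p)
    (hN : (Subgroup.normalizer (ι.range : Set G)).index = p + 1) (hperf : commutator G = ⊤) :
    Nonempty (G ≃* Matrix.ProjectiveSpecialLinearGroup (Fin 2) (ZMod p)) := by
  classical
  let P := H.syl.toSylowTop
  have hP : ∀ {g : G}, g • P = P ↔ g ∈ Subgroup.normalizer (ι.range : Set G) :=
    Sylow.smul_eq_iff_mem_normalizer
  have hcard : Nat.card (Sylow p G) = p + 1 := P.card_eq_index_normalizer.trans hN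
  have hι : ∀ u, ι u • P = P := fun u => hP.2 (Subgroup.le_normalizer ⟨u, rfl⟩)
  obtain ⟨w, hw⟩ : ∃ w, w ≠ P := by
    have := Finite.one_lt_card_iff_nontrivial.1 (show 1 < Nat.card (Sylow p G) by omega)
    exact exists_ne P
  let f : OnePoint (ZMod p) → Sylow p G := fun x => x.rec P fun j => ι (ofAdd j) • w
  have hf1 : ∀ j : ZMod p, f j ≠ f ∞ := fun j h =>
    hw (MulAction.injective _ (h.trans (hι (ofAdd j)).symm))
  have hf : Function.Injective f := by
    intro x y h
    cases x <;> cases y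
    · rfl
    · exact (hf1 _ h.symm).elim
    · exact (hf1 _ h).elim
    rename_i i j
    by_contra hij
    have h1 : ι ((ofAdd j)⁻¹ * ofAdd i) • w = w := by
      rw [map_mul, map_inv, mul_smul, inv_smul_eq_iff]; exact h
    have h2 : ι.range ≤ w := H.syl.isPGroup.sylow_mem_fixedPoints_iff.1
      ((Subgroup.sylow_mem_fixedPoints_iff _).2 (H.range_le_of_mem (fun h => hij (by
        rw [inv_mul_eq_one] at h; rw [ofAdd.injective h])) (Sylow.smul_eq_iff_mem_normalizer.1 h1)))
    exact hw (Sylow.ext (P.is_maximal' w.isPGroup' h2))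
  let e := Equiv.ofBijective f (hf.bijective_of_nat_card_le (by rw [hcard, P2.card_omega]))
  let _ := e.mulAction G
  have hs : ∀ (g : G) (x y : OnePoint (ZMod p)), g • x = y ↔ g • f x = f y := fun g x y =>
    e.symm_apply_eq
  let c : MulAut (Multiplicative (ZMod p)) → ZMod p := fun σ => toAdd (σ (ofAdd 1))
  have hc : ∀ σ j, σ (ofAdd j) = ofAdd (c σ * j) := fun σ j => by
    rw [← ZMod.natCast_zmod_val j, ← nsmul_one, ofAdd_nsmul, map_pow, mul_smul_comm, mul_one,
      ofAdd_nsmul]; rfl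
  have hc1 : ∀ σ ∈ autN ι, c σ ^ Nat.card (autN ι) = 1 := fun σ hσ => by
    have h1 : ∀ k, c (σ ^ k) = c σ ^ k := fun k => by
      induction k with
      | zero => simp [c]
      | succ k ih =>
        rw [pow_succ, pow_succ, ← ih, ← toAdd_ofAdd (c _ * c _), ← hc]; rfl
    rw [← h1, show σ ^ Nat.card (autN ι) = 1 from
      congrArg Subtype.val (pow_card_eq_one' (x := (⟨σ, hσ⟩ : autN ι)))]
    simp [c]
  have hp2 : p / 2 = Nat.card (autN ι) := by omega
  have hact : ∀ n ∈ Subgroup.normalizer (ι.range : Set G), ∀ σ,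
      (∀ u, ι (σ u) = n * ι u * n⁻¹) → ∃ b : ZMod p, n • w = ι (ofAdd b) • w ∧
        ∀ x : ZMod p, n • (x : OnePoint (ZMod p)) = (c σ * x + b : ZMod p) := by
    intro n hn σ hσ
    obtain ⟨x, hx⟩ := e.surjective (n • w)
    cases x with
    | infty => exact (hw (MulAction.injective n (hx.symm.trans (hP.2 hn).symm))).elim
    | coe b =>
      refine ⟨b, hx.symm, fun x => (hs _ _ _).2 ?_⟩
      change n • ι (ofAdd x) • w = ι (ofAdd (c σ * x + b)) • w
      rw [ofAdd_add, map_mul, mul_smul, ← hc, hσ, show ι (ofAdd b) • w = n • w from hx,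
        ← mul_smul, ← mul_smul, inv_mul_cancel_right]
  refine P2.nonempty_mulEquiv ⟨h3, fun g hg => ?_, fun g hg => ?_, fun a b ha => ?_, ?_, hperf, ?_⟩
  · have hn := hP.1 ((hs _ _ _).1 (hg ∞))
    obtain ⟨b, hb, h⟩ := hact g hn _ (conjA_spec H.inj ⟨g, hn⟩)
    have h0 := h 0
    have h1 := h 1
    rw [hg, coe_eq_coe] at h0 h1
    obtain ⟨u, rfl⟩ := hC ((conjA_eq_one_iff H.inj ⟨g, hn⟩).1 (MulEquiv.ext fun u => by
      rw [← ofAdd_toAdd u, hc, show c _ = 1 by linear_combination h0 - h1, one_mul]; rfl))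
    have h2 : f (toAdd u : ZMod p) = f (0 : ZMod p) := by
      have : ι u • ι 1 • w = _ := (hs _ _ _).1 (hg (0 : ZMod p))
      rwa [map_one, one_smul] at this
    rw [← ofAdd_toAdd u, coe_eq_coe.1 (hf h2), ofAdd_zero, map_one]
  · have hn := hP.1 ((hs _ _ _).1 hg)
    obtain ⟨b, -, h⟩ := hact g hn _ (conjA_spec H.inj ⟨g, hn⟩)
    have h1 := hc1 _ (conjA_mem H.inj ⟨g, hn⟩)
    have h2 : c (conjA H.inj ⟨g, hn⟩) ≠ 0 := fun h => by
      rw [h, zero_pow H.card_autN_pos.ne'] at h1
      exact zero_ne_one h1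
    obtain ⟨a, ha⟩ := (ZMod.euler_criterion p h2).2 (hp2 ▸ h1)
    exact ⟨a, b, left_ne_zero_of_mul (ha ▸ h2), fun x => by rw [h, ha, sq]⟩
  · have := Fintype.ofFinite (autN ι)
    have h1 : (Finset.univ.image fun σ : autN ι => c σ) =
        Polynomial.nthRootsFinset (Nat.card (autN ι)) 1 := by
      refine Finset.eq_of_subset_of_card_le (Finset.image_subset_iff.2 fun σ _ =>
        (Polynomial.mem_nthRootsFinset H.card_autN_pos _).2 (hc1 _ σ.2)) ?_
      rw [Finset.card_image_of_injective _ fun σ τ h => Subtype.ext (MulEquiv.ext fun u => by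
        rw [← ofAdd_toAdd u, hc, hc, show c σ = c τ from h]), Finset.card_univ,
        ← Nat.card_eq_fintype_card, Polynomial.nthRootsFinset_def]
      exact (Multiset.toFinset_card_le _).trans (Polynomial.card_nthRoots _ _)
    obtain ⟨⟨σ, t, ht, hσ⟩, -, h2⟩ := Finset.mem_image.1 (h1.ge
      ((Polynomial.mem_nthRootsFinset H.card_autN_pos _).2 (hp2 ▸
        (ZMod.euler_criterion p (pow_ne_zero 2 ha)).1 (IsSquare.sq a))))
    obtain ⟨b', -, h⟩ := hact t ht σ hσ
    refine ⟨ι (ofAdd (b - b')) * t, (hs _ _ _).2 ?_, fun x => ?_⟩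
    · exact hP.2 (mul_mem (Subgroup.le_normalizer ⟨_, rfl⟩) ht)
    · rw [mul_smul, h, hs, ← h2]
      change ι _ • ι _ • w = ι _ • w
      rw [← mul_smul, ← map_mul, ← ofAdd_add]
      congr 3; ring
  · obtain ⟨g, hg⟩ := MulAction.exists_smul_eq G P w
    exact ⟨g, fun h => hw (hg.symm.trans ((hs _ _ _).1 h))⟩
  · rw [← card_centralizer_mul_relIndex_mul_index ι.range, H.centralizer_le_iff.1 hC,
      ← card_autN H.inj, hN, show p - 1 = 2 * Nat.card (autN ι) by omega]
    ring

theorem PrimeSyl.nonempty_psl2 {A : Type*} [CommGroup A] [Finite A] {ι : A →* G}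
    (H : PrimeSyl p ι) (h3 : 3 < p) (hC : Subgroup.centralizer (ι.range : Set G) ≤ ι.range)
    (he : 2 * Nat.card (autN ι) + 1 = p)
    (hN : (Subgroup.normalizer (ι.range : Set G)).index = p + 1) (hperf : commutator G = ⊤) :
    Nonempty (G ≃* Matrix.ProjectiveSpecialLinearGroup (Fin 2) (ZMod p)) := by
  obtain ⟨κ, hκ, h⟩ := exists_param_of_card_eq (A := Multiplicative (ZMod p))
    (isCyclic_of_prime_card H.card_range) (by rw [H.card_range]; simp)
  rw [card_autN H.inj, ← h, ← card_autN hκ] at he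
  exact PrimeSyl.nonempty_psl2' ⟨hκ, by simp, h ▸ H.syl⟩ h3 (h ▸ hC) he (h ▸ hN) hperf

end BT
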