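import Cfsg.Agent.Lib.Block.OneCM
import Cfsg.Agent.Lib.Block.OneMod

/-!
# Characters of degree `(p + 1) / 2`
-/

set_option autoImplicit false
set_option linter.unusedSectionVars false

namespace BT.Lat

open Cfsg CT Module Polynomial LinearMap
open scoped ComplexConjugate

section lin

variable {k : Type} [Field k] {V : Type*} [AddCommGroup V] [Module k V]

namespace GJ

variable {x h : End k V} {α : k} {S : Type} {l : S → ℕ} {m : S → V} {w : S → k}
  {B : Basis (Σ s, Fin (l s)) k V} (J : GJ x h l m w B)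
include J

theorem mem_span_of_ker [Finite S] {v : V} (hv : x v = 0) :
    v ∈ Submodule.span k (Set.range fun s => (x ^ (l s - 1)) (m s)) := by
  classical
  have := Fintype.ofFinite S
  rw [← B.sum_repr v]
  refine Submodule.sum_mem _ fun ⟨s, j, hj⟩ _ => ?_
  rcases lt_or_ge (j + 1) (l s) with h1 | h1
  · have h2 : B.coord ⟨s, j + 1, h1⟩ ∘ₗ x = B.coord ⟨s, j, hj⟩ := J.ext fun t i => by
      rw [comp_apply, ← End.mul_apply, ← pow_succ']
      rcases lt_or_ge (i + 1) (l t) with h | h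
      · rw [J.pow_eq h, J.pow_eq (Nat.lt_of_succ_lt h)]
        rcases eq_or_ne t s with rfl | h3
        · simp [Finsupp.single_apply]
        · simp [h3]
      · rcases lt_or_ge i (l t) with h' | h'
        · rw [J.pow_eq_zero h, J.pow_eq h', map_zero, Basis.coord_apply, B.repr_self,
            Finsupp.single_eq_of_ne]
          intro h3
          obtain rfl : s = t := congrArg Sigma.fst h3
          simp at h3
          omega
        · rw [J.pow_eq_zero h, J.pow_eq_zero h', map_zero, map_zero]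
    rw [show B.repr v ⟨s, j, hj⟩ = 0 by simpa [hv] using (LinearMap.congr_fun h2 v).symm, zero_smul]
    exact zero_mem _
  · exact Submodule.smul_mem _ _ (Submodule.subset_span ⟨s, by
      simp only [J.basis, show l s - 1 = j by omega]⟩)

theorem exists_proj_of_ker [Finite S] (hx : h * x = α • (x * h)) {z : V} (hz : x z = 0)
    (h0 : z ≠ 0) : ∃ φ : End k V, Commute x φ ∧ Commute h φ ∧ φ z ≠ 0 ∧
      ∀ v, x v = 0 → ∃ a : k, φ v = a • φ z := by
  have := Fintype.ofFinite S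
  choose φ h1 h2 h3 h4 using J.exists_proj hx
  have h5 : ∀ s t j, φ s ((x ^ j) (m t)) = (x ^ j) (φ s (m t)) := fun s t j => by
    rw [← End.mul_apply, ← ((h1 s).pow_left j).eq, End.mul_apply]
  obtain ⟨s, hs⟩ : ∃ s, φ s z ≠ 0 := by
    by_contra! h
    have h6 : ∑ s, φ s = 1 := J.ext fun t j => by
      rw [LinearMap.sum_apply, Finset.sum_eq_single t (fun s _ hs => by
        rw [h5, h4 s t hs.symm, map_zero]) (by simp), h5, h3, End.one_apply]
    exact h0 (by simpa [LinearMap.sum_apply, h] using (LinearMap.congr_fun h6 z).symm)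
  have h6 : ∀ v, x v = 0 → ∃ a : k, a • (x ^ (l s - 1)) (m s) = φ s v := fun v hv =>
    Submodule.mem_span_singleton.1 ((Submodule.span_le
      (p := Submodule.comap (φ s) (k ∙ (x ^ (l s - 1)) (m s)))).2 (by
      rintro _ ⟨t, rfl⟩
      rcases eq_or_ne t s with rfl | h
      · simp [h5, h3]
      · simp [h5, h4 s t h]) (J.mem_span_of_ker hv))
  refine ⟨φ s, h1 s, h2 s, hs, fun v hv => ?_⟩
  obtain ⟨a, ha⟩ := h6 z hz
  obtain ⟨b, hb⟩ := h6 v hv
  have : a ≠ 0 := by rintro rfl; exact hs (by rw [← ha, zero_smul])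
  exact ⟨b / a, by rw [← ha, ← hb, smul_smul, div_mul_cancel₀ _ this]⟩

end GJ

variable [FiniteDimensional k V]

theorem finrank_le_of_ker {x : End k V} {z : V} {L : Submodule k V} (hL : ∀ v ∈ L, x v ∈ L)
    (hn : IsNilpotent x) (h : ∀ v ∈ L, x v = 0 → v ∈ k ∙ z) {n : ℕ} (hz : z ∉ range (x ^ n)) :
    finrank k L ≤ n := by
  have h1 : ∀ j, finrank k L ≤ finrank k (L.map (x ^ j)) + j := fun j => by
    induction j with
    | zero => rw [pow_zero, End.one_eq_id, Submodule.map_id, add_zero]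
    | succ j ih =>
      have h2 := finrank_le_add_of_map_le x (F := L.map (x ^ j)) (F' := L.map (x ^ (j + 1)))
        (E := L) (by rw [pow_succ', End.mul_eq_comp, Submodule.map_comp])
        (Submodule.map_le_iff_le_comap.2 fun v hv => End.pow_apply_mem_of_forall_mem j hL v hv)
      have h3 := (Submodule.finrank_mono (show ker x ⊓ L ≤ k ∙ z from
        fun v hv => h v hv.2 hv.1)).trans (finrank_span_le_card _)
      simp only [Set.toFinset_singleton, Finset.card_singleton] at h3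
      omega
  obtain ⟨a, ha⟩ := hn
  have h2 : ∀ i, ∀ v ∈ L, (x ^ i) ((x ^ n) v) = 0 → (x ^ n) v = 0 := fun i => by
    induction i with
    | zero => exact fun v _ h => h
    | succ i ih =>
      intro v hv h3
      have h4 := End.pow_apply_mem_of_forall_mem n hL v hv
      rw [pow_succ', End.mul_apply] at h3
      obtain ⟨c, hc⟩ := Submodule.mem_span_singleton.1
        (h _ (End.pow_apply_mem_of_forall_mem i hL _ h4) h3)
      rcases eq_or_ne c 0 with rfl | h0
      · exact ih v hv (by rw [← hc, zero_smul])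
      · refine absurd ⟨c⁻¹ • (x ^ i) v, ?_⟩ hz
        rw [map_smul, ← End.mul_apply, ← pow_add, add_comm, pow_add, End.mul_apply, ← hc,
          inv_smul_smul₀ h0]
  have h3 : L.map (x ^ n) = ⊥ := eq_bot_iff.2 (by
    rintro _ ⟨v, hv, rfl⟩
    exact h2 a v hv (by rw [ha]; rfl))
  have := h1 n
  rwa [h3, finrank_bot, zero_add] at this

/-- The commutator with `T`. -/
noncomputable def adT (T : End k V) : End k (End k V) := mulLeft k T - mulRight k T

theorem adT_apply (T f : End k V) : adT T f = T * f - f * T := rfl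

theorem trace_adT_pow (T : End k V) (n : ℕ) : ∀ f g : End k V, (adT T ^ n) g = 0 →
    trace k V ((adT T ^ n) f * g) = 0 := by
  induction n with
  | zero => intro f g h; rw [show g = 0 from h]; simp
  | succ n ih =>
    intro f g h
    rw [pow_succ, End.mul_apply] at h
    have := ih f _ h
    rw [adT_apply, mul_sub, map_sub, ← mul_assoc, ← mul_assoc, trace_mul_cycle k _ g] at this
    rw [pow_succ', End.mul_apply, adT_apply, sub_mul, map_sub]
    linear_combination -this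

theorem _root_.LG.JB.exists_F₂ {T : End k V} {v : V} (J : LG.JB T v) : ∃ F : End k V,
    adT T (adT T F) = 2 • T ∧ (∀ q : k[X], 6 * trace k V (aeval T q * (T * F)) =
      -(q.coeff 0 * (finrank k V * (finrank k V ^ 2 - 1)))) ∧
    ∀ q : k[X], 30 * trace k V (aeval T q * (T ^ 2 * F ^ 2)) =
      q.coeff 0 * (finrank k V * (finrank k V ^ 2 - 1) * (finrank k V ^ 2 - 4)) := by
  set l := finrank k V with hl
  let b := basisOfTopLeSpanOfCardEqFinrank _ J.span (Fintype.card_fin _)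
  have hb : ∀ i, b i = (T ^ (i : ℕ)) v := fun i =>
    congrFun (coe_basisOfTopLeSpanOfCardEqFinrank _ J.span _) i
  have h0 : ∀ i, l ≤ i → (T ^ i) v = 0 := fun i hi => by rw [pow_eq_zero_of_le hi J.nil]; rfl
  let F := b.constr k fun i => ((i : ℕ) * ((i : ℕ) - l) : k) • (T ^ ((i : ℕ) - 1)) v
  have hF : ∀ i : ℕ, F ((T ^ i) v) = (i * (i - l) : k) • (T ^ (i - 1)) v := fun i => by
    rcases lt_trichotomy i l with h | rfl | h
    · exact (congrArg F (hb ⟨i, h⟩).symm).trans (b.constr_basis k _ _)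
    · simp [h0 l le_rfl]
    · simp [h0 i h.le, h0 (i - 1) (by omega)]
  have hT : ∀ i : ℕ, T ((T ^ i) v) = (T ^ (i + 1)) v := fun i => by rw [pow_succ']; rfl
  have hTF : ∀ i : ℕ, T (F ((T ^ i) v)) = (i * (i - l) : k) • (T ^ i) v := fun i => by
    rw [hF, map_smul, hT]
    rcases i with _ | i <;> simp
  have key : ∀ (D : End k V) (d : ℕ → k), (∀ i : ℕ, D ((T ^ i) v) = d i • (T ^ i) v) → ∀ q : k[X],
      trace k V (aeval T q * D) = q.coeff 0 * ∑ i ∈ Finset.range l, d i := fun D d hD q => by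
    induction q using Polynomial.induction_on' with
    | add p q hp hq => simp [add_mul, hp, hq]
    | monomial n a =>
      rw [aeval_monomial, Algebra.algebraMap_eq_smul_one, smul_mul_assoc, smul_mul_assoc, map_smul,
        one_mul, trace_eq_matrix_trace k b, Matrix.trace, ← Fin.sum_univ_eq_sum_range, smul_eq_mul,
        Finset.mul_sum, Finset.mul_sum]
      refine Finset.sum_congr rfl fun i _ => ?_
      rw [Matrix.diag, toMatrix_apply, End.mul_apply, hb, hD, map_smul, ← End.mul_apply, ← pow_add]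
      rcases n with _ | n
      · simp [← hb]
      by_cases h : n + 1 + i < l
      · rw [← hb ⟨_, h⟩]
        simp [Fin.ext_iff, coeff_monomial]
      · simp [h0 _ (not_lt.1 h), coeff_monomial]
  refine ⟨F, J.ext fun i => ?_, fun q => ?_, fun q => ?_⟩
  · simp only [adT_apply, LinearMap.sub_apply, LinearMap.smul_apply, End.mul_apply, hT, hTF,
      map_smul, map_sub]
    rw [hF, Nat.add_sub_cancel]
    push_cast
    module
  · have h1 : ∀ n : ℕ, 6 * ∑ i ∈ Finset.range n, (i * (i - l) : k) =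
        (n - 1) * n * (2 * n - 1) - 3 * l * n * (n - 1) := fun n => by
      induction n with
      | zero => simp
      | succ n ih => rw [Finset.sum_range_succ, mul_add, ih]; push_cast; ring
    rw [key (T * F) _ hTF, mul_left_comm, h1]
    ring
  · have h1 : ∀ n : ℕ, 30 * ∑ i ∈ Finset.range n, (i * (i - l) * ((i - 1) * (i - 1 - l)) : k) =
        n * (n - 1) * (n - 2) * (6 * n ^ 2 - 12 * n + 2 - 15 * l * (n - 1) + 10 * l ^ 2) :=
      fun n => by
        induction n with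
        | zero => simp
        | succ n ih => rw [Finset.sum_range_succ, mul_add, ih]; push_cast; ring
    rw [key (T ^ 2 * F ^ 2) (fun i => i * (i - l) * ((i - 1) * (i - 1 - l))) fun i => ?_,
      mul_left_comm, h1]
    · ring
    rw [sq, sq, End.mul_apply, End.mul_apply, End.mul_apply, hF, map_smul, map_smul, hTF, map_smul,
      map_smul, hT, smul_smul]
    rcases i with _ | i <;> simp

theorem adT_pow_five {T F : End k V} (h : adT T (adT T F) = 2 • T) : (adT T ^ 5) (F ^ 2) = 0 := by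
  have h1 : ∀ a b, adT T (a * b) = adT T a * b + a * adT T b := fun a b => by
    simp only [adT_apply]; noncomm_ring
  have h2 : adT T T = 0 := sub_self _
  simp only [pow_succ', pow_zero, End.mul_apply, mul_one, h1, h, h2, map_add,
    map_nsmul, smul_zero, mul_zero, zero_mul, add_zero, zero_add, smul_mul_assoc,
    mul_smul_comm]

end lin

variable {p : ℕ} [hp : Fact p.Prime] {k : Type} [Field k] [CharP k p] [IsAlgClosed k]
variable {G : Type*} [Group G] [Finite G]
variable {V : Type*} [AddCommGroup V] [Module k V] [FiniteDimensional k V]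

open Multiplicative

local notation "Zp" => Multiplicative (ZMod p)

variable {ι : Multiplicative (ZMod p) →* G} {σ : Representation k G V}

local notation "N" => Subgroup.normalizer (MonoidHom.range ι : Set G)
local notation "C" => Subgroup.centralizer (MonoidHom.range ι : Set G)
local notation "e" => Nat.card (autN ι)
local notation "x" => xop ι σ
local notation "ρ" => Representation.linHom σ σ
local notation "u" => σ (ι (ofAdd 1)) - 1

theorem xop_linHom_eq_zero {φ : End k V} : xop ι ρ φ = 0 ↔ Commute x φ :=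
  ⟨fun h => commute_xop ι σ fun c => (linHom_eq_iff σ σ).1 (apply_of_xop ι ρ h c),
    fun h => xop_apply_eq_zero ι ρ fun c => (linHom_eq_iff σ σ).2 (commute_of_xop ι σ h c)⟩

theorem jb_sub_one {v : V} (J : LG.JB x v) : LG.JB u v := by
  have h0 : (u) ^ finrank k V = 0 := by rw [← range_eq_bot, range_sub_one_pow, J.nil, range_zero]
  refine ⟨h0, J.span.trans (Submodule.span_le.2 ?_)⟩
  set W := Submodule.span k (Set.range fun i : Fin (finrank k V) => ((u) ^ (i : ℕ)) v)
  have hW : ∀ i : ℕ, ((u) ^ i) v ∈ W := fun i => by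
    by_cases hi : i < finrank k V
    · exact Submodule.subset_span ⟨⟨i, hi⟩, rfl⟩
    · simp [pow_eq_zero_of_le (not_lt.1 hi) h0]
  have h1 : ∀ w ∈ W, σ (ι (ofAdd 1)) w ∈ W := fun w hw => by
    have := (Submodule.span_le (p := W.comap (u))).2 (by
      rintro _ ⟨i, rfl⟩
      have := hW (i + 1)
      rwa [pow_succ'] at this) hw
    simpa using W.add_mem this hw
  rintro _ ⟨i, rfl⟩
  refine End.pow_apply_mem_of_forall_mem _ (fun w hw => ?_) v (hW 0)
  rw [xop_eq, LinearMap.sum_apply]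
  refine W.sum_mem fun c _ => W.smul_mem _ (sub_mem ?_ hw)
  rw [← ZMod.natCast_zmod_val c, ← nsmul_one, ofAdd_nsmul, map_pow, map_pow]
  exact End.pow_apply_mem_of_forall_mem _ h1 w hw

theorem linHom_sub_one_pow (n : ℕ) (φ : End k V) : ((ρ (ι (ofAdd 1)) - 1) ^ n) φ =
    (adT (u) ^ n) φ * σ (ι (ofAdd 1))⁻¹ ^ n := by
  induction n with
  | zero => simp
  | succ n ih =>
    have h1 : σ (ι (ofAdd 1)) * σ (ι (ofAdd 1))⁻¹ = 1 := by rw [← map_mul, mul_inv_cancel, map_one]
    rw [pow_succ', pow_succ' (adT _), End.mul_apply, End.mul_apply, ih, LinearMap.sub_apply,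
      Representation.linHom_apply, adT_apply, End.one_apply, ← End.mul_eq_comp, ← End.mul_eq_comp,
      sub_mul, mul_assoc _ (u), sub_mul _ _ (_ ^ _), show σ (ι (ofAdd 1)) * σ (ι (ofAdd 1))⁻¹ ^ (n + 1) =
        σ (ι (ofAdd 1))⁻¹ ^ n by rw [pow_succ', ← mul_assoc, h1, one_mul], pow_succ]
    noncomm_ring

theorem trace_eq_zero_of_mem {n : ℕ} {φ F : End k V} (h : φ ∈ range (xop ι ρ ^ n))
    (hF : (adT (u) ^ n) F = 0) : trace k V (φ * F) = 0 := by
  obtain ⟨ψ, rfl⟩ := (range_sub_one_pow ι ρ n).ge h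
  have h1 : ∀ (n : ℕ) {y : End k V}, Commute (u) y → ∀ ψ,
      (adT (u) ^ n) ψ * y = (adT (u) ^ n) (ψ * y) := fun n y hy ψ => by
    induction n with
    | zero => rfl
    | succ n ih => rw [pow_succ', End.mul_apply, End.mul_apply, ← ih, adT_apply, adT_apply, sub_mul,
        mul_assoc _ (u), hy.eq, mul_assoc, mul_assoc]
  rw [linHom_sub_one_pow, h1 n (((Commute.refl _).inv_right.map σ).sub_left
    (Commute.one_left _) |>.pow_right n), trace_adT_pow _ _ _ _ hF]

theorem exists_pow_eq {v : V} (J : LG.JB x v) (c : ℕ) :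
    ∃ q : k[X], x ^ c = aeval (u) q * (u) ^ c ∧ q.coeff 0 ≠ 0 := by
  obtain ⟨r, hr⟩ := exists_xA_eq (p := p) k
  have h1 : MonoidAlgebra.lift k _ Zp (σ.comp ι) (MonoidAlgebra.of k Zp (ofAdd 1) - 1) = u := by
    rw [map_sub, map_one (MonoidAlgebra.lift k _ Zp (σ.comp ι)), MonoidAlgebra.lift_of]; rfl
  obtain ⟨q, hq⟩ := (jb_sub_one J).exists_aeval (c := MonoidAlgebra.lift k _ Zp (σ.comp ι) r)
    (h1 ▸ (Commute.all _ _).map _)
  refine ⟨(-1 + X * q) ^ c, ?_, by simp [coeff_zero_eq_eval_zero]⟩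
  have h2 : x = aeval (u) ((-1 + X * q) * X) := by
    rw [xop, hr, mul_comm, map_mul, map_add, map_mul, h1, hq]
    simp
  rw [h2, ← map_pow, mul_pow, map_mul, map_pow _ X, aeval_X]

/-- A module of dimension `(p + 1) / 2` that is a single Jordan block. -/
structure Tu (ι : Multiplicative (ZMod p) →* G) (σ : Representation k G V) (h : G) (s : ZMod p)
    (v : V) : Prop where
  gen : Gen ι h s
  jb : LG.JB (xop ι σ) v
  dim : finrank k V = Nat.card (autN ι) + 1
  ne : xop ι σ ^ Nat.card (autN ι) ≠ 0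
  two : 2 * Nat.card (autN ι) + 1 = p
  le : 11 ≤ p
  sca : ∀ y ∈ cenReg p ι, ∃ c : k, σ y = c • 1

namespace Tu

variable {h : G} {s : ZMod p} {v : V} (T : Tu ι σ h s v)
include T

local notation "α" => ZMod.castHom dvd_rfl k s

theorem pow_eq_zero {i : ℕ} (hi : e < i) : x ^ i = 0 := pow_eq_zero_of_le (T.dim ▸ hi) T.jb.nil

theorem pow_ne_zero {i : ℕ} (hi : i ≤ e) : x ^ i ≠ 0 := fun h => T.ne (pow_eq_zero_of_le hi h)

theorem wt (i : ℕ) : ρ h (x ^ i) = α ^ i • x ^ i := by
  rw [Representation.linHom_apply, ← End.mul_eq_comp, ← End.mul_eq_comp, ← mul_assoc,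
    mul_pow_of_wt (T.gen.mul_xop σ), smul_mul_assoc, mul_assoc, ← map_mul, mul_inv_cancel, map_one,
    mul_one]

theorem eq_of_wt {c i : ℕ} (h0 : 0 < c) (hc : c < e) (hi : i ≤ e) (h : α ^ i = α ^ c) : i = c := by
  rcases hi.lt_or_eq with hi | rfl
  · exact T.gen.prim.pow_inj hi hc h
  · exact absurd (Nat.le_of_dvd h0 ((T.gen.prim.pow_eq_one_iff_dvd c).1
      (h.symm.trans T.gen.prim.pow_eq_one))) hc.not_ge

theorem mem_of_ker {U : Submodule k (End k V)} (hU : ∀ i, x ^ i ∈ U) {φ : End k V}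
    (hφ : xop ι ρ φ = 0) : φ ∈ U := by
  obtain ⟨q, rfl⟩ := T.jb.exists_aeval (xop_linHom_eq_zero.1 hφ)
  rw [aeval_eq_sum_range]
  exact U.sum_mem fun i _ => U.smul_mem _ (hU i)

theorem mem_of_norm {φ : End k V} (hφ : φ ∈ range (xop ι ρ ^ (p - 1))) : φ ∈ k ∙ x ^ e := by
  have h1 : Commute x φ := by
    obtain ⟨ψ, rfl⟩ := hφ
    rw [← xop_linHom_eq_zero, ← End.mul_apply, ← pow_succ', Nat.sub_add_cancel hp.out.one_le,
      xop_pow, LinearMap.zero_apply]
  obtain ⟨ψ, rfl⟩ := (range_sub_one_pow ι ρ _).ge hφ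
  have h2 := linHom_pow_mem ι σ σ (p - 1) (e + 1) ψ v (by rw [T.pow_eq_zero (Nat.lt_succ_self _)]; rfl)
  rw [show p - 1 + 1 - (e + 1) = e by have := T.two; omega] at h2
  obtain ⟨c, hc⟩ := Submodule.mem_span_singleton.1 (show _ ∈ k ∙ (x ^ e) v from
    (range_eq_map _).le.trans (Submodule.map_le_iff_le_comap.2 (T.jb.span.trans
      (Submodule.span_le.2 (by
        rintro _ ⟨⟨_ | i, hi⟩, rfl⟩
        · simp
        · simp [← End.mul_apply, ← pow_add, T.pow_eq_zero])))) h2)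
  refine Submodule.mem_span_singleton.2 ⟨c, T.jb.ext fun i => ?_⟩
  rw [← End.mul_apply _ (x ^ i), ← End.mul_apply _ (x ^ i), ← (h1.pow_left i).eq, End.mul_apply,
    End.mul_apply, ← hc, map_smul, LinearMap.smul_apply, ← End.mul_apply, ← End.mul_apply,
    pow_mul_comm]

theorem eq_zero_of_wt {π : End k (End k V)} (hπ : Commute (ρ h) π) {i j : ℕ} (hj : j ≤ e)
    (hne : α ^ i ≠ α ^ j) (h1 : π (x ^ i) ∈ k ∙ x ^ j) : π (x ^ i) = 0 := by
  obtain ⟨a, ha⟩ := Submodule.mem_span_singleton.1 h1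
  have h2 := LinearMap.congr_fun hπ.eq (x ^ i)
  rw [End.mul_apply, End.mul_apply, T.wt, map_smul, ← ha, map_smul, T.wt, smul_smul, smul_smul,
    mul_comm] at h2
  rw [← ha, (mul_eq_mul_right_iff.1 (smul_left_injective k (T.pow_ne_zero hj) h2)).resolve_left
    hne.symm, zero_smul]

theorem exists_eps {c : ℕ} (h0 : 0 < c) (hc : c < e) : ∃ γ : End k (End k V),
    Commute (xop ι ρ) γ ∧ Commute (ρ h) γ ∧ γ (x ^ c) = x ^ c ∧ ∀ i ≠ c, γ (x ^ i) = 0 := by
  obtain ⟨S, _, l, m, w, B, J⟩ := T.gen.exists_gj ρ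
  have h1 : ∀ i, xop ι ρ (x ^ i) = 0 := fun i => xop_linHom_eq_zero.2 (Commute.self_pow _ i)
  obtain ⟨φ, h2, h3, h4, h5⟩ := J.exists_proj_of_ker (T.gen.mul_xop ρ) (h1 c) (T.pow_ne_zero hc.le)
  obtain ⟨E, -, h6, h7, -⟩ := exists_wt_proj (Gen.apply_pow_o ρ) T.gen.o_ne
    (wt_pow_eq_one (Gen.apply_pow_o ρ) (T.wt c) (T.pow_ne_zero hc.le))
  obtain ⟨a, ha⟩ := Submodule.mem_span_singleton.1 (show φ (x ^ c) ∈ k ∙ x ^ c by
    rw [← h7 (φ (x ^ c)) (by rw [← End.mul_apply, h3.eq, End.mul_apply, T.wt, map_smul])]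
    refine T.mem_of_ker (U := (k ∙ x ^ c).comap E) (fun i => ?_)
      (by rw [← End.mul_apply, h2.eq, End.mul_apply, h1, map_zero])
    rcases eq_or_ne i c with rfl | hi
    · simp [h7 _ (T.wt i)]
    rcases lt_or_ge e i with h8 | h8
    · simp [T.pow_eq_zero h8]
    have h9 := LinearMap.congr_fun h6 (x ^ i)
    rw [End.mul_apply, T.wt, map_smul, LinearMap.smul_apply, ← sub_eq_zero, ← sub_smul,
      smul_eq_zero, sub_eq_zero] at h9
    simp [h9.resolve_left fun h => hi (T.eq_of_wt h0 hc h8 h)])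
  have h8 : a ≠ 0 := by rintro rfl; exact h4 (by rw [← ha, zero_smul])
  refine ⟨a⁻¹ • φ, h2.smul_right _, h3.smul_right _, by
    rw [LinearMap.smul_apply, ← ha, inv_smul_smul₀ h8], fun i hi => ?_⟩
  rcases lt_or_ge e i with h9 | h9
  · simp [T.pow_eq_zero h9]
  obtain ⟨b, hb⟩ := h5 _ (h1 i)
  rw [LinearMap.smul_apply, T.eq_zero_of_wt h3 hc.le (fun h => hi (T.eq_of_wt h0 hc h9 h))
    (by rw [hb, ← ha, smul_smul]; exact Submodule.smul_mem _ _ (Submodule.mem_span_singleton_self _)),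
    smul_zero]

theorem cast_ne {n : ℕ} (h0 : 0 < n) (h : n < p) : (n : k) ≠ 0 := fun h' =>
  Nat.not_dvd_of_pos_of_lt h0 h ((CharP.cast_eq_zero_iff k p n).1 h')

theorem not_mem_range {c : ℕ} (hc : c = 1 ∨ c = 2) : x ^ c ∉ range (xop ι ρ ^ 5) := fun h => by
  obtain ⟨F, h1, h2, h3⟩ := (jb_sub_one T.jb).exists_F₂
  obtain ⟨q, h4, h5⟩ := exists_pow_eq T.jb c
  have h6 := T.two
  have h7 := T.le
  have h8 : ∀ n : ℕ, n ≤ 2 → (finrank k V : k) + n ≠ 0 ∧ (finrank k V : k) - n ≠ 0 := fun n hn => by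
    rw [← Nat.cast_add, ← Nat.cast_sub (by rw [T.dim]; omega), T.dim]
    exact ⟨T.cast_ne (by omega) (by omega), T.cast_ne (by omega) (by omega)⟩
  have h9 : (finrank k V : k) * (finrank k V ^ 2 - 1) ≠ 0 := by
    convert mul_ne_zero (h8 0 (by omega)).1 (mul_ne_zero (h8 1 (by omega)).1 (h8 1 (by omega)).2)
      using 1
    push_cast
    ring
  rcases hc with rfl | rfl
  · have := trace_eq_zero_of_mem h (F := F) (by
      simp only [pow_succ', pow_zero, End.mul_apply, mul_one, h1, map_nsmul,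
        show adT (u) (u) = 0 from sub_self _, map_zero, smul_zero])
    have h10 := h2 q
    rw [pow_one (u)] at h4
    rw [← mul_assoc, ← h4, this, mul_zero, zero_eq_neg] at h10
    exact mul_ne_zero h5 h9 h10
  · have := trace_eq_zero_of_mem h (adT_pow_five h1)
    have h10 := h3 q
    rw [← mul_assoc, ← h4, this, mul_zero] at h10
    refine mul_ne_zero h5 (mul_ne_zero h9 ?_) h10.symm
    convert mul_ne_zero (h8 2 le_rfl).1 (h8 2 le_rfl).2 using 1
    push_cast
    ring

theorem mem_range (c : ℕ) : x ^ (c + 1) ∈ range (xop ι ρ) := by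
  obtain ⟨F, h1, -⟩ := (jb_sub_one T.jb).exists_F₂
  obtain ⟨w, h2, h3⟩ := exists_xop_eq ι σ
  have h4 : Commute (u) (w * x ^ c * σ (ι (ofAdd 1))) := (h2.mul_right (((commute_of_xop ι σ
    (Commute.refl _) _).sub_left (Commute.one_left _)).pow_right c)).mul_right
      ((Commute.refl _).sub_left (Commute.one_left _))
  have h5 : (2 : k) ≠ 0 := T.cast_ne (n := 2) two_pos (by have := T.le; omega)
  rw [← pow_one (xop ι ρ), ← range_sub_one_pow]
  refine ⟨(2 : k)⁻¹ • (adT (u) F * (w * x ^ c * σ (ι (ofAdd 1)))), ?_⟩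
  rw [map_smul, linHom_sub_one_pow, pow_one, pow_one, adT_apply, mul_assoc (adT _ _), ← h4.eq,
    ← mul_assoc, ← mul_assoc (adT _ _), ← sub_mul, ← adT_apply, h1, mul_assoc, mul_assoc, ← map_mul,
    mul_inv_cancel, map_one σ, mul_one, ← Nat.cast_smul_eq_nsmul k, smul_mul_assoc, Nat.cast_ofNat,
    inv_smul_smul₀ h5, ← mul_assoc, ← h3, pow_succ']

theorem exists_sub : ∃ L : Submodule k (End k V), (∀ g, ∀ φ ∈ L, ρ g φ ∈ L) ∧ finrank k L ≤ 5 ∧
    ∃ φ ∈ L, xop ι ρ φ ≠ 0 := by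
  have := Fintype.ofFinite N
  have := Fintype.ofFinite (G ⧸ N)
  have h0 := T.two
  have h0' := T.le
  obtain ⟨γ₁, h1, h2, h3, h4⟩ := T.exists_eps one_pos (by omega)
  obtain ⟨γ₂, h5, h6, h7, h8⟩ := T.exists_eps two_pos (by omega)
  have h9 : ∀ n ∈ N, Representation.linHom ρ ρ n (γ₁ + (2 : k) • γ₂) = γ₁ + (2 : k) • γ₂ :=
    fun n hn => (linHom_eq_iff ρ ρ).2 (T.gen.commute ρ (fun y hy => ⟨1, by
      obtain ⟨c, hc⟩ := T.sca y hy
      exact LinearMap.ext fun φ => by simpa using (linHom_eq_iff σ σ).2 (by ext; simp [hc])⟩)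
      (h1.add_right (h5.smul_right _)) (h2.add_right (h6.smul_right _)) hn)
  obtain ⟨ψ, h10⟩ := exists_sum_out_eq (Representation.linHom ρ ρ) N (T.gen.syl.stab_ne_zero rfl) h9
  have h11 : ∀ g, Commute (ρ g) _ := fun g =>
    (linHom_eq_iff ρ ρ).1 (sum_out_mem_invariants (Representation.linHom ρ ρ) N h9 g)
  generalize ∑ q : G ⧸ N, Representation.linHom ρ ρ q.out (γ₁ + (2 : k) • γ₂) = π at h10 h11
  have h12 : ∀ i, π (x ^ i) - (γ₁ + (2 : k) • γ₂) (x ^ i) ∈ k ∙ x ^ e := fun i => by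
    rw [h10, LinearMap.add_apply, add_sub_cancel_left]
    exact T.mem_of_norm (sum_linHom_mem ι ρ ρ Subgroup.le_normalizer T.gen.syl.inj ψ
      ((pow_one (xop ι ρ)).symm ▸ xop_linHom_eq_zero.2 (Commute.self_pow _ i)))
  have h13 : ∀ c : ℕ, c = 1 ∨ c = 2 → π (x ^ c) = (c : k) • x ^ c := fun c hc => by
    have := T.eq_zero_of_wt ((h11 h).sub_right (h2.add_right (h6.smul_right 2))) le_rfl
      (fun h => absurd (T.eq_of_wt (c := c) (by omega) (by omega) le_rfl h.symm) (by omega)) (h12 c)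
    rw [LinearMap.sub_apply, sub_eq_zero] at this
    rcases hc with rfl | rfl
    · simp only [this, LinearMap.add_apply, LinearMap.smul_apply, h3, h8 1 (by omega)]; simp
    · simp only [this, LinearMap.add_apply, LinearMap.smul_apply, h7, h4 2 (by omega)]; simp
  have h14 : ∀ i, i ≠ 1 → i ≠ 2 → π (x ^ i) ∈ k ∙ x ^ e := fun i h h' => by
    simpa [h4 i h, h8 i h'] using h12 i
  obtain ⟨μ, hμ⟩ := Submodule.mem_span_singleton.1 (h14 e (by omega) (by omega))
  have h15 : (2 : k) ≠ 0 := T.cast_ne (n := 2) two_pos (by omega)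
  obtain ⟨c, d, hc, hd, hcd, hc'⟩ : ∃ c d : ℕ, (c = 1 ∨ c = 2) ∧ c + d = 3 ∧ (c : k) ≠ d ∧
      (c : k) ≠ μ := by
    have h16 : (1 : k) ≠ 2 := fun h => one_ne_zero (show (1 : k) = 0 by linear_combination -h)
    by_cases h : (1 : k) = μ
    · exact ⟨2, 1, Or.inr rfl, rfl, by simpa using h16.symm, by simpa [← h] using h16.symm⟩
    · exact ⟨1, 2, Or.inl rfl, rfl, by simpa using h16, by simpa using h⟩
  have hc0 : (c : k) ≠ 0 := T.cast_ne (by omega) (by omega)
  obtain ⟨n, hn, hn0⟩ := ((π - (c : k) • 1).eventually_isCompl_ker_pow_range_pow.and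
    (Filter.eventually_gt_atTop 0)).exists
  have h16 : ∀ g, Commute (ρ g) ((π - (c : k) • 1) ^ n) := fun g =>
    ((h11 g).sub_right ((Commute.one_right _).smul_right _)).pow_right n
  have h17 := commute_xop ι ρ fun c => h16 (ι c)
  have h18 : ∀ {S : End k (End k V)}, Commute S ((π - (c : k) • 1) ^ n) →
      ∀ φ ∈ LinearMap.ker ((π - (c : k) • 1) ^ n), S φ ∈ LinearMap.ker ((π - (c : k) • 1) ^ n) := fun hS φ hφ => by
    rw [mem_ker, ← End.mul_apply, ← hS.eq, End.mul_apply, mem_ker.1 hφ, map_zero]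
  have h19 : x ^ c ∈ LinearMap.ker ((π - (c : k) • 1) ^ n) := by
    obtain ⟨n, rfl⟩ := Nat.exists_eq_succ_of_ne_zero hn0.ne'
    simp [pow_succ, h13 c hc]
  have h20 : ∀ a : k, (c : k) ≠ a → ∀ φ ∈ LinearMap.ker ((π - (c : k) • 1) ^ n), (π - a • 1) φ = 0 → φ = 0 :=
    fun a ha φ h1 h2 => by
      rw [mem_ker, pow_apply_of_wt (w := a - c) (by simp [sub_eq_zero.1 h2, sub_smul]),
        smul_eq_zero] at h1
      exact h1.resolve_left (_root_.pow_ne_zero _ (sub_ne_zero.2 ha.symm))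
  have h21 : ∀ a : k, Commute (π - a • 1) ((π - (c : k) • 1) ^ n) := fun a =>
    (((Commute.refl π).sub_left ((Commute.one_left _).smul_left _)).sub_right
      ((Commute.one_right _).smul_right _)).pow_right n
  refine ⟨_, fun g => h18 (h16 g), finrank_le_of_ker (h18 h17) ⟨p, xop_pow ι ρ⟩ (fun φ h h' => ?_)
    (T.not_mem_range hc), ?_⟩
  · have hb := Submodule.mem_span_singleton.1 (T.mem_of_ker (U := (k ∙ x ^ c).comap
      ((π - (d : k) • 1) * (π - μ • 1) * (π - (0 : k) • 1))) (fun i => ?_) h')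
    · obtain ⟨b, hb⟩ := hb
      refine Submodule.mem_span_singleton.2 ⟨b / ((c - d) * (c - μ) * c), (sub_eq_zero.1 ?_).symm⟩
      have h22 := sub_mem h (Submodule.smul_mem _ (b / ((c - d) * (c - μ) * c)) h19)
      refine h20 0 hc0 _ h22 (h20 μ hc' _ (h18 (h21 _) _ h22) (h20 d hcd _ (h18 (h21 _) _
        (h18 (h21 _) _ h22)) ?_))
      rw [← End.mul_apply, ← End.mul_apply, map_sub, ← hb, sub_eq_zero]
      simp only [map_smul, End.mul_apply, LinearMap.sub_apply, LinearMap.smul_apply, End.one_apply,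
        h13 c hc, ← sub_smul, smul_smul]
      congr 1
      field_simp [sub_ne_zero.2 hcd, sub_ne_zero.2 hc']
      ring
    · rw [Submodule.mem_comap]
      by_cases h22 : i = 1 ∨ i = 2
      · simp only [map_smul, End.mul_apply, LinearMap.sub_apply, LinearMap.smul_apply,
          End.one_apply, h13 i h22, ← sub_smul, smul_smul]
        obtain rfl | rfl : i = c ∨ i = d := by omega
        · exact Submodule.smul_mem _ _ (Submodule.mem_span_singleton_self _)
        · simp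
      · obtain ⟨a, ha⟩ := Submodule.mem_span_singleton.1 (h14 i (by omega) (by omega))
        simp [← ha, ← hμ]
  · obtain ⟨ψ, hψ⟩ := T.mem_range (c - 1)
    rw [Nat.sub_add_cancel (by omega)] at hψ
    obtain ⟨a, ha, _, ⟨b, rfl⟩, rfl⟩ := Submodule.mem_sup.1
      (show ψ ∈ _ from hn.sup_eq_top.ge Submodule.mem_top)
    refine ⟨a, ha, fun h => T.pow_ne_zero (show c ≤ e by omega)
      (Submodule.disjoint_def.1 hn.disjoint _ h19 ⟨xop ι ρ b, ?_⟩)⟩
    rw [← hψ, map_add, h, zero_add, ← End.mul_apply, ← h17.eq, End.mul_apply]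

end Tu

universe v in
theorem exists_schur {y : G} (hy : ¬ p ∣ orderOf y) (n : ℕ) : ∀ (W : Type v) [AddCommGroup W]
    [Module k W] [FiniteDimensional k W] (τ : Representation k G W), finrank k W = n → τ y ≠ 1 →
    ∃ (W' : Type v) (_ : AddCommGroup W') (_ : Module k W') (_ : FiniteDimensional k W')
      (τ' : Representation k G W'), finrank k W' ≤ n ∧ τ' y ≠ 1 ∧
      ∀ f : End k W', (∀ g, Commute (τ' g) f) → ∃ c : k, f = c • 1 := by
  induction n using Nat.strong_induction_on with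
  | _ n ih =>
  intro W _ _ _ τ hn h1
  by_cases h : ∀ f : End k W, (∀ g, Commute (τ g) f) → ∃ c : k, f = c • 1
  · exact ⟨W, _, _, inferInstance, τ, hn.le, h1, h⟩
  push Not at h
  obtain ⟨f, h2, h3⟩ := h
  have : Nontrivial W := not_subsingleton_iff_nontrivial.1 fun _ => h1 (Subsingleton.elim _ _)
  obtain ⟨c, hc⟩ := f.exists_eigenvalue
  have h4 : ∀ g, f.eigenspace c ≤ (f.eigenspace c).comap (τ g) := fun g w hw => by
    rw [Submodule.mem_comap, End.mem_eigenspace_iff, ← End.mul_apply, ← (h2 g).eq, End.mul_apply,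
      End.mem_eigenspace_iff.1 hw, map_smul]
  have h5 := Submodule.finrank_lt (s := f.eigenspace c) fun h =>
    h3 c (LinearMap.ext fun w => End.mem_eigenspace_iff.1 (h.ge Submodule.mem_top))
  have h6 := (f.eigenspace c).finrank_quotient_add_finrank
  have h7 : 0 < finrank k (f.eigenspace c) := Nat.pos_of_ne_zero (mt Submodule.finrank_eq_zero.1 hc)
  by_cases h8 : τ.subrepresentation _ h4 y = 1
  swap
  · obtain ⟨W', _, _, _, τ', h9, h10⟩ := ih _ (hn ▸ h5) _ _ rfl h8
    exact ⟨W', _, _, inferInstance, τ', by omega, h10⟩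
  by_cases h9 : τ.quotient _ h4 y = 1
  swap
  · obtain ⟨W', _, _, _, τ', h9, h10⟩ := ih _ (by omega) _ _ rfl h9
    exact ⟨W', _, _, inferInstance, τ', by omega, h10⟩
  refine absurd ?_ h1
  have h10 : (τ y - 1) ^ 2 = 0 := LinearMap.ext fun w => by
    have h10 : τ y w - w ∈ f.eigenspace c :=
      (Submodule.Quotient.eq _).1 (LinearMap.congr_fun h9 (Submodule.Quotient.mk w))
    exact sub_eq_zero.2 (congrArg Subtype.val (LinearMap.congr_fun h8 ⟨_, h10⟩))
  have : CharP (End k W) p := charP_of_injective_algebraMap (algebraMap k (End k W)).injective p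
  have h11 : τ y ^ p = 1 := by
    have := sub_pow_char_of_commute p (Commute.one_right (τ y))
    rwa [pow_eq_zero_of_le hp.out.two_le h10, one_pow, eq_comm, sub_eq_zero] at this
  exact orderOf_eq_one_iff.1 (((Nat.dvd_prime hp.out).1 (orderOf_dvd_of_pow_eq_one h11)).resolve_right
    fun h => hy (h ▸ orderOf_map_dvd τ y))

theorem _root_.BT.PrimeSyl.normal_of_quotient (H : PrimeSyl p ι) {K : Subgroup G} [K.Normal]
    (hK : K ≤ C) (h : ((QuotientGroup.mk' K).comp ι).range.Normal) : ι.range.Normal := ⟨by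
  rintro _ ⟨a, rfl⟩ g
  obtain ⟨v, hv⟩ := h.conj_mem _ ⟨a, rfl⟩ (QuotientGroup.mk' _ g)
  obtain ⟨z, hz, h5⟩ := (QuotientGroup.mk'_eq_mk' _).1 (hv.trans
    (by simp only [← map_inv, MonoidHom.comp_apply, ← map_mul]; rfl))
  exact H.mem_range ((H.isPElt a).conj g) (h5 ▸ mul_mem (Subgroup.le_normalizer ⟨v, rfl⟩)
    (Subgroup.centralizer_le_normalizer _ (hK hz)))⟩

theorem _root_.BT.PrimeSyl.index_eq_of_rep (H : PrimeSyl p ι) (hc : pPrimeCore p G ≤ C)
    (hZ : cenReg p ι ≤ Subgroup.center G) (hnn : ¬ ι.range.Normal)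
    (hd : 2 * finrank k V + 1 ≤ p) (hσ : xop ι σ ≠ 0) : Subgroup.index N = p + 1 := by
  have hu : ofAdd (1 : ZMod p) ≠ 1 := by simp
  have h1 : ∀ {K : Subgroup G} [K.Normal], ¬ ι.range ≤ K → K ≤ C := fun h =>
    (GT.le_pPrimeCore' (H.not_dvd_card_of_normal h)).trans hc
  have h2 : ¬ ι.range ≤ σ.ker := fun h => hσ (LinearMap.ext fun v =>
    xop_apply_eq_zero ι σ fun c => LinearMap.congr_fun (h ⟨c, rfl⟩) v)
  obtain ⟨y, h3, h4, h5⟩ : ∃ y ∈ GT.pPrimeResidual p G, ¬ p ∣ orderOf y ∧ σ y ≠ 1 := by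
    by_contra! h
    have hf := QuotientGroup.mk'_surjective σ.ker
    have H' := H.comp hf (by rw [QuotientGroup.ker_mk']; exact H.not_dvd_card_of_normal h2)
    refine hnn (H.normal_of_quotient (h1 h2) (H'.syl.eq_of_le (Q := (GT.pPrimeResidual p G).map
      (QuotientGroup.mk' σ.ker)) (GT.isPGroup_iff_forall_isPElt.2 ?_) le_top ?_ ▸
        Subgroup.Normal.map inferInstance _ hf))
    · rintro _ ⟨g, hg, rfl⟩
      rw [← GT.pPart_mul_pRegPart p g, map_mul, show QuotientGroup.mk' σ.ker (GT.pRegPart p g) = 1 from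
        (QuotientGroup.eq_one_iff _).2 (h _ (GT.pRegPart_mem p hg) (GT.not_dvd_orderOf_pRegPart p g)),
        mul_one]
      exact (GT.isPElt_pPart p g).map _
    · rw [MonoidHom.range_comp]
      exact Subgroup.map_mono (GT.le_pPrimeResidual_of_isPGroup H.syl.isPGroup)
  obtain ⟨W, _, _, _, τ, h6, h7, h8⟩ := exists_schur h4 _ V σ rfl h5
  have h9 : ¬ ι.range ≤ τ.ker := fun h => h7 (GT.pPrimeResidual_le
    (Subgroup.relIndex_top_right τ.ker ▸ H.syl.not_dvd_relIndex_of_le h) h3)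
  have h10 := LG.MS.index_le ⟨H, h8, by omega, fun h => h9 (H.range_le_of_mem hu h), hZ, h1 h9⟩
  have h11 := H.index_normalizer_modEq
  have h12 : Subgroup.index N ≠ 1 := fun h =>
    hnn (Subgroup.normalizer_eq_top_iff.1 (Subgroup.index_eq_one.1 h))
  have h0 := Subgroup.index_ne_zero_of_finite (H := N)
  have h13 := Nat.le_of_dvd (by omega) ((Nat.modEq_iff_dvd' (by omega)).1 h11.symm)
  omega

theorem _root_.BT.PrimeSyl.index_eq_of_sub (H : PrimeSyl p ι) (hc : pPrimeCore p G ≤ C)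
    (hZ : cenReg p ι ≤ Subgroup.center G) (hnn : ¬ ι.range.Normal) {U : Submodule k V}
    (hU : ∀ g, ∀ v ∈ U, σ g v ∈ U) (hd : 2 * finrank k U + 1 ≤ p) {v : V} (hv : v ∈ U)
    (h0 : xop ι σ v ≠ 0) : Subgroup.index N = p + 1 :=
  H.index_eq_of_rep hc hZ hnn (σ := σ.subrepresentation U hU) hd fun h => h0
    (xop_apply_eq_zero ι _ fun c => congrArg Subtype.val
      (apply_of_xop ι _ (LinearMap.congr_fun h ⟨v, hv⟩) c))

theorem _root_.BT.Co.index_eq {Z : HatNe Zp → IrrCharacter G} (F : Co p ι Z)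
    (hc : pPrimeCore p G ≤ C) (hnn : ¬ ι.range.Normal) (h2 : 2 * e + 1 = p) (h11 : 11 ≤ p) :
    Subgroup.index N = p + 1 := by
  obtain ⟨k, _, _, _, ⟨R⟩⟩ := exists_red hp.out
  obtain ⟨h, s, Γ⟩ := exists_gen F.syl F.cen
  obtain ⟨l⟩ := F.syl.nonempty_hatNe
  have h0 := F.deg l
  obtain ⟨n, σ, S, _, L, m, w, B, a, h3, J, h4, -, h5⟩ :=
    Γ.exists_model R (Z l) (c := 0) (d := e + 1) (by omega) (by omega) (by omega)
  have h6 : finrank k (Fin n → k) = e + 1 := by rw [h3.finrank_eq]; omega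
  have h7 : ∀ b, b = a := fun b => Fintype.card_le_one_iff.1 h5.le b a
  have T : Tu ι σ h s (m a) := ⟨Γ, ⟨J.ext fun b j => ?_, B.span_eq.ge.trans (Submodule.span_mono ?_)⟩,
    h6, fun h => J.pow_ne_zero (s := a) (j := e) (by omega) (by rw [h]; rfl), h2, h11,
    fun y hy => h3.exists_scalar (center_le_irr_center _ (F.cen hy))⟩
  · obtain ⟨U, h8, h9, φ, h10, h12⟩ := T.exists_sub
    exact F.syl.index_eq_of_sub hc F.cen hnn h8 (by omega) h10 h12
  · rw [← End.mul_apply, ← pow_add, J.pow_eq_zero (by rw [h7 b]; omega)]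
    rfl
  · rintro _ ⟨⟨b, j, hj⟩, rfl⟩
    obtain rfl := h7 b
    exact ⟨⟨j, by omega⟩, (J.basis ⟨b, j, hj⟩).symm⟩

theorem _root_.BT.Co.nonempty_psl2 {Z : HatNe Zp → IrrCharacter G} (F : Co p ι Z)
    (hc : pPrimeCore p G ≤ C) (hnn : ¬ ι.range.Normal) (h2 : 2 * e + 1 = p) (h11 : 11 ≤ p) :
    Nonempty (G ⧸ Subgroup.center G ≃* Matrix.ProjectiveSpecialLinearGroup (Fin 2) (ZMod p)) := by
  have H := F.syl
  have := Fintype.ofFinite Zp
  have hf := QuotientGroup.mk'_surjective (Subgroup.center G)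
  have hZ := H.not_dvd_card_of_normal (K := Subgroup.center G) fun h => hnn ⟨fun n hn g => by
    rwa [Subgroup.mem_center_iff.1 (h hn) g, mul_inv_cancel_right]⟩
  have H' := H.comp hf (by rwa [QuotientGroup.ker_mk'])
  set f := QuotientGroup.mk' (Subgroup.center G)
  have key : ∀ g a b, f (ι b) = f g * f (ι a) * (f g)⁻¹ → ι b = g * ι a * g⁻¹ := fun g a b h => by
    obtain ⟨z, hz, h⟩ := (QuotientGroup.mk'_eq_mk' _).1
      (h.trans (by simp only [← map_inv, ← map_mul]; rfl))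
    rw [← H.pPart_mul b (Subgroup.center_le_centralizer _ hz) fun h =>
      hZ (h.trans (Subgroup.orderOf_dvd_natCard _ hz)), ← Subgroup.mem_center_iff.1 hz, h,
      GT.pPart_conj, (H.isPElt a).pPart_eq]
  have hN : (Subgroup.normalizer ((f.comp ι).range : Set _)).comap f = N := le_antisymm (fun g hg =>
    GT.mem_normalizer_of_conj_mem (by
      rintro _ ⟨a, rfl⟩
      obtain ⟨b, hb⟩ := (Subgroup.mem_normalizer_iff.1 hg _).1 ⟨a, rfl⟩
      exact ⟨b, key g a b hb⟩))
    (Subgroup.map_le_iff_le_comap.1 (f.range_comp ι ▸ ι.range.le_normalizer_map f))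
  have hA : autN (f.comp ι) = autN ι := Subgroup.ext fun σ => ⟨fun ⟨t, ht, h⟩ => by
    obtain ⟨t, rfl⟩ := hf t
    exact ⟨t, hN.le ht, fun a => key t a _ (h a)⟩, fun ⟨t, ht, h⟩ =>
    ⟨f t, hN.ge ht, fun a => by simp [h a]⟩⟩
  refine H'.nonempty_psl2' (by omega) (fun q hq => ?_) (by rw [hA, h2])
    (by rw [← Subgroup.index_comap_of_surjective _ hf, hN, F.index_eq hc hnn h2 h11]) ?_
  · obtain ⟨g, rfl⟩ := hf q
    obtain ⟨a, y, hy, rfl⟩ := H.exists_eq_mul (w := g) (by
      rintro _ ⟨a, rfl⟩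
      exact eq_mul_inv_iff_mul_eq.1 (key g a a (eq_mul_inv_of_mul_eq (hq _ ⟨a, rfl⟩))))
    exact ⟨a, by
      rw [map_mul, show f y = 1 from (QuotientGroup.eq_one_iff y).2 (F.cen hy), mul_one]; rfl⟩
  obtain ⟨σ, ⟨t, -, ht⟩, h6⟩ := (autN ι).bot_or_exists_ne_one.resolve_left fun h => by
    rw [h, Subgroup.card_bot] at h2; omega
  obtain ⟨a, ha⟩ := not_forall.1 (mt MulEquiv.ext h6)
  have h7 := H.range_le_of_mem (K := commutator G) (mt mul_inv_eq_one.1 ha) (by
    rw [map_mul, map_inv, ht]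
    exact Subgroup.commutator_mem_commutator (Subgroup.mem_top t) (Subgroup.mem_top _))
  rw [← Subgroup.index_eq_one, ← card_units_hom, Nat.card_eq_one_iff_unique]
  refine ⟨⟨fun l m => ?_⟩, ⟨1⟩⟩
  have h8 : ∀ l : G ⧸ Subgroup.center G →* ℂˣ, l = 1 := fun l => MonoidHom.ext fun q => by
    obtain ⟨g, rfl⟩ := hf q
    let χ : IrrCharacter G := ⟨_, isIrrCharacter_of_monoidHom ((Units.coeHom ℂ).comp (l.comp f))⟩
    have h9 : charDegree χ.1 = 1 := charDegree_eq_of_apply_one (by simp [χ])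
    exact Units.ext (congrFun (congrArg Subtype.val (F.eq_one_of_linear h9
      (h7.trans ((irr_commutator_le_ker_iff χ).2 h9)) fun y hy => (mem_ker_monoidHom _).2 (by
        simp [show f y = 1 from (QuotientGroup.eq_one_iff y).2 (F.cen hy)]))) g)
  rw [h8 l, h8 m]

end BT.Lat
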