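import Cfsg.Agent.Lib.Char.GallCount
import Cfsg.Agent.Lib.Char.RelDeg
import Cfsg.Agent.Lib.Block.RankOne
import Cfsg.Agent.Lib.Block.Fong
import Cfsg.Agent.S4607

/-!
# Invariant characters with few characters above them
-/

set_option autoImplicit false
set_option linter.unusedSectionVars false
set_option linter.unusedVariables false

namespace BT

open Cfsg CT GT Subgroup MulAction
open scoped ComplexConjugate Pointwise

universe u

section Count

variable {Γ : Type u} [Group Γ] [Finite Γ] {M H : Subgroup Γ} {A : Type*} [Group A]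

theorem extTo_comap_of_isCyclic (f : Γ →* A) {B : Subgroup A} (h : M ≤ H)
    (hk : M = H ⊓ f.ker) (hB : H.map f = B) {η : IrrCharacter M} (hη : InvBy H η.1)
    {S : Subgroup A} (hS : S ≤ B) (hc : IsCyclic S) : ExtTo η.1 (H ⊓ S.comap f) := by
  have hn : H ≤ normalizer (M : Set Γ) :=
    hk ▸ le_normalizer_inf le_normalizer (by rw [normalizer_eq_top]; exact le_top)
  obtain ⟨g, rfl⟩ := isCyclic_iff_exists_zpowers_eq.1 hc
  obtain ⟨x, hx, rfl⟩ : g ∈ H.map f := hB ▸ hS (mem_zpowers g)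
  refine extTo_of_cyclic (a := x) (le_inf h fun m hm => ?_) (inf_le_left.trans hn)
    ⟨hx, mem_zpowers (f x)⟩ ?_ (fun s hs => hη s hs.1)
  · rw [mem_comap, (hk.le hm).2]; exact one_mem _
  · rintro y ⟨hy, k, hk'⟩
    have h1 : y * (x ^ k)⁻¹ ∈ M := by
      rw [hk]
      refine mem_inf.2 ⟨H.mul_mem hy (H.inv_mem (H.zpow_mem hx k)), ?_⟩
      simp only at hk'
      rw [MonoidHom.mem_ker, map_mul, map_inv, map_zpow, hk', mul_inv_cancel]
    simpa using mul_mem_sup h1 (zpow_mem_zpowers x k)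

theorem card_over_eq_card_conjClasses [Finite A] (f : Γ →* A) {B : Subgroup A} (h : M ≤ H)
    (hk : M = H ⊓ f.ker) (hB : H.map f = B) {η : IrrCharacter M} (hη : InvBy H η.1)
    (hc : ∀ a ∈ B, ∀ c ∈ B, Commute a c → IsCyclic (closure ({a, c} : Set A))) :
    Nat.card {χ : IrrCharacter H // LiesOverLe h χ.1 η.1} = Nat.card (ConjClasses B) := by
  have h1 := card_over_invariant f h hk hB hη
  rw [Nat.card_congr (Equiv.subtypeEquivRight (q := fun ab : B × B => Commute ab.1 ab.2)
    fun ab => ⟨fun h => h.1, fun h' => ⟨h', fun c hc' =>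
      extTo_comap_of_isCyclic f h hk hB hη ((closure_le _).2 (by
        rintro x (rfl | rfl)
        exacts [ab.1.2, c.2])) (hc _ ab.1.2 _ c.2 (congrArg Subtype.val hc'))⟩⟩),
    card_comm_eq_card_conjClasses_mul_card] at h1
  exact Nat.eq_of_mul_eq_mul_right Nat.card_pos h1

theorem odd_card_over [Finite A] (f : Γ →* A) {B : Subgroup A} (h : M ≤ H)
    (hk : M = H ⊓ f.ker) (hB : H.map f = B) {η : IrrCharacter M} (hη : InvBy H η.1)
    (ho : Odd (Nat.card B)) : Odd (Nat.card {χ : IrrCharacter H // LiesOverLe h χ.1 η.1}) := by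
  classical
  have h1 := card_over_invariant f h hk hB hη
  set T := {ab : B × B // Commute ab.1 ab.2 ∧ ∀ c : B, Commute ab.1 c →
    ExtTo η.1 (H ⊓ (closure {(ab.1 : A), (c : A)}).comap f)}
  have hcl : ∀ a c : A, closure ({a⁻¹, c} : Set A) = closure {a, c} := fun a c => by
    rw [← Set.singleton_union, ← Set.singleton_union (a := a), Subgroup.closure_union, Subgroup.closure_union,
      closure_singleton_inv]
  let σ : T → T := fun t => ⟨(t.1.1⁻¹, t.1.2⁻¹), t.2.1.inv_inv, fun c hc => by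
    have := t.2.2 c (by simpa using hc.inv_left)
    rwa [coe_inv, hcl]⟩
  have hσ : Function.Involutive σ := fun t => by simp [σ]
  haveI := Fintype.ofFinite T
  have h2 := Equiv.Perm.card_fixedPoints_modEq (f := σ) (p := 2) (n := 1)
    (by rw [pow_one]; exact (pow_two (M := Function.End T) σ).trans hσ.comp_self)
  have hsq : ∀ a : B, a⁻¹ = a → a = 1 := fun a ha => by
    have h3 : orderOf a ∣ 2 := orderOf_dvd_of_pow_eq_one (by
      rw [pow_two]; nth_rewrite 1 [← ha]; exact inv_mul_cancel a)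
    exact orderOf_eq_one_iff.1 (Nat.eq_one_of_dvd_coprimes (Nat.coprime_two_left.2 ho) h3
      (orderOf_dvd_natCard a))
  have h3 : Fintype.card (Function.fixedPoints σ) = 1 := by
    refine Fintype.card_eq_one_iff.2 ⟨⟨⟨(1, 1), Commute.refl _, fun c _ => ?_⟩,
      Subtype.ext (by simp [σ])⟩, ?_⟩
    · refine extTo_comap_of_isCyclic f h hk hB hη ((closure_le _).2 (by
        rintro x (rfl | rfl)
        exacts [one_mem _, c.2])) ?_
      rw [coe_one, ← Set.singleton_union, Subgroup.closure_union, closure_singleton_one, bot_sup_eq,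
        ← zpowers_eq_closure]
      infer_instance
    · rintro ⟨⟨⟨a, b⟩, ht⟩, h4⟩
      have h5 := congrArg Subtype.val h4
      simp only [σ, Prod.mk.injEq] at h5
      exact Subtype.ext (Subtype.ext (Prod.ext (hsq a h5.1) (hsq b h5.2)))
  rw [h3, ← Nat.card_eq_fintype_card, ← h1] at h2
  exact (Nat.odd_mul.1 (Nat.odd_iff.2 h2)).1

theorem card_le_of_card_conjClasses_le_two {B : Type*} [Group B] [Finite B]
    (h : Nat.card (ConjClasses B) ≤ 2) : Nat.card B ≤ Nat.card (ConjClasses B) := by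
  classical
  rcases subsingleton_or_nontrivial B with h0 | h0
  · rw [Nat.card_of_subsingleton (1 : B)]; exact Nat.card_pos
  obtain ⟨g, hg⟩ := exists_ne (1 : B)
  haveI := Fintype.ofFinite (ConjClasses B)
  have hne : ∀ x : B, x ≠ 1 → ConjClasses.mk x ≠ ConjClasses.mk 1 := fun x hx h1 =>
    hx (isConj_one_left.1 (ConjClasses.mk_eq_mk_iff_isConj.1 h1))
  have h2 : 2 ≤ Nat.card (ConjClasses B) := by
    rw [Nat.card_eq_fintype_card]
    exact Fintype.one_lt_card_iff.2 ⟨_, _, hne g hg⟩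
  have h3 : ∀ x : B, x ≠ 1 → IsConj g x := fun x hx => by
    by_contra h4
    have h5 : 2 < Fintype.card (ConjClasses B) :=
      Fintype.two_lt_card_iff.2 ⟨_, _, _, (hne g hg).symm, (hne x hx).symm,
        fun h6 => h4 (ConjClasses.mk_eq_mk_iff_isConj.1 h6)⟩
    rw [Nat.card_eq_fintype_card] at h
    omega
  have h4 : orbit (ConjAct B) g = {1}ᶜ := by
    ext x
    rw [ConjAct.mem_orbit_conjAct, Set.mem_compl_singleton_iff]
    exact ⟨fun h5 h6 => hg (isConj_one_right.1 (h6 ▸ h5)), fun h5 => (h3 x h5).symm⟩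
  have h5 : (stabilizer (ConjAct B) g).index ∣ Nat.card B := index_dvd_card _
  rw [index_stabilizer, h4, Set.ncard_compl, Set.ncard_singleton] at h5
  have h6 : 1 < Nat.card B := Finite.one_lt_card
  have h7 : Nat.card B - 1 ∣ 1 := by
    have := Nat.dvd_sub h5 (dvd_refl (Nat.card B - 1))
    rwa [show Nat.card B - (Nat.card B - 1) = 1 by omega] at this
  have := Nat.dvd_one.1 h7
  omega

end Count

section Central

variable {Q : Type*} [Group Q] [Finite Q] {Z : Subgroup Q}

theorem liesOver_iff_of_le_center (hZ : Z ≤ center Q) (χ : IrrCharacter Q)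
    (lam : IrrCharacter Z) : LiesOver Z χ.1 lam.1 ↔ ∀ z : Z, χ.1 z = χ.1 1 * lam.1 z := by
  haveI := normal_of_le_center' hZ
  refine ⟨fun h z => ?_, fun h => liesOver_of_res_eq_smul (irr_apply_one_ne_zero χ) (funext h)⟩
  have h1 := clifford_invariant (fun g => conjSmul_of_le_center hZ g lam) h
  have h2 : lam.1 1 = 1 := by
    rw [(irr_isCharacter lam).apply_one, irr_apply_one_of_le_center hZ, Nat.cast_one]
  have h3 := congrFun h1 1
  have h4 := congrFun h1 z
  simp only [res_apply, Pi.smul_apply, smul_eq_mul, h2, mul_one, coe_one] at h3 h4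
  rw [h4, h3]

theorem three_le_card_block {r : ℕ} [Fact r.Prime] (hr : r ≠ 2) {M : Ideal AlgInt}
    (hM : IsPModular r M) {B : Set (IrrCharacter Q)} (hB : IsPBlock M B)
    (hd : blockDefect r B ≠ 0) : 3 ≤ Nat.card B := by
  by_contra h
  have h1 := Cfsg.Agent.S4607.rank_lt_card hM hB hd
  have h2 := blockRank_pos (p := r) (block_nonempty hM hB)
  rcases rank_one_card_le_five hM hB (by omega) (by omega) with h3 | h3
  · have h4 : r ≤ r ^ blockDefect r B := Nat.le_self_pow hd r
    have := (Fact.out : r.Prime).two_le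
    omega
  · omega

theorem three_le_card_over_central {A : Subgroup Q} (hZ : Z ≤ center Q) (lam : IrrCharacter Z)
    {r : ℕ} [hr : Fact r.Prime] (hr2 : r ≠ 2) (hZA : Z ≤ A) [IsMulCommutative A]
    (hA : ¬ r ∣ A.index) (hd : r ∣ Z.index) :
    3 ≤ Nat.card {β : IrrCharacter Q // LiesOver Z β.1 lam.1} := by
  obtain ⟨ν, hν⟩ := exists_irr_liesOverLe (h := hZA) lam
  obtain ⟨φ, hφ1, hφ2⟩ := exists_liesOver_not_dvd (irr_isCharacter ν) (d := r)
    (by rwa [irr_degree_eq_one_of_isMulCommutative, mul_one])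
  have hφ := (liesOver_iff_of_le_center hZ φ lam).1
    (hφ1.trans_le hZA (irr_isCharacter φ) (irr_isCharacter lam) hν)
  obtain ⟨l, rfl⟩ := (exists_linChar_eq_iff lam).2 (irr_apply_one_of_le_center hZ lam)
  obtain ⟨S⟩ : Nonempty (Sylow r Z) := inferInstance
  set P : Subgroup Q := (S : Subgroup Z).map Z.subtype with hP
  have hPZ : P ≤ Z := map_subtype_le _
  haveI := normal_of_le_center' (hPZ.trans hZ)
  obtain ⟨k, hk⟩ := IsPGroup.iff_card.1 S.isPGroup'
  obtain ⟨b, hb⟩ : ∃ b, charDegree φ.1 * b ≡ 1 [MOD r ^ k] :=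
    (Nat.exists_mul_mod_eq_of_coprime 1
      (((Nat.Prime.coprime_iff_not_dvd hr.out).2 hφ2).symm.pow_right k)
      (pow_ne_zero k hr.out.ne_zero)).imp fun _ h => h.2
  set κ : Q →* ℂˣ := (detHom φ.1).toHomUnits ^ b with hκ
  have hκP : ∀ z (hz : z ∈ P), κ z = l ⟨z, hPZ hz⟩ := by
    intro z hz
    have h1 := (irr_isCharacter φ).detChar_of_apply_eq (z := z) (c := l ⟨z, hPZ hz⟩)
      (Complex.norm_eq_one_of_pow_eq_one (n := Nat.card Z) (by
        rw [← Units.val_pow_eq_pow_val, ← map_pow, pow_card_eq_one', map_one, Units.val_one])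
        Nat.card_pos.ne') (by rw [mul_comm]; exact hφ ⟨z, hPZ hz⟩)
    have h2 : (detHom φ.1).toHomUnits z = l ⟨z, hPZ hz⟩ ^ charDegree φ.1 := Units.ext (by
      simpa using h1)
    obtain ⟨w, hw, rfl⟩ := hz
    have h3 : l w ^ r ^ k = 1 := by
      rw [← map_pow, ← hk, show w ^ Nat.card S = 1 from
        congrArg Subtype.val (pow_card_eq_one' (x := (⟨w, hw⟩ : S))), map_one]
    rw [hκ, MonoidHom.pow_apply, h2, ← pow_mul]
    exact (pow_eq_pow_of_modEq hb h3).trans (pow_one _)
  set π := QuotientGroup.mk' P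
  have hπ := QuotientGroup.mk'_surjective P
  obtain ⟨ψ, hψ⟩ := (exists_irrComp_eq_iff π hπ (κ⁻¹ • φ)).2 (by
    rw [QuotientGroup.ker_mk']
    intro z hz
    rw [(irr_isCharacter _).mem_ker_iff, lin_smul_apply, lin_smul_apply, map_one,
      hφ ⟨z, hPZ hz⟩, MonoidHom.inv_apply, hκP z hz]
    simp [mul_comm (φ.1 1), ← mul_assoc])
  obtain ⟨M, hM⟩ := exists_isPModular hr.out
  have hB := isPBlock_blockOf (M := M) ψ
  have hdeg : charDegree ψ.1 = charDegree φ.1 := by
    rw [← charDegree_irrComp π hπ, hψ, charDegree_lin_smul]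
  have h3 := three_le_card_block hr2 hM hB (by
    rw [Ne, blockDefect_eq_zero_iff hM hB (mem_blockOf_self hM ψ), hdeg,
      Nat.factorization_eq_zero_of_not_dvd hφ2]
    exact (hr.out.factorization_pos_of_dvd Nat.card_pos.ne'
      (hd.trans (index_dvd_of_le hPZ))).ne)
  refine h3.trans (Nat.card_le_card_of_injective
    (fun η => ⟨κ • irrComp π hπ η.1, ?_⟩) fun η η' h => Subtype.ext
      (irrComp_injective π hπ (MulAction.injective κ (congrArg Subtype.val h))))
  have hZ' : Z.map π ≤ center (Q ⧸ P) := by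
    rintro _ ⟨z, hz, rfl⟩
    refine mem_center_iff.2 fun y => ?_
    obtain ⟨y, rfl⟩ := hπ y
    rw [← map_mul, ← map_mul, mem_center_iff.1 (hZ hz)]
  haveI := normal_of_le_center' hZ'
  have hZr : ¬ r ∣ Nat.card (Z.map π) := by
    rw [← relIndex_ker, QuotientGroup.ker_mk', relIndex, hP, subgroupOf,
      comap_map_eq_self_of_injective Z.subtype_injective]
    exact S.not_dvd_index
  obtain ⟨μ, hμ⟩ := exists_irr_liesUnder (Z.map π) ψ
  obtain ⟨μ', hμ'⟩ := exists_irr_liesUnder (Z.map π) η.1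
  have h4 : μ' ∈ ({μ} : Set _) := Covers.mem_of_liesOver hM (b := {μ})
    ⟨ψ, mem_blockOf_self hM ψ, μ, rfl, hμ⟩ hB (isPBlock_singleton_of_not_dvd hM hZr μ)
    (fun g => by rw [Set.smul_set_singleton, conjSmul_of_le_center hZ']) η.2 hμ'
  rw [Set.mem_singleton_iff.1 h4, liesOver_iff_of_le_center hZ'] at hμ'
  rw [liesOver_iff_of_le_center hZ'] at hμ
  rw [liesOver_iff_of_le_center hZ]
  intro z
  have h5 := congrArg (fun χ : IrrCharacter Q => χ.1 z) hψ
  have h6 := congrArg (fun χ : IrrCharacter Q => χ.1 1) hψ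
  have h7 := hμ ⟨π z, mem_map_of_mem _ z.2⟩
  have h8 := hμ' ⟨π z, mem_map_of_mem _ z.2⟩
  simp only [irrComp_apply, lin_smul_apply, map_one, Units.val_one, one_mul] at h5 h6 h7 h8 ⊢
  rw [h7, h6, hφ z, mul_left_comm, mul_right_inj' (irr_apply_one_ne_zero φ)] at h5
  rw [h8, h5]
  simp [mul_left_comm (κ z : ℂ)]

end Central

theorem three_le_card_over {Γ : Type u} [Group Γ] [Finite Γ] {N A : Subgroup Γ} [N.Normal]
    {θ : IrrCharacter N} (hθ : ∀ g : Γ, g • θ = θ) {r : ℕ} [hr : Fact r.Prime] (hr2 : r ≠ 2)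
    (hNA : N ≤ A) (hc : IsCyclic (A.map (QuotientGroup.mk' N))) (hA : ¬ r ∣ A.index)
    (hd : r ∣ N.index) : 3 ≤ Nat.card {χ : IrrCharacter Γ // LiesOver N χ.1 θ.1} := by
  obtain ⟨E⟩ := nonempty_centralExt N θ fun x => conjSmul_eq_iff.1 (hθ x)
  obtain ⟨lam, hlam⟩ := E.exists_rel_self
  have h1 := hlam.card_over_eq (U := ⊤) le_top fun _ => True
  simp only [true_and] at h1
  have h2 : Nat.card {χ : IrrCharacter Γ // LiesOver N χ.1 θ.1} =
      Nat.card {χ : IrrCharacter (⊤ : Subgroup Γ) // LiesOverLe le_top χ.1 θ.1} :=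
    (Nat.card_congr (cliffordEquiv le_top le_top)).symm
  haveI := normal_of_le_center' E.star_self_le_center
  have h3 : Nat.card {χ : IrrCharacter E.Q // LiesOver (E.star N) χ.1 lam.1} =
      Nat.card {χ : IrrCharacter (E.star ⊤) // LiesOverLe (E.star_mono le_top) χ.1 lam.1} :=
    (Nat.card_congr (cliffordEquiv (le_top.trans E.star_top.ge) _)).symm
  rw [h2, h1, ← h3]
  haveI : IsMulCommutative (E.star A) := by
    obtain ⟨g, hg⟩ := isCyclic_iff_exists_zpowers_eq.1 hc
    obtain ⟨y, rfl⟩ := E.ρ_surjective g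
    have h4 : ∀ x ∈ E.star A, ∃ k : ℤ, x * (y ^ k)⁻¹ ∈ center E.Q := fun x hx => by
      obtain ⟨k, hk⟩ : E.ρ x ∈ zpowers (E.ρ y) := hg ▸ hx
      refine ⟨k, E.star_self_le_center ?_⟩
      simp only at hk
      rw [E.star_self, MonoidHom.mem_ker, map_mul, map_inv, map_zpow, hk, mul_inv_cancel]
    refine isMulCommutative_iff_forall.2 fun a ha b hb => ?_
    obtain ⟨i, hi⟩ := h4 a ha
    obtain ⟨j, hj⟩ := h4 b hb
    have h5 : Commute (a * (y ^ i)⁻¹ * y ^ i) (b * (y ^ j)⁻¹ * y ^ j) :=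
      Commute.mul_left (mem_center_iff.1 hi _).symm
        (Commute.mul_right (mem_center_iff.1 hj _) (Commute.zpow_zpow_self y i j))
    simpa using h5.eq
  exact three_le_card_over_central E.star_self_le_center lam hr2 (E.star_mono hNA)
    (by rwa [E.index_star hNA]) (by rwa [E.index_star le_rfl])

end BT
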