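import Cfsg.Agent.Lib.Block.StarFam
import Cfsg.Agent.Lib.Grp.PChains

/-!
# Unions of blocks: rank, Brauer's formula, the Knörr–Robinson alternating sum
-/

set_option autoImplicit false
set_option linter.unusedSectionVars false

namespace BT

open Cfsg CT GT
open scoped MonoidAlgebra Pointwise ComplexConjugate

variable {p : ℕ} [Fact p.Prime] {M : Ideal AlgInt} (hM : IsPModular p M)
variable {G : Type*} [Group G] [Finite G]

include hM in
theorem block_subset_or_disjoint {A : Set (IrrCharacter G)} (hA : IsInt hM (setIdem A))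
    {B : Set (IrrCharacter G)} (hB : IsPBlock M B) : B ⊆ A ∨ ∀ χ ∈ B, χ ∉ A := by
  by_cases h : ∃ χ ∈ B, χ ∈ A
  · obtain ⟨χ, h1, h2⟩ := h
    exact Or.inl fun ψ hψ => mem_of_isInt_setIdem hM hA h2
      ((mem_block_iff_sameBlock hM hB h1 ψ).1 hψ)
  · push Not at h
    exact Or.inr h

open Classical in
theorem sum_bset_eq_sum_blocks {R : Type*} [AddCommMonoid R] {A : Set (IrrCharacter G)}
    (hA : IsInt hM (setIdem A)) (f : IrrCharacter G → R) :
    ∑ χ ∈ bset A, f χ = ∑ B : Bl M G, if B.1 ⊆ A then ∑ χ ∈ bset B.1, f χ else 0 := by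
  rw [bset_eq, Finset.sum_filter, sum_irr_eq_sum_bset hM]
  refine Finset.sum_congr rfl fun B _ => ?_
  split_ifs with h
  · exact Finset.sum_congr rfl fun χ hχ => if_pos (h (mem_bset.1 hχ))
  · exact Finset.sum_eq_zero fun χ hχ => if_neg
      ((block_subset_or_disjoint hM hA B.2).resolve_left h χ (mem_bset.1 hχ))

theorem sum_ip_pRegularPart_self_of_isInt {A : Set (IrrCharacter G)}
    (hA : IsInt hM (setIdem A)) :
    ∑ χ ∈ bset A, ip (pRegularPart p χ.1) χ.1 = blockRank p A := by
  obtain ⟨S⟩ := exists_basicSet p A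
  have h1 : ∀ i, blockPart A (S.φ i) = S.φ i := fun i => by
    rw [blockPart_eq_self_iff (S.isClassFunction_φ i)]
    intro ψ hψ
    rw [S.φ_eq, ip_sum_left]
    refine Finset.sum_eq_zero fun χ hχ => ?_
    rw [ip_smul_left, ip_pRegularPart_eq_zero hM (isPBlock_blockOf χ) (mem_blockOf_self hM χ)
      fun h => hψ (mem_of_isInt_setIdem hM hA (mem_bset.1 hχ) h), mul_zero]
  have h2 : ∀ i j, ip (S.φ i) (S.Φ j) = if i = j then 1 else 0 := fun i j => by
    have h := S.pRegularPart_blockPart_eq_sum (S.φ i)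
    rw [h1, S.pRegularPart_φ] at h
    refine congrFun (S.eq_of_sum_eq (c := fun j => ip (S.φ i) (S.Φ j))
      (c' := fun j => if i = j then 1 else 0) ?_) j
    rw [← h]; simp
  rw [Finset.sum_congr rfl fun χ hχ => by rw [S.reg_eq χ (mem_bset.1 hχ), ip_sum_left],
    Finset.sum_comm]
  simp only [ip_smul_left, mul_comm (S.d _ _ : ℂ), ← S.ip_Φ_right, h2]
  simp

open Classical in
/-- The rank is additive over blocks. -/
theorem blockRank_eq_sum_blocks {A : Set (IrrCharacter G)} (hA : IsInt hM (setIdem A)) :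
    blockRank p A = ∑ B : Bl M G, if B.1 ⊆ A then blockRank p B.1 else 0 := by
  rw [← Nat.cast_inj (R := ℂ), ← sum_ip_pRegularPart_self_of_isInt hM hA,
    sum_bset_eq_sum_blocks hM hA]
  push_cast
  exact Finset.sum_congr rfl fun B _ => by rw [sum_ip_pRegularPart_self hM B.2]

/-- The irreducible characters of `H` belonging to the central idempotent `c` of `kH`. -/
def iset (H : Subgroup G) (c : (ResF hM)[G]) : Set (IrrCharacter H) :=
  {ψ | lam hM ψ.1 (proj H c) = 1}

theorem iset_sidem {H : Subgroup G} {A : Set (IrrCharacter H)} (hA : IsInt hM (setIdem A)) :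
    iset hM H (sidem hM H A) = A := by
  classical
  ext ψ
  rw [iset, Set.mem_ofPred_eq, sidem_def, proj_emb, lam_idem_of_isInt hM hA]
  simp

theorem CIdem.isInt_iset {H : Subgroup G} {c : (ResF hM)[G]} (hc : CIdem H c) :
    IsInt hM (setIdem (iset hM H c)) ∧ sidem hM H (iset hM H c) = c := by
  obtain ⟨a, h1, h2, rfl⟩ := hc.exists_emb
  obtain ⟨A, h3, rfl, -⟩ := exists_setIdem_lift hM h1 h2
  rw [← sidem_def, iset_sidem hM h3]
  exact ⟨h3, rfl⟩

theorem CIdem.subset_iset_iff {H : Subgroup G} {c : (ResF hM)[G]} (hc : CIdem H c)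
    {b : Set (IrrCharacter H)} (hb : IsPBlock M b) :
    b ⊆ iset hM H c ↔ c * sidem hM H b = sidem hM H b := by
  obtain ⟨ξ, hξ⟩ := block_nonempty hM hb
  exact ⟨fun h => (mul_sidem_eq_iff_lam hM hb hξ hc).2 (h hξ),
    fun h _ hψ => (mul_sidem_eq_iff_lam hM hb hψ hc).1 h⟩

theorem isInt_setIdem_mapSet {H : Type*} [Group H] [Finite H] (e : G ≃* H)
    {A : Set (IrrCharacter G)} (hA : IsInt hM (setIdem A)) : IsInt hM (setIdem (mapSet e A)) := by
  intro y
  rw [setIdem_mapSet, MonoidAlgebra.coeff_domCongr]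
  exact hA _

theorem iset_emb {H : Subgroup G} {K : Subgroup H} {a : (ResF hM)[H]} (ha : CIdem K a) :
    iset hM (K.map H.subtype) (emb H a) =
      mapSet (K.equivMapOfInjective H.subtype H.subtype_injective) (iset hM K a) := by
  rw [← iset_sidem hM (isInt_setIdem_mapSet hM _ (ha.isInt_iset hM).1),
    sidem_mapSet hM H.subtype _ (fun _ => rfl), (ha.isInt_iset hM).2]
  rfl

theorem blockRank_iset_emb {H : Subgroup G} {K : Subgroup H} {a : (ResF hM)[H]} (ha : CIdem K a) :
    blockRank p (iset hM (K.map H.subtype) (emb H a)) = blockRank p (iset hM K a) := by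
  rw [iset_emb hM ha, blockRank_mapSet]

theorem sum_ip_shift_eq_blockRank {A : Set (IrrCharacter G)} (hA : IsInt hM (setIdem A)) {u : G}
    (hu : IsPElt p u) :
    ∑ χ ∈ bset A, ip (sectionPart p u χ.1) χ.1 = blockRank p (iset hM
      (Subgroup.centralizer (Subgroup.zpowers u : Set G)) (br (Subgroup.zpowers u) (idem hM A))) := by
  classical
  have hC := centralizer_zpowers_eq' u
  have hU := hu.isPGroup_zpowers
  have hA' : CIdem ⊤ (idem hM A) := cIdem_top_iff.2 ⟨isCentral_idem hM A, by
    rw [idem_mul_idem hM hA hA, Set.inter_self]⟩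
  have hc := hA'.br_of_le hM hU le_top (hA'.fixed.mono le_top)
  rw [blockRank_eq_sum_blocks hM (hc.isInt_iset hM).1, Finset.sum_congr rfl fun χ _ =>
    ip_sectionPart_eq_sum_contr hM hC hu (irr_isClassFunction χ) (irr_isClassFunction χ),
    Finset.sum_comm]
  simp only [Nat.cast_sum, Nat.cast_ite, Nat.cast_zero]
  refine Finset.sum_congr rfl fun b _ => ?_
  obtain ⟨B, hB⟩ := exists_isInducedBlock_of_eq_centralizer hM hC hu b.2
  have h1 := (isInducedBlock_centralizer_iff_br hM hU b.2 hB.2.1).1 hB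
  have h2 : br (Subgroup.zpowers u) (idem hM A) * sidem hM _ b.1 =
      br (Subgroup.zpowers u) (idem hM (A ∩ B)) * sidem hM _ b.1 := by
    conv_lhs => rw [← h1, ← mul_assoc, ← br_mul hU (hA'.fixed.mono le_top)
      ((isCentral_idem hM B).isFixed _), idem_mul_idem hM hA (isInt_setIdem hM hB.2.1)]
  rw [if_congr (hc.subset_iset_iff hM b.2) rfl rfl, h2]
  rcases block_subset_or_disjoint hM hA hB.2.1 with h | h
  · rw [Set.inter_eq_right.2 h, if_pos h1, ← sum_contr_self hM hC hu hB]
    symm
    refine Finset.sum_subset (fun χ hχ => mem_bset.2 (h (mem_bset.1 hχ))) fun χ _ hχ => ?_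
    exact contr_self_eq_zero_iff.2 (subsec_eq_zero_of_not_mem hM hC hu hB (mt mem_bset.2 hχ))
  · rw [Set.eq_empty_of_forall_notMem (s := A ∩ B) fun χ hχ => h χ hχ.2 hχ.1, idem_empty, map_zero,
      zero_mul, if_neg (bIdem_sidem hM b.2).ne_zero.symm]
    exact Finset.sum_eq_zero fun χ hχ => contr_self_eq_zero_iff.2
      (subsec_eq_zero_of_not_mem hM hC hu hB fun h' => h χ h' (mem_bset.1 hχ))

open Classical in
theorem card_mul_ip_eq_sum_section [Fintype G] {θ η : G → ℂ} (hθ : IsClassFunction G θ)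
    (hη : IsClassFunction G η) : Nat.card G * ip θ η = ∑ u : G, if IsPElt p u then
      Nat.card (Subgroup.centralizer (Subgroup.zpowers u : Set G)) * ip (sectionPart p u θ) η
      else 0 := by
  have h1 : ∀ u : G, (if IsPElt p u then
      Nat.card (Subgroup.centralizer (Subgroup.zpowers u : Set G)) * ip (sectionPart p u θ) η
      else 0) = ∑ g, if pPart p g = u then θ g * conj (η g) else 0 := fun u => by
    split_ifs with hu
    · have := Fintype.ofFinite (Subgroup.centralizer (Subgroup.zpowers u : Set G))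
      rw [ip_sectionPart_eq (centralizer_zpowers_eq' u) hu hθ hη,
        sum_pPart_eq_of_eq (centralizer_zpowers_eq' u) hu, ip_def,
        mul_inv_cancel_left₀ (by exact_mod_cast Nat.card_pos.ne')]
      refine Finset.sum_congr rfl fun y _ => ?_
      by_cases hy : p ∣ orderOf y
      · rw [pRegularPart_of_dvd _ hy, if_neg (c := IsPRegular p y) (not_not.2 hy),
          zero_mul]
      · rw [pRegularPart_of_not_dvd _ hy, if_pos (c := IsPRegular p y) hy]; rfl
    · exact (Finset.sum_eq_zero fun g _ => if_neg fun h : pPart p g = u =>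
        hu (h ▸ isPElt_pPart p g)).symm
  simp only [h1]
  rw [Finset.sum_comm, ip_def, mul_inv_cancel_left₀ (by exact_mod_cast Nat.card_pos.ne')]
  simp

open Classical in
/-- Brauer's formula for a union of blocks, summed over all `p`-elements. -/
theorem card_mul_card_eq_sum [Fintype G] {A : Set (IrrCharacter G)} (hA : IsInt hM (setIdem A)) :
    Nat.card G * Nat.card A = ∑ u : G, if IsPElt p u then
      Nat.card (Subgroup.centralizer (Subgroup.zpowers u : Set G)) * blockRank p (iset hM
      (Subgroup.centralizer (Subgroup.zpowers u : Set G)) (br (Subgroup.zpowers u) (idem hM A)))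
      else 0 := by
  rw [← Nat.cast_inj (R := ℂ), ← card_bset, Finset.card_eq_sum_ones]
  simp only [Nat.cast_sum, Nat.cast_ite, Nat.cast_zero, Nat.cast_mul, Nat.cast_one]
  rw [Finset.mul_sum, Finset.sum_congr rfl fun χ _ => by
    rw [← ip_irr_self χ, card_mul_ip_eq_sum_section (p := p) (irr_isClassFunction χ)
      (irr_isClassFunction χ)], Finset.sum_comm]
  refine Finset.sum_congr rfl fun u _ => ?_
  split_ifs with hu
  · rw [← Finset.mul_sum, sum_ip_shift_eq_blockRank hM hA hu]
  · simp

open Classical in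
theorem CIdem.card_mul_card_eq_sum [Fintype G] {H : Subgroup G} {c : (ResF hM)[G]}
    (hc : CIdem H c) : Nat.card H * Nat.card (iset hM H c) =
      ∑ u : G, if u ∈ H ∧ IsPElt p u then
        Nat.card ↥(H ⊓ Subgroup.centralizer (Subgroup.zpowers u : Set G)) * blockRank p (iset hM
          (H ⊓ Subgroup.centralizer (Subgroup.zpowers u : Set G)) (CT.br (Subgroup.zpowers u) c))
      else 0 := by
  rw [BT.card_mul_card_eq_sum hM (hc.isInt_iset hM).1]
  simp only [ite_and]
  rw [← Finset.sum_filter (· ∈ H), Finset.sum_subtype (p := (· ∈ H)) _ (by simp)]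
  refine Finset.sum_congr rfl fun u _ => if_ctx_congr isPElt_coe.symm (fun hu => ?_) fun _ => rfl
  have h1 := map_subtype_inf_centralizer ⊤ (Subgroup.zpowers u)
  rw [top_inf_eq, map_subtype_top, MonoidHom.map_zpowers] at h1
  have h2 : CIdem ⊤ (BT.idem hM (iset hM H c)) := by
    rw [← cIdem_emb_iff, map_subtype_top, ← sidem_def, (hc.isInt_iset hM).2]; exact hc
  have h3 := blockRank_iset_emb hM (h2.br_of_le hM (isPElt_coe.1 hu).isPGroup_zpowers le_top
    (h2.fixed.mono le_top))
  rw [← br_emb, ← sidem_def, (hc.isInt_iset hM).2, MonoidHom.map_zpowers, h1] at h3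
  rw [← h3, ← Subgroup.card_map_of_injective H.subtype_injective, h1]
  rfl

open Classical in
theorem CIdem.card_mul_sub_eq_sum [Fintype G] {H : Subgroup G} {c : (ResF hM)[G]}
    (hc : CIdem H c) :
    (Nat.card H : ℤ) * ((Nat.card (iset hM H c) : ℤ) - blockRank p (iset hM H c)) =
      ∑ u ∈ Finset.univ.erase (1 : G), if u ∈ H ∧ IsPElt p u then
        (Nat.card ↥(H ⊓ Subgroup.centralizer (Subgroup.zpowers u : Set G)) : ℤ) *
          blockRank p (iset hM (H ⊓ Subgroup.centralizer (Subgroup.zpowers u : Set G))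
            (CT.br (Subgroup.zpowers u) c)) else 0 := by
  have h := hc.card_mul_card_eq_sum hM
  rw [← Finset.add_sum_erase _ _ (Finset.mem_univ 1), if_pos ⟨H.one_mem, isPElt_one⟩,
    Subgroup.zpowers_one_eq_bot, br_bot, inf_eq_left.2 (fun x _ y hy => by
      rw [Subgroup.mem_bot.1 hy, one_mul, mul_one])] at h
  rw [← Nat.cast_inj (R := ℤ)] at h
  simp only [Nat.cast_sum, Nat.cast_ite, Nat.cast_zero, Nat.cast_mul, Nat.cast_add] at h
  rw [mul_sub, h, add_sub_cancel_left]

/-- **Knörr–Robinson**: the alternating sum of `k - l` over normal chains vanishes. -/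
theorem sum_normalChains_card_sub_rank {c : (ResF hM)[G]} (hc : CIdem ⊤ c)
    (S : Finset (Finset (Subgroup G))) (hS : ∀ s, s ∈ S ↔ IsPChain p s ∧ s.sup id ≤ chStab s) :
    ∑ s ∈ S, (-1 : ℤ) ^ s.card * ((Nat.card (chStab s) : ℤ) *
      ((Nat.card (iset hM (chStab s) (br (s.sup id) c)) : ℤ) -
        blockRank p (iset hM (chStab s) (br (s.sup id) c)))) = 0 := by
  classical
  have := Fintype.ofFinite G
  have h1 : ∀ s ∈ S, CIdem (chStab s) (br (s.sup id) c) := fun s hs => by
    have h := hc.br_of_le hM ((hS s).1 hs).1.isPGroup_sup le_top (hc.fixed.mono le_top)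
    exact ⟨SuppIn.mono' (centralizer_sup_le_chStab s) h.supp,
      (hc.fixed.mono le_top).br (chStab_le_normalizer_sup s), h.idem⟩
  rw [Finset.sum_congr rfl fun s hs => by rw [(h1 s hs).card_mul_sub_eq_sum hM, Finset.mul_sum],
    Finset.sum_comm]
  refine Finset.sum_eq_zero fun u hu => ?_
  by_cases hp : IsPElt p u
  · refine Eq.trans ?_ (sum_normalChains_eq_zero hp.isPGroup_zpowers
      (Subgroup.zpowers_ne_bot.2 (Finset.ne_of_mem_erase hu)) (S.filter fun s => u ∈ chStab s)
      (fun s => by rw [Finset.mem_filter, hS, sup_le_iff, Subgroup.zpowers_le]; tauto)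
      fun N W => (Nat.card ↥(N ⊓ Subgroup.centralizer (Subgroup.zpowers u : Set G)) : ℤ) *
        blockRank p (iset hM (N ⊓ Subgroup.centralizer (Subgroup.zpowers u : Set G)) (br W c)))
    rw [Finset.sum_filter]
    refine Finset.sum_congr rfl fun s _ => ?_
    rw [inf_assoc, inf_eq_right.2 (Subgroup.centralizer_le_normalizer _), br_br_eq_sup]
    simp only [hp, and_true, mul_ite, mul_zero]
  · simp [hp]

end BT
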