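import Cfsg.Agent.Lib.Block.CentralDef
import Cfsg.Agent.Lib.Block.PairsLoc
import Cfsg.Agent.Lib.Char.CliffordDeg

/-!
# Characters of defect zero modulo a normal `p`-subgroup
-/

set_option autoImplicit false
set_option linter.unusedSectionVars false

namespace BT

open Cfsg CT GT
open scoped MonoidAlgebra Pointwise

variable {p : ℕ} [Fact p.Prime] {M : Ideal AlgInt} (hM : IsPModular p M)
variable {G : Type*} [Group G] [Finite G]

theorem exists_inflate_defect_zero {N : Subgroup G} [N.Normal] {χ : IrrCharacter G}
    (hN : N ≤ ker χ.1) (hd : (charDegree χ.1).factorization p + (Nat.card N).factorization p =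
      (Nat.card G).factorization p) : ∃ ψ : IrrCharacter (G ⧸ N), inflate N ψ = χ ∧
      (charDegree ψ.1).factorization p = (Nat.card (G ⧸ N)).factorization p := by
  obtain ⟨ψ, rfl⟩ := (exists_inflate_eq_iff N χ).2 hN
  refine ⟨ψ, rfl, ?_⟩
  have h := factorization_index_add (p := p) N
  rw [charDegree_inflate] at hd
  rw [← Subgroup.index_eq_card]
  omega

theorem apply_eq_zero_of_ker_defect_zero {N : Subgroup G} [N.Normal] {χ : IrrCharacter G}
    (hN : N ≤ ker χ.1) (hd : (charDegree χ.1).factorization p + (Nat.card N).factorization p =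
      (Nat.card G).factorization p) {g : G} (hg : pPart p g ∉ N) : χ.1 g = 0 := by
  obtain ⟨ψ, rfl, hψ⟩ := exists_inflate_defect_zero hN hd
  rw [inflate_apply]
  refine apply_eq_zero_of_defect_zero ψ hψ (pPart_ne_one_iff.1 fun h => hg ?_)
  rwa [← mk_pPart, QuotientGroup.eq_one_iff] at h

include hM in
/-- A group with a character of defect zero has no nontrivial normal `p`-subgroup. -/
theorem eq_bot_of_defect_zero {χ : IrrCharacter G}
    (hd : (charDegree χ.1).factorization p = (Nat.card G).factorization p) {R : Subgroup G}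
    [R.Normal] (hR : IsPGroup p R) : R = ⊥ := by
  have hB := isPBlock_blockOf (M := M) χ
  obtain ⟨D, hD⟩ := exists_isDefectGroup hM hB
  have h1 := card_defectGroup hM hB hD
  rw [(blockDefect_eq_zero_iff hM hB (mem_blockOf_self hM χ)).2 hd, pow_zero,
    Subgroup.card_eq_one] at h1
  exact le_bot_iff.1 (h1 ▸ le_isDefectGroup_of_normal hM hB hD hR)

include hM in
theorem le_of_ker_defect_zero {N : Subgroup G} [N.Normal] {χ : IrrCharacter G}
    (hN : N ≤ ker χ.1) (hd : (charDegree χ.1).factorization p + (Nat.card N).factorization p =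
      (Nat.card G).factorization p) {R : Subgroup G} [hn : R.Normal] (hR : IsPGroup p R) :
    R ≤ N := by
  obtain ⟨ψ, rfl, hψ⟩ := exists_inflate_defect_zero hN hd
  have := hn.map (QuotientGroup.mk' N) (QuotientGroup.mk'_surjective N)
  have h := eq_bot_of_defect_zero hM hψ (hR.map (QuotientGroup.mk' N))
  rwa [Subgroup.map_eq_bot_iff, QuotientGroup.ker_mk'] at h

include hM in
/-- A character of defect zero of `G / Z`, `Z` a central `p`-subgroup, lies in a block with defect
group `Z`. -/
theorem isDefectGroup_of_ker_defect_zero {Z : Subgroup G} (hZ : IsPGroup p Z)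
    (hZc : Z ≤ Subgroup.center G) {B : Set (IrrCharacter G)} (hB : IsPBlock M B)
    {θ : IrrCharacter G} (hθ : θ ∈ B) (hk : Z ≤ ker θ.1)
    (hd : (charDegree θ.1).factorization p + (Nat.card Z).factorization p =
      (Nat.card G).factorization p) : IsDefectGroup p M B Z := by
  have : Z.Normal := ⟨fun z hz g => by
    rw [Subgroup.mem_center_iff.1 (hZc hz) g, mul_inv_cancel_right]; exact hz⟩
  have hp := (Fact.out : p.Prime)
  obtain ⟨k, hk'⟩ := IsPGroup.iff_card.1 hZ
  have h1 := card_mul_ip_pRegularPart_self hZ hZc θ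
    (fun g hg => apply_eq_zero_of_ker_defect_zero hk hd hg)
  have h2 := factorization_degree_add_defect (p := p) hθ
  rw [hk', Nat.factorization_pow_self hp] at hd
  have h3 : blockDefect p B = k + blockHeight p B θ.1 := by omega
  have h4 : cm p B θ.1 θ.1 = p ^ blockHeight p B θ.1 := by
    rw [← Int.cast_inj (α := ℂ), cm_cast_irr hθ, h3, pow_add, mul_comm ((p : ℂ) ^ k), mul_assoc]
    rw [hk'] at h1
    push_cast at h1 ⊢
    rw [h1, mul_one]
  have h5 : blockHeight p B θ.1 = 0 := by
    by_contra h
    have h6 := (pow_succ_dvd_cm_iff hM hB hθ hθ).2 h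
    rw [h4] at h6
    have h7 := (pow_dvd_pow_iff (a := (p : ℤ)) (by exact_mod_cast hp.ne_zero)
      (Nat.prime_iff_prime_int.1 hp).not_isUnit).1 h6
    omega
  obtain ⟨D, hD⟩ := exists_isDefectGroup hM hB
  have h6 := card_defectGroup hM hB hD
  rw [h3, h5, add_zero, ← hk'] at h6
  rwa [Subgroup.eq_of_le_of_card_ge (le_isDefectGroup_of_normal hM hB hD hZ) h6.le]

include hM in
theorem exists_ker_defect_zero_of_central {Z : Subgroup G} (hZc : Z ≤ Subgroup.center G)
    {B : Set (IrrCharacter G)} (hB : IsPBlock M B) (hD : IsDefectGroup p M B Z) :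
    ∃ θ ∈ B, Z ≤ ker θ.1 ∧ (charDegree θ.1).factorization p + (Nat.card Z).factorization p =
      (Nat.card G).factorization p := by
  have : Z.Normal := ⟨fun z hz g => by
    rw [Subgroup.mem_center_iff.1 (hZc hz) g, mul_inv_cancel_right]; exact hz⟩
  have hZ := isPGroup_of_isDefectGroup hD
  obtain ⟨θ, hθ, h⟩ := exists_mem_liesOver_of_isPGroup hM hB hZ (irrOne Z)
  refine ⟨θ, hθ, (liesOver_one_iff Z θ).1 h, ?_⟩
  have h1 := height_eq_zero_of_central hM hB hZ hZc
    (fun χ hχ g hg => apply_eq_zero_of_normal_defect hM hB hD hχ hg) hθ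
  have h2 := factorization_degree_add_defect (p := p) hθ
  rw [card_defectGroup hM hB hD, Nat.factorization_pow_self Fact.out]
  omega

/-- The constituents of a character of defect zero on a normal subgroup have defect zero. -/
theorem exists_constituent_defect_zero {C : Type*} [Group C] [Finite C] (f : C →* G)
    [f.range.Normal] {χ : IrrCharacter G}
    (hd : (charDegree χ.1).factorization p = (Nat.card G).factorization p) :
    ∃ θ : IrrCharacter C, ip (fun c => χ.1 (f c)) θ.1 ≠ 0 ∧ f.ker ≤ ker θ.1 ∧
      (charDegree θ.1).factorization p + (Nat.card f.ker).factorization p =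
        (Nat.card C).factorization p := by
  obtain ⟨η, hη⟩ := exists_irr_liesUnder f.range χ
  refine ⟨irrComp f.rangeRestrict f.rangeRestrict_surjective η, ?_, ?_, ?_⟩
  · have := ip_comp_of_surjective f.rangeRestrict f.rangeRestrict_surjective (res f.range χ.1) η.1
    rw [irrComp_val]
    exact this ▸ hη
  · rw [irrComp_val, ← f.ker_rangeRestrict]
    exact monoidHom_ker_le_ker_comp _ _
  · rw [charDegree_irrComp]
    have h1 := factorization_degree_le (p := p) η
    have h2 := (Nat.factorization_le_iff_dvd (irr_degree_pos χ).ne'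
      (mul_ne_zero f.range.index_ne_zero_of_finite (irr_degree_pos η).ne')).2
      hη.degree_dvd_index_mul p
    rw [Nat.factorization_mul f.range.index_ne_zero_of_finite (irr_degree_pos η).ne',
      Finsupp.add_apply] at h2
    have h3 := factorization_index_add (p := p) f.range
    have h4 := factorization_index_add (p := p) f.ker
    rw [Subgroup.index_ker] at h4
    omega

end BT
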